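import Mathlib
import Cfsg.Statements.S0268

set_option autoImplicit false
open Cfsg

namespace Cfsg.Agent.S0268

/-- For q odd, -1 is the unique involution of SL_2(q). -/
theorem result {F : Type*} [Field F] [Fintype F] (hF : Odd (Fintype.card F)) (g : Matrix.SpecialLinearGroup (Fin 2) F) (h1 : g ≠ 1) (h2 : g * g = 1) : (g : Matrix (Fin 2) (Fin 2) F) = -1 := by
  have h2ne : (2 : F) ≠ 0 := by
    apply Ring.two_ne_zero
    intro hc
    have h3 := FiniteField.even_card_iff_char_two.mp hc
    rcases hF with ⟨k, hk⟩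
    omega
  have hdet : (g : Matrix (Fin 2) (Fin 2) F).det = 1 := g.det_coe
  rw [Matrix.det_fin_two] at hdet
  have hm : (g : Matrix (Fin 2) (Fin 2) F) * (g : Matrix (Fin 2) (Fin 2) F) = 1 := by
    have h3 := congrArg (fun x : Matrix.SpecialLinearGroup (Fin 2) F => (x : Matrix (Fin 2) (Fin 2) F)) h2
    simpa using h3
  have e00 := congrFun (congrFun hm 0) 0
  have e01 := congrFun (congrFun hm 0) 1
  have e10 := congrFun (congrFun hm 1) 0
  have e11 := congrFun (congrFun hm 1) 1
  simp only [Matrix.mul_apply, Fin.sum_univ_two, Matrix.one_apply_eq] at e00 e11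
  simp only [Matrix.mul_apply, Fin.sum_univ_two] at e01 e10
  rw [Matrix.one_apply_ne (by decide)] at e01 e10
  have hs : (g : Matrix (Fin 2) (Fin 2) F) 0 0 * ((g : Matrix (Fin 2) (Fin 2) F) 0 0 + (g : Matrix (Fin 2) (Fin 2) F) 1 1) = 2 := by
    linear_combination e00 + hdet
  have hsne : (g : Matrix (Fin 2) (Fin 2) F) 0 0 + (g : Matrix (Fin 2) (Fin 2) F) 1 1 ≠ 0 := by
    intro h0
    rw [h0, mul_zero] at hs
    exact h2ne hs.symm
  have hb : (g : Matrix (Fin 2) (Fin 2) F) 0 1 = 0 := by
    have h5 : (g : Matrix (Fin 2) (Fin 2) F) 0 1 * ((g : Matrix (Fin 2) (Fin 2) F) 0 0 + (g : Matrix (Fin 2) (Fin 2) F) 1 1) = 0 := by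
      linear_combination e01
    rcases mul_eq_zero.mp h5 with h6 | h6
    · exact h6
    · exact absurd h6 hsne
  have hc : (g : Matrix (Fin 2) (Fin 2) F) 1 0 = 0 := by
    have h5 : (g : Matrix (Fin 2) (Fin 2) F) 1 0 * ((g : Matrix (Fin 2) (Fin 2) F) 0 0 + (g : Matrix (Fin 2) (Fin 2) F) 1 1) = 0 := by
      linear_combination e10
    rcases mul_eq_zero.mp h5 with h6 | h6
    · exact h6
    · exact absurd h6 hsne
  rw [hb, hc] at hdet e00 e11
  simp only [mul_zero, sub_zero, add_zero, zero_add] at hdet e00 e11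
  have ha : (g : Matrix (Fin 2) (Fin 2) F) 0 0 = 1 ∨ (g : Matrix (Fin 2) (Fin 2) F) 0 0 = -1 := by
    apply mul_self_eq_one_iff.mp
    exact e00
  have had : (g : Matrix (Fin 2) (Fin 2) F) 1 1 = (g : Matrix (Fin 2) (Fin 2) F) 0 0 := by
    have hane : (g : Matrix (Fin 2) (Fin 2) F) 0 0 ≠ 0 := by
      intro h0
      rw [h0, zero_mul] at hdet
      exact zero_ne_one hdet
    apply mul_left_cancel₀ hane
    rw [hdet, e00]
  rcases ha with ha | ha
  · exfalso
    apply h1
    apply Subtype.ext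
    ext i j
    fin_cases i <;> fin_cases j
    · simpa using ha
    · simpa using hb
    · simpa using hc
    · simpa using had.trans ha
  · ext i j
    fin_cases i <;> fin_cases j
    · simpa using ha
    · simpa using hb
    · simpa using hc
    · simpa using had.trans ha

end Cfsg.Agent.S0268
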