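import Mathlib
import Cfsg.Agent.Lib.Helper1.Nil
import Cfsg.Statements.S0013

set_option autoImplicit false
open Cfsg
open Pointwise
open scoped commutatorElement

namespace Cfsg.Agent.S0013

/-- In a finite p-group the Frattini subgroup is the smallest normal subgroup with elementary abelian quotient: it lies below any normal subgroup containing all commutators and all p-th powers. -/
theorem result {G : Type*} [Group G] [Finite G] (p : ℕ) [Fact p.Prime]
    (hG : IsPGroup p G) (N : Subgroup G) [N.Normal] (hcomm : commutator G ≤ N) (hpow : ∀ x : G, x ^ p ∈ N) :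
    frattini G ≤ N := by
  have hp : p.Prime := Fact.out
  intro x hxΦ
  by_contra hxN
  obtain ⟨M, -, hMmax⟩ := Finite.exists_le_maximal (p := fun M : Subgroup G => N ≤ M ∧ x ∉ M)
    (a := N) ⟨le_refl N, hxN⟩
  obtain ⟨⟨hNM, hxM⟩, hmax⟩ := hMmax
  have hMn : M.Normal := by
    constructor
    intro m hm g
    have h1 : g * m * g⁻¹ = ⁅g, m⁆ * m := by rw [commutatorElement_def]; group
    rw [h1]
    refine M.mul_mem (hNM (hcomm ?_)) hm
    rw [commutator_def]
    exact Subgroup.commutator_mem_commutator (Subgroup.mem_top g) (Subgroup.mem_top m)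
  have hcoat : IsCoatom M := by
    refine ⟨fun h => hxM (by rw [h]; exact Subgroup.mem_top x), ?_⟩
    intro K hK
    have hxK : x ∈ K := by
      by_contra hxK
      exact hK.not_ge (hmax ⟨hNM.trans hK.le, hxK⟩ hK.le)
    rw [Subgroup.eq_top_iff']
    intro y
    by_cases hyM : y ∈ M
    · exact hK.le hyM
    · have hxsup : x ∈ M ⊔ Subgroup.zpowers y := by
        by_contra hcon
        have hle := hmax ⟨hNM.trans le_sup_left, hcon⟩ le_sup_left
        exact hyM (hle (Subgroup.mem_sup_right (Subgroup.mem_zpowers y)))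
      have hxmul : x ∈ (↑M : Set G) * (↑(Subgroup.zpowers y) : Set G) := by
        rw [← Subgroup.normal_mul]
        exact hxsup
      obtain ⟨m, hm, z, hz, hmz⟩ := Set.mem_mul.mp hxmul
      obtain ⟨i, rfl⟩ := Subgroup.mem_zpowers_iff.mp hz
      have hyi : y ^ i ∈ K := by
        have : y ^ i = m⁻¹ * x := by rw [← hmz]; group
        rw [this]
        exact K.mul_mem (K.inv_mem (hK.le hm)) hxK
      have hyp : y ^ (p : ℤ) ∈ K := by
        rw [zpow_natCast]
        exact hK.le (hNM (hpow y))
      have hnd : ¬ (p : ℤ) ∣ i := by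
        rintro ⟨c, rfl⟩
        apply hxM
        rw [← hmz]
        refine M.mul_mem hm ?_
        rw [zpow_mul, zpow_natCast]
        exact M.zpow_mem (hNM (hpow y)) c
      have hgcd : Int.gcd i p = 1 := by
        have h1 : ¬ p ∣ i.natAbs := fun h => hnd (Int.natCast_dvd.mpr h)
        have h2 : Nat.Coprime p i.natAbs := (Nat.Prime.coprime_iff_not_dvd hp).mpr h1
        rw [Int.gcd, Int.natAbs_natCast]
        exact h2.symm
      have hbez := Int.gcd_eq_gcd_ab i p
      rw [hgcd] at hbez
      have hy1 : y = (y ^ i) ^ (i.gcdA p) * (y ^ (p : ℤ)) ^ (i.gcdB p) := by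
        rw [← zpow_mul, ← zpow_mul, ← zpow_add, ← hbez]
        simp
      rw [hy1]
      exact K.mul_mem (K.zpow_mem hyi _) (K.zpow_mem hyp _)
  exact hxM (frattini_le_coatom hcoat hxΦ)

end Cfsg.Agent.S0013
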