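import Mathlib
import Cfsg.Statements.S0065

set_option autoImplicit false
open Cfsg
open scoped commutatorElement

namespace Cfsg.Agent.S0065

/-- A nontrivial normal subgroup of a nilpotent group intersects the centre nontrivially. -/
theorem result {G : Type*} [Group G] [Finite G] [Group.IsNilpotent G]
    (N : Subgroup G) [N.Normal] (hN : N ≠ ⊥) : N ⊓ Subgroup.center G ≠ ⊥ := by
  classical
  obtain ⟨c, hc⟩ := (inferInstance : Group.IsNilpotent G).nilpotent'
  have hex : ∃ n : ℕ, N ⊓ Subgroup.upperCentralSeries G n ≠ ⊥ := ⟨c, by rw [hc, inf_top_eq]; exact hN⟩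
  obtain ⟨i, hi, hmin⟩ : ∃ i : ℕ, N ⊓ Subgroup.upperCentralSeries G i ≠ ⊥ ∧
      ∀ j < i, N ⊓ Subgroup.upperCentralSeries G j = ⊥ := by
    refine ⟨Nat.find hex, Nat.find_spec hex, fun j hj => ?_⟩
    by_contra h
    exact Nat.find_min hex hj h
  cases i with
  | zero =>
    exfalso
    apply hi
    rw [Subgroup.upperCentralSeries_zero, inf_bot_eq]
  | succ j =>
    have hj := hmin j (Nat.lt_succ_self j)
    obtain ⟨x, hx1⟩ := (Subgroup.ne_bot_iff_exists_ne_one).mp hi
    intro hbot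
    apply hx1
    have hxmem : (x : G) ∈ N ⊓ Subgroup.upperCentralSeries G (j + 1) := x.2
    obtain ⟨hxN, hxZ⟩ := Subgroup.mem_inf.mp hxmem
    have hcen : (x : G) ∈ Subgroup.center G := by
      rw [Subgroup.mem_center_iff]
      intro y
      have h1 : ⁅(x : G), y⁆ ∈ Subgroup.upperCentralSeries G j := (Subgroup.mem_upperCentralSeries_succ_iff.mp hxZ) y
      have h2 : ⁅(x : G), y⁆ ∈ N := by
        rw [commutatorElement_def]
        have : (x : G) * y * (x : G)⁻¹ * y⁻¹ = (x : G) * (y * (x : G)⁻¹ * y⁻¹) := by group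
        rw [this]
        exact N.mul_mem hxN (‹N.Normal›.conj_mem _ (N.inv_mem hxN) y)
      have h3 : ⁅(x : G), y⁆ ∈ N ⊓ Subgroup.upperCentralSeries G j := Subgroup.mem_inf.mpr ⟨h2, h1⟩
      rw [hj, Subgroup.mem_bot, commutatorElement_def] at h3
      have h4 : y * (x : G) = (x : G) * y * (x : G)⁻¹ * y⁻¹ * (y * (x : G)) := by rw [h3, one_mul]
      rw [h4]
      group
    have h5 : (x : G) ∈ N ⊓ Subgroup.center G := Subgroup.mem_inf.mpr ⟨hxN, hcen⟩
    rw [hbot, Subgroup.mem_bot] at h5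
    exact Subtype.ext h5

end Cfsg.Agent.S0065
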