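import Mathlib
import Cfsg.Statements.S0130

set_option autoImplicit false
open Cfsg

namespace Cfsg.Agent.S0130

theorem pow_comm1 {G : Type*} [Group G] (u v c : G) (hc : v * u = u * v * c)
    (hcu : c * u = u * c) (j : ℕ) : v * u ^ j = u ^ j * v * c ^ j := by
  induction j with
  | zero => simp
  | succ j ih =>
    have hcuj : c ^ j * u = u * c ^ j := (Commute.pow_left hcu j).eq
    calc v * u ^ (j + 1) = (v * u ^ j) * u := by rw [pow_succ, mul_assoc]
      _ = u ^ j * v * c ^ j * u := by rw [ih]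
      _ = u ^ j * v * (c ^ j * u) := by group
      _ = u ^ j * v * (u * c ^ j) := by rw [hcuj]
      _ = u ^ j * (v * u) * c ^ j := by group
      _ = u ^ j * (u * v * c) * c ^ j := by rw [hc]
      _ = u ^ (j + 1) * v * c ^ (j + 1) := by group

theorem pow_comm2 {G : Type*} [Group G] (u v c : G) (hc : v * u = u * v * c)
    (hcv : c * v = v * c) (k : ℕ) : v ^ k * u = u * v ^ k * c ^ k := by
  induction k with
  | zero => simp
  | succ k ih =>
    have hcvk : c ^ k * v = v * c ^ k := (Commute.pow_left hcv k).eq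
    calc v ^ (k + 1) * u = v ^ k * (v * u) := by rw [pow_succ, mul_assoc]
      _ = v ^ k * (u * v * c) := by rw [hc]
      _ = (v ^ k * u) * v * c := by group
      _ = u * v ^ k * c ^ k * v * c := by rw [ih]
      _ = u * v ^ k * (c ^ k * v) * c := by group
      _ = u * v ^ k * (v * c ^ k) * c := by rw [hcvk]
      _ = u * v ^ (k + 1) * c ^ (k + 1) := by group

theorem mul_pow_class2 {G : Type*} [Group G] (u v c : G) (hc : v * u = u * v * c)
    (hcu : c * u = u * c) (hcv : c * v = v * c) (k : ℕ) :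
    (u * v) ^ k = u ^ k * v ^ k * c ^ (∑ i ∈ Finset.range k, i) := by
  induction k with
  | zero => simp
  | succ k ih =>
    have h2 := pow_comm2 u v c hc hcv k
    have hcT : ∀ m : ℕ, c ^ m * u = u * c ^ m := fun m => (Commute.pow_left hcu m).eq
    have hcT' : ∀ m : ℕ, c ^ m * v = v * c ^ m := fun m => (Commute.pow_left hcv m).eq
    rw [pow_succ, ih, Finset.sum_range_succ]
    set T := ∑ i ∈ Finset.range k, i with hT
    calc u ^ k * v ^ k * c ^ T * (u * v) = u ^ k * v ^ k * (c ^ T * u) * v := by group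
      _ = u ^ k * v ^ k * (u * c ^ T) * v := by rw [hcT]
      _ = u ^ k * (v ^ k * u) * (c ^ T * v) := by group
      _ = u ^ k * (u * v ^ k * c ^ k) * (v * c ^ T) := by rw [h2, hcT']
      _ = u ^ k * u * v ^ k * (c ^ k * v) * c ^ T := by group
      _ = u ^ k * u * v ^ k * (v * c ^ k) * c ^ T := by rw [hcT']
      _ = u ^ (k + 1) * v ^ (k + 1) * c ^ (T + k) := by group

theorem conj_comm_aux {H : Type*} [Group H] (a b c : H)
    (h : (c * a * c⁻¹) * b = b * (c * a * c⁻¹)) : a * (c⁻¹ * b * c) = c⁻¹ * b * c * a := by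
  calc a * (c⁻¹ * b * c) = c⁻¹ * ((c * a * c⁻¹) * b) * c := by group
    _ = c⁻¹ * (b * (c * a * c⁻¹)) * c := by rw [h]
    _ = c⁻¹ * b * c * a := by group

/-- If A is maximal among the normal abelian subgroups of exponent dividing p^n of a p-group (p^n ≠ 2), then A contains every element of order dividing p^n in its centralizer. -/
theorem result {G : Type*} [Group G] [Finite G] {p : ℕ} [Fact p.Prime] (hG : IsPGroup p G) (n : ℕ) (hn : p ^ n ≠ 2) (A : Subgroup G) [A.Normal] (hA : IsMulCommutative A) (hAe : ∀ a ∈ A, a ^ p ^ n = 1) (hmax : ∀ B : Subgroup G, B.Normal → IsMulCommutative B → (∀ b ∈ B, b ^ p ^ n = 1) → A ≤ B → B = A) (x : G) (hx : x ∈ Subgroup.centralizer (A : Set G)) (hxn : x ^ p ^ n = 1) : x ∈ A := by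
  classical
  have hp : p.Prime := Fact.out
  by_contra hxA
  have hAc : ∀ a ∈ A, ∀ b ∈ A, a * b = b * a := by
    intro a ha b hb
    have := hA.is_comm.comm ⟨a, ha⟩ ⟨b, hb⟩
    exact congrArg Subtype.val this
  set C := Subgroup.centralizer (A : Set G) with hC
  have hCmem : ∀ c ∈ C, ∀ a ∈ A, a * c = c * a :=
    fun c hc a ha => Subgroup.mem_centralizer_iff.1 hc a ha
  have hCconj : ∀ c ∈ C, ∀ g : G, g⁻¹ * c * g ∈ C := by
    intro c hc g
    rw [hC, Subgroup.mem_centralizer_iff]
    intro a ha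
    have h1 : g * a * g⁻¹ ∈ A := ‹A.Normal›.conj_mem a ha g
    have h2 := hCmem c hc _ h1
    calc a * (g⁻¹ * c * g) = g⁻¹ * ((g * a * g⁻¹) * c) * g := by group
      _ = g⁻¹ * (c * (g * a * g⁻¹)) * g := by rw [h2]
      _ = g⁻¹ * c * g * a := by group
  set π := QuotientGroup.mk' A with hπ
  have hπ1 : ∀ z : G, π z = 1 ↔ z ∈ A := fun z => QuotientGroup.eq_one_iff z
  have hn0 : n ≠ 0 := by
    rintro rfl
    apply hxA
    have : x = 1 := by simpa using hxn
    rw [this]; exact A.one_mem
  let X : Set G := {y | y ∈ C ∧ y ∉ A ∧ y ^ p ∈ A ∧ y ^ p ^ n = 1}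
  have hX : X.Nonempty := by
    have hex : ∃ k, x ^ p ^ k ∈ A := ⟨n, by rw [hxn]; exact A.one_mem⟩
    have hk0 : Nat.find hex ≠ 0 := by
      intro h0
      have := Nat.find_spec hex
      rw [h0] at this
      simp only [pow_zero, pow_one] at this
      exact hxA this
    obtain ⟨k, hk⟩ := Nat.exists_eq_succ_of_ne_zero hk0
    have hkmin : x ^ p ^ k ∉ A := Nat.find_min hex (by omega)
    refine ⟨x ^ p ^ k, C.pow_mem hx _, hkmin, ?_, ?_⟩
    · rw [← pow_mul, ← pow_succ, ← Nat.succ_eq_add_one, ← hk]; exact Nat.find_spec hex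
    · rw [← pow_mul, mul_comm, pow_mul, hxn, one_pow]
  let Cen : G → Subgroup G := fun y => (Subgroup.centralizer {π y}).comap π
  have hCen : ∀ y m : G, m ∈ Cen y ↔ π y * π m = π m * π y := by
    intro y m
    simp only [Cen, Subgroup.mem_comap, Subgroup.mem_centralizer_iff, Set.mem_singleton_iff,
      forall_eq]
  obtain ⟨x1, hx1X, hx1max⟩ := Set.exists_max_image X (fun y => Nat.card (Cen y))
    (Set.toFinite X) hX
  obtain ⟨hx1C, hx1A, hx1p, hx1n⟩ := hx1X
  by_cases htop : Cen x1 = ⊤
  · have hcent : ∀ z : G ⧸ A, π x1 * z = z * π x1 := by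
      intro z
      obtain ⟨m, rfl⟩ := QuotientGroup.mk'_surjective A z
      have : m ∈ Cen x1 := by rw [htop]; exact Subgroup.mem_top m
      exact (hCen x1 m).1 this
    let B : Subgroup G := (Subgroup.zpowers (π x1)).comap π
    have hBmem : ∀ b ∈ B, ∃ i : ℤ, ∃ a ∈ A, b = x1 ^ i * a := by
      intro b hb
      obtain ⟨i, hi⟩ := Subgroup.mem_zpowers_iff.1 (Subgroup.mem_comap.1 hb)
      refine ⟨i, (x1 ^ i)⁻¹ * b, ?_, by group⟩
      rw [← hπ1, map_mul, map_inv, map_zpow, hi, inv_mul_cancel]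
    have hBn : B.Normal := by
      haveI : (Subgroup.zpowers (π x1)).Normal := by
        constructor
        intro z hz g
        obtain ⟨i, rfl⟩ := Subgroup.mem_zpowers_iff.1 hz
        have hc : Commute g (π x1) := (hcent g).symm
        have := (hc.zpow_right i).eq
        rw [this, mul_inv_cancel_right]
        exact Subgroup.zpow_mem_zpowers _ i
      exact Subgroup.Normal.comap inferInstance π
    have hx1B : x1 ∈ B := Subgroup.mem_comap.2 (Subgroup.mem_zpowers _)
    have hAB : A ≤ B := by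
      intro a ha
      refine Subgroup.mem_comap.2 ?_
      rw [(hπ1 a).2 ha]; exact Subgroup.one_mem _
    have hcomm_xa : ∀ a ∈ A, Commute x1 a := fun a ha => (hCmem x1 hx1C a ha).symm
    have hBc : IsMulCommutative B := by
      refine ⟨⟨fun b1 b2 => Subtype.ext ?_⟩⟩
      obtain ⟨i, a, ha, h1⟩ := hBmem b1.1 b1.2
      obtain ⟨j, a', ha', h2⟩ := hBmem b2.1 b2.2
      show b1.1 * b2.1 = b2.1 * b1.1
      rw [h1, h2]
      have e1 : Commute (x1 ^ i) a' := (hcomm_xa a' ha').zpow_left i
      have e2 : Commute (x1 ^ j) a := (hcomm_xa a ha).zpow_left j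
      have e3 : Commute a a' := hAc a ha a' ha'
      have e4 : Commute (x1 ^ i) (x1 ^ j) := (Commute.refl x1).zpow_zpow i j
      exact (Commute.mul_left (Commute.mul_right e4 e1) (Commute.mul_right e2.symm e3)).eq
    have hBe : ∀ b ∈ B, b ^ p ^ n = 1 := by
      intro b hb
      obtain ⟨i, a, ha, h1⟩ := hBmem b hb
      rw [h1, ((hcomm_xa a ha).zpow_left i).mul_pow, hAe a ha, mul_one, ← zpow_natCast,
        ← zpow_mul, mul_comm, zpow_mul, zpow_natCast, hx1n, one_zpow]
    have := hmax B hBn hBc hBe hAB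
    exact hx1A (this ▸ hx1B)
  · set M := Cen x1 with hM
    have hnil : Group.IsNilpotent G := hG.isNilpotent
    have hlt : M < ⊤ := lt_top_iff_ne_top.2 htop
    have hNC := normalizerCondition_of_isNilpotent (G := G) M hlt
    obtain ⟨g, hgN, hgM⟩ := SetLike.exists_of_lt hNC
    have hgn : ∀ m, m ∈ M → g⁻¹ * m * g ∈ M := by
      intro m hm
      have := (Subgroup.mem_normalizer_iff.1 (Subgroup.inv_mem _ hgN) m).1 hm
      simpa using this
    have hgn' : ∀ m, m ∈ M → g * m * g⁻¹ ∈ M :=
      fun m hm => (Subgroup.mem_normalizer_iff.1 hgN m).1 hm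
    let Inv : G → Prop := fun y =>
      y ∈ C ∧ y ∈ M ∧ y ^ p ∈ A ∧ y ^ p ^ n = 1 ∧ ∀ m ∈ M, π m * π y = π y * π m
    have hstep : ∀ y, Inv y → Inv (y⁻¹ * (g⁻¹ * y * g)) := by
      rintro y ⟨hyC, hyM, hyp, hyn, hyc⟩
      have hconj : ∀ k : ℕ, (g⁻¹ * y * g) ^ k = g⁻¹ * y ^ k * g := by
        intro k
        have := conj_pow (a := g⁻¹) (b := y) (i := k)
        simpa using this
      have huC : y⁻¹ ∈ C := C.inv_mem hyC
      have hvC : g⁻¹ * y * g ∈ C := hCconj y hyC g
      have hvM : g⁻¹ * y * g ∈ M := hgn y hyM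
      obtain ⟨u, hu⟩ : ∃ u, u = y⁻¹ := ⟨_, rfl⟩
      obtain ⟨v, hv⟩ : ∃ v, v = g⁻¹ * y * g := ⟨_, rfl⟩
      rw [← hu, ← hv]
      rw [← hu] at huC
      rw [← hv] at hvC hvM
      have hcA : v⁻¹ * u⁻¹ * v * u ∈ A := by
        rw [← hπ1, map_mul, map_mul, map_mul, map_inv, map_inv, hu, map_inv, inv_inv]
        have := hyc v hvM
        rw [mul_assoc (π v)⁻¹, ← this]; group
      obtain ⟨c, hc⟩ : ∃ c, c = v⁻¹ * u⁻¹ * v * u := ⟨_, rfl⟩
      rw [← hc] at hcA
      have hvu : v * u = u * v * c := by rw [hc]; group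
      have hcu : c * u = u * c := hCmem u huC c hcA
      have hcv : c * v = v * c := hCmem v hvC c hcA
      have hpow := mul_pow_class2 u v c hvu hcu hcv
      refine ⟨C.mul_mem huC hvC, M.mul_mem (by rw [hu]; exact M.inv_mem hyM) hvM, ?_, ?_, ?_⟩
      · rw [hpow p]
        refine A.mul_mem (A.mul_mem ?_ ?_) (A.pow_mem hcA _)
        · rw [hu, inv_pow]; exact A.inv_mem hyp
        · rw [hv, hconj]
          have := ‹A.Normal›.conj_mem _ hyp g⁻¹
          simpa using this
      · rw [hpow (p ^ n)]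
        have h1 : u ^ p ^ n = 1 := by rw [hu, inv_pow, hyn, inv_one]
        have h2 : v ^ p ^ n = 1 := by rw [hv, hconj, hyn]; group
        rw [h1, h2, one_mul, one_mul]
        have hT2 : (∑ i ∈ Finset.range (p ^ n), i) * 2 = p ^ n * (p ^ n - 1) :=
          Finset.sum_range_id_mul_two _
        by_cases hp2 : p = 2
        · subst hp2
          have hn2 : 2 ≤ n := by
            rcases Nat.lt_or_ge n 2 with h | h
            · exfalso
              interval_cases n
              · exact hn0 rfl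
              · exact hn (by norm_num)
            · exact h
          obtain ⟨n', rfl⟩ : ∃ n', n = n' + 2 := ⟨n - 2, by omega⟩
          have hu2 : u ^ 2 ∈ A := by rw [hu, inv_pow]; exact A.inv_mem hyp
          have huj : u ^ 2 ^ (n' + 1) ∈ A := by
            rw [pow_succ', pow_mul]; exact A.pow_mem hu2 _
          have h3 := pow_comm1 u v c hvu hcu (2 ^ (n' + 1))
          have h4 : v * u ^ 2 ^ (n' + 1) = u ^ 2 ^ (n' + 1) * v := (hCmem v hvC _ huj).symm
          have hcj : c ^ 2 ^ (n' + 1) = 1 := by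
            rw [h4] at h3
            exact mul_eq_left.1 h3.symm
          have hT : (∑ i ∈ Finset.range (2 ^ (n' + 2)), i) =
              2 ^ (n' + 1) * (2 ^ (n' + 2) - 1) := by
            have e0 : (2:ℕ) ^ (n' + 2) = 2 ^ (n' + 1) * 2 := pow_succ 2 (n' + 1)
            have e : (2:ℕ) ^ (n' + 2) * (2 ^ (n' + 2) - 1) =
                2 ^ (n' + 1) * 2 * (2 ^ (n' + 2) - 1) :=
              congrArg (fun t => t * (2 ^ (n' + 2) - 1)) e0
            have e' : (2:ℕ) ^ (n' + 1) * 2 * (2 ^ (n' + 2) - 1) =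
                2 ^ (n' + 1) * (2 ^ (n' + 2) - 1) * 2 := by ring
            exact Nat.eq_of_mul_eq_mul_right (by norm_num : 0 < 2) (hT2.trans (e.trans e'))
          rw [hT, pow_mul, hcj, one_pow]
        · have hcop : Nat.Coprime (p ^ n) 2 := by
            apply Nat.Coprime.pow_left
            rw [Nat.coprime_primes hp Nat.prime_two]
            exact hp2
          have hdvd : p ^ n ∣ ∑ i ∈ Finset.range (p ^ n), i := by
            apply hcop.dvd_of_dvd_mul_right
            rw [hT2]; exact dvd_mul_right _ _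
          obtain ⟨t, ht⟩ := hdvd
          rw [ht, pow_mul, hAe c hcA, one_pow]
      · intro m hm
        have h1 := hyc m hm
        have h2 := hyc _ (hgn' m hm)
        rw [map_mul, map_mul, map_inv] at h2
        have h3 : π m * (π y)⁻¹ = (π y)⁻¹ * π m := (Commute.inv_right h1).eq
        have h4 := conj_comm_aux (π m) (π y) (π g) h2
        rw [map_mul, hu, hv, map_inv, map_mul, map_mul, map_inv]
        rw [← mul_assoc, h3, mul_assoc, h4]
        simp only [mul_assoc]
    let y : ℕ → G := fun k => Nat.rec x1 (fun _ z => z⁻¹ * (g⁻¹ * z * g)) k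
    have hy0 : y 0 = x1 := rfl
    have hys : ∀ k, y (k + 1) = (y k)⁻¹ * (g⁻¹ * y k * g) := fun k => rfl
    have hInv : ∀ k, Inv (y k) := by
      intro k
      induction k with
      | zero => exact ⟨hx1C, (hCen x1 x1).2 rfl, hx1p, hx1n, fun m hm => ((hCen x1 m).1 hm).symm⟩
      | succ k ih => rw [hys]; exact hstep _ ih
    have hlcs : ∀ k, y k ∈ (⊤ : Subgroup G).lowerCentralSeries k := by
      intro k
      induction k with
      | zero => rw [Subgroup.lowerCentralSeries_zero]; exact Subgroup.mem_top _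
      | succ k ih =>
        rw [hys, Subgroup.lowerCentralSeries_succ]
        have := Subgroup.commutator_mem_commutator (Subgroup.inv_mem _ ih)
          (Subgroup.mem_top (g⁻¹ : G))
        rw [commutatorElement_def] at this
        simpa [mul_assoc] using this
    obtain ⟨K, hK⟩ := Subgroup.nilpotent_iff_lowerCentralSeries.1 hnil
    have hex : ∃ k, y k ∈ A := ⟨K, by
      have := hlcs K
      rw [hK, Subgroup.mem_bot] at this
      rw [this]; exact A.one_mem⟩
    have hk0 : Nat.find hex ≠ 0 := by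
      intro h0
      have := Nat.find_spec hex
      rw [h0] at this
      exact hx1A this
    obtain ⟨k, hk⟩ := Nat.exists_eq_succ_of_ne_zero hk0
    have hkmin : y k ∉ A := Nat.find_min hex (by omega)
    have hk1 : y (k + 1) ∈ A := by
      have := Nat.find_spec hex
      rwa [hk] at this
    obtain ⟨hyC, hyM, hyp, hyn, hyc⟩ := hInv k
    have hyX : y k ∈ X := ⟨hyC, hkmin, hyp, hyn⟩
    have hle : M ≤ Cen (y k) := by
      intro m hm
      exact (hCen _ m).2 (hyc m hm).symm
    have hg : g ∈ Cen (y k) := by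
      rw [hCen]
      rw [hys, ← hπ1, map_mul, map_inv, map_mul, map_mul, map_inv] at hk1
      have h5 : (π g)⁻¹ * π (y k) * π g = π (y k) := by
        have := inv_mul_eq_one.1 hk1
        exact this.symm
      calc π (y k) * π g = π g * ((π g)⁻¹ * π (y k) * π g) := by group
        _ = π g * π (y k) := by rw [h5]
    have hlt2 : M < Cen (y k) := lt_of_le_of_ne hle (fun h => hgM (h ▸ hg))
    have hcard : Nat.card M < Nat.card (Cen (y k)) :=
      Set.ncard_lt_ncard (s := (M : Set G)) (t := (Cen (y k) : Set G))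
        (SetLike.coe_ssubset_coe.2 hlt2) (Set.toFinite _)
    have := hx1max (y k) hyX
    omega

end Cfsg.Agent.S0130
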