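import Cfsg.Statements.S2961
import Mathlib
import Cfsg.Agent.Lib.Helper2.AxB
import Cfsg.Agent.Lib.Helper2.Fit
import Cfsg.Agent.Lib.Helper8.Chain
import Cfsg.Agent.S0567
import Cfsg.Agent.Lib.Helper5.PCore

set_option autoImplicit false
open Cfsg

namespace Cfsg.Agent.S2961

open scoped commutatorElement

theorem stab {G : Type*} [Group G] {p : ℕ} (x u c : G) (hx : (orderOf x).Coprime p)
    (hc : ∃ k : ℕ, c ^ (p ^ k) = 1) (hxc : x * c = c * x) (hxu : x * u * x⁻¹ = c * u) : c = 1 := by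
  have h1 : ∀ j : ℕ, x ^ j * u * (x ^ j)⁻¹ = c ^ j * u := by
    intro j
    induction j with
    | zero => simp
    | succ j ih =>
      have hcj : x * c ^ j = c ^ j * x := (Commute.pow_right hxc j).eq
      calc x ^ (j + 1) * u * (x ^ (j + 1))⁻¹ = x * (x ^ j * u * (x ^ j)⁻¹) * x⁻¹ := by
            rw [pow_succ']; group
        _ = x * (c ^ j * u) * x⁻¹ := by rw [ih]
        _ = (x * c ^ j) * u * x⁻¹ := by group
        _ = c ^ j * (x * u * x⁻¹) := by rw [hcj]; group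
        _ = c ^ (j + 1) * u := by rw [hxu, pow_succ]; group
  have h2 := h1 (orderOf x)
  rw [pow_orderOf_eq_one, one_mul, inv_one, mul_one] at h2
  have h3 : c ^ orderOf x = 1 := by
    have h0 : c ^ orderOf x * u = 1 * u := by rw [one_mul]; exact h2.symm
    exact mul_right_cancel h0
  obtain ⟨k, hk⟩ := hc
  have h4 := pow_gcd_eq_one.mpr ⟨h3, hk⟩
  have h5 : Nat.gcd (orderOf x) (p ^ k) = 1 := Nat.Coprime.pow_right k hx
  rw [h5, pow_one] at h4
  exact h4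

theorem result {G : Type*} [Group G] [Finite G] {p : ℕ} [Fact p.Prime] (hG : Subgroup.centralizer (Cfsg.pCore p G : Set G) ≤ Cfsg.pCore p G) (T : Sylow p G) (Q : Subgroup G) (hQT : Q ≤ (T : Subgroup G)) (hQn : (T : Subgroup G) ≤ Subgroup.normalizer (Q : Set G)) (hC : (T : Subgroup G) ⊓ Subgroup.centralizer (Q : Set G) ≤ Q) (L : Subgroup G) (hQL : Q ≤ L) : Subgroup.centralizer (Cfsg.pCore p ↥L : Set ↥L) ≤ Cfsg.pCore p ↥L := by
  classical
  have hp : p.Prime := Fact.out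
  obtain ⟨P, hPdef⟩ : ∃ P : Subgroup G, P = Cfsg.pCore p G := ⟨_, rfl⟩
  rw [← hPdef] at hG
  have hPn : P.Normal := by rw [hPdef]; exact Cfsg.Agent.Lib.Helper5.PCore.pCore_normal_thm p G
  have hPp : IsPGroup p P := by rw [hPdef]; exact Cfsg.Agent.Lib.Helper5.PCore.pCore_isPGroup p G
  have hPT : P ≤ (T : Subgroup G) := by
    rw [hPdef]; exact Cfsg.Agent.Lib.Helper5.PCore.pCore_le_sylow T
  have hQp : IsPGroup p Q := T.isPGroup'.to_le hQT
  have hNP : Subgroup.normalizer (P : Set G) = ⊤ := Subgroup.normalizer_eq_top_iff.mpr hPn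
  have step1 : ∀ y : G, y ∈ Subgroup.centralizer (Q : Set G) → (orderOf y).Coprime p → y = 1 := by
    intro y hy hyo
    have h1 : Subgroup.zpowers y ≤ Subgroup.centralizer (P : Set G) := by
      apply Cfsg.Agent.Lib.Helper2.AxB.axb P Q (Subgroup.zpowers y) hPp hQp
      · rw [hNP]; exact le_top
      · rw [hNP]; exact le_top
      · rw [Subgroup.commutator_eq_bot_iff_le_centralizer, Subgroup.zpowers_le]
        exact hy
      · rw [Subgroup.commutator_eq_bot_iff_le_centralizer, Subgroup.zpowers_le,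
          Subgroup.mem_centralizer_iff]
        intro h hh
        have hhQ : h ∈ Q := hC (Subgroup.mem_inf.mpr
          ⟨hPT (Subgroup.mem_inf.mp hh).1, (Subgroup.mem_inf.mp hh).2⟩)
        exact Subgroup.mem_centralizer_iff.mp hy h hhQ
      · intro M _ hM w hw
        apply hM w hw
        exact Nat.Coprime.coprime_dvd_left (orderOf_dvd_of_mem_zpowers hw) hyo
    have h2 : y ∈ P := hG (h1 (Subgroup.mem_zpowers y))
    obtain ⟨k, hk⟩ := hPp ⟨y, h2⟩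
    have h3 : y ^ (p ^ k) = 1 := by simpa using congrArg Subtype.val hk
    have h4 : orderOf y ∣ p ^ k := orderOf_dvd_of_pow_eq_one h3
    have h5 : orderOf y = 1 := Nat.Coprime.eq_one_of_dvd (Nat.Coprime.pow_right k hyo) h4
    exact orderOf_eq_one_iff.mp h5
  have hRn : (Cfsg.pCore p ↥L).Normal := Cfsg.Agent.Lib.Helper5.PCore.pCore_normal_thm p ↥L
  have hRp : IsPGroup p (Cfsg.pCore p ↥L) := Cfsg.Agent.Lib.Helper5.PCore.pCore_isPGroup p ↥L
  have hDn : (Subgroup.centralizer (Cfsg.pCore p ↥L : Set ↥L)).Normal := Subgroup.normal_centralizer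
  have hPL : P.subgroupOf L ≤ Cfsg.pCore p ↥L :=
    Cfsg.Agent.Lib.Helper5.PCore.le_pCore _ (hPn.subgroupOf L) (hPp.comap_subtype)
  have hDPL : ∀ w : ↥L, w ∈ Subgroup.centralizer (Cfsg.pCore p ↥L : Set ↥L) →
      ∀ n : G, n ∈ P → n ∈ L → (w : G) * n = n * (w : G) := by
    intro w hw n hnP hnL
    have h1 := Subgroup.mem_centralizer_iff.mp hw ⟨n, hnL⟩ (hPL (Subgroup.mem_subgroupOf.mpr hnP))
    exact (congrArg Subtype.val h1).symm
  have hDN : ∀ w : ↥L, w ∈ Subgroup.centralizer (Cfsg.pCore p ↥L : Set ↥L) →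
      ∀ n : G, n ∈ P ⊓ Q → (w : G) * n = n * (w : G) := fun w hw n hn =>
    hDPL w hw n (Subgroup.mem_inf.mp hn).1 (hQL (Subgroup.mem_inf.mp hn).2)
  have hDN' : ∀ w : ↥L, w ∈ Subgroup.centralizer (Cfsg.pCore p ↥L : Set ↥L) →
      ∀ n : G, n ∈ P ⊓ Q → (w : G) * n * (w : G)⁻¹ = n := by
    intro w hw n hn
    rw [hDN w hw n hn, mul_assoc, mul_inv_cancel, mul_one]
  have hPconj : ∀ g u : G, u ∈ P → g * u * g⁻¹ ∈ P := fun g u hu => hPn.conj_mem u hu g
  have hN1 : ∀ q u : G, q ∈ Q → u ∈ P → q * u * q⁻¹ * u⁻¹ ∈ P ⊓ Q := by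
    intro q u hq hu
    refine Subgroup.mem_inf.mpr ⟨mul_mem (hPconj q u hu) (inv_mem hu), ?_⟩
    have h1 : u * q⁻¹ * u⁻¹ ∈ Q :=
      (Subgroup.mem_normalizer_iff.mp (hQn (hPT hu)) q⁻¹).mp (inv_mem hq)
    have h2 : q * u * q⁻¹ * u⁻¹ = q * (u * q⁻¹ * u⁻¹) := by group
    rw [h2]
    exact mul_mem hq h1
  have hN2 : ∀ q n : G, q ∈ Q → n ∈ P ⊓ Q → q * n * q⁻¹ ∈ P ⊓ Q := by
    intro q n hq hn
    exact Subgroup.mem_inf.mpr ⟨hPconj q n (Subgroup.mem_inf.mp hn).1,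
      mul_mem (mul_mem hq (Subgroup.mem_inf.mp hn).2) (inv_mem hq)⟩
  have hΨ : ∀ w : ↥L, w ∈ ⁅Subgroup.centralizer (Cfsg.pCore p ↥L : Set ↥L), Q.subgroupOf L⁆ →
      w ∈ Subgroup.centralizer (Cfsg.pCore p ↥L : Set ↥L) ∧
        ∀ u ∈ P, (w : G) * u * (w : G)⁻¹ * u⁻¹ ∈ P ⊓ Q := by
    intro w hw
    rw [Subgroup.commutator_def] at hw
    refine Subgroup.closure_induction (p := fun w _ =>
      w ∈ Subgroup.centralizer (Cfsg.pCore p ↥L : Set ↥L) ∧
        ∀ u ∈ P, (w : G) * u * (w : G)⁻¹ * u⁻¹ ∈ P ⊓ Q) ?_ ?_ ?_ ?_ hw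
    · rintro w ⟨d, hd, q, hq, rfl⟩
      have hqQ : (q : G) ∈ Q := Subgroup.mem_subgroupOf.mp hq
      refine ⟨?_, ?_⟩
      · rw [commutatorElement_def]
        have h1 : q * d⁻¹ * q⁻¹ ∈ Subgroup.centralizer (Cfsg.pCore p ↥L : Set ↥L) :=
          hDn.conj_mem _ (inv_mem hd) q
        have h2 : d * q * d⁻¹ * q⁻¹ = d * (q * d⁻¹ * q⁻¹) := by group
        rw [h2]
        exact mul_mem hd h1
      · intro u hu
        obtain ⟨A, hA⟩ : ∃ A : G, A = (q : G)⁻¹ * u * (q : G) * u⁻¹ := ⟨_, rfl⟩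
        obtain ⟨B, hB⟩ : ∃ B : G, B = (q : G) * ((d : G)⁻¹ * u * (d : G)) * (q : G)⁻¹ *
            ((d : G)⁻¹ * u * (d : G))⁻¹ := ⟨_, rfl⟩
        obtain ⟨A', hA'⟩ : ∃ A' : G, A' = (q : G) * A * (q : G)⁻¹ := ⟨_, rfl⟩
        have hAN : A ∈ P ⊓ Q := by
          rw [hA]
          have h0 := hN1 (q : G)⁻¹ u (inv_mem hqQ) hu
          rwa [inv_inv] at h0
        have hu2 : (d : G)⁻¹ * u * (d : G) ∈ P := by
          have h0 := hPconj (d : G)⁻¹ u hu
          rwa [inv_inv] at h0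
        have hBN : B ∈ P ⊓ Q := by
          rw [hB]; exact hN1 (q : G) _ hqQ hu2
        have hA'N : A' ∈ P ⊓ Q := by
          rw [hA']; exact hN2 (q : G) A hqQ hAN
        have e1 : (d : G)⁻¹ * A * (d : G) = A := by
          have h0 := hDN d hd A hAN
          rw [mul_assoc, ← h0, ← mul_assoc, inv_mul_cancel, one_mul]
        have e2 := hDN' d hd A' hA'N
        have e3 := hDN' d hd B hBN
        have key : ((⁅d, q⁆ : ↥L) : G) * u * ((⁅d, q⁆ : ↥L) : G)⁻¹ * u⁻¹ = A' * B := by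
          have h0 : ((⁅d, q⁆ : ↥L) : G) = (d : G) * (q : G) * (d : G)⁻¹ * (q : G)⁻¹ := by
            rw [commutatorElement_def]; simp
          rw [h0]
          calc (d : G) * (q : G) * (d : G)⁻¹ * (q : G)⁻¹ * u *
                ((d : G) * (q : G) * (d : G)⁻¹ * (q : G)⁻¹)⁻¹ * u⁻¹
              = (d : G) * (q : G) * ((d : G)⁻¹ * A * (d : G)) * ((d : G)⁻¹ * u * (d : G)) *
                  (q : G)⁻¹ * (d : G)⁻¹ * u⁻¹ := by rw [hA]; group
            _ = (d : G) * (q : G) * A * ((d : G)⁻¹ * u * (d : G)) *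
                  (q : G)⁻¹ * (d : G)⁻¹ * u⁻¹ := by rw [e1]
            _ = ((d : G) * A' * (d : G)⁻¹) * ((d : G) * B * (d : G)⁻¹) := by
                rw [hA', hB]; group
            _ = A' * B := by rw [e2, e3]
        rw [key]
        exact mul_mem hA'N hBN
    · refine ⟨one_mem _, ?_⟩
      intro u hu
      simp
    · rintro w₁ w₂ _ _ ⟨h1D, h1⟩ ⟨h2D, h2⟩
      refine ⟨mul_mem h1D h2D, ?_⟩
      intro u hu
      have e : ((w₁ * w₂ : ↥L) : G) * u * ((w₁ * w₂ : ↥L) : G)⁻¹ * u⁻¹ =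
          ((w₁ : G) * ((w₂ : G) * u * (w₂ : G)⁻¹ * u⁻¹) * (w₁ : G)⁻¹) *
            ((w₁ : G) * u * (w₁ : G)⁻¹ * u⁻¹) := by
        rw [Subgroup.coe_mul]; group
      rw [e, hDN' w₁ h1D _ (h2 u hu)]
      exact mul_mem (h2 u hu) (h1 u hu)
    · rintro w _ ⟨hD, h1⟩
      refine ⟨inv_mem hD, ?_⟩
      intro u hu
      have hu' : (w : G)⁻¹ * u * (w : G) ∈ P := by
        have h0 := hPconj (w : G)⁻¹ u hu
        rwa [inv_inv] at h0
      have h2 := inv_mem (h1 _ hu')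
      have e : ((w⁻¹ : ↥L) : G) * u * ((w⁻¹ : ↥L) : G)⁻¹ * u⁻¹ =
          ((w : G) * ((w : G)⁻¹ * u * (w : G)) * (w : G)⁻¹ * ((w : G)⁻¹ * u * (w : G))⁻¹)⁻¹ := by
        rw [Subgroup.coe_inv]; group
      rw [e]
      exact h2
  have hXp : IsPGroup p ↥(⁅Subgroup.centralizer (Cfsg.pCore p ↥L : Set ↥L), Q.subgroupOf L⁆) := by
    apply Cfsg.Agent.Lib.Helper8.Chain.isPGroup_of_coprime_order_trivial
    intro y hyo
    obtain ⟨hyD, hyu⟩ := hΨ (y : ↥L) y.2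
    have hyo' : (orderOf (((y : ↥L)) : G)).Coprime p := by
      rw [Subgroup.orderOf_coe, Subgroup.orderOf_coe]; exact hyo
    have h1 : (((y : ↥L)) : G) ∈ Subgroup.centralizer (P : Set G) := by
      rw [Subgroup.mem_centralizer_iff]
      intro u hu
      have hn := hyu u hu
      have hcp : ∃ k : ℕ, ((((y : ↥L)) : G) * u * (((y : ↥L)) : G)⁻¹ * u⁻¹) ^ (p ^ k) = 1 := by
        obtain ⟨k, hk⟩ := hPp ⟨_, (Subgroup.mem_inf.mp hn).1⟩
        exact ⟨k, by simpa using congrArg Subtype.val hk⟩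
      have hc1 := stab (((y : ↥L)) : G) u _ hyo' hcp (hDN _ hyD _ hn) (by group)
      have h3 : (((y : ↥L)) : G) * u = (((y : ↥L)) : G) * u * (((y : ↥L)) : G)⁻¹ * u⁻¹ * u *
          (((y : ↥L)) : G) := by group
      rw [h3, hc1, one_mul]
    have h2 : (((y : ↥L)) : G) ∈ P := hG h1
    obtain ⟨k, hk⟩ := hPp ⟨_, h2⟩
    have h3 : (((y : ↥L)) : G) ^ (p ^ k) = 1 := by simpa using congrArg Subtype.val hk
    have h4 : orderOf (((y : ↥L)) : G) ∣ p ^ k := orderOf_dvd_of_pow_eq_one h3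
    have h5 : orderOf (((y : ↥L)) : G) = 1 :=
      Nat.Coprime.eq_one_of_dvd (Nat.Coprime.pow_right k hyo') h4
    have h6 : (((y : ↥L)) : G) = 1 := orderOf_eq_one_iff.mp h5
    apply Subtype.ext
    apply Subtype.ext
    simpa using h6
  have hXR : ⁅Subgroup.centralizer (Cfsg.pCore p ↥L : Set ↥L), Q.subgroupOf L⁆ ≤ Cfsg.pCore p ↥L := by
    apply Cfsg.Agent.Lib.Helper2.Fit.normal_pgroup_le_pCore hDn.isSubnormal _
      (Subgroup.commutator_le_left _ _)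
      (Cfsg.Agent.S0567.left_le_normalizer_commutator _ _) hXp
  have hDp : IsPGroup p ↥(Subgroup.centralizer (Cfsg.pCore p ↥L : Set ↥L)) := by
    apply Cfsg.Agent.Lib.Helper8.Chain.isPGroup_of_coprime_order_trivial
    intro x hxo
    have hxo' : (orderOf (((x : ↥L)) : G)).Coprime p := by
      rw [Subgroup.orderOf_coe, Subgroup.orderOf_coe]; exact hxo
    have hx' : (((x : ↥L)) : G) ∈ Subgroup.centralizer (Q : Set G) := by
      rw [Subgroup.mem_centralizer_iff]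
      intro q hq
      have hcX : ⁅(x : ↥L), (⟨q, hQL hq⟩ : ↥L)⁆ ∈
          ⁅Subgroup.centralizer (Cfsg.pCore p ↥L : Set ↥L), Q.subgroupOf L⁆ :=
        Subgroup.commutator_mem_commutator x.2 (Subgroup.mem_subgroupOf.mpr hq)
      have hcR := hXR hcX
      have hcomm : (x : ↥L) * ⁅(x : ↥L), (⟨q, hQL hq⟩ : ↥L)⁆ =
          ⁅(x : ↥L), (⟨q, hQL hq⟩ : ↥L)⁆ * (x : ↥L) :=
        (Subgroup.mem_centralizer_iff.mp x.2 _ hcR).symm
      have hcp : ∃ k : ℕ, ⁅(x : ↥L), (⟨q, hQL hq⟩ : ↥L)⁆ ^ (p ^ k) = 1 := by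
        obtain ⟨k, hk⟩ := hRp ⟨_, hcR⟩
        exact ⟨k, by simpa using congrArg Subtype.val hk⟩
      have hxoL : (orderOf (x : ↥L)).Coprime p := by rw [Subgroup.orderOf_coe]; exact hxo
      have hc1 := stab (x : ↥L) (⟨q, hQL hq⟩ : ↥L) _ hxoL hcp hcomm
        (by rw [commutatorElement_def]; group)
      have h3 : (x : ↥L) * (⟨q, hQL hq⟩ : ↥L) =
          ⁅(x : ↥L), (⟨q, hQL hq⟩ : ↥L)⁆ * (⟨q, hQL hq⟩ : ↥L) * (x : ↥L) := by
        rw [commutatorElement_def]; group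
      rw [hc1, one_mul] at h3
      exact (congrArg Subtype.val h3).symm
    have h6 := step1 _ hx' hxo'
    apply Subtype.ext
    apply Subtype.ext
    simpa using h6
  exact Cfsg.Agent.Lib.Helper5.PCore.le_pCore _ hDn hDp

end Cfsg.Agent.S2961
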