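import Cfsg.Statements.S2819
import Mathlib
import Cfsg.Agent.S0028
import Cfsg.Agent.S0013
import Cfsg.Agent.S2961

set_option autoImplicit false
open Cfsg

namespace Cfsg.Agent.S2819

open scoped commutatorElement

def kD {G : Type*} [Group G] (E D : Subgroup G) : Subgroup G where
  carrier := {a | a ∈ Subgroup.normalizer (D : Set G) ∧ ∀ e ∈ E, ⁅e, a⁆ ∈ D}
  one_mem' := ⟨Subgroup.one_mem _, fun e _ => by simp⟩
  mul_mem' := by
    rintro a b ⟨ha1, ha2⟩ ⟨hb1, hb2⟩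
    refine ⟨Subgroup.mul_mem _ ha1 hb1, fun e he => ?_⟩
    have e1 : ⁅e, a * b⁆ = ⁅e, a⁆ * (a * ⁅e, b⁆ * a⁻¹) := by
      simp only [commutatorElement_def]; group
    rw [e1]
    exact D.mul_mem (ha2 e he) ((Subgroup.mem_normalizer_iff.1 ha1 _).1 (hb2 e he))
  inv_mem' := by
    rintro a ⟨ha1, ha2⟩
    refine ⟨Subgroup.inv_mem _ ha1, fun e he => ?_⟩
    have e1 : ⁅e, a⁻¹⁆ = a⁻¹ * (⁅e, a⁆)⁻¹ * a⁻¹⁻¹ := by
      simp only [commutatorElement_def]; group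
    rw [e1]
    exact (Subgroup.mem_normalizer_iff.1 (Subgroup.inv_mem _ ha1) _).1 (D.inv_mem (ha2 e he))

theorem comm_map {G : Type*} [Group G] (P : Subgroup G) :
    (commutator ↥P).map P.subtype = ⁅P, P⁆ := by
  rw [commutator_def, Subgroup.map_commutator, ← MonoidHom.range_eq_map, Subgroup.range_subtype]

theorem pow_comm {G : Type*} [Group G] {p : ℕ} (P : Subgroup G) (x z : G) (hx : x ∈ P)
    (hz : z ∈ Subgroup.normalizer (P : Set G)) (h : ⁅x, z⁆ ^ p = 1) :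
    ⁅x ^ p, z⁆ ∈ ⁅P, P⁆ := by
  have hb0 : z * x * z⁻¹ ∈ P := (Subgroup.mem_normalizer_iff.1 hz x).1 hx
  obtain ⟨a, ha⟩ : ∃ a : ↥P, (a : G) = x := ⟨⟨x, hx⟩, rfl⟩
  obtain ⟨b, hb⟩ : ∃ b : ↥P, (b : G) = z * x * z⁻¹ := ⟨⟨_, hb0⟩, rfl⟩
  have h1 : (a * b⁻¹) ^ p = 1 := by
    apply Subtype.ext
    have e : ((a * b⁻¹ : ↥P) : G) = ⁅x, z⁆ := by
      rw [Subgroup.coe_mul, Subgroup.coe_inv, ha, hb, commutatorElement_def]; group
    rw [Subgroup.coe_pow, e, h]; rfl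
  have h2 : Abelianization.of (a ^ p * (b ^ p)⁻¹) = 1 := by
    have h3 := congrArg (Abelianization.of (G := ↥P)) h1
    rw [map_pow, map_mul, map_inv, mul_pow, map_one] at h3
    rw [map_mul, map_inv, map_pow, map_pow, ← inv_pow]
    exact h3
  have h4 : a ^ p * (b ^ p)⁻¹ ∈ commutator ↥P := by
    rw [← Abelianization.ker_of, MonoidHom.mem_ker]; exact h2
  have h5 : ((a ^ p * (b ^ p)⁻¹ : ↥P) : G) ∈ ⁅P, P⁆ := by
    rw [← comm_map]; exact ⟨_, h4, rfl⟩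
  have e : ⁅x ^ p, z⁆ = ((a ^ p * (b ^ p)⁻¹ : ↥P) : G) := by
    rw [Subgroup.coe_mul, Subgroup.coe_inv, Subgroup.coe_pow, Subgroup.coe_pow, ha, hb,
      conj_pow, commutatorElement_def]; group
  rw [e]; exact h5

theorem frat_comm {G : Type*} [Group G] [Finite G] {p : ℕ} [Fact p.Prime] (P : Subgroup G)
    (hP : IsPGroup p ↥P) (z : G) (hz : z ∈ Subgroup.normalizer (P : Set G))
    (h : ∀ x ∈ P, ⁅x, z⁆ ^ p = 1) :
    ∀ t ∈ (frattini ↥P).map P.subtype, ⁅t, z⁆ ∈ ⁅P, P⁆ := by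
  have hzP' : z ∈ Subgroup.normalizer ((⁅P, P⁆ : Subgroup G) : Set G) :=
    Cfsg.Agent.S0028.mem_normalizer_commutator P P z hz hz
  have hPP' : P ≤ Subgroup.normalizer ((⁅P, P⁆ : Subgroup G) : Set G) :=
    Cfsg.Agent.S0567.left_le_normalizer_commutator P P
  let N : Subgroup ↥P :=
    { carrier := {t | ⁅(t : G), z⁆ ∈ ⁅P, P⁆}
      one_mem' := by simp
      mul_mem' := by
        intro a b ha hb
        have e1 : ⁅((a * b : ↥P) : G), z⁆ =
            (a : G) * ⁅(b : G), z⁆ * (a : G)⁻¹ * ⁅(a : G), z⁆ := by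
          rw [Subgroup.coe_mul]; simp only [commutatorElement_def]; group
        show ⁅((a * b : ↥P) : G), z⁆ ∈ ⁅P, P⁆
        rw [e1]
        exact Subgroup.mul_mem _ ((Subgroup.mem_normalizer_iff.1 (hPP' a.2) _).1 hb) ha
      inv_mem' := by
        intro a ha
        have e1 : ⁅((a⁻¹ : ↥P) : G), z⁆ = (a : G)⁻¹ * (⁅(a : G), z⁆)⁻¹ * (a : G)⁻¹⁻¹ := by
          rw [Subgroup.coe_inv]; simp only [commutatorElement_def]; group
        show ⁅((a⁻¹ : ↥P) : G), z⁆ ∈ ⁅P, P⁆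
        rw [e1]
        exact (Subgroup.mem_normalizer_iff.1 (hPP' (P.inv_mem a.2)) _).1
          (Subgroup.inv_mem _ ha) }
  have hcomm : commutator ↥P ≤ N := by
    intro c hc
    have hc' : (c : G) ∈ ⁅P, P⁆ := by rw [← comm_map]; exact ⟨c, hc, rfl⟩
    show ⁅(c : G), z⁆ ∈ ⁅P, P⁆
    have e : ⁅(c : G), z⁆ = (c : G) * (z * (c : G)⁻¹ * z⁻¹) := by
      rw [commutatorElement_def]; group
    rw [e]
    exact Subgroup.mul_mem _ hc'
      ((Subgroup.mem_normalizer_iff.1 hzP' _).1 (Subgroup.inv_mem _ hc'))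
  have hNn : N.Normal := by
    constructor
    intro t ht s
    have e : s * t * s⁻¹ = ⁅s, t⁆ * t := by rw [commutatorElement_def]; group
    rw [e]
    refine N.mul_mem (hcomm ?_) ht
    rw [commutator_def]
    exact Subgroup.commutator_mem_commutator (Subgroup.mem_top s) (Subgroup.mem_top t)
  have hpow : ∀ x : ↥P, x ^ p ∈ N := by
    intro x
    show ⁅((x ^ p : ↥P) : G), z⁆ ∈ ⁅P, P⁆
    rw [Subgroup.coe_pow]
    exact pow_comm P (x : G) z x.2 hz (h x x.2)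
  have hfr : frattini ↥P ≤ N := Cfsg.Agent.S0013.result p hP N hcomm hpow
  rintro _ ⟨t, ht, rfl⟩
  exact hfr ht

theorem result {G : Type*} [Group G] [Finite G] {p : ℕ} [Fact p.Prime] (P : Subgroup G) (hP : IsPGroup p ↥P) (H : Subgroup G) (hH : H ≤ Subgroup.normalizer (P : Set G)) (Y : Subgroup G) (hYH : Y ≤ H) (hYc : Y ≤ Subgroup.centralizer ((⁅P, P⁆ : Subgroup G) : Set G)) (hel : Cfsg.IsElementaryAbelian p ⁅P, Y⁆) (NY : Subgroup G) (hNY : NY = (Subgroup.normalClosure ((Y.subgroupOf H : Subgroup ↥H) : Set ↥H)).map H.subtype) : (Cfsg.pResidual p ↥NY).map NY.subtype ≤ Subgroup.centralizer (((frattini ↥P).map P.subtype : Subgroup G) : Set G) := by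
  subst hNY
  set Φ := (frattini ↥P).map P.subtype with hΦ
  have hHP' : H ≤ Subgroup.normalizer ((⁅P, P⁆ : Subgroup G) : Set G) := fun h hh =>
    Cfsg.Agent.S0028.mem_normalizer_commutator P P h (hH hh) (hH hh)
  have hgenW : ∀ h ∈ H, ∀ y ∈ Y, h * y * h⁻¹ ∈
      kD Φ ⁅P, P⁆ ⊓ Subgroup.centralizer ((⁅P, P⁆ : Subgroup G) : Set G) := by
    intro h hh y hy
    have hzH : h * y * h⁻¹ ∈ H := H.mul_mem (H.mul_mem hh (hYH hy)) (H.inv_mem hh)
    have hzN := hH hzH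
    refine ⟨⟨hHP' hzH, ?_⟩, ?_⟩
    · apply frat_comm P hP _ hzN
      intro x hx
      have e : ⁅x, h * y * h⁻¹⁆ = h * ⁅h⁻¹ * x * h, y⁆ * h⁻¹ := by
        simp only [commutatorElement_def]; group
      rw [e, conj_pow]
      have hx' : h⁻¹ * x * h ∈ P := by
        have := (Subgroup.mem_normalizer_iff.1 (hH (H.inv_mem hh)) x).1 hx
        simpa using this
      rw [hel.2 _ (Subgroup.commutator_mem_commutator hx' hy)]
      group
    · refine Subgroup.mem_centralizer_iff.2 ?_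
      intro t ht
      have ht' : h⁻¹ * t * h ∈ ⁅P, P⁆ := by
        have := (Subgroup.mem_normalizer_iff.1 (hHP' (H.inv_mem hh)) t).1 ht
        simpa using this
      have h1 := (Subgroup.mem_centralizer_iff.1 (hYc hy)) _ ht'
      calc t * (h * y * h⁻¹) = h * ((h⁻¹ * t * h) * y) * h⁻¹ := by group
        _ = h * (y * (h⁻¹ * t * h)) * h⁻¹ := by rw [h1]
        _ = h * y * h⁻¹ * t := by group
  have hNYW : (Subgroup.normalClosure ((Y.subgroupOf H : Subgroup ↥H) : Set ↥H)).map H.subtype ≤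
      kD Φ ⁅P, P⁆ ⊓ Subgroup.centralizer ((⁅P, P⁆ : Subgroup G) : Set G) := by
    rw [Subgroup.map_le_iff_le_comap]
    unfold Subgroup.normalClosure
    rw [Subgroup.closure_le]
    intro a ha
    rw [Group.mem_conjugatesOfSet_iff] at ha
    obtain ⟨b, hb, hconj⟩ := ha
    rw [isConj_iff] at hconj
    obtain ⟨c, rfl⟩ := hconj
    have hb' : (b : G) ∈ Y := Subgroup.mem_subgroupOf.1 hb
    exact hgenW (c : G) c.2 (b : G) hb'
  rw [Subgroup.map_le_iff_le_comap]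
  unfold Cfsg.pResidual
  rw [Subgroup.closure_le]
  intro g hg
  have hcop : (orderOf (g : G)).Coprime p := by
    rw [Subgroup.orderOf_coe]; exact hg
  have hgW := hNYW g.2
  obtain ⟨⟨hg1, hg2⟩, hg3⟩ := hgW
  show (g : G) ∈ Subgroup.centralizer (Φ : Set G)
  rw [Subgroup.mem_centralizer_iff]
  intro t ht
  have hc1 : ⁅(g : G), t⁆ ∈ ⁅P, P⁆ := by
    rw [← commutatorElement_inv]
    exact Subgroup.inv_mem _ (hg2 t ht)
  have hcP : ⁅(g : G), t⁆ ∈ P :=
    Cfsg.Agent.S0026.comm_le_of_normalizes P P Subgroup.le_normalizer hc1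
  obtain ⟨k, hk⟩ := hP ⟨⁅(g : G), t⁆, hcP⟩
  have hk' : ⁅(g : G), t⁆ ^ (p ^ k) = 1 := by
    have := congrArg Subtype.val hk
    simpa using this
  have hxc : (g : G) * ⁅(g : G), t⁆ = ⁅(g : G), t⁆ * (g : G) :=
    ((Subgroup.mem_centralizer_iff.1 hg3) _ hc1).symm
  have hxu : (g : G) * t * (g : G)⁻¹ = ⁅(g : G), t⁆ * t := by
    rw [commutatorElement_def]; group
  have h1 := Cfsg.Agent.S2961.stab (g : G) t ⁅(g : G), t⁆ hcop ⟨k, hk'⟩ hxc hxu
  rw [commutatorElement_eq_one_iff_commute] at h1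
  exact h1.symm.eq

end Cfsg.Agent.S2819
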