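import Mathlib
import Cfsg.Statements.S0095

set_option autoImplicit false
open Pointwise
open Cfsg
open scoped commutatorElement

namespace Cfsg.Agent.S0095

variable {G : Type*} [Group G]

theorem comm_mul_right (hcz : ∀ a b : G, ⁅a, b⁆ ∈ Subgroup.center G) (x g h : G) :
    ⁅x, g * h⁆ = ⁅x, g⁆ * ⁅x, h⁆ := by
  have e : ⁅x, g * h⁆ = ⁅x, g⁆ * (g * ⁅x, h⁆ * g⁻¹) := by
    simp only [commutatorElement_def]; group
  have hc : g * ⁅x, h⁆ * g⁻¹ = ⁅x, h⁆ := by
    rw [Subgroup.mem_center_iff.1 (hcz x h) g, mul_inv_cancel_right]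
  rw [e, hc]

/-- The commutator homomorphism `g ↦ ⁅x, g⁆` into a central subgroup containing all commutators. -/
def commHom (Z : Subgroup G) (hZ : ∀ a b : G, ⁅a, b⁆ ∈ Z) (hZc : Z ≤ Subgroup.center G) (x : G) :
    G →* ↥Z where
  toFun g := ⟨⁅x, g⁆, hZ x g⟩
  map_one' := by apply Subtype.ext; simp
  map_mul' g h := by
    apply Subtype.ext
    exact comm_mul_right (fun a b => hZc (hZ a b)) x g h

theorem commHom_eq_one_iff (Z : Subgroup G) (hZ : ∀ a b : G, ⁅a, b⁆ ∈ Z)
    (hZc : Z ≤ Subgroup.center G) (x g : G) :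
    commHom Z hZ hZc x g = 1 ↔ g ∈ Subgroup.centralizer ({x} : Set G) := by
  rw [Subgroup.mem_centralizer_iff]
  constructor
  · intro h1 z hz
    rw [Set.mem_singleton_iff] at hz
    rw [hz]
    have h2 : ⁅x, g⁆ = 1 := congrArg Subtype.val h1
    exact (commutatorElement_eq_one_iff_commute.1 h2).eq
  · intro h1
    apply Subtype.ext
    show ⁅x, g⁆ = 1
    exact commutatorElement_eq_one_iff_commute.2 (h1 x rfl)

theorem relIndex_centralizer {p : ℕ} [Fact p.Prime] (Z : Subgroup G) (hZ : ∀ a b : G, ⁅a, b⁆ ∈ Z)
    (hZc : Z ≤ Subgroup.center G) (hcard : Nat.card Z = p) (H : Subgroup G) (y g : G)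
    (hg : g ∈ H) (hyg : ⁅y, g⁆ ≠ 1) :
    (Subgroup.centralizer ({y} : Set G)).relIndex H = p := by
  set ψ : ↥H →* ↥Z := (commHom Z hZ hZc y).comp H.subtype with hψ
  have hker : ψ.ker = (Subgroup.centralizer ({y} : Set G)).subgroupOf H := by
    ext h
    rw [MonoidHom.mem_ker, Subgroup.mem_subgroupOf, ← commHom_eq_one_iff Z hZ hZc]
    rfl
  have hrange : ψ.range = ⊤ := by
    haveI : Fact (Nat.card ↥Z).Prime := ⟨hcard ▸ Fact.out⟩
    rcases Subgroup.eq_bot_or_eq_top_of_prime_card ψ.range with h1 | h1
    · exfalso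
      have h2 : ψ ⟨g, hg⟩ ∈ ψ.range := ⟨_, rfl⟩
      rw [h1, Subgroup.mem_bot] at h2
      exact hyg (congrArg Subtype.val h2)
    · exact h1
  have h3 := Subgroup.index_ker ψ
  rw [hker, hrange, Subgroup.card_top, hcard] at h3
  exact h3

universe u in
theorem aux (p : ℕ) [Fact p.Prime] (n : ℕ) : ∀ (G : Type u) [Group G] [Finite G], Nat.card G = n →
    ∀ Z : Subgroup G, Nat.card Z = p → Z ≤ Subgroup.center G → (∀ a b : G, ⁅a, b⁆ ∈ Z) →
    ∃ m : ℕ, (Subgroup.center G).index = p ^ (2 * m) := by
  induction n using Nat.strong_induction_on with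
  | _ n ih =>
    intro G _ _ hn Z hcard hZc hZ
    have hpp : p.Prime := Fact.out
    by_cases hab : ∀ a b : G, ⁅a, b⁆ = 1
    · refine ⟨0, ?_⟩
      have h1 : Subgroup.center G = ⊤ := by
        rw [eq_top_iff]
        intro z _
        rw [Subgroup.mem_center_iff]
        intro g
        exact (commutatorElement_eq_one_iff_commute.1 (hab g z)).eq
      rw [h1, Subgroup.index_top]; rfl
    · push_neg at hab
      obtain ⟨x, y, hxy⟩ := hab
      set Cx := Subgroup.centralizer ({x} : Set G) with hCx
      set Cy := Subgroup.centralizer ({y} : Set G) with hCy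
      set C := Cx ⊓ Cy with hC
      set ψx := commHom Z hZ hZc x with hψx
      set ψy := commHom Z hZ hZc y with hψy
      have hix : Cx.index = p := by
        have h1 := relIndex_centralizer Z hZ hZc hcard ⊤ x y (Subgroup.mem_top y) hxy
        rwa [Subgroup.relIndex_top_right] at h1
      have hxCx : x ∈ Cx := by
        rw [hCx, Subgroup.mem_centralizer_iff]
        intro z hz
        rw [Set.mem_singleton_iff] at hz
        rw [hz]
      have hyx : ⁅y, x⁆ ≠ 1 := by
        intro h
        apply hxy
        rw [← commutatorElement_inv, h, inv_one]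
      have hiy : Cy.relIndex Cx = p := relIndex_centralizer Z hZ hZc hcard Cx y x hxCx hyx
      have hCidx : C.index = p * p := by
        have h1 := Subgroup.relIndex_mul_index (inf_le_left : C ≤ Cx)
        rw [Subgroup.inf_relIndex_left, hiy, hix] at h1
        exact h1.symm
      have hcenC : Subgroup.center G ≤ C := by
        intro z hz
        refine Subgroup.mem_inf.2 ⟨?_, ?_⟩
        · rw [hCx, Subgroup.mem_centralizer_iff]
          intro w _
          exact Subgroup.mem_center_iff.1 hz w
        · rw [hCy, Subgroup.mem_centralizer_iff]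
          intro w _
          exact Subgroup.mem_center_iff.1 hz w
      have hZC : Z ≤ C := hZc.trans hcenC
      have hcz1 : ψx y ≠ 1 := fun h => hxy (congrArg Subtype.val h)
      have hdz1 : ψy x ≠ 1 := fun h => hyx (congrArg Subtype.val h)
      have hψxx : ψx x = 1 := by
        apply Subtype.ext
        show ⁅x, x⁆ = 1
        exact commutatorElement_self x
      have hcenter : (Subgroup.center ↥C).map C.subtype = Subgroup.center G := by
        apply le_antisymm
        · rintro _ ⟨z, hz, rfl⟩
          rw [Subgroup.mem_center_iff]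
          intro g
          obtain ⟨i, hi⟩ := mem_powers_of_prime_card (g' := ψx g) hcard hcz1
          have hi' : ψx y ^ i = ψx g := hi
          set g₁ := g * (y ^ i)⁻¹ with hg₁
          have h1 : ψx g₁ = 1 := by
            rw [hg₁, map_mul, map_inv, map_pow, hi', mul_inv_cancel]
          obtain ⟨k, hk⟩ := mem_powers_of_prime_card (g' := ψy g₁) hcard hdz1
          have hk' : ψy x ^ k = ψy g₁ := hk
          set g₂ := g₁ * (x ^ k)⁻¹ with hg₂
          have h2 : ψy g₂ = 1 := by
            rw [hg₂, map_mul, map_inv, map_pow, hk', mul_inv_cancel]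
          have h3 : ψx g₂ = 1 := by
            rw [hg₂, map_mul, map_inv, map_pow, h1, hψxx, one_pow, inv_one, mul_one]
          have hg₂C : g₂ ∈ C :=
            Subgroup.mem_inf.2 ⟨(commHom_eq_one_iff Z hZ hZc x g₂).1 h3,
              (commHom_eq_one_iff Z hZ hZc y g₂).1 h2⟩
          have e : g = g₂ * x ^ k * y ^ i := by rw [hg₂, hg₁]; group
          have hzx : Commute (x : G) (z : G) := by
            have h4 := (Subgroup.mem_inf.1 z.2).1
            rw [hCx, Subgroup.mem_centralizer_iff] at h4
            exact h4 x rfl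
          have hzy : Commute (y : G) (z : G) := by
            have h4 := (Subgroup.mem_inf.1 z.2).2
            rw [hCy, Subgroup.mem_centralizer_iff] at h4
            exact h4 y rfl
          have hzg : Commute g₂ (z : G) := by
            have h4 := Subgroup.mem_center_iff.1 hz ⟨g₂, hg₂C⟩
            exact congrArg Subtype.val h4
          show g * (z : G) = (z : G) * g
          rw [e]
          exact ((hzg.mul_left (hzx.pow_left k)).mul_left (hzy.pow_left i)).eq
        · intro z hz
          refine ⟨⟨z, hcenC hz⟩, Subgroup.mem_center_iff.2 ?_, rfl⟩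
          intro c
          apply Subtype.ext
          exact Subgroup.mem_center_iff.1 hz c
      have hcardC := Subgroup.index_mul_card C
      have hlt : Nat.card ↥C < n := by
        rw [← hn, ← hcardC, hCidx]
        have h1 : 0 < Nat.card ↥C := Nat.card_pos
        have h2 := hpp.two_le
        have h3 : 4 ≤ p * p := Nat.mul_le_mul h2 h2
        nlinarith
      obtain ⟨m, hm⟩ := ih _ hlt ↥C rfl (Z.subgroupOf C)
        (by rw [← hcard]; exact Nat.card_congr (Subgroup.subgroupOfEquivOfLe hZC).toEquiv)
        (by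
          intro z hz
          rw [Subgroup.mem_center_iff]
          intro c
          apply Subtype.ext
          exact Subgroup.mem_center_iff.1 (hZc (Subgroup.mem_subgroupOf.1 hz)) c)
        (by
          intro a b
          rw [Subgroup.mem_subgroupOf]
          have h1 : ((⁅a, b⁆ : ↥C) : G) = ⁅(a : G), (b : G)⁆ := by
            simp [commutatorElement_def]
          rw [h1]
          exact hZ _ _)
      refine ⟨m + 1, ?_⟩
      have hcc : Nat.card ↥(Subgroup.center ↥C) = Nat.card ↥(Subgroup.center G) := by
        rw [← hcenter]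
        exact Nat.card_congr ((Subgroup.center ↥C).equivMapOfInjective C.subtype
          (Subgroup.subtype_injective C)).toEquiv
      have h5 := Subgroup.index_mul_card (Subgroup.center G)
      have h6 := Subgroup.index_mul_card (Subgroup.center ↥C)
      rw [hm, hcc] at h6
      have h7 : (Subgroup.center G).index * Nat.card ↥(Subgroup.center G) =
          p ^ (2 * (m + 1)) * Nat.card ↥(Subgroup.center G) := by
        rw [h5, ← hcardC, hCidx, ← h6]; ring
      exact Nat.eq_of_mul_eq_mul_right Nat.card_pos h7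

theorem result {P : Type*} [Group P] [Finite P] {p : ℕ} [Fact p.Prime] (h : Cfsg.IsExtraspecial p P) : ∃ n : ℕ, 1 ≤ n ∧ Nat.card P = p ^ (2 * n + 1) := by
  obtain ⟨⟨hP, hΦ, hD⟩, hZ⟩ := h
  have hpp : p.Prime := Fact.out
  obtain ⟨m, hm⟩ := aux p _ P rfl (Subgroup.center P) hZ le_rfl (by
    intro a b
    rw [← hD, commutator_eq_closure]
    exact Subgroup.subset_closure ⟨a, b, rfl⟩)
  refine ⟨m, ?_, ?_⟩
  · by_contra hm0
    have hm0' : m = 0 := by omega
    subst hm0'
    rw [Nat.mul_zero, pow_zero, Subgroup.index_eq_one] at hm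
    have h1 : commutator P = ⊥ := by
      rw [commutator_eq_closure, Subgroup.closure_eq_bot_iff]
      rintro g ⟨a, b, rfl⟩
      rw [Set.mem_singleton_iff, commutatorElement_eq_one_iff_commute]
      have h2 : b ∈ Subgroup.center P := by rw [hm]; trivial
      exact Subgroup.mem_center_iff.1 h2 a
    rw [← hD, h1, Subgroup.card_bot] at hZ
    exact hpp.one_lt.ne hZ
  · have h5 := Subgroup.index_mul_card (Subgroup.center P)
    rw [hm, hZ] at h5
    rw [← h5, pow_succ]

end Cfsg.Agent.S0095
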