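import Mathlib
import Cfsg.Statements.S0025
import Cfsg.Agent.S0001
import Cfsg.Agent.S0003
import Cfsg.Agent.S0004
import Cfsg.Agent.S0022
import Cfsg.Agent.S0023

set_option autoImplicit false
open Pointwise
open Cfsg

namespace Cfsg.Agent.S0025

open Subgroup Cfsg.Agent.S0003 Cfsg.Agent.S0004 Cfsg.Agent.S0001 Cfsg.Agent.S0022
  Cfsg.Agent.S0023

/-- a normal `p`-subgroup lies in every Sylow `p`-subgroup -/
theorem normal_pgroup_le_sylow {G : Type*} [Group G] [Finite G] (p : ℕ) [Fact p.Prime]
    (H : Subgroup G) [H.Normal] (hH : IsPGroup p H) (R : Sylow p G) : H ≤ R := by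
  obtain ⟨Q, hQ⟩ := hH.exists_le_sylow
  obtain ⟨g, rfl⟩ := MulAction.exists_smul_eq G Q R
  rw [Sylow.coe_subgroup_smul, ← Subgroup.Normal.conj_smul_eq_self g H]
  exact Subgroup.pointwise_smul_le_pointwise_smul_iff.mpr hQ

/-- A `p`-subgroup `V` of `K` whose order is the full `p`-part of `|N_K(V)|` has order the
full `p`-part of `|K|`. -/
theorem card_of_sylow_in_normalizer {G : Type*} [Group G] [Finite G] (p : ℕ) [Fact p.Prime]
    (K V : Subgroup G) (hVK : V ≤ K)
    (hV : Nat.card V = p ^ (Nat.card ↥(K ⊓ normalizer (V : Set G))).factorization p) :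
    Nat.card V = p ^ (Nat.card K).factorization p := by
  have hp : p.Prime := Fact.out
  have hKpos : Nat.card K ≠ 0 := Nat.card_pos.ne'
  have hNpos : Nat.card ↥(K ⊓ normalizer (V : Set G)) ≠ 0 := Nat.card_pos.ne'
  generalize hj : (Nat.card ↥(K ⊓ normalizer (V : Set G))).factorization p = j at hV
  have hjK : p ^ j ∣ Nat.card K := hV ▸ Subgroup.card_dvd_of_le hVK
  have hje : j ≤ (Nat.card K).factorization p :=
    (hp.pow_dvd_iff_le_factorization hKpos).mp hjK
  rcases hje.lt_or_eq with hlt | heq
  · exfalso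
    have hdvd : p ^ (j + 1) ∣ Nat.card K :=
      (hp.pow_dvd_iff_le_factorization hKpos).mpr hlt
    have cH : Nat.card (V.subgroupOf K) = p ^ j := by
      rw [card_subgroupOf_eq', inf_of_le_left hVK, hV]
    have h1 := Sylow.prime_dvd_card_quotient_normalizer hdvd cH
    have h2 := Subgroup.card_mul_index
      ((V.subgroupOf K).comap (normalizer ((V.subgroupOf K : Subgroup K) : Set K)).subtype)
    rw [Subgroup.index_eq_card] at h2
    have h3 : Nat.card ((V.subgroupOf K).comap
        (normalizer ((V.subgroupOf K : Subgroup K) : Set K)).subtype) = p ^ j := by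
      have : (V.subgroupOf K).comap
          (normalizer ((V.subgroupOf K : Subgroup K) : Set K)).subtype =
          (V.subgroupOf K).subgroupOf (normalizer ((V.subgroupOf K : Subgroup K) : Set K)) := rfl
      rw [this, card_subgroupOf_eq', inf_of_le_left Subgroup.le_normalizer, cH]
    have h4 : p ^ (j + 1) ∣ Nat.card (normalizer ((V.subgroupOf K : Subgroup K) : Set K)) := by
      rw [← h2, h3, pow_succ]
      exact Nat.mul_dvd_mul_left _ h1
    rw [← Subgroup.subgroupOf_normalizer_eq hVK, card_subgroupOf_eq', inf_comm] at h4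
    have h5 := (hp.pow_dvd_iff_le_factorization hNpos).mp h4
    omega
  · rw [hV, heq]

theorem result {G : Type*} [Group G] [Finite G] (A K : Subgroup G) (hAK : A ≤ Subgroup.normalizer (K : Set G))
    (hcop : (Nat.card A).Coprime (Nat.card K)) (hsolv : Group.IsSolvable A ∨ Group.IsSolvable K)
    (p : ℕ) [Fact p.Prime] (U : Subgroup G) (hUK : U ≤ K) (hU : IsPGroup p U) (hUA : A ≤ Subgroup.normalizer (U : Set G)) :
    ∃ P : Sylow p K, U ≤ (P : Subgroup K).map K.subtype ∧ A ≤ Subgroup.normalizer ((P : Subgroup K).map K.subtype : Set G) := by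
  have hp : p.Prime := Fact.out
  obtain ⟨V, ⟨hVK, hVp, hVA, hUV⟩, hmax⟩ := Set.exists_max_image
    {V : Subgroup G | V ≤ K ∧ IsPGroup p V ∧ A ≤ normalizer (V : Set G) ∧ U ≤ V}
    (fun V => Nat.card V) (Set.toFinite _) ⟨U, hUK, hU, hUA, le_rfl⟩
  have hN1K : K ⊓ normalizer (V : Set G) ≤ K := inf_le_left
  have hVN : V ≤ K ⊓ normalizer (V : Set G) := le_inf hVK Subgroup.le_normalizer
  have hA_N1 : A ≤ normalizer ((K ⊓ normalizer (V : Set G) : Subgroup G) : Set G) := by
    rw [Subgroup.le_normalizer_iff]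
    intro a ha n hn
    refine ⟨(Subgroup.le_normalizer_iff.mp hAK) a ha n hn.1, ?_⟩
    exact Subgroup.mul_mem _ (Subgroup.mul_mem _ (hVA ha) hn.2) (Subgroup.inv_mem _ (hVA ha))
  have hsolv' : Group.IsSolvable A ∨ Group.IsSolvable ↥(K ⊓ normalizer (V : Set G)) := by
    rcases hsolv with h | h
    · exact Or.inl h
    · right
      exact Group.isSolvable_of_isSolvable_injective (f := Subgroup.inclusion hN1K)
        (Subgroup.inclusion_injective hN1K)
  have hcop' : (Nat.card A).Coprime (Nat.card ↥(K ⊓ normalizer (V : Set G))) :=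
    Nat.Coprime.coprime_dvd_right (Subgroup.card_dvd_of_le hN1K) hcop
  have hVnorm : (V.subgroupOf (K ⊓ normalizer (V : Set G))).Normal :=
    Subgroup.normal_subgroupOf_of_le_normalizer inf_le_right
  generalize hNeq : K ⊓ normalizer (V : Set G) = N at hN1K hVN hA_N1 hsolv' hcop' hVnorm
  obtain ⟨R0⟩ : Nonempty (Sylow p N) := inferInstance
  have hS0 : Nat.card ((R0 : Subgroup N).map N.subtype) = p ^ (Nat.card N).factorization p := by
    rw [Subgroup.card_map_of_injective (Subgroup.subtype_injective _)]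
    exact Sylow.card_eq_multiplicity R0
  obtain ⟨n, hn, hA⟩ := exists_invariant_conj A N hA_N1 hcop' hsolv' p
    ((R0 : Subgroup N).map N.subtype) (Subgroup.map_subtype_le _) hS0
  have e : (((⟨n, hn⟩ : N) • R0 : Sylow p N) : Subgroup N).map N.subtype =
      MulAut.conj n • (R0 : Subgroup N).map N.subtype := by
    rw [Sylow.coe_subgroup_smul, map_conj_smul]; rfl
  rw [← e] at hA
  generalize (⟨n, hn⟩ : N) • R0 = R at hA
  have hVR : V ≤ (R : Subgroup N).map N.subtype := by
    haveI := hVnorm
    have hVp' : IsPGroup p (V.subgroupOf N) := by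
      apply IsPGroup.of_card (n := (Nat.card V).factorization p)
      rw [card_subgroupOf_eq', inf_of_le_left hVN]
      obtain ⟨j, hj⟩ := IsPGroup.iff_card.mp hVp
      rw [hj, hp.factorization_pow]; simp
    have h1 := normal_pgroup_le_sylow p (V.subgroupOf N) hVp' R
    have h2 := Subgroup.map_mono (f := N.subtype) h1
    rwa [Subgroup.subgroupOf_map_subtype, inf_of_le_left hVN] at h2
  have cR : Nat.card ((R : Subgroup N).map N.subtype) = p ^ (Nat.card N).factorization p := by
    rw [Subgroup.card_map_of_injective (Subgroup.subtype_injective _)]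
    exact Sylow.card_eq_multiplicity R
  have hRK : (R : Subgroup N).map N.subtype ≤ K := (Subgroup.map_subtype_le _).trans hN1K
  have hRp : IsPGroup p ((R : Subgroup N).map N.subtype) := IsPGroup.of_card cR
  have hle := hmax _ ⟨hRK, hRp, hA, hUV.trans hVR⟩
  have hVeq : V = (R : Subgroup N).map N.subtype := Subgroup.eq_of_le_of_card_ge hVR hle
  have cV : Nat.card V = p ^ (Nat.card N).factorization p := by rw [hVeq]; exact cR
  have cV' : Nat.card V = p ^ (Nat.card K).factorization p :=
    card_of_sylow_in_normalizer p K V hVK (by rw [hNeq]; exact cV)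
  have cVK : Nat.card (V.subgroupOf K) = p ^ (Nat.card K).factorization p := by
    rw [card_subgroupOf_eq', inf_of_le_left hVK, cV']
  refine ⟨Sylow.ofCard (V.subgroupOf K) cVK, ?_, ?_⟩
  · rw [Sylow.coe_ofCard, Subgroup.subgroupOf_map_subtype, inf_of_le_left hVK]; exact hUV
  · rw [Sylow.coe_ofCard, Subgroup.subgroupOf_map_subtype, inf_of_le_left hVK]; exact hVA

end Cfsg.Agent.S0025
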