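import Mathlib
import Cfsg.Agent.Lib.Helper1.Inv
import Cfsg.Statements.S0031

set_option autoImplicit false
open Cfsg
open Pointwise

namespace Cfsg.Agent.S0031

/-- A fixed-point-free automorphism of a finite group maps some Sylow p-subgroup to itself. -/
theorem result {G : Type*} [Group G] [Finite G] (φ : G ≃* G)
    (hφ : MonoidHom.FixedPointFree (φ : G →* G)) (p : ℕ) [Fact p.Prime] :
    ∃ P : Sylow p G, (P : Subgroup G).map (φ : G →* G) = P := by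
  obtain ⟨P0⟩ : Nonempty (Sylow p G) := inferInstance
  obtain ⟨g, hg⟩ := MulAction.exists_smul_eq G P0 ((φ : MulAut G) • P0)
  obtain ⟨z, hz⟩ := hφ.commutatorMap_surjective g⁻¹
  have hz' : z * (φ z)⁻¹ = g⁻¹ := by
    have : z / φ z = g⁻¹ := hz
    rwa [div_eq_mul_inv] at this
  have hxg : ∀ x : G, x = z⁻¹ → φ x * g = x := by
    intro x hx
    rw [hx, map_inv]
    have : g = φ z * z⁻¹ := by
      have h1 : g⁻¹⁻¹ = (z * (φ z)⁻¹)⁻¹ := by rw [hz']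
      rw [inv_inv, mul_inv_rev, inv_inv] at h1
      exact h1
    rw [this]
    group
  have hmemφ : ∀ w : G, w ∈ (φ : MulAut G) • P0 ↔ φ.symm w ∈ P0 := by
    intro w
    show w ∈ (φ : MulAut G) • (P0 : Subgroup G) ↔ _
    rw [Subgroup.mem_pointwise_smul_iff_inv_smul_mem]
    exact Iff.rfl
  have hkey : ∀ w : G, g⁻¹ * w * g ∈ P0 ↔ φ.symm w ∈ P0 := by
    intro w
    rw [← hmemφ, ← hg, Lib.Helper1.mem_sylow_smul_iff]
  have hx := hxg z⁻¹ rfl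
  refine ⟨z⁻¹ • P0, ?_⟩
  ext y
  rw [Subgroup.mem_map]
  constructor
  · rintro ⟨q, hq, rfl⟩
    have hq' : (z⁻¹)⁻¹ * q * z⁻¹ ∈ P0 := (Lib.Helper1.mem_sylow_smul_iff P0 z⁻¹ q).mp hq
    apply (Lib.Helper1.mem_sylow_smul_iff P0 z⁻¹ _).mpr
    have h1 := (hkey (φ ((z⁻¹)⁻¹ * q * z⁻¹))).mpr (by rw [MulEquiv.symm_apply_apply]; exact hq')
    have h2 : g⁻¹ * φ ((z⁻¹)⁻¹ * q * z⁻¹) * g = (z⁻¹)⁻¹ * φ q * z⁻¹ := by
      rw [map_mul, map_mul, map_inv]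
      calc g⁻¹ * ((φ z⁻¹)⁻¹ * φ q * φ z⁻¹) * g = (φ z⁻¹ * g)⁻¹ * φ q * (φ z⁻¹ * g) := by group
        _ = (z⁻¹)⁻¹ * φ q * z⁻¹ := by rw [hx]
    rw [h2] at h1
    exact h1
  · intro hy
    have hy' : (z⁻¹)⁻¹ * y * z⁻¹ ∈ P0 := (Lib.Helper1.mem_sylow_smul_iff P0 z⁻¹ y).mp hy
    refine ⟨φ.symm y, ?_, ?_⟩
    · apply (Lib.Helper1.mem_sylow_smul_iff P0 z⁻¹ _).mpr
      have h2 : g⁻¹ * φ ((z⁻¹)⁻¹ * φ.symm y * z⁻¹) * g = (z⁻¹)⁻¹ * y * z⁻¹ := by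
        rw [map_mul, map_mul, map_inv, MulEquiv.apply_symm_apply]
        calc g⁻¹ * ((φ z⁻¹)⁻¹ * y * φ z⁻¹) * g = (φ z⁻¹ * g)⁻¹ * y * (φ z⁻¹ * g) := by group
          _ = (z⁻¹)⁻¹ * y * z⁻¹ := by rw [hx]
      have h1 := (hkey (φ ((z⁻¹)⁻¹ * φ.symm y * z⁻¹))).mp (by rw [h2]; exact hy')
      rw [MulEquiv.symm_apply_apply] at h1
      exact h1
    · exact MulEquiv.apply_symm_apply φ y

end Cfsg.Agent.S0031
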