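import Mathlib
import Cfsg.Agent.Lib.Helper1.Inv
import Cfsg.Statements.S0032

set_option autoImplicit false
open Cfsg

namespace Cfsg.Agent.S0032

/-- If an automorphism of a finite group fixes only the identity and maps a normal subgroup N into itself, then the only cosets of N it fixes are those in N: a fixed coset xN forces x ∈ N. -/
theorem result {G : Type*} [Group G] [Finite G] (φ : G ≃* G)
    (hφ : MonoidHom.FixedPointFree (φ : G →* G)) (N : Subgroup G) [N.Normal] (hN : ∀ n ∈ N, φ n ∈ N)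
    (x : G) (hx : (φ x)⁻¹ * x ∈ N) : x ∈ N := by
  have hinjG : ∀ a b : G, (φ a)⁻¹ * a = (φ b)⁻¹ * b → a = b := by
    intro a b hab
    have h1 : φ (b * a⁻¹) = b * a⁻¹ := by
      rw [map_mul, map_inv]
      calc φ b * (φ a)⁻¹ = φ b * ((φ a)⁻¹ * a) * a⁻¹ := by group
        _ = φ b * ((φ b)⁻¹ * b) * a⁻¹ := by rw [hab]
        _ = b * a⁻¹ := by group
    have h2 := hφ (b * a⁻¹) h1
    have h3 : b = a := by
      calc b = (b * a⁻¹) * a := by group
        _ = a := by rw [h2, one_mul]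
    exact h3.symm
  obtain ⟨f, hf⟩ : ∃ f : N → N, ∀ n : N, (f n : G) = (φ (n : G))⁻¹ * (n : G) :=
    ⟨fun n => ⟨(φ (n : G))⁻¹ * (n : G), N.mul_mem (N.inv_mem (hN n n.2)) n.2⟩, fun _ => rfl⟩
  have hfinj : Function.Injective f := by
    intro a b hab
    apply Subtype.ext
    apply hinjG
    rw [← hf, ← hf, hab]
  have hfsurj : Function.Surjective f := Finite.injective_iff_surjective.mp hfinj
  obtain ⟨n, hn⟩ := hfsurj ⟨_, hx⟩
  have h4 : (φ (n : G))⁻¹ * (n : G) = (φ x)⁻¹ * x := by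
    rw [← hf, hn]
  rw [← hinjG _ _ h4]
  exact n.2

end Cfsg.Agent.S0032
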