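import Mathlib
import Cfsg.Statements.S0528

namespace Cfsg.Agent.S0528

open Subgroup

/-- `Reach K`: there is a chain of normal subgroups from `⊥` to `K` with each step adjoining
one element. -/
inductive Reach {G : Type*} [Group G] : Subgroup G → Prop
  | bot : Reach ⊥
  | step (K : Subgroup G) (g : G) : Reach K → K.Normal → (K ⊔ zpowers g).Normal →
      Reach (K ⊔ zpowers g)

theorem reach_of_chain {G : Type*} [Group G] (n : ℕ) (H : Fin (n + 1) → Subgroup G)
    (h0 : H 0 = ⊥) (hnorm : ∀ i, (H i).Normal)
    (hstep : ∀ i : Fin n, ∃ g : G, H i.succ = H i.castSucc ⊔ Subgroup.zpowers g) :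
    ∀ i, Reach (H i) := by
  intro i
  induction i using Fin.induction with
  | zero => rw [h0]; exact Reach.bot
  | succ i ih =>
    obtain ⟨g, hg⟩ := hstep i
    rw [hg]
    exact Reach.step _ g ih (hnorm _) (hg ▸ hnorm _)

theorem chain_of_reach {G : Type*} [Group G] {K : Subgroup G} (h : Reach K) :
    ∃ (n : ℕ) (H : Fin (n + 1) → Subgroup G),
    H 0 = ⊥ ∧ H (Fin.last n) = K ∧ (∀ i, (H i).Normal) ∧
      ∀ i : Fin n, ∃ g : G, H i.succ = H i.castSucc ⊔ Subgroup.zpowers g := by
  induction h with
  | bot => exact ⟨0, fun _ => ⊥, rfl, rfl, fun _ => inferInstance, fun i => i.elim0⟩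
  | step K g _ hK hKg ih =>
    obtain ⟨n, H, h0, hn, hnorm, hstep⟩ := ih
    refine ⟨n + 1, Fin.snoc H (K ⊔ zpowers g), ?_, ?_, ?_, ?_⟩
    · have : (0 : Fin (n + 1 + 1)) = Fin.castSucc 0 := rfl
      rw [this, Fin.snoc_castSucc]; exact h0
    · rw [Fin.snoc_last]
    · intro i
      induction i using Fin.lastCases with
      | last => rw [Fin.snoc_last]; exact hKg
      | cast i => rw [Fin.snoc_castSucc]; exact hnorm i
    · intro i
      induction i using Fin.lastCases with
      | last =>
        refine ⟨g, ?_⟩
        have : (Fin.last n).succ = Fin.last (n + 1) := rfl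
        rw [this, Fin.snoc_last, Fin.snoc_castSucc, hn]
      | cast i =>
        obtain ⟨g', hg'⟩ := hstep i
        refine ⟨g', ?_⟩
        have : (i.castSucc).succ = (i.succ).castSucc := rfl
        rw [this, Fin.snoc_castSucc, Fin.snoc_castSucc, hg']

theorem supersolvable_iff_reach {G : Type*} [Group G] :
    Cfsg.IsSupersolvable G ↔ Reach (⊤ : Subgroup G) := by
  constructor
  · rintro ⟨n, H, h0, hn, hnorm, hstep⟩
    rw [← hn]
    exact reach_of_chain n H h0 hnorm hstep _
  · intro h
    exact chain_of_reach h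

theorem Reach.normal {G : Type*} [Group G] {K : Subgroup G} (h : Reach K) : K.Normal := by
  cases h with
  | bot => infer_instance
  | step K g _ hK hKg => exact hKg

theorem Reach.map {G G' : Type*} [Group G] [Group G'] (f : G →* G')
    (hf : Function.Surjective f) {K : Subgroup G} (h : Reach K) : Reach (K.map f) := by
  induction h with
  | bot => rw [Subgroup.map_bot]; exact Reach.bot
  | step K g _ hK hKg ih =>
    rw [Subgroup.map_sup, MonoidHom.map_zpowers]
    refine Reach.step _ _ ih (hK.map f hf) ?_
    have := hKg.map f hf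
    rwa [Subgroup.map_sup, MonoidHom.map_zpowers] at this

theorem comap_sup_zpowers {G G' : Type*} [Group G] [Group G'] (f : G →* G')
    (hf : Function.Surjective f) (K : Subgroup G') (g : G) :
    (K ⊔ zpowers (f g)).comap f = K.comap f ⊔ zpowers g := by
  apply le_antisymm
  · have h1 : (K.comap f ⊔ zpowers g).map f = K ⊔ zpowers (f g) := by
      rw [Subgroup.map_sup, Subgroup.map_comap_eq_self_of_surjective hf, MonoidHom.map_zpowers]
    rw [← h1, Subgroup.comap_map_eq]
    exact sup_le le_rfl (le_sup_of_le_left (MonoidHom.ker_le_comap f K))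
  · apply sup_le (Subgroup.comap_mono le_sup_left)
    rw [zpowers_le]
    exact mem_sup_right (mem_zpowers _)

/-- Pull back a chain along a surjection, on top of a chain reaching the kernel. -/
theorem Reach.comap {G G' : Type*} [Group G] [Group G'] (f : G →* G')
    (hf : Function.Surjective f) (hker : Reach f.ker) {K : Subgroup G'} (h : Reach K) :
    Reach (K.comap f) := by
  induction h with
  | bot => rw [MonoidHom.comap_bot]; exact hker
  | step K g _ hK hKg ih =>
    obtain ⟨g', rfl⟩ := hf g
    rw [comap_sup_zpowers f hf]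
    refine Reach.step _ _ ih (hK.comap f) ?_
    rw [← comap_sup_zpowers f hf]
    exact hKg.comap f

theorem reach_of_cyclic {G : Type*} [Group G] (N : Subgroup G) [hN : N.Normal] [IsCyclic N] :
    Reach N := by
  obtain ⟨g, hg⟩ := IsCyclic.exists_generator (α := N)
  have h1 : N = ⊥ ⊔ zpowers (g : G) := by
    rw [bot_sup_eq]
    apply le_antisymm
    · intro x hx
      obtain ⟨k, hk⟩ := hg ⟨x, hx⟩
      refine ⟨k, ?_⟩
      have := congrArg Subtype.val hk
      simpa using this
    · rw [zpowers_le]; exact g.2
  have h2 : Reach (⊥ ⊔ zpowers (g : G)) :=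
    Reach.step ⊥ (g : G) Reach.bot inferInstance (h1 ▸ hN)
  rw [h1]; exact h2

theorem result {G : Type*} [Group G] [Finite G] (N : Subgroup G) [N.Normal] [IsCyclic N] (h : Cfsg.IsSupersolvable (G ⧸ N)) : Cfsg.IsSupersolvable G := by
  rw [supersolvable_iff_reach] at h ⊢
  have h1 : Reach (QuotientGroup.mk' N).ker := by
    rw [QuotientGroup.ker_mk']; exact reach_of_cyclic N
  have := Reach.comap (QuotientGroup.mk' N) (QuotientGroup.mk'_surjective N) h1 h
  rwa [Subgroup.comap_top] at this

end Cfsg.Agent.S0528
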