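import Mathlib
import Cfsg.Statements.S0524
import Cfsg.Agent.S0528

namespace Cfsg.Agent.S0524

open Subgroup Cfsg.Agent.S0528

theorem subgroupOf_sup_zpowers {G : Type*} [Group G] (K : Subgroup G) [K.Normal] (g : G)
    (H : Subgroup G) :
    ∃ h : H, (K ⊔ zpowers g).subgroupOf H = K.subgroupOf H ⊔ zpowers h := by
  have h1 : (K ⊔ zpowers g).map (QuotientGroup.mk' K) = zpowers ((QuotientGroup.mk' K) g) := by
    rw [Subgroup.map_sup, MonoidHom.map_zpowers]
    have : K.map (QuotientGroup.mk' K) = ⊥ := by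
      rw [Subgroup.map_eq_bot_iff, QuotientGroup.ker_mk']
    rw [this, bot_sup_eq]
  have hCle : ((K ⊔ zpowers g) ⊓ H).map (QuotientGroup.mk' K) ≤
      zpowers ((QuotientGroup.mk' K) g) := by
    rw [← h1]; exact Subgroup.map_mono inf_le_left
  haveI : IsCyclic (((K ⊔ zpowers g) ⊓ H).map (QuotientGroup.mk' K)) :=
    Subgroup.isCyclic_of_le hCle
  obtain ⟨c, hc⟩ := IsCyclic.exists_generator
    (α := (((K ⊔ zpowers g) ⊓ H).map (QuotientGroup.mk' K)))
  obtain ⟨x, hx, hxc⟩ := c.2
  refine ⟨⟨x, hx.2⟩, ?_⟩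
  apply le_antisymm
  · intro y hy
    rw [mem_subgroupOf] at hy
    have hy' : (QuotientGroup.mk' K) y ∈ ((K ⊔ zpowers g) ⊓ H).map (QuotientGroup.mk' K) :=
      ⟨y, ⟨hy, y.2⟩, rfl⟩
    obtain ⟨k, hk⟩ := hc ⟨(QuotientGroup.mk' K) y, hy'⟩
    have hk' : (QuotientGroup.mk' K) x ^ k = (QuotientGroup.mk' K) y := by
      have := congrArg Subtype.val hk
      simpa [hxc] using this
    have hy2 : y = (y * (⟨x, hx.2⟩ : H) ^ (-k)) * (⟨x, hx.2⟩ : H) ^ k := by group
    rw [hy2]
    apply Subgroup.mul_mem _ (mem_sup_left _) (mem_sup_right (zpow_mem (mem_zpowers _) _))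
    rw [mem_subgroupOf]
    have h3 : (QuotientGroup.mk' K) ((y : G) * x ^ (-k)) = 1 := by
      rw [map_mul, map_zpow, zpow_neg, hk', mul_inv_cancel]
    have h4 : (y : G) * x ^ (-k) ∈ K := by
      rw [← QuotientGroup.ker_mk' K]; exact h3
    simpa using h4
  · apply sup_le
    · exact fun y hy => mem_subgroupOf.mpr (mem_sup_left (mem_subgroupOf.mp hy))
    · rw [zpowers_le, mem_subgroupOf]; exact hx.1

theorem Reach.subgroupOf {G : Type*} [Group G] (H : Subgroup G) {K : Subgroup G}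
    (h : Reach K) : Reach (K.subgroupOf H) := by
  induction h with
  | bot => rw [Subgroup.bot_subgroupOf]; exact Reach.bot
  | step K g _ hK hKg ih =>
    obtain ⟨h, hh⟩ := subgroupOf_sup_zpowers K g H
    rw [hh]
    refine Reach.step _ _ ih inferInstance ?_
    rw [← hh]; infer_instance

theorem result {G : Type*} [Group G] [Finite G] (hG : Cfsg.IsSupersolvable G) (H N : Subgroup G) [N.Normal] : Cfsg.IsSupersolvable H ∧ Cfsg.IsSupersolvable (G ⧸ N) := by
  rw [supersolvable_iff_reach] at hG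
  constructor
  · rw [supersolvable_iff_reach]
    have := Reach.subgroupOf H hG
    rwa [Subgroup.top_subgroupOf] at this
  · rw [supersolvable_iff_reach]
    have := Reach.map (QuotientGroup.mk' N) (QuotientGroup.mk'_surjective N) hG
    rwa [Subgroup.map_top_of_surjective _ (QuotientGroup.mk'_surjective N)] at this

end Cfsg.Agent.S0524
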