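import Mathlib
import Cfsg.Statements.S0525
import Cfsg.Agent.S0528

namespace Cfsg.Agent.S0525

open Subgroup Cfsg.Agent.S0528

theorem map_inl_eq {G H : Type*} [Group G] [Group H] (K : Subgroup G) :
    K.map (MonoidHom.inl G H) = K.prod ⊥ := by
  ext ⟨a, b⟩
  simp only [Subgroup.mem_map, MonoidHom.inl_apply, Prod.mk.injEq, Subgroup.mem_prod,
    Subgroup.mem_bot]
  constructor
  · rintro ⟨x, hx, rfl, rfl⟩; exact ⟨hx, rfl⟩
  · rintro ⟨ha, rfl⟩; exact ⟨a, ha, rfl, rfl⟩

theorem reach_map_inl {G H : Type*} [Group G] [Group H] {K : Subgroup G} (hK : Reach K) :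
    Reach (K.map (MonoidHom.inl G H)) := by
  induction hK with
  | bot => rw [Subgroup.map_bot]; exact Reach.bot
  | step K g _ hK hKg ih =>
    have e : (K ⊔ zpowers g).map (MonoidHom.inl G H) =
        K.map (MonoidHom.inl G H) ⊔ zpowers ((MonoidHom.inl G H) g) := by
      rw [Subgroup.map_sup, MonoidHom.map_zpowers]
    have n1 : (K.map (MonoidHom.inl G H)).Normal := by
      rw [map_inl_eq]; infer_instance
    have n2 : ((K ⊔ zpowers g).map (MonoidHom.inl G H)).Normal := by
      rw [map_inl_eq]; infer_instance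
    rw [e]
    exact Reach.step _ _ ih n1 (e ▸ n2)

theorem result {G H : Type*} [Group G] [Group H] [Finite G] [Finite H] (hG : Cfsg.IsSupersolvable G) (hH : Cfsg.IsSupersolvable H) : Cfsg.IsSupersolvable (G × H) := by
  rw [supersolvable_iff_reach] at hG hH ⊢
  have hker : Reach (MonoidHom.snd G H).ker := by
    have h1 := reach_map_inl (H := H) hG
    have h2 : (MonoidHom.snd G H).ker = (⊤ : Subgroup G).map (MonoidHom.inl G H) := by
      rw [map_inl_eq]
      ext ⟨a, b⟩
      simp [MonoidHom.mem_ker, Subgroup.mem_prod]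
    rw [h2]; exact h1
  have := Reach.comap (MonoidHom.snd G H) Prod.snd_surjective hker hH
  rwa [Subgroup.comap_top] at this

end Cfsg.Agent.S0525
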