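import Mathlib
import Cfsg.Statements.S0526
import Cfsg.Agent.S0528

namespace Cfsg.Agent.S0526

open Subgroup Cfsg.Agent.S0528
open scoped commutatorElement

theorem comm_centralizes_cyclic_normal {Q : Type*} [Group Q] (C : Subgroup Q) [C.Normal]
    [IsCyclic C] (y : Q) (hy : y ∈ commutator Q) (x : Q) (hx : x ∈ C) : y * x * y⁻¹ = x := by
  have h1 := Abelianization.commutator_subset_ker
    ((IsCyclic.mulAutMulEquiv C).toMonoidHom.comp (MulAut.conjNormal (H := C))) hy
  rw [MonoidHom.mem_ker, MonoidHom.comp_apply] at h1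
  have h2 : (MulAut.conjNormal (H := C)) y = 1 := by
    apply (IsCyclic.mulAutMulEquiv C).injective
    rw [map_one]; exact h1
  have h3 := congrArg (fun φ : MulAut C => ((φ ⟨x, hx⟩ : C) : Q)) h2
  simpa [MulAut.conjNormal_apply] using h3

theorem comm_mem_of_step {G : Type*} [Group G] (K : Subgroup G) [K.Normal] (g : G)
    (hn : (K ⊔ zpowers g).Normal) (x : G) (hx : x ∈ K ⊔ zpowers g) (y : G)
    (hy : y ∈ commutator G) : y * x * y⁻¹ * x⁻¹ ∈ K := by
  have h1 : (K ⊔ zpowers g).map (QuotientGroup.mk' K) = zpowers ((QuotientGroup.mk' K) g) := by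
    rw [Subgroup.map_sup, MonoidHom.map_zpowers]
    have : K.map (QuotientGroup.mk' K) = ⊥ := by
      rw [Subgroup.map_eq_bot_iff, QuotientGroup.ker_mk']
    rw [this, bot_sup_eq]
  haveI : ((K ⊔ zpowers g).map (QuotientGroup.mk' K)).Normal :=
    hn.map _ (QuotientGroup.mk'_surjective K)
  haveI : IsCyclic ((K ⊔ zpowers g).map (QuotientGroup.mk' K)) :=
    Subgroup.isCyclic_of_le h1.le
  have hy' : (QuotientGroup.mk' K) y ∈ commutator (G ⧸ K) := by
    have : (commutator G).map (QuotientGroup.mk' K) ≤ commutator (G ⧸ K) := by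
      rw [commutator_def, commutator_def, Subgroup.map_commutator]
      exact Subgroup.commutator_mono le_top le_top
    exact this (Subgroup.mem_map_of_mem _ hy)
  have h2 := comm_centralizes_cyclic_normal ((K ⊔ zpowers g).map (QuotientGroup.mk' K))
    _ hy' _ (Subgroup.mem_map_of_mem _ hx)
  rw [← QuotientGroup.ker_mk' K, MonoidHom.mem_ker]
  rw [map_mul, map_mul, map_mul, map_inv, map_inv, h2, mul_inv_cancel]

theorem reach_le_upper {G : Type*} [Group G] {K : Subgroup G} (h : Reach K) :
    ∃ n : ℕ, K.subgroupOf (commutator G) ≤ Subgroup.upperCentralSeries (commutator G) n := by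
  induction h with
  | bot => exact ⟨0, by rw [Subgroup.bot_subgroupOf]; exact bot_le⟩
  | step K g _ hK hKg ih =>
    obtain ⟨n, hn⟩ := ih
    refine ⟨n + 1, ?_⟩
    intro x hx
    rw [mem_subgroupOf] at hx
    rw [Subgroup.mem_upperCentralSeries_succ_iff]
    intro y
    apply hn
    rw [mem_subgroupOf]
    have h1 := comm_mem_of_step K g hKg x hx y y.2
    have h2 : ((⁅x, y⁆ : commutator G) : G) = (y * x * y⁻¹ * x⁻¹ : G)⁻¹ := by
      rw [commutatorElement_def]
      push_cast
      group
    rw [h2]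
    exact K.inv_mem h1

theorem result {G : Type*} [Group G] [Finite G] (hG : Cfsg.IsSupersolvable G) : Group.IsNilpotent (commutator G) := by
  rw [supersolvable_iff_reach] at hG
  obtain ⟨n, hn⟩ := reach_le_upper hG
  rw [Subgroup.top_subgroupOf] at hn
  exact ⟨⟨n, top_le_iff.mp hn⟩⟩

end Cfsg.Agent.S0526
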