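import Mathlib
import Cfsg.Statements.S0527
import Cfsg.Agent.S0528
import Cfsg.Agent.S0524

namespace Cfsg.Agent.S0527

open Subgroup Cfsg.Agent.S0528

theorem normal_zpowers_pow {G : Type*} [Group G] (g : G) (h : (zpowers g).Normal) (n : ℕ) :
    (zpowers (g ^ n)).Normal := by
  constructor
  intro y hy x
  obtain ⟨j, rfl⟩ := hy
  obtain ⟨k, hk⟩ := h.conj_mem g (mem_zpowers g) x
  refine ⟨k * j, ?_⟩
  have h1 : x * (g ^ n) ^ j * x⁻¹ = ((x * g * x⁻¹) ^ n) ^ j := by rw [conj_pow, conj_zpow]
  have h2 : (fun x_1 : ℤ => (g ^ n) ^ x_1) (k * j) = (g ^ n) ^ (k * j) := rfl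
  rw [h2, h1, ← hk]
  simp only [← zpow_natCast, ← zpow_mul]
  congr 1; ring

theorem exists_normal_zpowers {G : Type*} [Group G] {K : Subgroup G} (h : Reach K)
    (hK : K ≠ ⊥) : ∃ g : G, g ≠ 1 ∧ (zpowers g).Normal := by
  induction h with
  | bot => exact absurd rfl hK
  | step K g _ hKn hKg ih =>
    by_cases hb : K = ⊥
    · subst hb
      rw [bot_sup_eq] at hKg hK
      refine ⟨g, ?_, hKg⟩
      rintro rfl
      exact hK (by simp)
    · exact ih hb

theorem exists_normal_prime {G : Type*} [Group G] [Finite G] [Nontrivial G]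
    (h : Cfsg.IsSupersolvable G) : ∃ N : Subgroup G, N.Normal ∧ (Nat.card N).Prime := by
  rw [supersolvable_iff_reach] at h
  obtain ⟨g, hg1, hgn⟩ := exists_normal_zpowers h (by exact top_ne_bot)
  have hpos : 0 < orderOf g := orderOf_pos g
  have hne1 : orderOf g ≠ 1 := by rwa [Ne, orderOf_eq_one_iff]
  obtain ⟨p, hp, hpd⟩ := Nat.exists_prime_and_dvd hne1
  refine ⟨zpowers (g ^ (orderOf g / p)), normal_zpowers_pow g hgn _, ?_⟩
  rw [Nat.card_zpowers, orderOf_pow_of_dvd (Nat.div_pos (Nat.le_of_dvd hpos hpd) hp.pos).ne'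
    (Nat.div_dvd_of_dvd hpd), Nat.div_div_self hpd hpos.ne']
  exact hp

theorem coatom_map {G G' : Type*} [Group G] [Group G'] (f : G →* G')
    (hf : Function.Surjective f) (M : Subgroup G) (hM : IsCoatom M) (hk : f.ker ≤ M) :
    IsCoatom (M.map f) := by
  have hcm : (M.map f).comap f = M := by
    rw [Subgroup.comap_map_eq, sup_eq_left.mpr hk]
  constructor
  · intro h
    apply hM.1
    rw [← hcm, h, Subgroup.comap_top]
  · intro K hK
    have h1 : M ≤ K.comap f := by
      rw [← hcm]; exact Subgroup.comap_mono hK.le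
    have h2 : M ≠ K.comap f := by
      intro h
      apply hK.ne
      rw [h, Subgroup.map_comap_eq_self_of_surjective hf]
    have h3 := hM.2 _ (lt_of_le_of_ne h1 h2)
    rw [← Subgroup.map_comap_eq_self_of_surjective hf K, h3,
      Subgroup.map_top_of_surjective f hf]

universe u in
theorem aux (n : ℕ) : ∀ (G : Type u) [Group G] [Finite G], Nat.card G = n →
    Cfsg.IsSupersolvable G → ∀ M : Subgroup G, IsCoatom M → M.index.Prime := by
  induction n using Nat.strong_induction_on with
  | _ n ih =>
    intro G _ _ hn hG M hM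
    haveI : Nontrivial G := by
      by_contra h
      rw [not_nontrivial_iff_subsingleton] at h
      exact hM.1 (Subsingleton.elim _ _)
    obtain ⟨N, hN, hNp⟩ := exists_normal_prime hG
    by_cases hNM : N ≤ M
    · have hlt : Nat.card (G ⧸ N) < n := by
        rw [← hn, ← Subgroup.index_eq_card]
        have h1 := Subgroup.card_mul_index N
        have h2 : 0 < N.index := Nat.pos_of_ne_zero (Subgroup.index_ne_zero_of_finite)
        nlinarith [hNp.one_lt]
      have hq := (Cfsg.Agent.S0524.result hG ⊥ N).2
      have hc := coatom_map (QuotientGroup.mk' N) (QuotientGroup.mk'_surjective N) M hM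
        (by rw [QuotientGroup.ker_mk']; exact hNM)
      have := ih _ hlt (G ⧸ N) rfl hq _ hc
      rwa [Subgroup.index_map_eq M (QuotientGroup.mk'_surjective N)
        (by rw [QuotientGroup.ker_mk']; exact hNM)] at this
    · have hsup : N ⊔ M = ⊤ := by
        apply hM.2
        exact lt_of_le_of_ne le_sup_right (fun h => hNM (h ▸ le_sup_left))
      have hdisj : Disjoint N M := by
        rw [disjoint_iff]
        by_contra hne
        apply hNM
        have h1 : Nat.card (N ⊓ M : Subgroup G) ∣ Nat.card N :=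
          Subgroup.card_dvd_of_le inf_le_left
        rcases (Nat.dvd_prime hNp).mp h1 with h2 | h2
        · exact absurd (Subgroup.card_eq_one.mp h2) hne
        · have h3 : N ⊓ M = N := Subgroup.eq_of_le_of_card_ge inf_le_left h2.ge
          exact h3 ▸ inf_le_right
      have hc : IsComplement' N M := by
        apply isComplement'_of_disjoint_and_mul_eq_univ hdisj
        rw [← Subgroup.normal_mul, hsup, Subgroup.coe_top]
      rw [hc.index_eq_card]
      exact hNp

theorem result {G : Type*} [Group G] [Finite G] (hG : Cfsg.IsSupersolvable G) (M : Subgroup G) (hM : IsCoatom M) : M.index.Prime := by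
  exact aux _ G rfl hG M hM

end Cfsg.Agent.S0527
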