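import Mathlib
import Cfsg.Statements.S0531
import Cfsg.Agent.S0528
import Cfsg.Agent.S0524
import Cfsg.Agent.S0527

namespace Cfsg.Agent.S0531

open Subgroup Cfsg.Agent.S0528 Cfsg.Agent.S0527

theorem card_comap_mk {G : Type*} [Group G] [Finite G] (N : Subgroup G) [N.Normal]
    (K : Subgroup (G ⧸ N)) :
    Nat.card (K.comap (QuotientGroup.mk' N)) = Nat.card N * Nat.card K := by
  have h1 := Subgroup.card_mul_index (K.comap (QuotientGroup.mk' N))
  rw [Subgroup.index_comap_of_surjective _ (QuotientGroup.mk'_surjective N)] at h1
  have h2 := Subgroup.card_mul_index K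
  have h3 := Subgroup.card_mul_index N
  rw [Subgroup.index_eq_card N] at h3
  have h4 : 0 < K.index := Nat.pos_of_ne_zero (Subgroup.index_ne_zero_of_finite)
  have : Nat.card (K.comap (QuotientGroup.mk' N)) * K.index =
      Nat.card N * Nat.card K * K.index := by
    rw [h1, mul_assoc, h2, h3]
  exact Nat.eq_of_mul_eq_mul_right h4 this

universe u in
theorem aux (n : ℕ) : ∀ (G : Type u) [Group G] [Finite G], Nat.card G = n →
    Cfsg.IsSupersolvable G → ∀ d : ℕ, d ∣ n → ∃ H : Subgroup G, Nat.card H = d := by
  induction n using Nat.strong_induction_on with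
  | _ n ih =>
    intro G _ _ hn hG d hd
    by_cases htriv : Nontrivial G
    · obtain ⟨N, hN, hNp⟩ := exists_normal_prime hG
      have hNidx : Nat.card N * Nat.card (G ⧸ N) = n := by
        rw [← hn, ← Subgroup.index_eq_card]; exact Subgroup.card_mul_index N
      have hqpos : 0 < Nat.card (G ⧸ N) := Nat.card_pos
      have hlt : Nat.card (G ⧸ N) < n := by
        nlinarith [hNp.one_lt]
      have hq := (Cfsg.Agent.S0524.result hG ⊥ N).2
      by_cases hpd : Nat.card N ∣ d
      · obtain ⟨d', rfl⟩ := hpd
        have hd' : d' ∣ Nat.card (G ⧸ N) := by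
          rw [← hNidx] at hd
          exact (Nat.mul_dvd_mul_iff_left hNp.pos).mp hd
        obtain ⟨K, hK⟩ := ih _ hlt (G ⧸ N) rfl hq d' hd'
        exact ⟨K.comap (QuotientGroup.mk' N), by rw [card_comap_mk, hK]⟩
      · have hcop : Nat.Coprime d (Nat.card N) :=
          (Nat.Coprime.symm ((Nat.Prime.coprime_iff_not_dvd hNp).mpr hpd))
        have hd' : d ∣ Nat.card (G ⧸ N) := by
          rw [← hNidx] at hd
          exact hcop.dvd_of_dvd_mul_left hd
        obtain ⟨K, hK⟩ := ih _ hlt (G ⧸ N) rfl hq d hd'
        have hLcard := card_comap_mk N K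
        rw [hK] at hLcard
        by_cases hL : K.comap (QuotientGroup.mk' N) = ⊤
        · rw [hL, Subgroup.card_top, hn] at hLcard
          have hidx : N.index = d := by
            have h3 := Subgroup.card_mul_index N
            rw [hn, hLcard] at h3
            exact Nat.eq_of_mul_eq_mul_left hNp.pos h3
          obtain ⟨C, hC⟩ := Subgroup.exists_right_complement'_of_coprime
            (N := N) (by rw [hidx]; exact hcop.symm)
          refine ⟨C, ?_⟩
          rw [← hidx]
          exact hC.symm.index_eq_card.symm
        · have hLlt : Nat.card (K.comap (QuotientGroup.mk' N)) < n := by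
            rw [← hn]
            have h5 := Subgroup.card_mul_index (K.comap (QuotientGroup.mk' N))
            have h6 : (K.comap (QuotientGroup.mk' N)).index ≠ 1 := by
              rwa [Ne, Subgroup.index_eq_one]
            have h7 : 0 < (K.comap (QuotientGroup.mk' N)).index :=
              Nat.pos_of_ne_zero (Subgroup.index_ne_zero_of_finite)
            have h8 : 0 < Nat.card (K.comap (QuotientGroup.mk' N)) := Nat.card_pos
            have h9 : 2 ≤ (K.comap (QuotientGroup.mk' N)).index := by omega
            nlinarith
          have hLs := (Cfsg.Agent.S0524.result hG (K.comap (QuotientGroup.mk' N)) N).1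
          obtain ⟨D, hD⟩ := ih _ hLlt (K.comap (QuotientGroup.mk' N)) rfl hLs d
            (by rw [hLcard]; exact dvd_mul_left d _)
          refine ⟨D.map (Subgroup.subtype _), ?_⟩
          rw [Subgroup.card_map_of_injective (Subgroup.subtype_injective _), hD]
    · rw [not_nontrivial_iff_subsingleton] at htriv
      have h1 : n = 1 := by rw [← hn]; exact Nat.card_unique
      subst h1
      rw [Nat.dvd_one] at hd
      subst hd
      exact ⟨⊥, Subgroup.card_bot⟩

theorem result {G : Type*} [Group G] [Finite G] (hG : Cfsg.IsSupersolvable G) : Cfsg.HasSubgroupOfEveryOrder G := by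
  intro d hd
  exact aux _ G rfl hG d hd

end Cfsg.Agent.S0531
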