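import Mathlib
import Cfsg.Statements.S0529
import Cfsg.Agent.S0528
import Cfsg.Agent.S0524
import Cfsg.Agent.S0527
import Cfsg.Agent.S0531

namespace Cfsg.Agent.S0529

open Subgroup Cfsg.Agent.S0528 Cfsg.Agent.S0527 Cfsg.Agent.S0531

/-- `DReach K c`: a chain of normal subgroups from `⊥` to `K`, with prime relative indices that
are non-increasing and all at least `c`. -/
inductive DReach {G : Type*} [Group G] : Subgroup G → ℕ → Prop
  | bot (b : ℕ) : DReach ⊥ b
  | step (K L : Subgroup G) (b c : ℕ) : DReach K b → K ≤ L → L.Normal → (K.relIndex L).Prime →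
      K.relIndex L ≤ b → c ≤ K.relIndex L → DReach L c

theorem DReach.mono {G : Type*} [Group G] {K : Subgroup G} {b : ℕ} (h : DReach K b)
    (c : ℕ) (hc : c ≤ b) : DReach K c := by
  cases h with
  | bot b => exact DReach.bot c
  | step K L b c' hK hKL hL hp hle hc' =>
    exact DReach.step K _ b c hK hKL hL hp hle (hc.trans hc')

theorem chain_of_dreach {G : Type*} [Group G] {K : Subgroup G} {c : ℕ} (h : DReach K c) :
    ∃ (n : ℕ) (H : Fin (n + 1) → Subgroup G),
    H 0 = ⊥ ∧ H (Fin.last n) = K ∧ (∀ i, (H i).Normal) ∧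
      (∀ i : Fin n, H i.castSucc ≤ H i.succ ∧ ((H i.castSucc).relIndex (H i.succ)).Prime) ∧
      (∀ i j : Fin n, i ≤ j →
        (H j.castSucc).relIndex (H j.succ) ≤ (H i.castSucc).relIndex (H i.succ)) ∧
      (∀ i : Fin n, c ≤ (H i.castSucc).relIndex (H i.succ)) := by
  induction h with
  | bot b => exact ⟨0, fun _ => ⊥, rfl, rfl, fun _ => inferInstance, fun i => i.elim0,
      fun i => i.elim0, fun i => i.elim0⟩
  | step K L b c _ hKL hL hp hle hc ih =>
    obtain ⟨n, H, h0, hn, hnorm, hstep, hdesc, hlow⟩ := ih
    have e0 : (0 : Fin (n + 1 + 1)) = Fin.castSucc 0 := rfl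
    have e1 : (Fin.last n).succ = Fin.last (n + 1) := rfl
    have e2 : ∀ i : Fin n, (i.castSucc).succ = (i.succ).castSucc := fun i => rfl
    have r_last : ((Fin.snoc H L : Fin (n + 1 + 1) → Subgroup G) (Fin.last n).castSucc).relIndex
        ((Fin.snoc H L : Fin (n + 1 + 1) → Subgroup G) (Fin.last n).succ) = K.relIndex L := by
      rw [e1, Fin.snoc_last, Fin.snoc_castSucc, hn]
    have r_cast : ∀ i : Fin n,
        ((Fin.snoc H L : Fin (n + 1 + 1) → Subgroup G) (i.castSucc).castSucc).relIndex
        ((Fin.snoc H L : Fin (n + 1 + 1) → Subgroup G) (i.castSucc).succ) =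
        (H i.castSucc).relIndex (H i.succ) := by
      intro i
      rw [e2, Fin.snoc_castSucc, Fin.snoc_castSucc]
    refine ⟨n + 1, Fin.snoc H L, ?_, ?_, ?_, ?_, ?_, ?_⟩
    · rw [e0, Fin.snoc_castSucc]; exact h0
    · rw [Fin.snoc_last]
    · intro i
      induction i using Fin.lastCases with
      | last => rw [Fin.snoc_last]; exact hL
      | cast i => rw [Fin.snoc_castSucc]; exact hnorm i
    · intro i
      induction i using Fin.lastCases with
      | last =>
        rw [r_last]
        refine ⟨?_, hp⟩
        rw [e1, Fin.snoc_last, Fin.snoc_castSucc, hn]; exact hKL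
      | cast i =>
        rw [r_cast]
        refine ⟨?_, (hstep i).2⟩
        rw [e2, Fin.snoc_castSucc, Fin.snoc_castSucc]; exact (hstep i).1
    · intro i j hij
      induction j using Fin.lastCases with
      | last =>
        rw [r_last]
        induction i using Fin.lastCases with
        | last => rw [r_last]
        | cast i => rw [r_cast]; exact hle.trans (hlow i)
      | cast j =>
        induction i using Fin.lastCases with
        | last =>
          exfalso
          have h1 : (Fin.last n : Fin (n + 1)) ≤ j.castSucc := hij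
          have h2 := Fin.castSucc_lt_last j
          exact absurd h1 (not_le.mpr h2)
        | cast i =>
          rw [r_cast, r_cast]
          exact hdesc i j (by simpa using hij)
    · intro i
      induction i using Fin.lastCases with
      | last => rw [r_last]; exact hc
      | cast i => rw [r_cast]; exact hc.trans (hle.trans (hlow i))

theorem dreach_comap {G : Type*} [Group G] [Finite G] (N : Subgroup G) [N.Normal] (p : ℕ)
    (hN : DReach N p) (hmax : ∀ q : ℕ, q.Prime → q ∣ Nat.card G → q ≤ p)
    {K : Subgroup (G ⧸ N)} {c : ℕ} (h : DReach K c) :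
    DReach (K.comap (QuotientGroup.mk' N)) (min p c) := by
  induction h with
  | bot b =>
    rw [MonoidHom.comap_bot, QuotientGroup.ker_mk']
    exact hN.mono _ (min_le_left _ _)
  | step K L b c _ hKL hL hp hle hc ih =>
    have hrel : (K.comap (QuotientGroup.mk' N)).relIndex (L.comap (QuotientGroup.mk' N)) =
        K.relIndex L := by
      rw [Subgroup.relIndex_comap,
        Subgroup.map_comap_eq_self_of_surjective (QuotientGroup.mk'_surjective N)]
    have hqp : K.relIndex L ≤ p := by
      apply hmax _ hp
      have h1 : K.relIndex L ∣ Nat.card L := Subgroup.relIndex_dvd_card K L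
      have h2 : Nat.card L ∣ Nat.card (G ⧸ N) := Subgroup.card_subgroup_dvd_card L
      have h3 : Nat.card (G ⧸ N) ∣ Nat.card G := by
        rw [← Subgroup.index_eq_card]; exact Subgroup.index_dvd_card N
      exact h1.trans (h2.trans h3)
    refine DReach.step (K.comap (QuotientGroup.mk' N)) _ (min p b) _ ih
      (Subgroup.comap_mono hKL) (hL.comap _) (hrel ▸ hp) ?_ ?_
    · rw [hrel]; exact le_min hqp hle
    · rw [hrel]; exact (min_le_right _ _).trans hc

universe u in
theorem exists_normal_maxprime (n : ℕ) : ∀ (G : Type u) [Group G] [Finite G], Nat.card G = n →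
    Cfsg.IsSupersolvable G → ∀ p : ℕ, p.Prime → p ∣ Nat.card G →
    (∀ q : ℕ, q.Prime → q ∣ Nat.card G → q ≤ p) →
    ∃ N : Subgroup G, N.Normal ∧ Nat.card N = p := by
  induction n using Nat.strong_induction_on with
  | _ n ih =>
    intro G _ _ hn hG p hp hpd hmax
    haveI : Nontrivial G := by
      by_contra h
      rw [not_nontrivial_iff_subsingleton] at h
      have : Nat.card G = 1 := Nat.card_unique
      rw [this, Nat.dvd_one] at hpd
      exact hp.one_lt.ne' hpd
    obtain ⟨N0, hN0, hN0p⟩ := exists_normal_prime hG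
    by_cases hqp : Nat.card N0 = p
    · exact ⟨N0, hN0, hqp⟩
    · have hqd : Nat.card N0 ∣ Nat.card G := Subgroup.card_subgroup_dvd_card N0
      have hqle : Nat.card N0 ≤ p := hmax _ hN0p hqd
      have hqlt : Nat.card N0 < p := lt_of_le_of_ne hqle hqp
      have hidx : Nat.card N0 * Nat.card (G ⧸ N0) = Nat.card G := by
        rw [← Subgroup.index_eq_card]; exact Subgroup.card_mul_index N0
      have hpq : p ∣ Nat.card (G ⧸ N0) := by
        rw [← hidx] at hpd
        exact (Nat.Coprime.dvd_mul_left
          ((Nat.coprime_primes hp hN0p).mpr (Ne.symm hqp))).mp hpd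
      have hlt : Nat.card (G ⧸ N0) < n := by
        rw [← hn, ← hidx]
        have : 0 < Nat.card (G ⧸ N0) := Nat.card_pos
        nlinarith [hN0p.one_lt]
      have hq := (Cfsg.Agent.S0524.result hG ⊥ N0).2
      obtain ⟨K', hK'n, hK'c⟩ := ih _ hlt (G ⧸ N0) rfl hq p hp hpq
        (fun q hq1 hq2 => hmax q hq1 (hq2.trans (hidx ▸ dvd_mul_left _ _)))
      have hKc : Nat.card (K'.comap (QuotientGroup.mk' N0)) = Nat.card N0 * p := by
        rw [card_comap_mk, hK'c]
      haveI hKn : (K'.comap (QuotientGroup.mk' N0)).Normal := hK'n.comap _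
      haveI : Fact p.Prime := ⟨hp⟩
      obtain ⟨P⟩ : Nonempty (Sylow p (K'.comap (QuotientGroup.mk' N0))) := inferInstance
      have hPc : Nat.card P = p := by
        rw [Sylow.card_eq_multiplicity, hKc, Nat.factorization_mul hN0p.ne_zero hp.ne_zero]
        simp only [Finsupp.coe_add, Pi.add_apply]
        rw [Nat.Prime.factorization_self hp, Nat.factorization_eq_zero_of_not_dvd
          (fun h => absurd (Nat.le_of_dvd hN0p.pos h) (not_le.mpr hqlt))]
        simp
      have hPidx : (P : Subgroup (K'.comap (QuotientGroup.mk' N0))).index = Nat.card N0 := by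
        have h1 := Subgroup.card_mul_index (P : Subgroup (K'.comap (QuotientGroup.mk' N0)))
        rw [hKc, hPc, mul_comm] at h1
        exact Nat.eq_of_mul_eq_mul_right hp.pos h1
      have hsyl : Nat.card (Sylow p (K'.comap (QuotientGroup.mk' N0))) = 1 := by
        have h1 : Nat.card (Sylow p (K'.comap (QuotientGroup.mk' N0))) ∣ Nat.card N0 := by
          rw [← hPidx]; exact P.card_dvd_index
        have h2 := card_sylow_modEq_one p (K'.comap (QuotientGroup.mk' N0))
        rcases (Nat.dvd_prime hN0p).mp h1 with h3 | h3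
        · exact h3
        · exfalso
          rw [h3] at h2
          have h4 : p ∣ Nat.card N0 - 1 := (Nat.modEq_iff_dvd' hN0p.one_lt.le).mp h2.symm
          have h5 : p ≤ Nat.card N0 - 1 :=
            Nat.le_of_dvd (by have := hN0p.two_le; omega) h4
          omega
      haveI : Subsingleton (Sylow p (K'.comap (QuotientGroup.mk' N0))) :=
        (Nat.card_eq_one_iff_unique.mp hsyl).1
      haveI : (P : Subgroup (K'.comap (QuotientGroup.mk' N0))).Characteristic :=
        Sylow.characteristic_of_subsingleton P
      refine ⟨(P : Subgroup (K'.comap (QuotientGroup.mk' N0))).map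
        (K'.comap (QuotientGroup.mk' N0)).subtype, inferInstance, ?_⟩
      rw [Subgroup.card_map_of_injective (Subgroup.subtype_injective _)]
      exact hPc

universe u in
theorem aux (n : ℕ) : ∀ (G : Type u) [Group G] [Finite G], Nat.card G = n →
    Cfsg.IsSupersolvable G → ∃ c : ℕ, DReach (⊤ : Subgroup G) c := by
  induction n using Nat.strong_induction_on with
  | _ n ih =>
    intro G _ _ hn hG
    by_cases htriv : Nontrivial G
    · have hcard : 1 < Nat.card G := Finite.one_lt_card
      have hne : (Nat.card G).primeFactors.Nonempty := by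
        rw [Nat.nonempty_primeFactors]; exact hcard
      obtain ⟨p, hp, hmax⟩ := (Nat.card G).primeFactors.exists_max_image id hne
      have hpp : p.Prime := Nat.prime_of_mem_primeFactors hp
      have hpd : p ∣ Nat.card G := Nat.dvd_of_mem_primeFactors hp
      have hmax' : ∀ q : ℕ, q.Prime → q ∣ Nat.card G → q ≤ p := fun q hq1 hq2 =>
        hmax q (Nat.mem_primeFactors.mpr ⟨hq1, hq2, Nat.card_pos.ne'⟩)
      obtain ⟨N, hN, hNc⟩ := exists_normal_maxprime _ G rfl hG p hpp hpd hmax'
      have hNr : DReach N p := by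
        have h1 : (⊥ : Subgroup G).relIndex N = p := by
          rw [Subgroup.relIndex_bot_left, hNc]
        exact DReach.step ⊥ N p p (DReach.bot p) bot_le hN (h1 ▸ hpp) h1.le h1.ge
      have hlt : Nat.card (G ⧸ N) < n := by
        rw [← hn, ← Subgroup.index_eq_card]
        have h1 := Subgroup.card_mul_index N
        have h2 : 0 < N.index := Nat.pos_of_ne_zero (Subgroup.index_ne_zero_of_finite)
        rw [hNc] at h1
        nlinarith [hpp.one_lt]
      have hq := (Cfsg.Agent.S0524.result hG ⊥ N).2
      obtain ⟨c, hc⟩ := ih _ hlt (G ⧸ N) rfl hq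
      have := dreach_comap N p hNr hmax' hc
      rw [Subgroup.comap_top] at this
      exact ⟨_, this⟩
    · rw [not_nontrivial_iff_subsingleton] at htriv
      have : (⊤ : Subgroup G) = ⊥ := Subsingleton.elim _ _
      exact ⟨0, this ▸ DReach.bot 0⟩

theorem result {G : Type*} [Group G] [Finite G] (hG : Cfsg.IsSupersolvable G) : ∃ (n : ℕ) (H : Fin (n + 1) → Subgroup G), H 0 = ⊥ ∧ H (Fin.last n) = ⊤ ∧ (∀ i, (H i).Normal) ∧ (∀ i : Fin n, H i.castSucc ≤ H i.succ ∧ ((H i.castSucc).relIndex (H i.succ)).Prime) ∧ ∀ i j : Fin n, i ≤ j → (H j.castSucc).relIndex (H j.succ) ≤ (H i.castSucc).relIndex (H i.succ) := by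
  obtain ⟨c, hc⟩ := aux _ G rfl hG
  obtain ⟨n, H, h0, hn, hnorm, hstep, hdesc, _⟩ := chain_of_dreach hc
  exact ⟨n, H, h0, hn, hnorm, hstep, hdesc⟩

end Cfsg.Agent.S0529
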