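import Mathlib
import Cfsg.Statements.S0532

namespace Cfsg.Agent.S0532

open Subgroup

theorem clt_of_equiv {G H : Type*} [Group G] [Group H] (e : G ≃* H)
    (h : Cfsg.HasSubgroupOfEveryOrder G) : Cfsg.HasSubgroupOfEveryOrder H := by
  intro d hd
  rw [← Nat.card_congr e.toEquiv] at hd
  obtain ⟨K, hK⟩ := h d hd
  exact ⟨K.map e.toMonoidHom, by
    rw [Subgroup.card_map_of_injective (f := e.toMonoidHom) e.injective]; exact hK⟩

universe u in
theorem aux (n : ℕ) : ∀ (G : Type u) [Group G] [Finite G], Nat.card G = n →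
    (∀ H : Subgroup G, Cfsg.HasSubgroupOfEveryOrder H) → ∀ (p : ℕ) [Fact p.Prime],
    p ∣ Nat.card G → (∀ q : ℕ, q.Prime → q ∣ Nat.card G → q ≤ p) →
    ∃ S : Subgroup G, S.Normal ∧ Nat.card S = p ^ (Nat.card G).factorization p := by
  induction n using Nat.strong_induction_on with
  | _ n ih =>
    intro G _ _ hn h p _ hpd hmax
    have hp : p.Prime := Fact.out
    have hcard1 : Nat.card G ≠ 1 := by
      intro h1; rw [h1] at hpd; exact hp.one_lt.ne' (Nat.dvd_one.mp hpd)
    have hqp : (Nat.card G).minFac.Prime := Nat.minFac_prime hcard1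
    have hqd : (Nat.card G).minFac ∣ Nat.card G := Nat.minFac_dvd _
    by_cases hq : (Nat.card G).minFac = p
    · refine ⟨⊤, inferInstance, ?_⟩
      rw [Subgroup.card_top]
      have hu : ∀ {d : ℕ}, d.Prime → d ∣ Nat.card G → d = p := fun hd1 hd2 =>
        le_antisymm (hmax _ hd1 hd2) (hq ▸ Nat.minFac_le_of_dvd hd1.two_le hd2)
      have e := Nat.eq_prime_pow_of_unique_prime_dvd Nat.card_pos.ne' hu
      generalize (Nat.card G).primeFactorsList.length = k at e
      rw [e, hp.factorization_pow]
      simp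
    · obtain ⟨H0, hH0⟩ := h ⊤ (Nat.card G / (Nat.card G).minFac)
        (by rw [Subgroup.card_top]; exact Nat.div_dvd_of_dvd hqd)
      have hHc : Nat.card (H0.map (⊤ : Subgroup G).subtype) =
          Nat.card G / (Nat.card G).minFac := by
        rw [Subgroup.card_map_of_injective (Subgroup.subtype_injective _)]; exact hH0
      generalize H0.map (⊤ : Subgroup G).subtype = H at hHc
      have h2 : Nat.card G / (Nat.card G).minFac * (Nat.card G).minFac = Nat.card G :=
        Nat.div_mul_cancel hqd
      have hidx : H.index = (Nat.card G).minFac := by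
        have h1 := Subgroup.card_mul_index H
        rw [hHc] at h1
        exact Nat.eq_of_mul_eq_mul_left
          (Nat.div_pos (Nat.le_of_dvd Nat.card_pos hqd) hqp.pos) (h1.trans h2.symm)
      haveI hHn : H.Normal := Subgroup.normal_of_index_eq_minFac_card hidx
      have hGc : Nat.card G = Nat.card H * (Nat.card G).minFac := by rw [hHc, h2]
      have hpH : p ∣ Nat.card H := by
        rw [hGc] at hpd
        exact (Nat.Coprime.dvd_mul_right ((Nat.coprime_primes hp hqp).mpr (Ne.symm hq))).mp hpd
      have hlt : Nat.card H < n := by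
        rw [← hn]
        have := Nat.card_pos (α := H)
        nlinarith [hqp.one_lt]
      have hH' : ∀ K : Subgroup H, Cfsg.HasSubgroupOfEveryOrder K := fun K =>
        clt_of_equiv (K.equivMapOfInjective H.subtype (Subgroup.subtype_injective _)).symm
          (h (K.map H.subtype))
      obtain ⟨S, hSn, hSc⟩ := ih _ hlt H rfl hH' p hpH
        (fun r hr1 hr2 => hmax r hr1 (hr2.trans (hGc ▸ dvd_mul_right _ _)))
      have hn1 : (Sylow.ofCard S hSc : Subgroup H).Normal := by
        rw [Sylow.coe_ofCard]; exact hSn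
      have hchar : (Sylow.ofCard S hSc : Subgroup H).Characteristic :=
        Sylow.characteristic_of_normal _ hn1
      rw [Sylow.coe_ofCard] at hchar
      haveI := hchar
      refine ⟨S.map H.subtype, inferInstance, ?_⟩
      rw [Subgroup.card_map_of_injective (Subgroup.subtype_injective _), hSc]
      congr 1
      conv_rhs => rw [hGc]
      rw [Nat.factorization_mul (Nat.card_pos.ne') hqp.ne_zero]
      simp only [Finsupp.coe_add, Pi.add_apply]
      rw [hqp.factorization, Finsupp.single_eq_of_ne (Ne.symm hq), add_zero]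

theorem result {G : Type*} [Group G] [Finite G] (h : ∀ H : Subgroup G, Cfsg.HasSubgroupOfEveryOrder H) (p : ℕ) [Fact p.Prime] (hdvd : p ∣ Nat.card G) (hmax : ∀ q : ℕ, q.Prime → q ∣ Nat.card G → q ≤ p) (P : Sylow p G) : (P : Subgroup G).Normal := by
  obtain ⟨S, hSn, hSc⟩ := aux _ G rfl h p hdvd hmax
  haveI : (Sylow.ofCard S hSc : Subgroup G).Normal := by rw [Sylow.coe_ofCard]; exact hSn
  obtain ⟨g, hg⟩ := MulAction.exists_smul_eq G (Sylow.ofCard S hSc) P
  rw [Sylow.smul_eq_of_normal] at hg
  rw [← hg, Sylow.coe_ofCard]; exact hSn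

end Cfsg.Agent.S0532
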