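import Mathlib
import Cfsg.Statements.S0538
import Cfsg.Agent.Lib.Helper2.Sub

set_option autoImplicit false
open Pointwise
open Cfsg
open Cfsg.Agent.Lib.Helper2.Sub

namespace Cfsg.Agent.S0538

/-- minimal normal subgroup -/
def MinNormal {G : Type*} [Group G] (N : Subgroup G) : Prop :=
  N.Normal ∧ N ≠ ⊥ ∧ ∀ K : Subgroup G, K.Normal → K ≤ N → K ≠ ⊥ → K = N

theorem exists_minNormal_le {G : Type*} [Group G] [Finite G] (N : Subgroup G) (hN : N.Normal)
    (hne : N ≠ ⊥) : ∃ L : Subgroup G, MinNormal L ∧ L ≤ N := by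
  obtain ⟨L, hLN, hL⟩ := Finite.exists_le_minimal (p := fun K : Subgroup G => K.Normal ∧ K ≠ ⊥)
    (a := N) ⟨hN, hne⟩
  refine ⟨L, ⟨hL.prop.1, hL.prop.2, ?_⟩, hLN⟩
  intro K hK hKL hKne
  exact le_antisymm hKL (hL.le_of_le ⟨hK, hKne⟩ hKL)

theorem card_lt_of_ne_top {G : Type*} [Group G] [Finite G] (M : Subgroup G) (hM : M ≠ ⊤) :
    Nat.card M < Nat.card G := by
  by_contra hcon
  push Not at hcon
  exact hM (Subgroup.eq_top_of_card_eq M (le_antisymm (Subgroup.card_le_card_group M) hcon))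

/-- disjoint normal subgroups commute elementwise -/
theorem comm_of_disjoint_normal {G : Type*} [Group G] (N M : Subgroup G) [hN : N.Normal]
    [hM : M.Normal] (h : N ⊓ M = ⊥) (n m : G) (hn : n ∈ N) (hm : m ∈ M) : n * m = m * n := by
  have h1 : n * m * n⁻¹ * m⁻¹ ∈ N ⊓ M := by
    refine ⟨?_, ?_⟩
    · have : n * m * n⁻¹ * m⁻¹ = n * (m * n⁻¹ * m⁻¹) := by group
      rw [this]
      exact N.mul_mem hn (hN.conj_mem _ (N.inv_mem hn) m)
    · exact M.mul_mem (hM.conj_mem _ hm n) (M.inv_mem hm)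
  rw [h, Subgroup.mem_bot] at h1
  calc n * m = n * m * n⁻¹ * m⁻¹ * (m * n) := by group
    _ = m * n := by rw [h1, one_mul]

universe u in
/-- A minimal normal subgroup normalizes every subnormal subgroup. -/
theorem minNormal_le_normalizer (n : ℕ) : ∀ (G : Type u) [Group G] [Finite G], Nat.card G = n →
    ∀ S N : Subgroup G, S.IsSubnormal → MinNormal N → N ≤ Subgroup.normalizer (S : Set G) := by
  induction n using Nat.strong_induction_on with
  | _ n ih =>
  intro G _ _ hcard S N hS hN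
  by_cases hST : S = ⊤
  · subst hST
    intro x _
    rw [Subgroup.mem_normalizer_iff]
    intro y; simp
  obtain ⟨M, hMn, hSM, hMlt⟩ := hS.exists_normal_and_le_and_lt_top_of_ne hST
  haveI := hMn
  haveI := hN.1
  have hSM' : (S.subgroupOf M).IsSubnormal := hS.subgroupOf
  by_cases hNM : N ⊓ M = ⊥
  · intro x hx
    rw [Subgroup.mem_normalizer_iff]
    intro y
    constructor
    · intro hy
      have := comm_of_disjoint_normal N M hNM x y hx (hSM hy)
      rw [this]; simpa using hy
    · intro hy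
      have h2 : x * y * x⁻¹ ∈ M := hSM hy
      have h3 := comm_of_disjoint_normal N M hNM x⁻¹ (x * y * x⁻¹) (N.inv_mem hx) h2
      have : y = x⁻¹ * (x * y * x⁻¹) * x := by group
      rw [this, h3]; simpa using hy
  · -- N ≤ M
    have hNleM : N ≤ M := by
      have h1 : N ⊓ M = N := hN.2.2 (N ⊓ M) inferInstance inf_le_left hNM
      rw [← h1]; exact inf_le_right
    have hN'ne : N.subgroupOf M ≠ ⊥ := by
      intro e
      rw [Subgroup.subgroupOf_eq_bot, disjoint_iff, inf_of_le_left hNleM] at e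
      exact hN.2.1 e
    obtain ⟨L', hL', hL'N⟩ := exists_minNormal_le (N.subgroupOf M) inferInstance hN'ne
    have hMcard : Nat.card M < n := hcard ▸ card_lt_of_ne_top M hMlt.ne
    -- every G-conjugate of an element of L normalizes S
    have key : ∀ l : M, l ∈ L' → ∀ g : G, g * (l : G) * g⁻¹ ∈ Subgroup.normalizer (S : Set G) := by
      intro l hl g
      -- S_g := g⁻¹ S g
      have hSg : (MulAut.conj g⁻¹ • S).IsSubnormal := by
        exact hS.smul (MulAut.conj g⁻¹)
      have hSg' : ((MulAut.conj g⁻¹ • S).subgroupOf M).IsSubnormal := hSg.subgroupOf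
      have h1 := ih (Nat.card M) hMcard M rfl _ L' hSg' hL' hl
      rw [Subgroup.mem_normalizer_iff] at h1 ⊢
      intro y
      -- y ∈ S ↔ (g l g⁻¹) y (g l g⁻¹)⁻¹ ∈ S
      have hyM : ∀ z : G, z ∈ S → g⁻¹ * z * g ∈ M := fun z hz => by
        have := hMn.conj_mem z (hSM hz) g⁻¹
        simpa using this
      have hmem : ∀ z : G, (hz : z ∈ M) → ((⟨z, hz⟩ : M) ∈ (MulAut.conj g⁻¹ • S).subgroupOf M ↔
          g * z * g⁻¹ ∈ S) := by
        intro z hz
        rw [Subgroup.mem_subgroupOf, Subgroup.mem_pointwise_smul_iff_inv_smul_mem]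
        simp [MulAut.conj_apply]
      constructor
      · intro hy
        have hz := hyM y hy
        have h2 := (h1 ⟨g⁻¹ * y * g, hz⟩).1 ((hmem _ hz).2 (by simpa [mul_assoc] using hy))
        have h3 : (l * ⟨g⁻¹ * y * g, hz⟩ * l⁻¹ : M) = ⟨(l : G) * (g⁻¹ * y * g) * (l : G)⁻¹, by
            exact M.mul_mem (M.mul_mem l.2 hz) (M.inv_mem l.2)⟩ := by
          ext; simp
        rw [h3, hmem] at h2
        have : g * (l : G) * g⁻¹ * y * (g * (l : G) * g⁻¹)⁻¹ =
            g * ((l : G) * (g⁻¹ * y * g) * (l : G)⁻¹) * g⁻¹ := by group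
        rw [this]; exact h2
      · intro hy
        have hz := hyM _ hy
        have hz' : (l : G)⁻¹ * (g⁻¹ * (g * (l : G) * g⁻¹ * y * (g * (l : G) * g⁻¹)⁻¹) * g) * (l : G) ∈ M :=
          M.mul_mem (M.mul_mem (M.inv_mem l.2) hz) l.2
        have h2 := (h1 ⟨_, hz'⟩).2 (by
          have h3 : (l * ⟨_, hz'⟩ * l⁻¹ : M) = ⟨g⁻¹ * (g * (l : G) * g⁻¹ * y * (g * (l : G) * g⁻¹)⁻¹) * g, hz⟩ := by
            ext; simp; group
          rw [h3, hmem]
          simpa [mul_assoc] using hy)
        rw [hmem] at h2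
        have : g * ((l : G)⁻¹ * (g⁻¹ * (g * (l : G) * g⁻¹ * y * (g * (l : G) * g⁻¹)⁻¹) * g) * (l : G)) * g⁻¹ = y := by
          group
        rw [this] at h2; exact h2
    -- normal closure of L
    set L : Subgroup G := L'.map M.subtype with hLdef
    have hLN : L ≤ N := by
      rintro _ ⟨l, hl, rfl⟩
      exact Subgroup.mem_subgroupOf.1 (hL'N hl)
    have hLne : L ≠ ⊥ := by
      intro e
      apply hL'.2.1
      rw [hLdef, Subgroup.map_eq_bot_iff_of_injective _ (Subgroup.subtype_injective M)] at e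
      exact e
    have hK : Subgroup.normalClosure (L : Set G) = N := by
      apply hN.2.2 _ inferInstance
      · exact Subgroup.normalClosure_le_normal hLN
      · intro e
        apply hLne
        rw [eq_bot_iff, ← e]
        exact Subgroup.le_normalClosure
    rw [← hK]
    unfold Subgroup.normalClosure
    rw [Subgroup.closure_le]
    intro x hx
    rw [Group.mem_conjugatesOfSet_iff] at hx
    obtain ⟨b, hb, hbx⟩ := hx
    rw [isConj_iff] at hbx
    obtain ⟨c, rfl⟩ := hbx
    obtain ⟨l, hl, rfl⟩ := hb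
    exact key l hl c

theorem mem_normalizer_iff_smul {G : Type*} [Group G] (x : G) (H : Subgroup G) :
    x ∈ Subgroup.normalizer (H : Set G) ↔ MulAut.conj x • H = H :=
  Subgroup.mem_normalizer_iff_map_conj_eq

universe u in
theorem sup_aux (n : ℕ) : ∀ (G : Type u) [Group G] [Finite G], Nat.card G = n →
    ∀ A B : Subgroup G, A.IsSubnormal → B.IsSubnormal → (A ⊔ B).IsSubnormal := by
  induction n using Nat.strong_induction_on with
  | _ n ih =>
  intro G _ _ hcard A B hA hB
  by_cases htriv : (⊤ : Subgroup G) = ⊥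
  · have : A ⊔ B = ⊤ := by
      rw [htriv]; exact eq_bot_iff.2 (htriv ▸ le_top)
    rw [this]; exact Subgroup.IsSubnormal.top
  obtain ⟨N, hN, -⟩ := exists_minNormal_le (⊤ : Subgroup G) inferInstance htriv
  haveI := hN.1
  have hqcard : Nat.card (G ⧸ N) < n := by
    rw [← hcard, Subgroup.card_eq_card_quotient_mul_card_subgroup N]
    have h1 : 1 < Nat.card N := (Subgroup.one_lt_card_iff_ne_bot N).2 hN.2.1
    have h2 : 0 < Nat.card (G ⧸ N) := Nat.card_pos
    nlinarith
  have h1 := ih _ hqcard (G ⧸ N) rfl _ _ (hA.map (QuotientGroup.mk'_surjective N))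
    (hB.map (QuotientGroup.mk'_surjective N))
  rw [← Subgroup.map_sup] at h1
  have h2 := h1.comap (QuotientGroup.mk' N)
  rw [Subgroup.comap_map_eq, QuotientGroup.ker_mk'] at h2
  have hNA := minNormal_le_normalizer _ G rfl A N hA hN
  have hNB := minNormal_le_normalizer _ G rfl B N hB hN
  have h3 : RelSN (A ⊔ B) (A ⊔ B ⊔ N) := by
    apply RelSN.of_normal le_sup_left
    apply sup_le
    · exact Subgroup.le_normalizer
    · intro x hx
      exact Subgroup.normalizer_inf_normalizer_le_normalizer_sup A B ⟨hNA hx, hNB hx⟩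
  exact h3.isSubnormal h2

theorem result {G : Type*} [Group G] [Finite G] (A B : Subgroup G) (hA : A.IsSubnormal) (hB : B.IsSubnormal) : (A ⊔ B).IsSubnormal :=
  sup_aux _ G rfl A B hA hB

/-- relative join -/
theorem relSN_sup {G : Type*} [Group G] [Finite G] {A B V : Subgroup G} (hA : RelSN A V)
    (hB : RelSN B V) : RelSN (A ⊔ B) V := by
  refine ⟨sup_le hA.1 hB.1, ?_⟩
  rw [Subgroup.subgroupOf_sup hA.1 hB.1]
  exact result _ _ hA.2 hB.2

theorem relSN_bot {G : Type*} [Group G] (V : Subgroup G) : RelSN ⊥ V :=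
  ⟨bot_le, by rw [Subgroup.bot_subgroupOf]; exact Subgroup.IsSubnormal.bot⟩

theorem relSN_sSup {G : Type*} [Group G] [Finite G] {V : Subgroup G} (T : Set (Subgroup G))
    (hT : ∀ B ∈ T, RelSN B V) : RelSN (sSup T) V := by
  have hfin : T.Finite := Set.toFinite T
  induction T, hfin using Set.Finite.induction_on with
  | empty => rw [sSup_empty]; exact relSN_bot V
  | insert _ _ ih =>
    rw [sSup_insert]
    exact relSN_sup (hT _ (Set.mem_insert _ _)) (ih (fun B hB => hT B (Set.mem_insert_of_mem _ hB)))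

end Cfsg.Agent.S0538
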