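import Mathlib
import Cfsg.Statements.S0533
import Cfsg.Agent.S0532
import Cfsg.Agent.S0528
import Cfsg.Agent.S0003
import Cfsg.Agent.S0538
import Cfsg.Agent.Lib.Helper3.PGroup

set_option autoImplicit false
open Pointwise
open Cfsg
open scoped commutatorElement

namespace Cfsg.Agent.S0533

open Cfsg.Agent.S0003 Cfsg.Agent.S0538

/-- a nontrivial subgroup of a `p`-group `P` normalized by `P` contains a nontrivial element
central in `P` -/
theorem exists_central_in_normal {G : Type*} [Group G] [Finite G] (p : ℕ) [Fact p.Prime]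
    (P V : Subgroup G) (hP : IsPGroup p P) (hVP : V ≤ P)
    (hPV : P ≤ Subgroup.normalizer (V : Set G)) (hV : V ≠ ⊥) :
    ∃ v ∈ V, v ≠ 1 ∧ ∀ x ∈ P, x * v = v * x := by
  haveI : Group.IsNilpotent ↥P := hP.isNilpotent
  haveI : (V.subgroupOf P).Normal := (Subgroup.normal_subgroupOf_iff_le_normalizer hVP).2 hPV
  have hne : ¬ V.subgroupOf P ≤ ⊥ := by
    intro e
    apply hV
    rw [le_bot_iff, Subgroup.subgroupOf_eq_bot, disjoint_iff, inf_of_le_left hVP] at e
    exact e
  obtain ⟨x, hx, hxb, hxc⟩ := Cfsg.Agent.Lib.Helper3.PGroup.exists_comm_mem (P := ↥P) ⊥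
    (V.subgroupOf P) ⊤ (Subgroup.commutator_le_left _ _) hne
  refine ⟨(x : G), Subgroup.mem_subgroupOf.1 hx, ?_, ?_⟩
  · intro e
    apply hxb
    rw [Subgroup.mem_bot]
    exact Subtype.ext e
  · intro y hy
    have h1 := hxc ⟨y, hy⟩ (Subgroup.mem_top _)
    rw [Subgroup.mem_bot, commutatorElement_def] at h1
    have h2 : (x : G) * y * (x : G)⁻¹ * y⁻¹ = 1 := by
      have := congrArg (Subtype.val) h1
      simpa using this
    calc y * (x : G) = ((x : G) * y * (x : G)⁻¹ * y⁻¹)⁻¹ * ((x : G) * y) := by group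
      _ = (x : G) * y := by rw [h2]; simp

/-- the hypothesis passes to quotients by a normal subgroup of prime order -/
theorem clt_quotient {G : Type*} [Group G] [Finite G]
    (h : ∀ H : Subgroup G, Cfsg.HasSubgroupOfEveryOrder H) (V : Subgroup G) [V.Normal] (p : ℕ)
    (hp : p.Prime) (hV : Nat.card V = p) :
    ∀ K : Subgroup (G ⧸ V), Cfsg.HasSubgroupOfEveryOrder K := by
  intro K' d hd
  set K := K'.comap (QuotientGroup.mk' V) with hK
  have hKcard : Nat.card K = p * Nat.card K' := by rw [hK, card_comap_mk', hV]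
  obtain ⟨L', hL'⟩ := h K (p * d) (by rw [hKcard]; exact Nat.mul_dvd_mul_left p hd)
  set L := L'.map K.subtype with hL
  have hLcard : Nat.card L = p * d := by
    rw [hL, Subgroup.card_map_of_injective (Subgroup.subtype_injective K)]; exact hL'
  have hLK : L ≤ K := Subgroup.map_subtype_le L'
  have himg : ∀ X : Subgroup G, X ≤ K →
      ∃ Y : Subgroup K', Nat.card Y = Nat.card (X.map (QuotientGroup.mk' V)) := by
    intro X hX
    refine ⟨(X.map (QuotientGroup.mk' V)).subgroupOf K', ?_⟩
    rw [card_subgroupOf_eq', inf_of_le_left]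
    rw [Subgroup.map_le_iff_le_comap]; exact hX
  by_cases hVL : V ≤ L
  · obtain ⟨Y, hY⟩ := himg L hLK
    refine ⟨Y, ?_⟩
    rw [hY]
    have := card_map_mk L V
    rw [inf_of_le_right hVL, hV, hLcard] at this
    have hp0 := hp.pos
    nlinarith
  · have hLV : L ⊓ V = ⊥ := by
      have hdvd : Nat.card ↥(L ⊓ V) ∣ p := by rw [← hV]; exact Subgroup.card_dvd_of_le inf_le_right
      rcases (Nat.dvd_prime hp).1 hdvd with h1 | h1
      · exact Subgroup.card_eq_one.1 h1
      · exfalso; apply hVL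
        have : L ⊓ V = V := Subgroup.eq_of_le_of_card_ge inf_le_right (by rw [h1, hV])
        rw [← this]; exact inf_le_left
    obtain ⟨M', hM'⟩ := h L d (by rw [hLcard]; exact dvd_mul_left d p)
    set M := M'.map L.subtype with hM
    have hMcard : Nat.card M = d := by
      rw [hM, Subgroup.card_map_of_injective (Subgroup.subtype_injective L)]; exact hM'
    have hML : M ≤ L := Subgroup.map_subtype_le M'
    obtain ⟨Y, hY⟩ := himg M (hML.trans hLK)
    refine ⟨Y, ?_⟩
    rw [hY]
    have := card_map_mk M V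
    have hMV : M ⊓ V = ⊥ := le_bot_iff.1 (hLV ▸ inf_le_inf_right V hML)
    rw [hMV, Subgroup.card_bot, mul_one, hMcard] at this
    exact this

universe u in
theorem aux (n : ℕ) : ∀ (G : Type u) [Group G] [Finite G], Nat.card G = n →
    (∀ H : Subgroup G, Cfsg.HasSubgroupOfEveryOrder H) → Cfsg.IsSupersolvable G := by
  induction n using Nat.strong_induction_on with
  | _ n ih =>
  intro G _ _ hcard h
  by_cases htriv : Nat.card G = 1
  · haveI : Subsingleton G := (Nat.card_eq_one_iff_unique.1 htriv).1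
    exact ⟨0, fun _ => ⊥, rfl, Subsingleton.elim _ _, fun _ => inferInstance, fun i => i.elim0⟩
  obtain ⟨p, hp, hpdvd, hmax⟩ : ∃ p, p.Prime ∧ p ∣ Nat.card G ∧
      ∀ q : ℕ, q.Prime → q ∣ Nat.card G → q ≤ p := by
    have hne : (Nat.card G).primeFactors.Nonempty := by
      rw [Nat.nonempty_primeFactors]; have := Nat.card_pos (α := G); omega
    refine ⟨(Nat.card G).primeFactors.max' hne, ?_, ?_, ?_⟩
    · exact Nat.prime_of_mem_primeFactors (Finset.max'_mem _ hne)
    · exact Nat.dvd_of_mem_primeFactors (Finset.max'_mem _ hne)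
    · intro q hq hqd
      exact Finset.le_max' _ q (Nat.mem_primeFactors.2 ⟨hq, hqd, Nat.card_pos.ne'⟩)
  haveI : Fact p.Prime := ⟨hp⟩
  obtain ⟨P⟩ : Nonempty (Sylow p G) := inferInstance
  haveI hPn : (P : Subgroup G).Normal := Cfsg.Agent.S0532.result h p hpdvd hmax P
  have hPne : (P : Subgroup G) ≠ ⊥ := P.ne_bot_of_dvd_card hpdvd
  obtain ⟨V, hV, hVP⟩ := exists_minNormal_le (P : Subgroup G) hPn hPne
  haveI := hV.1
  -- V central in P
  have hVc : ∀ v ∈ V, ∀ x ∈ (P : Subgroup G), x * v = v * x := by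
    have h1 : V ⊓ Subgroup.centralizer ((P : Subgroup G) : Set G) = V := by
      apply hV.2.2 _ inferInstance inf_le_left
      intro e
      obtain ⟨v, hv, hv1, hvc⟩ := exists_central_in_normal p (P : Subgroup G) V P.2 hVP
        (fun x _ => Subgroup.le_normalizer_of_normal (Subgroup.mem_top x)) hV.2.1
      apply hv1
      have : v ∈ V ⊓ Subgroup.centralizer ((P : Subgroup G) : Set G) :=
        ⟨hv, Subgroup.mem_centralizer_iff.2 (fun x hx => hvc x hx)⟩
      rw [e] at this
      exact Subgroup.mem_bot.1 this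
    intro v hv x hx
    have h2 : v ∈ Subgroup.centralizer ((P : Subgroup G) : Set G) := by
      have : v ∈ V ⊓ Subgroup.centralizer ((P : Subgroup G) : Set G) := by rw [h1]; exact hv
      exact this.2
    exact Subgroup.mem_centralizer_iff.1 h2 x hx
  -- complement H
  obtain ⟨H, hH⟩ := Subgroup.exists_right_complement'_of_coprime (N := (P : Subgroup G))
    P.card_coprime_index
  have hHP : H ⊓ (P : Subgroup G) = ⊥ := by
    rw [inf_comm]; exact hH.disjoint.eq_bot
  have hHcard : Nat.card H = (P : Subgroup G).index := by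
    have h1 := hH.card_mul
    have h2 := Subgroup.card_mul_index (P : Subgroup G)
    have hpos : 0 < Nat.card (P : Subgroup G) := Nat.card_pos
    exact Nat.eq_of_mul_eq_mul_left hpos (h1.trans h2.symm)
  have hHcop : (Nat.card H).Coprime p := by
    rw [hHcard]
    exact (Nat.Prime.coprime_iff_not_dvd hp).2 P.not_dvd_index |>.symm
  have hVp : IsPGroup p V := P.2.to_le hVP
  obtain ⟨k, hk⟩ := (IsPGroup.iff_card).1 hVp
  have hk1 : 1 ≤ k := by
    rcases k with _ | k
    · exfalso; apply hV.2.1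
      rw [pow_zero] at hk
      exact Subgroup.card_eq_one.1 hk
    · omega
  have hKcard : Nat.card ↥(H ⊔ V) = Nat.card H * p ^ k := by
    have h1 := card_sup_mul_card_inf H V
    have h2 : H ⊓ V = ⊥ := le_bot_iff.1 (hHP ▸ inf_le_inf_left H hVP)
    rw [h2, Subgroup.card_bot, mul_one, hk] at h1
    exact h1
  obtain ⟨L', hL'⟩ := h (H ⊔ V) (p * Nat.card H) (by
    rw [hKcard, mul_comm p]
    exact Nat.mul_dvd_mul_left _ (dvd_pow_self p (by omega)))
  set L := L'.map (H ⊔ V).subtype with hL
  have hLcard : Nat.card L = p * Nat.card H := by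
    rw [hL, Subgroup.card_map_of_injective (Subgroup.subtype_injective _)]; exact hL'
  have hLK : L ≤ H ⊔ V := Subgroup.map_subtype_le L'
  have hLVK : L ⊔ V ≤ H ⊔ V := sup_le hLK le_sup_right
  have hprod := card_sup_mul_card_inf L V
  rw [hLcard, hk] at hprod
  obtain ⟨t, ht⟩ := Subgroup.card_dvd_of_le hLVK
  rw [hKcard] at ht
  have hspos : 0 < Nat.card ↥(L ⊔ V) := Nat.card_pos
  have hc : Nat.card ↥(L ⊓ V) = p * t := by
    have : Nat.card ↥(L ⊔ V) * Nat.card ↥(L ⊓ V) = Nat.card ↥(L ⊔ V) * (p * t) := by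
      rw [hprod]
      calc p * Nat.card H * p ^ k = p * (Nat.card H * p ^ k) := by ring
        _ = p * (Nat.card ↥(L ⊔ V) * t) := by rw [ht]
        _ = Nat.card ↥(L ⊔ V) * (p * t) := by ring
    exact Nat.eq_of_mul_eq_mul_left hspos this
  have ht1 : t = 1 := by
    have h1 : p * t ∣ p * Nat.card H := by
      rw [← hc, ← hLcard]; exact Subgroup.card_dvd_of_le inf_le_left
    have h2 : t ∣ Nat.card H := Nat.dvd_of_mul_dvd_mul_left hp.pos h1
    have h3 : p * t ∣ p ^ k := by
      rw [← hc, ← hk]; exact Subgroup.card_dvd_of_le inf_le_right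
    have h4 : t ∣ p ^ k := dvd_trans (dvd_mul_left t p) h3
    have h5 : (Nat.card H).Coprime (p ^ k) := Nat.Coprime.pow_right k hHcop
    exact Nat.eq_one_of_dvd_coprimes h5 h2 h4
  rw [ht1, mul_one] at hc ht
  have hLVeq : L ⊔ V = H ⊔ V := Subgroup.eq_of_le_of_card_ge hLVK (by rw [hKcard, ht])
  -- V₁ = L ⊓ V is normal in G
  have hV1ne : L ⊓ V ≠ ⊥ := by
    intro e
    rw [e, Subgroup.card_bot] at hc
    exact hp.one_lt.ne hc
  have hnorm : (L ⊓ V).Normal := by
    rw [← Subgroup.normalizer_eq_top_iff, eq_top_iff, ← hH.sup_eq_top]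
    have hPle : (P : Subgroup G) ≤ Subgroup.normalizer ((L ⊓ V : Subgroup G) : Set G) := by
      rw [Subgroup.le_normalizer_iff]
      intro x hx y hy
      have := hVc y hy.2 x hx
      rw [this, mul_inv_cancel_right]
      exact hy
    apply sup_le hPle
    have hHle : H ≤ L ⊔ V := hLVeq ▸ le_sup_left
    apply hHle.trans
    apply sup_le
    · rw [Subgroup.le_normalizer_iff]
      intro l hl y hy
      exact ⟨L.mul_mem (L.mul_mem hl hy.1) (L.inv_mem hl), hV.1.conj_mem y hy.2 l⟩
    · exact hVP.trans hPle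
  have hVeq : L ⊓ V = V := hV.2.2 _ hnorm inf_le_right hV1ne
  have hVcard : Nat.card V = p := by rw [← hVeq]; exact hc
  haveI : IsCyclic V := isCyclic_of_prime_card hVcard
  have hq := clt_quotient h V p hp hVcard
  have hqcard : Nat.card (G ⧸ V) < n := by
    rw [← hcard, Subgroup.card_eq_card_quotient_mul_card_subgroup V, hVcard]
    have h2 : 0 < Nat.card (G ⧸ V) := Nat.card_pos
    have := hp.one_lt
    nlinarith
  exact Cfsg.Agent.S0528.result V (ih _ hqcard (G ⧸ V) rfl hq)

theorem result {G : Type*} [Group G] [Finite G] (h : ∀ H : Subgroup G, Cfsg.HasSubgroupOfEveryOrder H) : Cfsg.IsSupersolvable G :=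
  aux _ G rfl h

end Cfsg.Agent.S0533
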