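import Mathlib
import Cfsg.Statements.S0579
import Cfsg.Agent.S0527
import Cfsg.Agent.S0528
import Cfsg.Agent.S0529
import Cfsg.Agent.S0526
import Cfsg.Agent.S0525
import Cfsg.Agent.S0524
import Cfsg.Agent.S0004
import Cfsg.Agent.S0003
import Cfsg.Agent.S0533
import Cfsg.Agent.Lib.Helper3.Coprime

set_option autoImplicit false
open Pointwise
open Cfsg
open scoped commutatorElement

namespace Cfsg.Agent.S0579

open Polynomial in
theorem poly_id (p : ℕ) [Fact p.Prime] :
    ((Finset.univ : Finset (ZMod p)).toList.map (fun a => (X - C a : (ZMod p)[X]))).prod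
      = X ^ p - X := by
  have hp : p.Prime := Fact.out
  rw [Finset.prod_map_toList]
  have hmon : (X ^ p - X : (ZMod p)[X]).Monic := by
    apply monic_X_pow_sub
    rw [degree_X]; exact_mod_cast hp.one_lt
  have hroots : (X ^ p - X : (ZMod p)[X]).roots = Finset.univ.val := by
    have := FiniteField.roots_X_pow_card_sub_X (ZMod p)
    rwa [ZMod.card p] at this
  have h1 := prod_multiset_X_sub_C_of_monic_of_roots_card_eq hmon (by
    rw [hroots, FiniteField.X_pow_card_sub_X_natDegree_eq _ hp.one_lt]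
    simp [ZMod.card p])
  rw [hroots] at h1
  exact h1

theorem list_prod_inj {R V : Type*} [CommRing R] [AddCommGroup V] [Module R V]
    (l : List (Module.End R V)) (h : ∀ f ∈ l, Function.Injective f) :
    Function.Injective l.prod := by
  induction l with
  | nil => intro x y hxy; simpa using hxy
  | cons a l ih =>
    rw [List.prod_cons, Module.End.mul_eq_comp]
    exact (h a (by simp)).comp (ih (fun f hf => h f (by simp [hf])))

theorem eigen (p : ℕ) [Fact p.Prime] {V : Type*} [AddCommGroup V] [Module (ZMod p) V]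
    [Nontrivial V] (φ : Module.End (ZMod p) V) (h : φ ^ p = φ) :
    ∃ a : ZMod p, ∃ v : V, v ≠ 0 ∧ φ v = a • v := by
  have h2 := congrArg (Polynomial.aeval φ) (poly_id p)
  rw [map_list_prod, List.map_map] at h2
  simp only [map_sub, map_pow, Polynomial.aeval_X, h, sub_self] at h2
  by_contra hcon
  have hcon : ∀ a : ZMod p, ∀ v : V, v ≠ 0 → φ v ≠ a • v := fun a v hv hva => hcon ⟨a, v, hv, hva⟩
  have hinj : Function.Injective (List.map (⇑(Polynomial.aeval φ) ∘ fun a : ZMod p =>
      (Polynomial.X - Polynomial.C a : Polynomial (ZMod p))) Finset.univ.toList).prod := by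
    apply list_prod_inj
    intro f hf
    rw [List.mem_map] at hf
    obtain ⟨a, -, rfl⟩ := hf
    simp only [Function.comp_apply, map_sub, Polynomial.aeval_X, Polynomial.aeval_C]
    rw [injective_iff_map_eq_zero]
    intro v hv
    by_contra hv0
    apply hcon a v hv0
    simpa [sub_eq_zero] using hv
  rw [h2] at hinj
  obtain ⟨x, hx⟩ := exists_ne (0 : V)
  exact hx (hinj (by simp))

theorem eigen_grp {A : Type*} [CommGroup A] [Nontrivial A] (p : ℕ) [Fact p.Prime]
    (hexp : ∀ x : A, x ^ p = 1) (d : A ≃* A) (hd : d ^ (p - 1) = 1) :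
    ∃ k : ℕ, ∃ v : A, v ≠ 1 ∧ d v = v ^ k := by
  have hp : p.Prime := Fact.out
  letI : Module (ZMod p) (Additive A) := AddCommGroup.zmodModule (n := p) (G := Additive A)
    (fun x => congrArg Additive.ofMul (hexp x.toMul))
  let lin : (A ≃* A) → (Additive A →ₗ[ZMod p] Additive A) := fun d =>
    (MulEquiv.toAdditive d : Additive A ≃+ Additive A).toAddMonoidHom.toZModLinearMap p
  have lin_apply : ∀ (d : A ≃* A) (v : Additive A), lin d v = Additive.ofMul (d v.toMul) :=
    fun d v => rfl
  have lin_pow : ∀ (d : A ≃* A) (n : ℕ) (v : Additive A),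
      ((lin d) ^ n) v = Additive.ofMul ((d ^ n) v.toMul) := by
    intro d n
    induction n with
    | zero => intro v; simp
    | succ n ih =>
      intro v
      rw [pow_succ, Module.End.mul_apply, ih, lin_apply, pow_succ, MulAut.mul_apply]
      rfl
  have hφ : (lin d) ^ p = lin d := by
    apply LinearMap.ext
    intro v
    rw [lin_pow, lin_apply]
    have : d ^ p = d := by
      have : p = (p - 1) + 1 := (Nat.sub_add_cancel hp.pos).symm
      rw [this, pow_succ, hd, one_mul]
    rw [this]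
  haveI : Nontrivial (Additive A) := inferInstanceAs (Nontrivial A)
  obtain ⟨a, v, hv, hav⟩ := eigen p (lin d) hφ
  refine ⟨a.val, v.toMul, ?_, ?_⟩
  · intro h1
    apply hv
    exact congrArg Additive.ofMul h1
  · rw [lin_apply] at hav
    have h2 : a • v = a.val • v := by
      conv_lhs => rw [← ZMod.natCast_zmod_val a]
      exact Nat.cast_smul_eq_nsmul (ZMod p) a.val v
    rw [h2] at hav
    exact congrArg Additive.toMul hav

theorem sz_sub {G : Type*} [Group G] [Finite G] (T N : Subgroup G) [N.Normal] (hNT : N ≤ T)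
    (hcop : (Nat.card N).Coprime (N.relIndex T)) :
    ∃ Q : Subgroup G, N ⊔ Q = T ∧ Nat.card Q = N.relIndex T := by
  have hcN : Nat.card (N.subgroupOf T) = Nat.card N := by
    rw [S0003.card_subgroupOf_eq', inf_of_le_left hNT]
  have hc : (Nat.card (N.subgroupOf T)).Coprime (N.subgroupOf T).index := by
    rw [hcN]; exact hcop
  obtain ⟨Q', hQ'⟩ := Subgroup.exists_left_complement'_of_coprime hc
  refine ⟨Q'.map T.subtype, ?_, ?_⟩
  · have h2 := congrArg (Subgroup.map T.subtype) hQ'.sup_eq_top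
    rw [Subgroup.map_sup, Subgroup.map_subgroupOf_eq_of_le hNT, ← MonoidHom.range_eq_map,
      Subgroup.range_subtype] at h2
    rw [sup_comm]; exact h2
  · rw [Subgroup.card_map_of_injective (Subgroup.subtype_injective T)]
    exact hQ'.index_eq_card.symm

theorem opq {G : Type*} [Group G] [Finite G] (N : Subgroup G) [N.Normal]
    (hNc : ∀ x ∈ N, ∀ y ∈ N, x * y = y * x) (hN1 : N ≠ ⊥)
    (hFr : ∀ K : Subgroup G, N ⊔ K = ⊤ → K = ⊤)
    (hU : ∀ L : Subgroup G, L.Normal → L ≠ ⊥ → N ≤ L)
    (T : Subgroup G) [T.Normal] (hNT : N ≤ T) (hcop : (Nat.card N).Coprime (N.relIndex T)) :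
    T = N := by
  obtain ⟨Q, hQT, hQc⟩ := sz_sub T N hNT hcop
  have hcop' : (Nat.card N).Coprime (Nat.card Q) := hQc ▸ hcop
  have hdisj : ∀ R : Subgroup G, Nat.card R = Nat.card Q → R ⊓ N = ⊥ := by
    intro R hR
    rw [← Subgroup.card_eq_one]
    have h1 : Nat.card ↥(R ⊓ N) ∣ Nat.card R := Subgroup.card_dvd_of_le inf_le_left
    have h2 : Nat.card ↥(R ⊓ N) ∣ Nat.card N := Subgroup.card_dvd_of_le inf_le_right
    rw [hR] at h1
    exact Nat.eq_one_of_dvd_coprimes hcop' h2 h1
  have hnorm : Subgroup.normalizer (Q : Set G) = ⊤ := by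
    apply hFr
    rw [eq_top_iff]
    intro g _
    have hcard : Nat.card ↥(MulAut.conj g • Q) = Nat.card Q := S0004.card_conj_smul g Q
    have hsup : MulAut.conj g • Q ⊔ N = Q ⊔ N := by
      have h1 : MulAut.conj g • (Q ⊔ N) = Q ⊔ N := by
        rw [sup_comm, hQT]
        exact Subgroup.Normal.conj_smul_eq_self g T
      rw [Subgroup.smul_sup, Subgroup.Normal.conj_smul_eq_self g N] at h1
      exact h1
    obtain ⟨n, hn, hnQ⟩ := S0004.conj_of_complements N hNc (MulAut.conj g • Q) Q hsup
      (hdisj _ hcard) (hdisj _ rfl) hcard (hcard ▸ hcop')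
    have h3 : n * g ∈ Subgroup.normalizer (Q : Set G) := by
      rw [Subgroup.mem_normalizer_iff]
      intro x
      have h4 : MulAut.conj (n * g) • Q = Q := by
        rw [map_mul, mul_smul]; exact hnQ
      constructor
      · intro hx
        rw [← h4]
        exact ⟨x, hx, rfl⟩
      · intro hx
        rw [← h4] at hx
        obtain ⟨y, hy, hyx⟩ := hx
        have : y = x := by
          have h5 : n * g * y * (n * g)⁻¹ = n * g * x * (n * g)⁻¹ := hyx
          exact mul_left_cancel (mul_right_cancel h5)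
        exact this ▸ hy
    have : g = n⁻¹ * (n * g) := by group
    rw [this]
    exact Subgroup.mul_mem_sup (N.inv_mem hn) h3
  have hQn : Q.Normal := Subgroup.normalizer_eq_top_iff.mp hnorm
  have hQ1 : Q = ⊥ := by
    by_contra hQ
    have h1 := hU Q hQn hQ
    have h2 := hdisj Q rfl
    rw [inf_of_le_right h1] at h2
    exact hN1 h2
  rw [← hQT, hQ1, sup_bot_eq]

theorem eigen_grp' {A : Type*} [Group A] [Nontrivial A] (hc : ∀ a b : A, a * b = b * a)
    (p : ℕ) [Fact p.Prime] (hexp : ∀ x : A, x ^ p = 1) (d : A ≃* A) (hd : d ^ (p - 1) = 1) :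
    ∃ k : ℕ, ∃ v : A, v ≠ 1 ∧ d v = v ^ k := by
  letI : CommGroup A := { (inferInstance : Group A) with mul_comm := hc }
  exact eigen_grp p hexp d hd

theorem eq_one_of_pow_coprime {G : Type*} [Group G] {z : G} {a b : ℕ} (ha : z ^ a = 1)
    (hb : z ^ b = 1) (hab : a.Coprime b) : z = 1 := by
  have h1 : orderOf z ∣ a := orderOf_dvd_of_pow_eq_one ha
  have h2 : orderOf z ∣ b := orderOf_dvd_of_pow_eq_one hb
  exact orderOf_eq_one_iff.mp (Nat.eq_one_of_dvd_coprimes hab h1 h2)

theorem cent_le {G : Type*} [Group G] [Finite G] (p : ℕ) [Fact p.Prime] (P : Subgroup G)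
    [P.Normal] (hP : IsPGroup p P) (hPi : ¬ p ∣ P.index)
    (hO : ∀ K : Subgroup G, K.Normal → (Nat.card K).Coprime p → K = ⊥)
    (C : Subgroup G) [hCn : C.Normal] (hCP : ∀ c ∈ C, ∀ u ∈ P, u * c = c * u) : C ≤ P := by
  have hp : p.Prime := Fact.out
  have hZp : IsPGroup p ↥(C ⊓ P) := hP.to_le inf_le_right
  obtain ⟨k, hk⟩ := IsPGroup.iff_card.mp hZp
  have hrel : ¬ p ∣ (C ⊓ P).relIndex C := by
    rw [Subgroup.inf_relIndex_left]
    exact fun h => hPi (h.trans (Subgroup.relIndex_dvd_index_of_normal P C))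
  have hcop : (Nat.card ↥(C ⊓ P)).Coprime ((C ⊓ P).relIndex C) := by
    rw [hk]; exact Nat.Coprime.pow_left _ ((Nat.Prime.coprime_iff_not_dvd hp).mpr hrel)
  obtain ⟨K, hKC, hKc⟩ := sz_sub C (C ⊓ P) inf_le_left hcop
  have hm : (Nat.card K).Coprime p := by
    rw [hKc]; exact ((Nat.Prime.coprime_iff_not_dvd hp).mpr hrel).symm
  have hKle : K ≤ C := hKC ▸ le_sup_right
  have hKpow : ∀ x ∈ K, x ^ Nat.card K = 1 := by
    intro x hx
    have := pow_card_eq_one' (G := K) (x := ⟨x, hx⟩)
    exact congrArg Subtype.val this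
  have hchar : ∀ x : G, x ∈ K ↔ x ∈ C ∧ x ^ Nat.card K = 1 := by
    intro x
    constructor
    · intro hx
      exact ⟨hKle hx, hKpow x hx⟩
    · rintro ⟨hxC, hxm⟩
      rw [← hKC] at hxC
      obtain ⟨z, hz, k', hk', rfl⟩ := Subgroup.mem_sup_of_normal_left.mp hxC
      have hcomm : Commute z k' := hCP k' (hKle hk') z hz.2
      have h1 : z ^ Nat.card K * k' ^ Nat.card K = 1 := by rw [← hcomm.mul_pow]; exact hxm
      rw [hKpow k' hk', mul_one] at h1
      obtain ⟨j, hj⟩ := hP ⟨z, hz.2⟩
      have hj' : z ^ (p ^ j) = 1 := congrArg Subtype.val hj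
      have hz1 : z = 1 := eq_one_of_pow_coprime h1 hj' (Nat.Coprime.pow_right j hm)
      rw [hz1, one_mul]; exact hk'
  have hKn : K.Normal := by
    constructor
    intro x hx g
    rw [hchar] at hx ⊢
    exact ⟨hCn.conj_mem x hx.1 g, by rw [conj_pow, hx.2]; simp⟩
  have hK1 := hO K hKn hm
  rw [hK1, sup_bot_eq] at hKC
  rw [← hKC]; exact inf_le_right

theorem step_pow {Q : Type*} [Group Q] [Finite Q] (p : ℕ) [Fact p.Prime] (C : Subgroup Q)
    [C.Normal] (hC : Nat.card C = p) (h : Q) (x : Q) (hx : x ∈ C) :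
    h ^ (p - 1) * x * (h ^ (p - 1))⁻¹ = x := by
  haveI : IsCyclic C := isCyclic_of_prime_card hC
  have key : ∀ (n : ℕ) (hn : n = p) (a : (ZMod n)ˣ), a ^ (p - 1) = 1 := by
    rintro n rfl a; exact ZMod.units_pow_card_sub_one_eq_one n a
  have h2 : (MulAut.conjNormal (H := C)) (h ^ (p - 1)) = 1 := by
    apply (IsCyclic.mulAutMulEquiv C).injective
    rw [map_one, map_pow, map_pow]
    exact key _ hC _
  have h3 : ((MulAut.conjNormal (H := C) (h ^ (p - 1)) ⟨x, hx⟩ : C) : Q) = x := by
    rw [h2]; rfl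
  rw [MulAut.conjNormal_apply] at h3
  exact h3

theorem comm_mem_normal {G : Type*} [Group G] (K : Subgroup G) [hK : K.Normal] (u y : G)
    (hu : u ∈ K) : ⁅u, y⁆ ∈ K := by
  rw [commutatorElement_def]
  have h1 := hK.conj_mem u⁻¹ (K.inv_mem hu) y
  have h2 := K.mul_mem hu h1
  have : u * y * u⁻¹ * y⁻¹ = u * (y * u⁻¹ * y⁻¹) := by group
  rw [this]; exact h2

theorem step {G : Type*} [Group G] [Finite G] (p : ℕ) [Fact p.Prime] (P : Subgroup G)
    (hP : IsPGroup p P) (K L : Subgroup G) [K.Normal] [hL : L.Normal] (hKL : K ≤ L)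
    (hr : (K.relIndex L).Prime) (u : G) (huL : u ∈ L) (huP : u ∈ P) (y : G)
    (hy : (∃ h : G, y = h ^ (p - 1)) ∨ y ∈ commutator G) : ⁅u, y⁆ ∈ K := by
  have hp : p.Prime := Fact.out
  by_cases huK : u ∈ K
  · exact comm_mem_normal K u y huK
  · have hπs := QuotientGroup.mk'_surjective K
    have hcard : Nat.card (L.map (QuotientGroup.mk' K)) = K.relIndex L := by
      have h1 := S0003.card_map_mk L K
      rw [inf_of_le_right hKL] at h1
      have h2 : Nat.card (K.subgroupOf L) * K.relIndex L = Nat.card L := Subgroup.card_mul_index _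
      rw [S0003.card_subgroupOf_eq', inf_of_le_left hKL] at h2
      have hpos : 0 < Nat.card K := Nat.card_pos
      have h3 : Nat.card K * Nat.card (L.map (QuotientGroup.mk' K)) =
          Nat.card K * K.relIndex L := by rw [h2, ← h1, mul_comm]
      exact Nat.eq_of_mul_eq_mul_left hpos h3
    haveI : (L.map (QuotientGroup.mk' K)).Normal := hL.map _ hπs
    have hπu : (QuotientGroup.mk' K) u ≠ 1 := by
      intro h; apply huK; rwa [← QuotientGroup.ker_mk' K, MonoidHom.mem_ker]
    have hπuL : (QuotientGroup.mk' K) u ∈ L.map (QuotientGroup.mk' K) :=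
      Subgroup.mem_map_of_mem _ huL
    have hrp : K.relIndex L = p := by
      obtain ⟨j, hj⟩ := hP ⟨u, huP⟩
      have hj' : u ^ (p ^ j) = 1 := congrArg Subtype.val hj
      have h1 : ((QuotientGroup.mk' K) u) ^ (p ^ j) = 1 := by rw [← map_pow, hj', map_one]
      have h2 : orderOf ((QuotientGroup.mk' K) u) ∣ p ^ j := orderOf_dvd_of_pow_eq_one h1
      have h3 : orderOf ((QuotientGroup.mk' K) u) ∣ K.relIndex L := by
        rw [← hcard]
        exact Subgroup.orderOf_dvd_natCard _ hπuL
      have h4 : orderOf ((QuotientGroup.mk' K) u) = K.relIndex L :=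
        ((Nat.dvd_prime hr).mp h3).resolve_left (by rw [orderOf_eq_one_iff]; exact hπu)
      rw [h4] at h2
      exact (Nat.prime_dvd_prime_iff_eq hr hp).mp (hr.dvd_of_dvd_pow h2)
    have hcard' : Nat.card (L.map (QuotientGroup.mk' K)) = p := hcard.trans hrp
    have hcen : (QuotientGroup.mk' K) y * (QuotientGroup.mk' K) u * ((QuotientGroup.mk' K) y)⁻¹
        = (QuotientGroup.mk' K) u := by
      rcases hy with ⟨h, rfl⟩ | hy
      · rw [map_pow]
        exact step_pow p (L.map (QuotientGroup.mk' K)) hcard' _ _ hπuL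
      · haveI : IsCyclic (L.map (QuotientGroup.mk' K)) := isCyclic_of_prime_card hcard'
        have hy' : (QuotientGroup.mk' K) y ∈ commutator (G ⧸ K) := by
          have : (commutator G).map (QuotientGroup.mk' K) ≤ commutator (G ⧸ K) := by
            rw [commutator_def, commutator_def, Subgroup.map_commutator]
            exact Subgroup.commutator_mono le_top le_top
          exact this (Subgroup.mem_map_of_mem _ hy)
        exact S0526.comm_centralizes_cyclic_normal (L.map (QuotientGroup.mk' K)) _ hy' _ hπuL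
    have hc2 : (QuotientGroup.mk' K) y * (QuotientGroup.mk' K) u =
        (QuotientGroup.mk' K) u * (QuotientGroup.mk' K) y := mul_inv_eq_iff_eq_mul.mp hcen
    rw [← QuotientGroup.ker_mk' K, MonoidHom.mem_ker, commutatorElement_def, map_mul, map_mul,
      map_mul, map_inv, map_inv, ← hc2]
    group

theorem ss {G : Type*} [Group G] [Finite G] (hG : Cfsg.IsSupersolvable G) (p : ℕ)
    [Fact p.Prime] (P : Subgroup G) [hPn : P.Normal] (hP : IsPGroup p P)
    (hC : Subgroup.centralizer (P : Set G) ≤ P) (y : G) (hyc : (orderOf y).Coprime p)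
    (hy : (∃ h : G, y = h ^ (p - 1)) ∨ y ∈ commutator G) : y = 1 := by
  obtain ⟨n, H, h0, hlast, hnorm, hstep, -⟩ := S0529.result hG
  have key : ∀ i : Fin (n + 1), ∀ u ∈ H i ⊓ P, u * y = y * u := by
    intro i
    induction i using Fin.induction with
    | zero =>
      intro u hu
      rw [h0] at hu
      have : u = 1 := Subgroup.mem_bot.mp hu.1
      subst this; simp
    | succ i ih =>
      intro u hu
      haveI := hnorm i.castSucc
      haveI := hnorm i.succ
      have h1 : ⁅u, y⁆ ∈ H i.castSucc :=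
        step p P hP (H i.castSucc) (H i.succ) (hstep i).1 (hstep i).2 u hu.1 hu.2 y hy
      have h2 : ⁅u, y⁆ ∈ P := comm_mem_normal P u y hu.2
      apply Lib.Helper3.Coprime.commute_of_coprime_comm u y (ih _ ⟨h1, h2⟩).symm
      obtain ⟨j, hj⟩ := hP ⟨⁅u, y⁆, h2⟩
      have hj' : ⁅u, y⁆ ^ (p ^ j) = 1 := congrArg Subtype.val hj
      have : orderOf ⁅u, y⁆ ∣ p ^ j := orderOf_dvd_of_pow_eq_one hj'
      exact Nat.Coprime.coprime_dvd_right this (Nat.Coprime.pow_right _ hyc)
  have hyP : y ∈ P := by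
    apply hC
    rw [Subgroup.mem_centralizer_iff]
    intro u hu
    exact key (Fin.last n) u ⟨by rw [hlast]; trivial, hu⟩
  obtain ⟨j, hj⟩ := hP ⟨y, hyP⟩
  have hj' : y ^ (p ^ j) = 1 := congrArg Subtype.val hj
  have h1 : orderOf y ∣ p ^ j := orderOf_dvd_of_pow_eq_one hj'
  have h2 : orderOf y = 1 := Nat.eq_one_of_dvd_coprimes (Nat.Coprime.pow_right j hyc) dvd_rfl h1
  exact orderOf_eq_one_iff.mp h2

theorem hyp_quot {G : Type*} [Group G] [Finite G] (N : Subgroup G) [N.Normal]
    (h : ∀ M : Subgroup G, IsCoatom M → M.index.Prime) :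
    ∀ M : Subgroup (G ⧸ N), IsCoatom M → M.index.Prime := by
  intro M hM
  have := h _ (Subgroup.isCoatom_comap_of_surjective (QuotientGroup.mk'_surjective N) hM)
  rwa [Subgroup.index_comap_of_surjective _ (QuotientGroup.mk'_surjective N)] at this

theorem supersolvable_of_surj {G H : Type*} [Group G] [Group H] (f : H →* G)
    (hf : Function.Surjective f) (hH : Cfsg.IsSupersolvable H) : Cfsg.IsSupersolvable G := by
  rw [S0528.supersolvable_iff_reach] at hH ⊢
  have := S0528.Reach.map f hf hH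
  rwa [Subgroup.map_top_of_surjective f hf] at this

theorem sylow_normal {G : Type*} [Group G] [Finite G]
    (h : ∀ M : Subgroup G, IsCoatom M → M.index.Prime) (p : ℕ) [Fact p.Prime]
    (hmax : ∀ q : ℕ, q.Prime → q ∣ Nat.card G → q ≤ p) (P : Sylow p G) :
    (P : Subgroup G).Normal := by
  have hp : p.Prime := Fact.out
  by_contra hP
  have hne : Subgroup.normalizer ((P : Subgroup G) : Set G) ≠ ⊤ :=
    fun h => hP (Subgroup.normalizer_eq_top_iff.mp h)
  obtain ⟨M, hM, hNM⟩ := (eq_top_or_exists_le_coatom _).resolve_left hne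
  have hq := h M hM
  have hPM : (P : Subgroup G) ≤ M := Subgroup.le_normalizer.trans hNM
  have c1 : Nat.card (Sylow p G) = (Subgroup.normalizer ((P : Subgroup G) : Set G)).index :=
    Sylow.card_eq_index_normalizer P
  have c2 : Nat.card (Sylow p M) =
      (Subgroup.normalizer ((P : Subgroup G) : Set G)).relIndex M := by
    rw [Sylow.card_eq_index_normalizer (P.subtype hPM)]
    have := Subgroup.subgroupOf_normalizer_eq hPM
    have e : Subgroup.normalizer (((P.subtype hPM : Sylow p M) : Subgroup M) : Set M) =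
        (Subgroup.normalizer ((P : Subgroup G) : Set G)).subgroupOf M := by
      rw [Sylow.coe_subtype]; exact this.symm
    exact congrArg Subgroup.index e
  have c3 := Subgroup.relIndex_mul_index hNM
  have m1 : Nat.card (Sylow p G) ≡ 1 [MOD p] := card_sylow_modEq_one p G
  have m2 : Nat.card (Sylow p M) ≡ 1 [MOD p] := card_sylow_modEq_one p M
  rw [c1, ← c3] at m1
  rw [c2] at m2
  have m3 : M.index ≡ 1 [MOD p] := by
    have := (m2.mul_right M.index).symm.trans m1
    simpa using this
  have hle := hmax _ hq (Subgroup.index_dvd_card M)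
  unfold Nat.ModEq at m3
  rcases lt_or_eq_of_le hle with hlt | heq
  · rw [Nat.mod_eq_of_lt hlt, Nat.mod_eq_of_lt hp.one_lt] at m3
    exact hq.one_lt.ne' m3
  · rw [heq, Nat.mod_self, Nat.mod_eq_of_lt hp.one_lt] at m3
    exact zero_ne_one m3

universe u in
theorem aux (n : ℕ) : ∀ (G : Type u) [Group G] [Finite G], Nat.card G = n →
    (∀ M : Subgroup G, IsCoatom M → M.index.Prime) → Cfsg.IsSupersolvable G := by
  induction n using Nat.strong_induction_on with
  | _ n ih =>
    intro G _ _ hn h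
    rcases subsingleton_or_nontrivial G with hsub | hnt
    · rw [S0528.supersolvable_iff_reach]
      have : (⊤ : Subgroup G) = ⊥ := Subsingleton.elim _ _
      rw [this]; exact S0528.Reach.bot
    have hquot : ∀ (L : Subgroup G) [L.Normal], L ≠ ⊥ → Cfsg.IsSupersolvable (G ⧸ L) := by
      intro L _ hL
      have hlt : Nat.card (G ⧸ L) < n := by
        rw [← hn, ← S0003.card_quot L]
        have h1 : 1 < Nat.card L := (Subgroup.one_lt_card_iff_ne_bot L).mpr hL
        have h2 : 0 < Nat.card (G ⧸ L) := Nat.card_pos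
        nlinarith
      exact ih _ hlt (G ⧸ L) rfl (hyp_quot L h)
    by_cases hU0 : ∃ L₁ L₂ : Subgroup G, L₁.Normal ∧ L₂.Normal ∧ L₁ ≠ ⊥ ∧ L₂ ≠ ⊥ ∧ L₁ ⊓ L₂ = ⊥
    · obtain ⟨L₁, L₂, hn1, hn2, h1, h2, h12⟩ := hU0
      haveI := hn1
      haveI := hn2
      have s1 := hquot L₁ h1
      have s2 := hquot L₂ h2
      have s := S0525.result s1 s2
      let f : G →* (G ⧸ L₁) × (G ⧸ L₂) := (QuotientGroup.mk' L₁).prod (QuotientGroup.mk' L₂)
      have hf : Function.Injective f := by
        rw [injective_iff_map_eq_one]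
        intro x hx
        have hx1 : x ∈ L₁ := by
          rw [← QuotientGroup.ker_mk' L₁, MonoidHom.mem_ker]; exact congrArg Prod.fst hx
        have hx2 : x ∈ L₂ := by
          rw [← QuotientGroup.ker_mk' L₂, MonoidHom.mem_ker]; exact congrArg Prod.snd hx
        have : x ∈ L₁ ⊓ L₂ := ⟨hx1, hx2⟩
        rwa [h12, Subgroup.mem_bot] at this
      have s' := (S0524.result s f.range ⊥).1
      exact supersolvable_of_surj ((MonoidHom.ofInjective hf).symm.toMonoidHom)
        (MulEquiv.surjective _) s'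
    have hU1 : ∀ L₁ L₂ : Subgroup G, L₁.Normal → L₂.Normal → L₁ ≠ ⊥ → L₂ ≠ ⊥ → L₁ ⊓ L₂ ≠ ⊥ :=
      fun L₁ L₂ a b c d e => hU0 ⟨L₁, L₂, a, b, c, d, e⟩
    obtain ⟨p, hp, hpd, hmax⟩ : ∃ p : ℕ, p.Prime ∧ p ∣ Nat.card G ∧
        ∀ q : ℕ, q.Prime → q ∣ Nat.card G → q ≤ p := by
      have hne : (Nat.card G).primeFactors.Nonempty := by
        rw [Nat.nonempty_primeFactors]; exact Finite.one_lt_card
      refine ⟨(Nat.card G).primeFactors.max' hne, ?_, ?_, ?_⟩
      · exact Nat.prime_of_mem_primeFactors (Finset.max'_mem _ hne)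
      · exact Nat.dvd_of_mem_primeFactors (Finset.max'_mem _ hne)
      · intro q hq hqd
        exact Finset.le_max' _ q (Nat.mem_primeFactors.mpr ⟨hq, hqd, Nat.card_pos.ne'⟩)
    haveI : Fact p.Prime := ⟨hp⟩
    obtain ⟨P⟩ : Nonempty (Sylow p G) := inferInstance
    haveI hPn : (P : Subgroup G).Normal := sylow_normal h p hmax P
    have hPne : (P : Subgroup G) ≠ ⊥ := P.ne_bot_of_dvd_card hpd
    have hPp : IsPGroup p (P : Subgroup G) := P.isPGroup'
    obtain ⟨z, hzP, hz1, hzc⟩ := S0533.exists_central_in_normal p (P : Subgroup G)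
      (P : Subgroup G) hPp le_rfl Subgroup.le_normalizer hPne
    have hZne : (P : Subgroup G) ⊓ Subgroup.centralizer ((P : Subgroup G) : Set G) ≠ ⊥ := by
      intro hbot
      have : z ∈ (P : Subgroup G) ⊓ Subgroup.centralizer ((P : Subgroup G) : Set G) :=
        ⟨hzP, Subgroup.mem_centralizer_iff.mpr hzc⟩
      rw [hbot, Subgroup.mem_bot] at this
      exact hz1 this
    obtain ⟨N, hNn, hNne, hNZ, hNmin⟩ : ∃ N : Subgroup G, N.Normal ∧ N ≠ ⊥ ∧
        N ≤ (P : Subgroup G) ⊓ Subgroup.centralizer ((P : Subgroup G) : Set G) ∧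
        ∀ N' : Subgroup G, N'.Normal → N' ≠ ⊥ → N' ≤ N → N' = N := by
      classical
      have hex : ∃ m, ∃ N : Subgroup G, N.Normal ∧ N ≠ ⊥ ∧
          N ≤ (P : Subgroup G) ⊓ Subgroup.centralizer ((P : Subgroup G) : Set G) ∧
          Nat.card N = m := ⟨_, _, inferInstance, hZne, le_rfl, rfl⟩
      obtain ⟨N, hNn, hNne, hNZ, hNc⟩ := Nat.find_spec hex
      refine ⟨N, hNn, hNne, hNZ, ?_⟩
      intro N' hN'n hN'ne hle
      apply Subgroup.eq_of_le_of_card_ge hle
      rw [hNc]
      exact Nat.find_min' hex ⟨N', hN'n, hN'ne, hle.trans hNZ, rfl⟩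
    haveI := hNn
    have hNP : N ≤ (P : Subgroup G) := hNZ.trans inf_le_left
    have hcent : ∀ x ∈ N, ∀ u ∈ (P : Subgroup G), u * x = x * u := fun x hx u hu =>
      Subgroup.mem_centralizer_iff.mp (hNZ hx).2 u hu
    have hNc' : ∀ x ∈ N, ∀ y ∈ N, x * y = y * x := fun x hx y hy => hcent y hy x (hNP hx)
    have hNp : IsPGroup p N := hPp.to_le hNP
    have hU : ∀ L : Subgroup G, L.Normal → L ≠ ⊥ → N ≤ L := by
      intro L hL hLne
      have h1 := hU1 N L hNn hL hNne hLne
      haveI := hL
      have h2 := hNmin (N ⊓ L) inferInstance h1 inf_le_left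
      rw [← h2]; exact inf_le_right
    have hGN : Cfsg.IsSupersolvable (G ⧸ N) := hquot N hNne
    by_cases hFr0 : ∃ M : Subgroup G, IsCoatom M ∧ ¬ N ≤ M
    · obtain ⟨M, hM, hNM⟩ := hFr0
      have hsup : N ⊔ M = ⊤ :=
        hM.2 _ (lt_of_le_of_ne le_sup_right (fun h => hNM (h ▸ le_sup_left)))
      have hinfn : (N ⊓ M).Normal := by
        rw [← Subgroup.normalizer_eq_top_iff, eq_top_iff, ← hsup]
        apply sup_le
        · intro x hx
          rw [Subgroup.mem_normalizer_iff]
          intro y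
          constructor
          · rintro ⟨hyN, hyM⟩
            have : x * y * x⁻¹ = y := by rw [hNc' x hx y hyN]; group
            rw [this]; exact ⟨hyN, hyM⟩
          · rintro ⟨hyN, hyM⟩
            have hyN' : y ∈ N := by
              have := N.mul_mem (N.mul_mem (N.inv_mem hx) hyN) hx
              have e : x⁻¹ * (x * y * x⁻¹) * x = y := by group
              rwa [e] at this
            have : x * y * x⁻¹ = y := by rw [hNc' x hx y hyN']; group
            rw [this] at hyM
            exact ⟨hyN', hyM⟩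
        · intro x hx
          rw [Subgroup.mem_normalizer_iff]
          intro y
          constructor
          · rintro ⟨hyN, hyM⟩
            exact ⟨hNn.conj_mem y hyN x, M.mul_mem (M.mul_mem hx hyM) (M.inv_mem hx)⟩
          · rintro ⟨hyN, hyM⟩
            refine ⟨?_, ?_⟩
            · have := hNn.conj_mem _ hyN x⁻¹
              have e : x⁻¹ * (x * y * x⁻¹) * x⁻¹⁻¹ = y := by group
              rwa [e] at this
            · have := M.mul_mem (M.mul_mem (M.inv_mem hx) hyM) hx
              have e : x⁻¹ * (x * y * x⁻¹) * x = y := by group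
              rwa [e] at this
      have hbot : N ⊓ M = ⊥ := by
        by_contra hne
        have := hNmin (N ⊓ M) hinfn hne inf_le_left
        exact hNM (this ▸ inf_le_right)
      have hc : Subgroup.IsComplement' N M := by
        apply Subgroup.isComplement'_of_disjoint_and_mul_eq_univ (disjoint_iff.mpr hbot)
        rw [← Subgroup.normal_mul, hsup, Subgroup.coe_top]
      have hprime : (Nat.card N).Prime := by rw [← hc.index_eq_card]; exact h M hM
      haveI : Fact (Nat.card N).Prime := ⟨hprime⟩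
      haveI : IsCyclic N := isCyclic_of_prime_card rfl
      exact S0528.result N hGN
    have hFr1 : ∀ M : Subgroup G, IsCoatom M → N ≤ M := fun M hM => by
      by_contra hh; exact hFr0 ⟨M, hM, hh⟩
    have hFr : ∀ K : Subgroup G, N ⊔ K = ⊤ → K = ⊤ := by
      intro K hK
      rcases eq_top_or_exists_le_coatom K with hK' | ⟨M, hM, hKM⟩
      · exact hK'
      · exfalso
        apply hM.1
        rw [eq_top_iff, ← hK]
        exact sup_le (hFr1 M hM) hKM
    haveI hNnt : Nontrivial N := (Subgroup.nontrivial_iff_ne_bot N).mpr hNne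
    have hexp : ∀ x ∈ N, x ^ p = 1 := by
      let Ω : Subgroup G :=
        { carrier := {x | x ∈ N ∧ x ^ p = 1}
          mul_mem' := fun {a b} ha hb => ⟨N.mul_mem ha.1 hb.1, by
            rw [Commute.mul_pow (hNc' a ha.1 b hb.1), ha.2, hb.2, mul_one]⟩
          one_mem' := ⟨N.one_mem, one_pow p⟩
          inv_mem' := fun {a} ha => ⟨N.inv_mem ha.1, by rw [inv_pow, ha.2, inv_one]⟩ }
      have hΩn : Ω.Normal :=
        ⟨fun x hx g => ⟨hNn.conj_mem x hx.1 g, by rw [conj_pow, hx.2]; simp⟩⟩
      have hΩne : Ω ≠ ⊥ := by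
        obtain ⟨k, hk⟩ := IsPGroup.iff_card.mp hNp
        have hk0 : k ≠ 0 := by
          rintro rfl
          rw [pow_zero] at hk
          exact hNne (Subgroup.card_eq_one.mp hk)
        have hpd : p ∣ Nat.card N := hk ▸ dvd_pow_self p hk0
        obtain ⟨x, hx⟩ := exists_prime_orderOf_dvd_card' p hpd
        intro hbot
        have hxΩ : (x : G) ∈ Ω := ⟨x.2, by
          rw [← Subgroup.coe_pow, ← hx, pow_orderOf_eq_one]; rfl⟩
        rw [hbot, Subgroup.mem_bot] at hxΩ
        have : x = 1 := Subtype.ext hxΩ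
        rw [this, orderOf_one] at hx
        exact hp.one_lt.ne hx
      have := hNmin Ω hΩn hΩne (fun x hx => hx.1)
      intro x hx
      rw [← this] at hx
      exact hx.2
    have hπs : Function.Surjective (QuotientGroup.mk' N) := QuotientGroup.mk'_surjective N
    haveI hPbn : ((P : Subgroup G).map (QuotientGroup.mk' N)).Normal := hPn.map _ hπs
    have hPbp : IsPGroup p ((P : Subgroup G).map (QuotientGroup.mk' N)) := hPp.map _
    have hPi : ¬ p ∣ (P : Subgroup G).index := P.not_dvd_index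
    have hPbi : ¬ p ∣ ((P : Subgroup G).map (QuotientGroup.mk' N)).index := by
      rw [Subgroup.index_map_eq _ hπs (by rw [QuotientGroup.ker_mk']; exact hNP)]
      exact hPi
    have hO : ∀ K : Subgroup (G ⧸ N), K.Normal → (Nat.card K).Coprime p → K = ⊥ := by
      intro K hKn hKc
      haveI : (K.comap (QuotientGroup.mk' N)).Normal := hKn.comap _
      have hle : N ≤ K.comap (QuotientGroup.mk' N) := by
        have := MonoidHom.ker_le_comap (QuotientGroup.mk' N) K
        rwa [QuotientGroup.ker_mk'] at this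
      have hcardT := S0003.card_comap_mk' N K
      have hrel : N.relIndex (K.comap (QuotientGroup.mk' N)) = Nat.card K := by
        have h2 : Nat.card (N.subgroupOf (K.comap (QuotientGroup.mk' N))) *
            N.relIndex (K.comap (QuotientGroup.mk' N)) =
            Nat.card (K.comap (QuotientGroup.mk' N)) := Subgroup.card_mul_index _
        rw [S0003.card_subgroupOf_eq', inf_of_le_left hle, hcardT] at h2
        exact Nat.eq_of_mul_eq_mul_left Nat.card_pos h2
      have hcop : (Nat.card N).Coprime (N.relIndex (K.comap (QuotientGroup.mk' N))) := by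
        obtain ⟨k, hk⟩ := IsPGroup.iff_card.mp hNp
        rw [hk, hrel]; exact Nat.Coprime.pow_left _ hKc.symm
      have hT := opq N hNc' hNne hFr hU (K.comap (QuotientGroup.mk' N)) hle hcop
      rw [← Subgroup.map_comap_eq_self_of_surjective hπs K, hT]
      rw [Subgroup.map_eq_bot_iff, QuotientGroup.ker_mk']
    have hCb : Subgroup.centralizer
        ((((P : Subgroup G).map (QuotientGroup.mk' N) : Subgroup (G ⧸ N))) : Set (G ⧸ N)) ≤
        (P : Subgroup G).map (QuotientGroup.mk' N) :=
      cent_le p _ hPbp hPbi hO _ (fun c hc u hu => Subgroup.mem_centralizer_iff.mp hc u hu)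
    have hcopP : (Nat.card (P : Subgroup G)).Coprime (P : Subgroup G).index := by
      obtain ⟨k, hk⟩ := IsPGroup.iff_card.mp hPp
      rw [hk]; exact Nat.Coprime.pow_left _ ((Nat.Prime.coprime_iff_not_dvd hp).mpr hPi)
    obtain ⟨H, hH⟩ := Subgroup.exists_left_complement'_of_coprime hcopP
    have hHc : (Nat.card H).Coprime p := by
      rw [← hH.index_eq_card]; exact ((Nat.Prime.coprime_iff_not_dvd hp).mpr hPi).symm
    have hss : ∀ y ∈ H, ((∃ h : G ⧸ N, (QuotientGroup.mk' N) y = h ^ (p - 1)) ∨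
        (QuotientGroup.mk' N) y ∈ commutator (G ⧸ N)) → y ∈ N := by
      intro y hy hform
      have hyc : (orderOf ((QuotientGroup.mk' N) y)).Coprime p := by
        have h1 : orderOf ((QuotientGroup.mk' N) y) ∣ orderOf y := orderOf_map_dvd _ y
        have h2 : orderOf y ∣ Nat.card H := Subgroup.orderOf_dvd_natCard H hy
        exact Nat.Coprime.coprime_dvd_left (h1.trans h2) hHc
      have := ss hGN p ((P : Subgroup G).map (QuotientGroup.mk' N)) hPbp hCb _ hyc hform
      rwa [← QuotientGroup.ker_mk' N, MonoidHom.mem_ker]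
    have hA : ∀ g : G, ∃ h ∈ H, ∃ u ∈ (P : Subgroup G), g = h * u := by
      intro g
      have : g ∈ H ⊔ (P : Subgroup G) := by rw [hH.sup_eq_top]; trivial
      obtain ⟨h, hh, u, hu, rfl⟩ := Subgroup.mem_sup_of_normal_right.mp this
      exact ⟨h, hh, u, hu, rfl⟩
    have hΨ_apply : ∀ (g : G) (x : N), ((MulAut.conjNormal (H := N) g x : N) : G) = g * x * g⁻¹ :=
      fun g x => MulAut.conjNormal_apply g x
    have hΨP : ∀ u ∈ (P : Subgroup G), MulAut.conjNormal (H := N) u = 1 := by
      intro u hu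
      apply MulEquiv.ext
      intro x
      apply Subtype.ext
      rw [hΨ_apply, hcent x x.2 u hu]
      simp
    have hΨN : ∀ y ∈ N, MulAut.conjNormal (H := N) y = 1 := fun y hy => hΨP y (hNP hy)
    have hΨpow : ∀ g : G, (MulAut.conjNormal (H := N) g) ^ (p - 1) = 1 := by
      intro g
      obtain ⟨h, hh, u, hu, rfl⟩ := hA g
      rw [map_mul, hΨP u hu, mul_one, ← map_pow]
      exact hΨN _ (hss _ (H.pow_mem hh _) (Or.inl ⟨(QuotientGroup.mk' N) h, map_pow _ h _⟩))
    have hΨcomm : ∀ g g' : G, MulAut.conjNormal (H := N) g * MulAut.conjNormal (H := N) g' =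
        MulAut.conjNormal (H := N) g' * MulAut.conjNormal (H := N) g := by
      intro g g'
      obtain ⟨h, hh, u, hu, rfl⟩ := hA g
      obtain ⟨h', hh', u', hu', rfl⟩ := hA g'
      rw [map_mul, map_mul, hΨP u hu, hΨP u' hu', mul_one, mul_one]
      have hmem : ⁅h, h'⁆ ∈ H := by
        rw [commutatorElement_def]
        exact H.mul_mem (H.mul_mem (H.mul_mem hh hh') (H.inv_mem hh)) (H.inv_mem hh')
      have h1 : MulAut.conjNormal (H := N) ⁅h, h'⁆ = 1 := by
        apply hΨN _ (hss _ hmem (Or.inr ?_))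
        rw [map_commutatorElement, commutator_def]
        exact Subgroup.commutator_mem_commutator (Subgroup.mem_top _) (Subgroup.mem_top _)
      rw [commutatorElement_def, map_mul, map_mul, map_mul, map_inv, map_inv] at h1
      have h2 := mul_inv_eq_one.mp h1
      rw [mul_inv_eq_iff_eq_mul] at h2
      exact h2
    have hexpN : ∀ x : N, x ^ p = 1 := fun x => Subtype.ext (hexp x x.2)
    have hNcomm : ∀ a b : N, a * b = b * a := fun a b => Subtype.ext (hNc' a a.2 b b.2)
    have hpowact : ∀ g : G, ∃ k : ℕ, ∀ x ∈ N, g * x * g⁻¹ = x ^ k := by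
      intro g
      obtain ⟨k, v, hv, hdv⟩ := eigen_grp' (A := N) hNcomm p hexpN
        (MulAut.conjNormal (H := N) g) (hΨpow g)
      refine ⟨k, ?_⟩
      let E : Subgroup G :=
        { carrier := {x | x ∈ N ∧ g * x * g⁻¹ = x ^ k}
          one_mem' := ⟨N.one_mem, by simp⟩
          mul_mem' := fun {a b} ha hb => ⟨N.mul_mem ha.1 hb.1, by
            rw [Commute.mul_pow (hNc' a ha.1 b hb.1), ← ha.2, ← hb.2]; group⟩
          inv_mem' := fun {a} ha => ⟨N.inv_mem ha.1, by rw [inv_pow, ← ha.2]; group⟩ }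
      have hEn : E.Normal := by
        constructor
        intro x hx g'
        refine ⟨hNn.conj_mem x hx.1 g', ?_⟩
        have h1 : ((((MulAut.conjNormal (H := N) g * MulAut.conjNormal (H := N) g') ⟨x, hx.1⟩ : N)) : G)
            = (((MulAut.conjNormal (H := N) g' * MulAut.conjNormal (H := N) g) ⟨x, hx.1⟩ : N) : G) := by
          rw [hΨcomm g g']
        rw [MulAut.mul_apply, MulAut.mul_apply, hΨ_apply, hΨ_apply, hΨ_apply, hΨ_apply] at h1
        rw [h1, hx.2, conj_pow]
      have hEne : E ≠ ⊥ := by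
        intro hbot
        have : (v : G) ∈ E := ⟨v.2, by
          have := congrArg Subtype.val hdv
          rw [hΨ_apply] at this
          rw [this]; rfl⟩
        rw [hbot, Subgroup.mem_bot] at this
        exact hv (Subtype.ext this)
      have hEN := hNmin E hEn hEne (fun x hx => hx.1)
      intro x hx
      rw [← hEN] at hx
      exact hx.2
    obtain ⟨v, hvN, hv1⟩ : ∃ v ∈ N, v ≠ 1 := (Subgroup.ne_bot_iff_exists_ne_one).mp hNne |>.imp
      (fun v hv => ⟨v.2, fun h => hv (Subtype.ext h)⟩) |> fun ⟨v, hv⟩ => ⟨v, hv⟩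
    have hzn : (Subgroup.zpowers v).Normal := by
      constructor
      intro x hx g
      obtain ⟨j, rfl⟩ := Subgroup.mem_zpowers_iff.mp hx
      obtain ⟨k, hk⟩ := hpowact g
      have e : g * v ^ j * g⁻¹ = (g * v * g⁻¹) ^ j := by rw [conj_zpow]
      rw [e, hk v hvN]
      exact Subgroup.zpow_mem _ (Subgroup.pow_mem _ (Subgroup.mem_zpowers v) k) j
    have hzle : Subgroup.zpowers v ≤ N := by rw [Subgroup.zpowers_le]; exact hvN
    have hzne : Subgroup.zpowers v ≠ ⊥ := by rw [Ne, Subgroup.zpowers_eq_bot]; exact hv1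
    have hz := hNmin _ hzn hzne hzle
    haveI : IsCyclic N := (Subgroup.isCyclic_iff_exists_zpowers_eq_top N).mpr ⟨v, hz⟩
    exact S0528.result N hGN

theorem result {G : Type*} [Group G] [Finite G] (h : ∀ M : Subgroup G, IsCoatom M → M.index.Prime) : Cfsg.IsSupersolvable G := by
  exact aux _ G rfl h

end Cfsg.Agent.S0579
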