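import Mathlib
import Cfsg.Agent.Lib.Helper1.Spec
import Cfsg.Statements.S0119

set_option autoImplicit false
open Cfsg

namespace Cfsg.Agent.S0119

/-- If a p'-group A of automorphisms of a p-group G satisfies G = [G, A] and acts trivially on every characteristic abelian subgroup, then G is special with centre equal to the fixed points of A. -/
theorem result {G : Type*} [Group G] [Finite G] {p : ℕ} [Fact p.Prime] (hG : IsPGroup p G) (A : Subgroup (MulAut G)) (hA : Nat.Coprime (Nat.card A) p) (hGA : Subgroup.closure {x : G | ∃ g : G, ∃ a ∈ A, x = g⁻¹ * a g} = ⊤) (hchar : ∀ H : Subgroup G, H.Characteristic → IsMulCommutative H → ∀ a ∈ A, ∀ h ∈ H, a h = h) : Cfsg.IsSpecial p G ∧ (∀ g : G, (g ∈ Subgroup.center G ↔ ∀ a ∈ A, a g = g)) := by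
  have hcl := Cfsg.Agent.Lib.Helper1.Spec.comm_le_center hG A hGA hchar
  have hZfix : ∀ z ∈ Subgroup.center G, ∀ a ∈ A, a z = z := fun z hz a ha =>
    hchar (Subgroup.center G) inferInstance inferInstance a ha z hz
  have hZle : ∀ N : Subgroup G, N.Normal → commutator G ≤ N → Subgroup.center G ≤ N :=
    fun N hN hle z hz => by
      haveI := hN
      exact Cfsg.Agent.Lib.Helper1.Spec.fixed_mem hG A hA hGA N hle z (hZfix z hz)
  have h12 := Cfsg.Agent.S0012.result p hG
  have hcomm : commutator G = Subgroup.center G :=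
    le_antisymm hcl (hZle _ inferInstance le_rfl)
  have hfrat : frattini G = Subgroup.center G :=
    le_antisymm (Cfsg.Agent.S0013.result p hG (Subgroup.center G) hcl
      (Cfsg.Agent.Lib.Helper1.Spec.pow_mem_center hG A hGA hchar hcl))
      (hZle _ inferInstance h12.1)
  refine ⟨⟨hG, hfrat, hcomm⟩, ?_⟩
  intro g
  constructor
  · intro hg a ha
    exact hZfix g hg a ha
  · intro hg
    rw [← hcomm]
    exact Cfsg.Agent.Lib.Helper1.Spec.fixed_mem hG A hA hGA (commutator G) le_rfl g hg

end Cfsg.Agent.S0119
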