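import Mathlib
import Cfsg.Statements.S0539
import Cfsg.Agent.S0538

set_option autoImplicit false
open Pointwise
open Cfsg
open Cfsg.Agent.Lib.Helper2.Sub

namespace Cfsg.Agent.S0539

open Cfsg.Agent.S0538

theorem card_smul {G : Type*} [Group G] (x : G) (H : Subgroup G) :
    Nat.card (MulAut.conj x • H : Subgroup G) = Nat.card H := by
  exact Nat.card_congr ((Subgroup.equivSMul (MulAut.conj x) H).toEquiv.symm)

theorem smul_eq_of_le {G : Type*} [Group G] [Finite G] (x : G) (H : Subgroup G)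
    (h : MulAut.conj x • H ≤ H) : MulAut.conj x • H = H :=
  Subgroup.eq_of_le_of_card_ge h (card_smul x H).ge

/-- If `H` is subnormal in `V` but not normal in `V`, some `V`-conjugate of `H` different
from `H` normalizes `H`. -/
theorem step_aux {G : Type*} [Group G] [Finite G] (H : Subgroup G) (n : ℕ) :
    ∀ V : Subgroup G, Nat.card V = n → RelSN H V → ¬ V ≤ Subgroup.normalizer (H : Set G) →
    ∃ x ∈ V, MulAut.conj x • H ≠ H ∧ MulAut.conj x • H ≤ Subgroup.normalizer (H : Set G) := by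
  induction n using Nat.strong_induction_on with
  | _ n ih =>
  intro V hcard hHV hnot
  have hne : H ≠ V := by
    rintro rfl
    exact hnot Subgroup.le_normalizer
  obtain ⟨X, hHX, hXV, hXne, hVX, hHX'⟩ := hHV.exists_normal hne
  by_cases hXn : X ≤ Subgroup.normalizer (H : Set G)
  · obtain ⟨v, hv, hvn⟩ := SetLike.not_le_iff_exists.1 hnot
    refine ⟨v, hv, ?_, ?_⟩
    · intro e
      exact hvn ((mem_normalizer_iff_smul v H).2 e)
    · have h1 : MulAut.conj v • H ≤ MulAut.conj v • X := Subgroup.pointwise_smul_le_pointwise_smul_iff.2 hHX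
      have h2 : MulAut.conj v • X = X := (mem_normalizer_iff_smul v X).1 (hVX hv)
      rw [h2] at h1
      exact h1.trans hXn
  · obtain ⟨x, hx, h1, h2⟩ := ih (Nat.card X) (hcard ▸ card_lt_of_ne hXV hXne) X rfl hHX' hXn
    exact ⟨x, hXV hx, h1, h2⟩

/-- relative version of the statement -/
theorem rel {G : Type*} [Group G] [Finite G] (V : Subgroup G) (S S₀ : Set (Subgroup G))
    (hS : ∀ U ∈ S, RelSN U V) (hconj : ∀ U ∈ S, ∀ g ∈ V, MulAut.conj g • U ∈ S) (h₀ : S₀ ⊂ S) :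
    ∃ X ∈ S, X ∉ S₀ ∧ X ≤ Subgroup.normalizer ((sSup S₀ : Subgroup G) : Set G) := by
  have hD : RelSN (sSup S₀) V := relSN_sSup S₀ (fun B hB => hS B (h₀.1 hB))
  by_cases hn : V ≤ Subgroup.normalizer ((sSup S₀ : Subgroup G) : Set G)
  · obtain ⟨X, hX, hX0⟩ := Set.exists_of_ssubset h₀
    exact ⟨X, hX, hX0, (hS X hX).1.trans hn⟩
  · obtain ⟨x, hx, h1, h2⟩ := step_aux (sSup S₀) _ V rfl hD hn
    have h3 : ∃ Y ∈ S₀, MulAut.conj x • Y ∉ S₀ := by
      by_contra hcon
      push Not at hcon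
      apply h1
      apply smul_eq_of_le
      rw [Subgroup.pointwise_smul_subset_iff]
      apply sSup_le
      intro Y hY
      rw [← Subgroup.pointwise_smul_subset_iff]
      exact le_sSup (hcon Y hY)
    obtain ⟨Y, hY, hY'⟩ := h3
    refine ⟨MulAut.conj x • Y, hconj Y (h₀.1 hY) x hx, hY', ?_⟩
    exact (Subgroup.pointwise_smul_le_pointwise_smul_iff.2 (le_sSup hY)).trans h2

theorem result {G : Type*} [Group G] [Finite G] (S S₀ : Set (Subgroup G)) (hS : ∀ U ∈ S, U.IsSubnormal) (hconj : ∀ U ∈ S, ∀ g : G, MulAut.conj g • U ∈ S) (h₀ : S₀ ⊂ S) : ∃ X ∈ S, X ∉ S₀ ∧ X ≤ Subgroup.normalizer ((sSup S₀ : Subgroup G) : Set G) :=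
  rel ⊤ S S₀ (fun U hU => (relSN_top_iff U).2 (hS U hU)) (fun U hU g _ => hconj U hU g) h₀

end Cfsg.Agent.S0539
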