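import Mathlib
import Cfsg.Statements.S0597
import Cfsg.Agent.S0538
import Cfsg.Agent.S0539
import Cfsg.Agent.Lib.Helper2.Fit

set_option autoImplicit false
open Pointwise
open Cfsg
open scoped commutatorElement

namespace Cfsg.Agent.S0597

theorem conj_closure_le {G : Type*} [Group G] (x : G) (S : Set G) (T : Subgroup G)
    (h : ∀ s ∈ S, x * s * x⁻¹ ∈ T) : ∀ d ∈ Subgroup.closure S, x * d * x⁻¹ ∈ T := by
  intro d hd
  induction hd using Subgroup.closure_induction with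
  | mem y hy => exact h y hy
  | one => simp
  | mul y z _ _ hy hz =>
    have e : x * (y * z) * x⁻¹ = (x * y * x⁻¹) * (x * z * x⁻¹) := by group
    rw [e]
    exact Subgroup.mul_mem _ hy hz
  | inv y _ hy =>
    have e : x * y⁻¹ * x⁻¹ = (x * y * x⁻¹)⁻¹ := by group
    rw [e]
    exact Subgroup.inv_mem _ hy

theorem comm_normalizer {G : Type*} [Group G] [Finite G] (E₁ E₂ : Subgroup G) :
    E₁ ⊔ E₂ ≤ Subgroup.normalizer ((⁅E₁, E₂⁆ : Subgroup G) : Set G) := by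
  have key : ∀ x : G, (∀ a ∈ E₁, ∀ b ∈ E₂, x * ⁅a, b⁆ * x⁻¹ ∈ ⁅E₁, E₂⁆) →
      x ∈ Subgroup.normalizer ((⁅E₁, E₂⁆ : Subgroup G) : Set G) := by
    intro x hx
    rw [Cfsg.Agent.S0538.mem_normalizer_iff_smul]
    apply Cfsg.Agent.S0539.smul_eq_of_le
    rintro _ ⟨d, hd, rfl⟩
    show x * d * x⁻¹ ∈ ⁅E₁, E₂⁆
    apply conj_closure_le x {g | ∃ g₁ ∈ E₁, ∃ g₂ ∈ E₂, ⁅g₁, g₂⁆ = g} ⁅E₁, E₂⁆ _ d hd
    rintro _ ⟨a, ha, b, hb, rfl⟩
    exact hx a ha b hb
  apply sup_le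
  · intro x hx
    apply key
    intro a ha b hb
    have e : x * ⁅a, b⁆ * x⁻¹ = ⁅x * a, b⁆ * ⁅x, b⁆⁻¹ := by
      rw [commutatorElement_def, commutatorElement_def, commutatorElement_def]; group
    rw [e]
    exact Subgroup.mul_mem _ (Subgroup.commutator_mem_commutator (E₁.mul_mem hx ha) hb)
      (Subgroup.inv_mem _ (Subgroup.commutator_mem_commutator hx hb))
  · intro x hx
    apply key
    intro a ha b hb
    have e : x * ⁅a, b⁆ * x⁻¹ = ⁅a, x⁆⁻¹ * ⁅a, x * b⁆ := by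
      rw [commutatorElement_def, commutatorElement_def, commutatorElement_def]; group
    rw [e]
    exact Subgroup.mul_mem _ (Subgroup.inv_mem _ (Subgroup.commutator_mem_commutator ha hx))
      (Subgroup.commutator_mem_commutator ha (E₂.mul_mem hx hb))

/-- The kernel of the action on `V / W`, inside the normalizer of `W`. -/
def kerAct {G : Type*} [Group G] (V W : Subgroup G) : Subgroup G where
  carrier := {x | x ∈ Subgroup.normalizer (W : Set G) ∧ ∀ v ∈ V, x * v * x⁻¹ * v⁻¹ ∈ W}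
  one_mem' := ⟨Subgroup.one_mem _, fun v _ => by simp⟩
  mul_mem' := by
    rintro x y ⟨hx, hx'⟩ ⟨hy, hy'⟩
    refine ⟨Subgroup.mul_mem _ hx hy, fun v hv => ?_⟩
    have e : x * y * v * (x * y)⁻¹ * v⁻¹ = (x * (y * v * y⁻¹ * v⁻¹) * x⁻¹) * (x * v * x⁻¹ * v⁻¹) := by
      group
    rw [e]
    exact W.mul_mem ((Subgroup.mem_normalizer_iff.1 hx _).1 (hy' v hv)) (hx' v hv)
  inv_mem' := by
    rintro x ⟨hx, hx'⟩
    refine ⟨Subgroup.inv_mem _ hx, fun v hv => ?_⟩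
    have e : x⁻¹ * v * x⁻¹⁻¹ * v⁻¹ = x⁻¹ * (x * v * x⁻¹ * v⁻¹)⁻¹ * x⁻¹⁻¹ := by group
    rw [e]
    exact (Subgroup.mem_normalizer_iff.1 (Subgroup.inv_mem _ hx) _).1 (W.inv_mem (hx' v hv))

theorem pow_conj {G : Type*} [Group G] (d v w : G) (hw : d * v * d⁻¹ = w * v)
    (hdw : d * w = w * d) (k : ℕ) : d ^ k * v * (d ^ k)⁻¹ = w ^ k * v := by
  induction k with
  | zero => simp
  | succ k ih =>
    have h1 : d * w ^ k = w ^ k * d := (Commute.pow_right (show Commute d w from hdw) k)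
    calc d ^ (k + 1) * v * (d ^ (k + 1))⁻¹ = d * (d ^ k * v * (d ^ k)⁻¹) * d⁻¹ := by
          rw [pow_succ']; group
      _ = d * (w ^ k * v) * d⁻¹ := by rw [ih]
      _ = (d * w ^ k) * d⁻¹ * (d * v * d⁻¹) := by group
      _ = w ^ k * d * d⁻¹ * (w * v) := by rw [h1, hw]
      _ = w ^ (k + 1) * v := by rw [pow_succ]; group

theorem result {G : Type*} [Group G] [Finite G] {p : ℕ} [Fact p.Prime] (V H : Subgroup G) (hV : Cfsg.IsElementaryAbelian p V) (hHV : H ≤ Subgroup.normalizer (V : Set G)) (hf : H ⊓ Subgroup.centralizer (V : Set G) = ⊥) (E₁ E₂ : Subgroup G) (h₁ : E₁ ≤ H) (h₂ : E₂ ≤ H) (hs₁ : (E₁.subgroupOf H).IsSubnormal) (hs₂ : (E₂.subgroupOf H).IsSubnormal) (hc : ⁅⁅V, E₁⁆, E₂⁆ = ⊥) : ⁅E₁, E₂⁆ ≤ (Cfsg.pCore p H).map H.subtype := by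
  have hJH : E₁ ⊔ E₂ ≤ H := sup_le h₁ h₂
  have hJsn : ((E₁ ⊔ E₂).subgroupOf H).IsSubnormal := by
    rw [Subgroup.subgroupOf_sup h₁ h₂]
    exact Cfsg.Agent.S0538.result _ _ hs₁ hs₂
  have hDJ : ⁅E₁, E₂⁆ ≤ E₁ ⊔ E₂ := by
    rw [Subgroup.commutator_le]
    intro a ha b hb
    rw [commutatorElement_def]
    exact Subgroup.mul_mem _ (Subgroup.mul_mem _ (Subgroup.mul_mem _ (Subgroup.mem_sup_left ha)
      (Subgroup.mem_sup_right hb)) (Subgroup.inv_mem _ (Subgroup.mem_sup_left ha)))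
      (Subgroup.inv_mem _ (Subgroup.mem_sup_right hb))
  have hDH : ⁅E₁, E₂⁆ ≤ H := hDJ.trans hJH
  have hJD := comm_normalizer E₁ E₂
  -- W = [V, E₁]
  have hWV : ⁅V, E₁⁆ ≤ V := by
    rw [Subgroup.commutator_le]
    intro v hv e he
    rw [commutatorElement_def]
    have h1 : e * v⁻¹ * e⁻¹ ∈ V := (Subgroup.mem_normalizer_iff.1 (hHV (h₁ he)) _).1 (V.inv_mem hv)
    have e2 : v * e * v⁻¹ * e⁻¹ = v * (e * v⁻¹ * e⁻¹) := by group
    rw [e2]
    exact V.mul_mem hv h1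
  have hE₂W : E₂ ≤ Subgroup.centralizer ((⁅V, E₁⁆ : Subgroup G) : Set G) :=
    Subgroup.le_centralizer_iff.1 (Subgroup.commutator_eq_bot_iff_le_centralizer.1 hc)
  have hE₁W : E₁ ≤ Subgroup.normalizer ((⁅V, E₁⁆ : Subgroup G) : Set G) :=
    le_sup_right.trans (comm_normalizer V E₁)
  have hE₂N : E₂ ≤ Subgroup.normalizer ((⁅V, E₁⁆ : Subgroup G) : Set G) := by
    intro x hx
    have hxc := hE₂W hx
    rw [Subgroup.mem_normalizer_iff]
    intro w
    have e : ∀ w ∈ ⁅V, E₁⁆, x * w * x⁻¹ = w := by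
      intro w hw
      have h := Subgroup.mem_centralizer_iff.1 hxc w hw
      rw [← h]; group
    constructor
    · intro hw; rw [e w hw]; exact hw
    · intro hw
      have h := Subgroup.mem_centralizer_iff.1 hxc _ hw
      have h' : x * w = x * (x * w * x⁻¹) := by rw [← h]; group
      have e3 : w = x * w * x⁻¹ := mul_left_cancel h'
      rw [e3]
      exact hw
  -- (γ) D centralizes W
  have hDW : ⁅E₁, E₂⁆ ≤ Subgroup.centralizer ((⁅V, E₁⁆ : Subgroup G) : Set G) := by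
    rw [Subgroup.commutator_le]
    intro a ha b hb
    have h1 : a * b * a⁻¹ ∈ Subgroup.centralizer ((⁅V, E₁⁆ : Subgroup G) : Set G) := by
      rw [Subgroup.mem_centralizer_iff]
      intro w hw
      have hw' : a⁻¹ * w * a ∈ ⁅V, E₁⁆ := by
        have := (Subgroup.mem_normalizer_iff.1 (Subgroup.inv_mem _ (hE₁W ha)) w).1 hw
        rwa [inv_inv] at this
      have h := Subgroup.mem_centralizer_iff.1 (hE₂W hb) _ hw'
      calc w * (a * b * a⁻¹) = a * ((a⁻¹ * w * a) * b) * a⁻¹ := by group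
        _ = a * (b * (a⁻¹ * w * a)) * a⁻¹ := by rw [h]
        _ = a * b * a⁻¹ * w := by group
    rw [commutatorElement_def]
    exact Subgroup.mul_mem _ h1 (Subgroup.inv_mem _ (hE₂W hb))
  -- (δ) D acts trivially on V / W
  have hE₁K : E₁ ≤ kerAct V ⁅V, E₁⁆ := by
    intro e he
    refine ⟨hE₁W he, fun v hv => ?_⟩
    have h := Subgroup.commutator_mem_commutator hv he
    have e2 : e * v * e⁻¹ * v⁻¹ = ⁅v, e⁆⁻¹ := by rw [commutatorElement_def]; group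
    rw [e2]
    exact Subgroup.inv_mem _ h
  have hDK : ⁅E₁, E₂⁆ ≤ kerAct V ⁅V, E₁⁆ := by
    rw [Subgroup.commutator_le]
    intro a ha b hb
    have h1 : b * a⁻¹ * b⁻¹ ∈ kerAct V ⁅V, E₁⁆ := by
      obtain ⟨hx, hx'⟩ := hE₁K (E₁.inv_mem ha)
      refine ⟨Subgroup.mul_mem _ (Subgroup.mul_mem _ (hE₂N hb) hx) (Subgroup.inv_mem _ (hE₂N hb)),
        fun v hv => ?_⟩
      have hu : b⁻¹ * v * b ∈ V := by
        have := (Subgroup.mem_normalizer_iff.1 (Subgroup.inv_mem _ (hHV (h₂ hb))) v).1 hv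
        rwa [inv_inv] at this
      have h2 := hx' _ hu
      have e2 : b * a⁻¹ * b⁻¹ * v * (b * a⁻¹ * b⁻¹)⁻¹ * v⁻¹
          = b * (a⁻¹ * (b⁻¹ * v * b) * a⁻¹⁻¹ * (b⁻¹ * v * b)⁻¹) * b⁻¹ := by group
      rw [e2]
      exact (Subgroup.mem_normalizer_iff.1 (hE₂N hb) _).1 h2
    have e3 : ⁅a, b⁆ = a * (b * a⁻¹ * b⁻¹) := by rw [commutatorElement_def]; group
    rw [e3]
    exact Subgroup.mul_mem _ (hE₁K ha) h1
  -- D is a p-group
  have hDp : IsPGroup p ↥(⁅E₁, E₂⁆ : Subgroup G) := by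
    intro d
    refine ⟨1, ?_⟩
    apply Subtype.ext
    show (d : G) ^ p ^ 1 = 1
    rw [pow_one]
    have hmem : (d : G) ^ p ∈ H ⊓ Subgroup.centralizer (V : Set G) := by
      refine Subgroup.mem_inf.2 ⟨H.pow_mem (hDH d.2) p, ?_⟩
      rw [Subgroup.mem_centralizer_iff]
      intro v hv
      have hw : (d : G) * v * (d : G)⁻¹ * v⁻¹ ∈ ⁅V, E₁⁆ := (hDK d.2).2 v hv
      have h1 : (d : G) * v * (d : G)⁻¹ = ((d : G) * v * (d : G)⁻¹ * v⁻¹) * v := by group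
      have h2 : (d : G) * ((d : G) * v * (d : G)⁻¹ * v⁻¹) = ((d : G) * v * (d : G)⁻¹ * v⁻¹) * (d : G) :=
        (Subgroup.mem_centralizer_iff.1 (hDW d.2) _ hw).symm
      have h3 := pow_conj (d : G) v _ h1 h2 p
      rw [hV.2 _ (hWV hw), one_mul] at h3
      calc v * (d : G) ^ p = ((d : G) ^ p * v * ((d : G) ^ p)⁻¹) * (d : G) ^ p := by rw [h3]
        _ = (d : G) ^ p * v := by group
    rw [hf, Subgroup.mem_bot] at hmem
    exact hmem
  have hle : (⁅E₁, E₂⁆ : Subgroup G).subgroupOf H ≤ Cfsg.pCore p ↥H := by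
    apply Cfsg.Agent.Lib.Helper2.Fit.normal_pgroup_le_pCore hJsn
    · intro x hx
      exact hDJ hx
    · intro x hx
      rw [Subgroup.mem_normalizer_iff]
      intro h
      exact Subgroup.mem_normalizer_iff.1 (hJD hx) (h : G)
    · exact hDp.comap_subtype
  have := Subgroup.map_mono (f := H.subtype) hle
  rwa [Subgroup.map_subgroupOf_eq_of_le hDH] at this

end Cfsg.Agent.S0597
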