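import Mathlib
import Cfsg.Statements.S0055
import Cfsg.Agent.S0026

set_option autoImplicit false
open Cfsg

namespace Cfsg.Agent.S0055

open Subgroup Cfsg.Agent.S0026
open scoped commutatorElement
open scoped IsMulCommutative

/-- conjugation by `a ∈ A` on `V` -/
def cj {G : Type*} [Group G] (A V : Subgroup G)
    (hAV : A ≤ Subgroup.normalizer (V : Set G)) (a : A) (v : V) : V :=
  ⟨(a : G) * v * (a : G)⁻¹, (Subgroup.le_normalizer_iff.mp hAV) a a.2 v v.2⟩

/-- the trace map `v ↦ ∏_{a ∈ A} a v a⁻¹` on an abelian `V` -/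
noncomputable def tr {G : Type*} [Group G] [Finite G] (A V : Subgroup G) [IsMulCommutative V]
    (hAV : A ≤ Subgroup.normalizer (V : Set G)) : V →* V :=
  letI : Fintype A := Fintype.ofFinite A
  { toFun := fun v => ∏ a : A, cj A V hAV a v
    map_one' := by
      apply Finset.prod_eq_one
      intro a _
      apply Subtype.ext
      simp [cj]
    map_mul' := by
      intro v w
      rw [← Finset.prod_mul_distrib]
      apply Finset.prod_congr rfl
      intro a _
      apply Subtype.ext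
      simp [cj, mul_assoc] }

theorem tr_cj {G : Type*} [Group G] [Finite G] (A V : Subgroup G) [IsMulCommutative V]
    (hAV : A ≤ Subgroup.normalizer (V : Set G)) (b : A) (v : V) :
    tr A V hAV (cj A V hAV b v) = tr A V hAV v := by
  letI : Fintype A := Fintype.ofFinite A
  show ∏ a : A, cj A V hAV a (cj A V hAV b v) = ∏ a : A, cj A V hAV a v
  apply Fintype.prod_equiv (Equiv.mulRight b)
  intro a
  apply Subtype.ext
  simp [cj, mul_assoc]

theorem tr_of_centralizes {G : Type*} [Group G] [Finite G] (A V : Subgroup G) [IsMulCommutative V]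
    (hAV : A ≤ Subgroup.normalizer (V : Set G)) (v : V)
    (hv : (v : G) ∈ Subgroup.centralizer (A : Set G)) :
    tr A V hAV v = v ^ Nat.card A := by
  letI : Fintype A := Fintype.ofFinite A
  show ∏ a : A, cj A V hAV a v = v ^ Nat.card A
  have : ∀ a : A, cj A V hAV a v = v := by
    intro a
    apply Subtype.ext
    have h := (Subgroup.mem_centralizer_iff.mp hv) a a.2
    show (a : G) * v * (a : G)⁻¹ = v
    rw [h, mul_inv_cancel_right]
  rw [Finset.prod_congr rfl (fun a _ => this a), Finset.prod_const, Finset.card_univ,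
    Nat.card_eq_fintype_card]

theorem comm_le_ker {G : Type*} [Group G] [Finite G] (A V : Subgroup G) [IsMulCommutative V]
    (hAV : A ≤ Subgroup.normalizer (V : Set G)) :
    ⁅V, A⁆ ≤ (tr A V hAV).ker.map V.subtype := by
  rw [Subgroup.commutator_le]
  intro v hv a ha
  refine ⟨(⟨v, hv⟩ : V) * cj A V hAV ⟨a, ha⟩ (⟨v, hv⟩ : V)⁻¹, ?_, ?_⟩
  · show _ ∈ (tr A V hAV).ker
    rw [MonoidHom.mem_ker, map_mul, tr_cj, map_inv, mul_inv_cancel]
  · simp [cj, commutatorElement_def, mul_assoc]

theorem inf_eq_bot {G : Type*} [Group G] [Finite G] (A V : Subgroup G) [IsMulCommutative V]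
    (hAV : A ≤ Subgroup.normalizer (V : Set G)) (hcop : (Nat.card A).Coprime (Nat.card V)) :
    (V ⊓ Subgroup.centralizer (A : Set G)) ⊓ ⁅V, A⁆ = ⊥ := by
  rw [eq_bot_iff]
  intro x hx
  obtain ⟨⟨hxV, hxC⟩, hxc⟩ := hx
  obtain ⟨v, hvker, hvx⟩ := comm_le_ker A V hAV hxc
  have hvx' : (v : G) = x := hvx
  have h1 : tr A V hAV v = v ^ Nat.card A := tr_of_centralizes A V hAV v (by rw [hvx']; exact hxC)
  have hvker' : tr A V hAV v = 1 := MonoidHom.mem_ker.mp hvker
  rw [hvker'] at h1
  have h2 : orderOf v ∣ Nat.card A := orderOf_dvd_of_pow_eq_one h1.symm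
  have h3 : orderOf v ∣ Nat.card V := orderOf_dvd_natCard v
  have h4 : orderOf v = 1 := Nat.eq_one_of_dvd_coprimes hcop h2 h3
  rw [orderOf_eq_one_iff] at h4
  rw [Subgroup.mem_bot, ← hvx', h4]; rfl

theorem result {G : Type*} [Group G] [Finite G] (A V : Subgroup G) [IsMulCommutative V]
    (hAV : A ≤ Subgroup.normalizer (V : Set G)) (hcop : (Nat.card A).Coprime (Nat.card V)) :
    (V ⊓ Subgroup.centralizer (A : Set G)) ⊓ ⁅V, A⁆ = ⊥ ∧ (V ⊓ Subgroup.centralizer (A : Set G)) ⊔ ⁅V, A⁆ = V := by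
  refine ⟨inf_eq_bot A V hAV hcop, ?_⟩
  rw [sup_comm]
  haveI : Group.IsSolvable V := Group.isSolvable_of_comm (fun a b => mul_comm' a b)
  exact Cfsg.Agent.S0026.result A V hAV hcop (Or.inr inferInstance)

end Cfsg.Agent.S0055
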