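import Mathlib
import Cfsg.Statements.S0598
import Cfsg.Agent.S0003

set_option autoImplicit false
open Pointwise
open Cfsg
open scoped commutatorElement

namespace Cfsg.Agent.S0598

theorem card_le_of_fibers {α β γ : Type*} [Finite α] [Finite β] [Finite γ] (Φ : α → β)
    (ψ : α → α → γ)
    (hψ : ∀ x y z, Φ x = Φ y → Φ x = Φ z → ψ x y = ψ x z → y = z) :
    Nat.card α ≤ Nat.card β * Nat.card γ := by
  classical
  rw [← Nat.card_prod]
  apply Nat.card_le_card_of_injective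
    (fun y => (Φ y, ψ (Set.rangeSplitting Φ ⟨Φ y, y, rfl⟩) y))
  intro y z h
  have h1 : Φ y = Φ z := congrArg Prod.fst h
  have h2 : ψ (Set.rangeSplitting Φ ⟨Φ y, y, rfl⟩) y = ψ (Set.rangeSplitting Φ ⟨Φ z, z, rfl⟩) z :=
    congrArg Prod.snd h
  have h3 : (⟨Φ z, z, rfl⟩ : Set.range Φ) = ⟨Φ y, y, rfl⟩ := Subtype.ext h1.symm
  rw [h3] at h2
  have h4 : Φ (Set.rangeSplitting Φ ⟨Φ y, y, rfl⟩) = Φ y :=
    Set.apply_rangeSplitting Φ ⟨Φ y, y, rfl⟩
  exact hψ _ y z h4 (h4.trans h1) h2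

/-- `|B| |D| ≤ |B ⊔ D| |B ⊓ D|`. -/
theorem card_mul_le {G : Type*} [Group G] [Finite G] (B D : Subgroup G) :
    Nat.card B * Nat.card D ≤ Nat.card ↥(B ⊔ D) * Nat.card ↥(B ⊓ D) := by
  have key : ∀ X : Subgroup G, X ≤ B ⊔ D → Nat.card X * X.relIndex (B ⊔ D) = Nat.card ↥(B ⊔ D) := by
    intro X hX
    have h1 := Subgroup.card_mul_index (X.subgroupOf (B ⊔ D))
    rw [Cfsg.Agent.S0003.card_subgroupOf_eq', inf_of_le_left hX] at h1
    exact h1
  have hb := key B le_sup_left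
  have hd := key D le_sup_right
  have hi := key (B ⊓ D) (inf_le_left.trans le_sup_left)
  have hle := Subgroup.relIndex_inf_le (H := B) (K := D) (L := B ⊔ D)
  have hs : 0 < Nat.card ↥(B ⊔ D) := Nat.card_pos
  have e1 : Nat.card ↥(B ⊔ D) * (Nat.card B * Nat.card D) ≤
      Nat.card ↥(B ⊔ D) * (Nat.card ↥(B ⊔ D) * Nat.card ↥(B ⊓ D)) := by
    calc Nat.card ↥(B ⊔ D) * (Nat.card B * Nat.card D)
        = (Nat.card ↥(B ⊓ D) * (B ⊓ D).relIndex (B ⊔ D)) * (Nat.card B * Nat.card D) := by rw [hi]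
      _ ≤ (Nat.card ↥(B ⊓ D) * (B.relIndex (B ⊔ D) * D.relIndex (B ⊔ D))) *
            (Nat.card B * Nat.card D) :=
          Nat.mul_le_mul_right _ (Nat.mul_le_mul_left _ hle)
      _ = Nat.card ↥(B ⊓ D) * ((Nat.card B * B.relIndex (B ⊔ D)) *
            (Nat.card D * D.relIndex (B ⊔ D))) := by ring
      _ = Nat.card ↥(B ⊔ D) * (Nat.card ↥(B ⊔ D) * Nat.card ↥(B ⊓ D)) := by rw [hb, hd]; ring
  exact Nat.le_of_mul_le_mul_left e1 hs

theorem cent_sup {G : Type*} [Group G] (X Y : Subgroup G) :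
    Subgroup.centralizer ((X ⊔ Y : Subgroup G) : Set G) =
      Subgroup.centralizer (X : Set G) ⊓ Subgroup.centralizer (Y : Set G) := by
  apply le_antisymm
  · exact le_inf (Subgroup.centralizer_le (show (X : Set G) ⊆ ((X ⊔ Y : Subgroup G) : Set G) from
      fun x hx => Subgroup.mem_sup_left hx))
      (Subgroup.centralizer_le (show (Y : Set G) ⊆ ((X ⊔ Y : Subgroup G) : Set G) from
      fun x hx => Subgroup.mem_sup_right hx))
  · intro g hg
    obtain ⟨hgX, hgY⟩ := Subgroup.mem_inf.1 hg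
    have hX : X ≤ Subgroup.centralizer {g} := fun x hx => by
      rw [Subgroup.mem_centralizer_iff]
      intro h hh
      rw [Set.mem_singleton_iff.1 hh]
      exact (Subgroup.mem_centralizer_iff.1 hgX x hx).symm
    have hY : Y ≤ Subgroup.centralizer {g} := fun x hx => by
      rw [Subgroup.mem_centralizer_iff]
      intro h hh
      rw [Set.mem_singleton_iff.1 hh]
      exact (Subgroup.mem_centralizer_iff.1 hgY x hx).symm
    rw [Subgroup.mem_centralizer_iff]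
    intro h hh
    exact (Subgroup.mem_centralizer_iff.1 ((sup_le hX hY) hh) g rfl).symm

/-- `C_V(B)`. -/
def cv {G : Type*} [Group G] (V B : Subgroup G) : Subgroup G :=
  V ⊓ Subgroup.centralizer (B : Set G)

theorem cv_anti {G : Type*} [Group G] (V : Subgroup G) {B D : Subgroup G} (h : B ≤ D) :
    cv V D ≤ cv V B :=
  inf_le_inf_left _ (Subgroup.centralizer_le h)

theorem cv_sup {G : Type*} [Group G] (V B D : Subgroup G) : cv V (B ⊔ D) = cv V B ⊓ cv V D := by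
  unfold cv
  rw [cent_sup, inf_inf_distrib_left]

theorem submod {G : Type*} [Group G] [Finite G] (V A B D : Subgroup G) (hB : B ≤ A) (hD : D ≤ A)
    (hbest : ∀ X : Subgroup G, X ≤ A →
      Nat.card X * Nat.card (cv V X) ≤ Nat.card A * Nat.card (cv V A))
    (hfB : Nat.card B * Nat.card (cv V B) = Nat.card A * Nat.card (cv V A))
    (hfD : Nat.card D * Nat.card (cv V D) = Nat.card A * Nat.card (cv V A)) :
    Nat.card ↥(B ⊓ D) * Nat.card (cv V (B ⊓ D)) = Nat.card A * Nat.card (cv V A) ∧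
      cv V (B ⊓ D) = cv V B ⊔ cv V D := by
  have h1 := card_mul_le B D
  have h2 := card_mul_le (cv V B) (cv V D)
  have hjle : cv V B ⊔ cv V D ≤ cv V (B ⊓ D) := sup_le (cv_anti V inf_le_left) (cv_anti V inf_le_right)
  have h3 : Nat.card ↥(cv V B ⊔ cv V D) ≤ Nat.card (cv V (B ⊓ D)) := Subgroup.card_le_of_le hjle
  have h4 : cv V B ⊓ cv V D = cv V (B ⊔ D) := (cv_sup V B D).symm
  rw [h4] at h2
  have hi := hbest (B ⊓ D) (inf_le_left.trans hB)
  have hs := hbest (B ⊔ D) (sup_le hB hD)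
  have hFpos : 0 < Nat.card A * Nat.card (cv V A) := Nat.mul_pos Nat.card_pos Nat.card_pos
  generalize Nat.card A * Nat.card (cv V A) = F at *
  generalize Nat.card B = b at *
  generalize Nat.card D = d at *
  generalize Nat.card ↥(B ⊔ D) = s at *
  generalize Nat.card ↥(B ⊓ D) = i at *
  generalize Nat.card (cv V B) = cb at *
  generalize Nat.card (cv V D) = cd at *
  generalize hcj : Nat.card ↥(cv V B ⊔ cv V D) = cj at *
  generalize hci : Nat.card (cv V (B ⊓ D)) = ci at *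
  generalize Nat.card (cv V (B ⊔ D)) = cs at *
  have e1 : F * F ≤ (s * i) * (cj * cs) := by
    calc F * F = (b * cb) * (d * cd) := by rw [hfB, hfD]
      _ = (b * d) * (cb * cd) := by ring
      _ ≤ (s * i) * (cj * cs) := Nat.mul_le_mul h1 h2
  have e2 : (s * i) * (cj * cs) ≤ (s * i) * (ci * cs) :=
    Nat.mul_le_mul_left _ (Nat.mul_le_mul_right _ h3)
  have e3 : (s * i) * (ci * cs) = (i * ci) * (s * cs) := by ring
  have e4 : (i * ci) * (s * cs) ≤ F * F := Nat.mul_le_mul hi hs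
  have hpos : 0 < (s * i) * (ci * cs) := lt_of_lt_of_le (Nat.mul_pos hFpos hFpos) (e1.trans e2)
  have hsi : 0 < s * i := Nat.pos_of_mul_pos_right hpos
  have hcics : 0 < ci * cs := Nat.pos_of_mul_pos_left hpos
  have hcs : 0 < cs := Nat.pos_of_mul_pos_left hcics
  have c1 : i * ci = F := by
    by_contra hne
    have hlt : i * ci < F := lt_of_le_of_ne hi hne
    have h5 : (i * ci) * (s * cs) < F * F :=
      calc (i * ci) * (s * cs) ≤ (i * ci) * F := Nat.mul_le_mul_left _ hs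
        _ < F * F := Nat.mul_lt_mul_of_pos_right hlt hFpos
    exact lt_irrefl _ (lt_of_le_of_lt (e1.trans (e2.trans e3.le)) h5)
  have c2 : cj * cs = ci * cs := by
    have h6 : (s * i) * (cj * cs) = (s * i) * (ci * cs) :=
      le_antisymm e2 (e3.le.trans (e4.trans e1))
    exact Nat.eq_of_mul_eq_mul_left hsi h6
  have c3 : cj = ci := Nat.eq_of_mul_eq_mul_right hcs c2
  refine ⟨c1, ?_⟩
  exact (Subgroup.eq_of_le_of_card_ge hjle (by rw [hcj, hci, c3])).symm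

theorem key_cyclic {G : Type*} [Group G] (V A : Subgroup G)
    (hVc : ∀ v ∈ V, ∀ w ∈ V, v * w = w * v) (hAV : A ≤ Subgroup.normalizer (V : Set G))
    (hab : ⁅A, A⁆ ≤ Subgroup.centralizer (V : Set G)) (u : G) (hu : u ∈ V) (a b : G) (ha : a ∈ A)
    (hb : b ∈ A) (x : G) (hx : x ∈ V ⊓ Subgroup.centralizer (A : Set G))
    (hxe : b * u * b⁻¹ = x * (a * u * a⁻¹)) :
    a⁻¹ * b ∈ Subgroup.centralizer ((⁅Subgroup.zpowers u, A⁆ : Subgroup G) : Set G) := by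
  obtain ⟨hxV, hxA⟩ := Subgroup.mem_inf.1 hx
  have hxcomm : ∀ e ∈ A, e * x = x * e := fun e he => Subgroup.mem_centralizer_iff.1 hxA e he
  have hconjV : ∀ e ∈ A, ∀ v ∈ V, e * v * e⁻¹ ∈ V := fun e he v hv =>
    (Subgroup.mem_normalizer_iff.1 (hAV he) v).1 hv
  have hF2 : ∀ c ∈ A, ∀ e ∈ A, ∀ v ∈ V, c * (e * v * e⁻¹) * c⁻¹ = e * (c * v * c⁻¹) * e⁻¹ := by
    intro c hc e he v hv
    have hm : ⁅c⁻¹, e⁻¹⁆ ∈ Subgroup.centralizer (V : Set G) :=
      hab (Subgroup.commutator_mem_commutator (A.inv_mem hc) (A.inv_mem he))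
    have h1 := Subgroup.mem_centralizer_iff.1 hm v hv
    rw [commutatorElement_def] at h1
    calc c * (e * v * e⁻¹) * c⁻¹
        = e * c * ((c⁻¹ * e⁻¹ * c⁻¹⁻¹ * e⁻¹⁻¹) * v) * e⁻¹ * c⁻¹ := by group
      _ = e * c * (v * (c⁻¹ * e⁻¹ * c⁻¹⁻¹ * e⁻¹⁻¹)) * e⁻¹ * c⁻¹ := by rw [← h1]
      _ = e * (c * v * c⁻¹) * e⁻¹ := by group
  have hcA : a⁻¹ * b ∈ A := A.mul_mem (A.inv_mem ha) hb
  have h1 : (a⁻¹ * b) * u * (a⁻¹ * b)⁻¹ = x * u := by
    calc (a⁻¹ * b) * u * (a⁻¹ * b)⁻¹ = a⁻¹ * (b * u * b⁻¹) * a := by group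
      _ = a⁻¹ * (x * (a * u * a⁻¹)) * a := by rw [hxe]
      _ = a⁻¹ * (x * a) * u := by group
      _ = a⁻¹ * (a * x) * u := by rw [hxcomm a ha]
      _ = x * u := by group
  have hxu : Commute x u := hVc x hxV u hu
  have h2 : ∀ k : ℤ, (a⁻¹ * b) * u ^ k * (a⁻¹ * b)⁻¹ = x ^ k * u ^ k := by
    intro k
    rw [← conj_zpow, h1, hxu.mul_zpow]
  have hxk : ∀ k : ℤ, ∀ e ∈ A, e * x ^ k = x ^ k * e := fun k e he =>
    (Commute.zpow_right (show Commute e x from hxcomm e he) k)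
  have h3 : ∀ k : ℤ, ∀ e ∈ A,
      (a⁻¹ * b) * (e * u ^ k * e⁻¹) * (a⁻¹ * b)⁻¹ = x ^ k * (e * u ^ k * e⁻¹) := by
    intro k e he
    rw [hF2 _ hcA e he _ (V.zpow_mem hu k), h2 k]
    calc e * (x ^ k * u ^ k) * e⁻¹ = (e * x ^ k) * u ^ k * e⁻¹ := by group
      _ = x ^ k * e * u ^ k * e⁻¹ := by rw [hxk k e he]
      _ = x ^ k * (e * u ^ k * e⁻¹) := by group
  have hW : ⁅Subgroup.zpowers u, A⁆ ≤ Subgroup.centralizer {a⁻¹ * b} := by
    rw [Subgroup.commutator_le]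
    intro g₁ h₁ e he
    obtain ⟨k, rfl⟩ := Subgroup.mem_zpowers_iff.1 h₁
    rw [Subgroup.mem_centralizer_iff]
    intro h hh
    rw [Set.mem_singleton_iff.1 hh]
    have hv1 : u ^ k ∈ V := V.zpow_mem hu k
    have hv2 : e * u ^ k * e⁻¹ ∈ V := hconjV e he _ hv1
    have hxkV : x ^ k ∈ V := V.zpow_mem hxV k
    have e1 : ⁅u ^ k, e⁆ = u ^ k * (e * u ^ k * e⁻¹)⁻¹ := by rw [commutatorElement_def]; group
    have e2 : (a⁻¹ * b) * ⁅u ^ k, e⁆ * (a⁻¹ * b)⁻¹ = ⁅u ^ k, e⁆ := by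
      rw [e1]
      calc (a⁻¹ * b) * (u ^ k * (e * u ^ k * e⁻¹)⁻¹) * (a⁻¹ * b)⁻¹
          = ((a⁻¹ * b) * u ^ k * (a⁻¹ * b)⁻¹) *
              ((a⁻¹ * b) * (e * u ^ k * e⁻¹) * (a⁻¹ * b)⁻¹)⁻¹ := by group
        _ = (x ^ k * u ^ k) * (x ^ k * (e * u ^ k * e⁻¹))⁻¹ := by rw [h2, h3 k e he]
        _ = x ^ k * (u ^ k * (e * u ^ k * e⁻¹)⁻¹) * (x ^ k)⁻¹ := by group
        _ = (u ^ k * (e * u ^ k * e⁻¹)⁻¹) * x ^ k * (x ^ k)⁻¹ := by
            rw [hVc (x ^ k) hxkV _ (V.mul_mem hv1 (V.inv_mem hv2))]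
        _ = u ^ k * (e * u ^ k * e⁻¹)⁻¹ := by group
    calc (a⁻¹ * b) * ⁅u ^ k, e⁆ = ((a⁻¹ * b) * ⁅u ^ k, e⁆ * (a⁻¹ * b)⁻¹) * (a⁻¹ * b) := by group
      _ = ⁅u ^ k, e⁆ * (a⁻¹ * b) := by rw [e2]
  rw [Subgroup.mem_centralizer_iff]
  intro w hw
  exact (Subgroup.mem_centralizer_iff.1 (hW hw) _ rfl).symm

theorem cyclic_card {G : Type*} [Group G] [Finite G] (V A : Subgroup G)
    (hVc : ∀ v ∈ V, ∀ w ∈ V, v * w = w * v) (hAV : A ≤ Subgroup.normalizer (V : Set G))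
    (hab : ⁅A, A⁆ ≤ Subgroup.centralizer (V : Set G)) (u : G) (hu : u ∈ V) :
    Nat.card A * Nat.card (cv V A) ≤
      Nat.card ↥(A ⊓ Subgroup.centralizer ((⁅Subgroup.zpowers u, A⁆ : Subgroup G) : Set G)) *
        Nat.card ↥(⁅Subgroup.zpowers u, A⁆ ⊔ cv V A) := by
  classical
  rw [← Nat.card_prod, mul_comm]
  let Φ : ↥A × ↥(cv V A) → ↥(⁅Subgroup.zpowers u, A⁆ ⊔ cv V A) := fun x =>
    ⟨⁅u, (x.1 : G)⁆ * (x.2 : G), Subgroup.mul_mem _ (Subgroup.mem_sup_left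
      (Subgroup.commutator_mem_commutator (Subgroup.mem_zpowers u) x.1.2))
      (Subgroup.mem_sup_right x.2.2)⟩
  let ψ : ↥A × ↥(cv V A) → ↥A × ↥(cv V A) →
      ↥(A ⊓ Subgroup.centralizer ((⁅Subgroup.zpowers u, A⁆ : Subgroup G) : Set G)) := fun x y =>
    if h : (x.1 : G)⁻¹ * (y.1 : G) ∈
        A ⊓ Subgroup.centralizer ((⁅Subgroup.zpowers u, A⁆ : Subgroup G) : Set G)
    then ⟨_, h⟩ else 1
  have hmem : ∀ x y : ↥A × ↥(cv V A), Φ x = Φ y → (x.1 : G)⁻¹ * (y.1 : G) ∈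
        A ⊓ Subgroup.centralizer ((⁅Subgroup.zpowers u, A⁆ : Subgroup G) : Set G) := by
    intro x y hxy
    have h : ⁅u, (x.1 : G)⁆ * (x.2 : G) = ⁅u, (y.1 : G)⁆ * (y.2 : G) := congrArg Subtype.val hxy
    refine Subgroup.mem_inf.2 ⟨A.mul_mem (A.inv_mem x.1.2) y.1.2, ?_⟩
    apply key_cyclic V A hVc hAV hab u hu _ _ x.1.2 y.1.2 ((y.2 : G) * (x.2 : G)⁻¹)
      (Subgroup.mul_mem _ y.2.2 (Subgroup.inv_mem _ x.2.2))
    have hz' : (y.2 : G) = ⁅u, (y.1 : G)⁆⁻¹ * (⁅u, (x.1 : G)⁆ * (x.2 : G)) := by rw [h]; group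
    calc (y.1 : G) * u * (y.1 : G)⁻¹
        = (⁅u, (y.1 : G)⁆⁻¹ * (⁅u, (x.1 : G)⁆ * (x.2 : G))) * (x.2 : G)⁻¹ *
            ((x.1 : G) * u * (x.1 : G)⁻¹) := by
          rw [commutatorElement_def, commutatorElement_def]; group
      _ = (y.2 : G) * (x.2 : G)⁻¹ * ((x.1 : G) * u * (x.1 : G)⁻¹) := by rw [← hz']
  apply card_le_of_fibers Φ ψ
  intro x y z hxy hxz hψ
  have h1 := hmem x y hxy
  have h2 := hmem x z hxz
  simp only [ψ, dif_pos h1, dif_pos h2] at hψ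
  have h3 : (x.1 : G)⁻¹ * (y.1 : G) = (x.1 : G)⁻¹ * (z.1 : G) := congrArg Subtype.val hψ
  have h4 : (y.1 : G) = (z.1 : G) := mul_left_cancel h3
  have h5 : ⁅u, (y.1 : G)⁆ * (y.2 : G) = ⁅u, (z.1 : G)⁆ * (z.2 : G) :=
    congrArg Subtype.val (hxy.symm.trans hxz)
  rw [h4] at h5
  have h6 : (y.2 : G) = (z.2 : G) := mul_left_cancel h5
  exact Prod.ext (Subtype.ext h4) (Subtype.ext h6)

theorem main {G : Type*} [Group G] [Finite G] (V A : Subgroup G)
    (hVc : ∀ v ∈ V, ∀ w ∈ V, v * w = w * v) (hAV : A ≤ Subgroup.normalizer (V : Set G))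
    (hab : ⁅A, A⁆ ≤ Subgroup.centralizer (V : Set G))
    (hbest : ∀ X : Subgroup G, X ≤ A →
      Nat.card X * Nat.card (cv V X) ≤ Nat.card A * Nat.card (cv V A))
    (U : Subgroup G) (hU : U ≤ V) :
    Nat.card ↥(A ⊓ Subgroup.centralizer ((⁅U, A⁆ : Subgroup G) : Set G)) *
        Nat.card (cv V (A ⊓ Subgroup.centralizer ((⁅U, A⁆ : Subgroup G) : Set G))) =
      Nat.card A * Nat.card (cv V A) ∧
    cv V (A ⊓ Subgroup.centralizer ((⁅U, A⁆ : Subgroup G) : Set G)) = ⁅U, A⁆ ⊔ cv V A := by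
  classical
  -- the cyclic case
  have hcyc : ∀ u ∈ V,
      Nat.card ↥(A ⊓ Subgroup.centralizer ((⁅Subgroup.zpowers u, A⁆ : Subgroup G) : Set G)) *
        Nat.card (cv V (A ⊓ Subgroup.centralizer ((⁅Subgroup.zpowers u, A⁆ : Subgroup G) : Set G)))
        = Nat.card A * Nat.card (cv V A) ∧
      cv V (A ⊓ Subgroup.centralizer ((⁅Subgroup.zpowers u, A⁆ : Subgroup G) : Set G)) =
        ⁅Subgroup.zpowers u, A⁆ ⊔ cv V A := by
    intro u hu
    have h1 := cyclic_card V A hVc hAV hab u hu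
    have hWV : ⁅Subgroup.zpowers u, A⁆ ≤ V := by
      rw [Subgroup.commutator_le]
      intro g₁ h₁ e he
      have hg : g₁ ∈ V := (Subgroup.zpowers_le.2 hu) h₁
      rw [commutatorElement_def]
      have h1 : e * g₁⁻¹ * e⁻¹ ∈ V := (Subgroup.mem_normalizer_iff.1 (hAV he) _).1 (V.inv_mem hg)
      have e2 : g₁ * e * g₁⁻¹ * e⁻¹ = g₁ * (e * g₁⁻¹ * e⁻¹) := by group
      rw [e2]
      exact V.mul_mem hg h1
    have h2 : ⁅Subgroup.zpowers u, A⁆ ⊔ cv V A ≤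
        cv V (A ⊓ Subgroup.centralizer ((⁅Subgroup.zpowers u, A⁆ : Subgroup G) : Set G)) := by
      apply sup_le
      · exact le_inf hWV (Subgroup.le_centralizer_iff.1 inf_le_right)
      · exact cv_anti V inf_le_left
    have h3 := hbest _ (inf_le_left :
      A ⊓ Subgroup.centralizer ((⁅Subgroup.zpowers u, A⁆ : Subgroup G) : Set G) ≤ A)
    have h4 := Subgroup.card_le_of_le h2
    have hBpos : 0 < Nat.card
        ↥(A ⊓ Subgroup.centralizer ((⁅Subgroup.zpowers u, A⁆ : Subgroup G) : Set G)) :=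
      Nat.card_pos
    have h5 := Nat.mul_le_mul_left (Nat.card
        ↥(A ⊓ Subgroup.centralizer ((⁅Subgroup.zpowers u, A⁆ : Subgroup G) : Set G))) h4
    refine ⟨le_antisymm h3 (h1.trans h5), ?_⟩
    have h6 : Nat.card
        ↥(A ⊓ Subgroup.centralizer ((⁅Subgroup.zpowers u, A⁆ : Subgroup G) : Set G)) *
          Nat.card (cv V (A ⊓ Subgroup.centralizer ((⁅Subgroup.zpowers u, A⁆ : Subgroup G) : Set G)))
        ≤ Nat.card
        ↥(A ⊓ Subgroup.centralizer ((⁅Subgroup.zpowers u, A⁆ : Subgroup G) : Set G)) *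
          Nat.card ↥(⁅Subgroup.zpowers u, A⁆ ⊔ cv V A) := h3.trans h1
    exact (Subgroup.eq_of_le_of_card_ge h2 (Nat.le_of_mul_le_mul_left h6 hBpos)).symm
  -- finset induction
  have hfin : ∀ s : Finset G, (∀ u ∈ s, u ∈ V) →
      Nat.card ↥(A ⊓ Subgroup.centralizer
          ((s.sup (fun u => ⁅Subgroup.zpowers u, A⁆) : Subgroup G) : Set G)) *
        Nat.card (cv V (A ⊓ Subgroup.centralizer
          ((s.sup (fun u => ⁅Subgroup.zpowers u, A⁆) : Subgroup G) : Set G)))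
        = Nat.card A * Nat.card (cv V A) ∧
      cv V (A ⊓ Subgroup.centralizer
          ((s.sup (fun u => ⁅Subgroup.zpowers u, A⁆) : Subgroup G) : Set G)) =
        s.sup (fun u => ⁅Subgroup.zpowers u, A⁆) ⊔ cv V A := by
    intro s
    induction s using Finset.induction_on with
    | empty =>
      intro _
      rw [Finset.sup_empty]
      have e : A ⊓ Subgroup.centralizer (((⊥ : Subgroup G)) : Set G) = A := by
        apply le_antisymm inf_le_left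
        refine le_inf le_rfl (fun a _ => ?_)
        rw [Subgroup.mem_centralizer_iff]
        intro h hh
        rw [Subgroup.mem_bot.1 hh, one_mul, mul_one]
      rw [e, bot_sup_eq]
      exact ⟨rfl, rfl⟩
    | insert u s hus ih =>
      intro hs
      obtain ⟨ih1, ih2⟩ := ih (fun v hv => hs v (Finset.mem_insert_of_mem hv))
      obtain ⟨hc1, hc2⟩ := hcyc u (hs u (Finset.mem_insert_self u s))
      rw [Finset.sup_insert]
      have e : A ⊓ Subgroup.centralizer ((⁅Subgroup.zpowers u, A⁆ ⊔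
          s.sup (fun u => ⁅Subgroup.zpowers u, A⁆) : Subgroup G) : Set G) =
          (A ⊓ Subgroup.centralizer ((⁅Subgroup.zpowers u, A⁆ : Subgroup G) : Set G)) ⊓
          (A ⊓ Subgroup.centralizer
            ((s.sup (fun u => ⁅Subgroup.zpowers u, A⁆) : Subgroup G) : Set G)) := by
        rw [cent_sup, inf_inf_distrib_left]
      rw [e]
      obtain ⟨r1, r2⟩ := submod V A _ _ inf_le_left inf_le_left hbest hc1 ih1
      refine ⟨r1, ?_⟩
      rw [r2, hc2, ih2, sup_sup_sup_comm, sup_idem]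
  have hUfin : (Set.toFinite (U : Set G)).toFinset.sup (fun u => ⁅Subgroup.zpowers u, A⁆) =
      ⁅U, A⁆ := by
    apply le_antisymm
    · apply Finset.sup_le
      intro u hu
      exact Subgroup.commutator_mono
        (Subgroup.zpowers_le.2 ((Set.Finite.mem_toFinset _).1 hu)) le_rfl
    · rw [Subgroup.commutator_le]
      intro g₁ h₁ g₂ h₂
      have hmem : g₁ ∈ (Set.toFinite (U : Set G)).toFinset := (Set.Finite.mem_toFinset _).2 h₁
      exact (Finset.le_sup (f := fun u => ⁅Subgroup.zpowers u, A⁆) hmem)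
        (Subgroup.commutator_mem_commutator (Subgroup.mem_zpowers g₁) h₂)
  have := hfin (Set.toFinite (U : Set G)).toFinset
    (fun u hu => hU ((Set.Finite.mem_toFinset _).1 hu))
  rw [hUfin] at this
  exact this

theorem result {G : Type*} [Group G] [Finite G] {p : ℕ} [Fact p.Prime] (V A : Subgroup G) (hV : Cfsg.IsElementaryAbelian p V) (hAV : A ≤ Subgroup.normalizer (V : Set G)) (hab : ⁅A, A⁆ ≤ Subgroup.centralizer (V : Set G)) (U : Subgroup G) (hU : U ≤ V) : ∃ B : Subgroup G, B ≤ A ∧ ((Nat.card A * Nat.card ↥(V ⊓ Subgroup.centralizer (A : Set G)) < Nat.card B * Nat.card ↥(V ⊓ Subgroup.centralizer (B : Set G))) ∨ (B = A ⊓ Subgroup.centralizer ((⁅U, A⁆ : Subgroup G) : Set G) ∧ (V ⊓ Subgroup.centralizer (B : Set G)) = ⁅U, A⁆ ⊔ (V ⊓ Subgroup.centralizer (A : Set G)) ∧ Nat.card A * Nat.card ↥(V ⊓ Subgroup.centralizer (A : Set G)) = Nat.card B * Nat.card ↥(V ⊓ Subgroup.centralizer (B : Set G)))) := by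
  have hVc : ∀ v ∈ V, ∀ w ∈ V, v * w = w * v := by
    haveI := hV.1
    exact fun v hv w hw => setLike_mul_comm hv hw
  by_cases hbest : ∀ X : Subgroup G, X ≤ A →
      Nat.card X * Nat.card (cv V X) ≤ Nat.card A * Nat.card (cv V A)
  · obtain ⟨h1, h2⟩ := main V A hVc hAV hab hbest U hU
    exact ⟨_, inf_le_left, Or.inr ⟨rfl, h2, h1.symm⟩⟩
  · have hex : ∃ X : Subgroup G, X ≤ A ∧
        ¬ Nat.card X * Nat.card (cv V X) ≤ Nat.card A * Nat.card (cv V A) := by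
      by_contra hcon
      exact hbest (fun X hX => by_contra (fun h => hcon ⟨X, hX, h⟩))
    obtain ⟨X, hXA, hX⟩ := hex
    exact ⟨X, hXA, Or.inl (not_le.1 hX)⟩

end Cfsg.Agent.S0598
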