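import Mathlib
import Cfsg.Statements.S0057
import Cfsg.Agent.S0003
import Cfsg.Agent.S0023
import Cfsg.Agent.S0027
import Cfsg.Agent.S0055
import Cfsg.Agent.S0598

set_option autoImplicit false
open Pointwise
open Cfsg
open scoped commutatorElement

namespace Cfsg.Agent.S0057

/-- If `H ≤ T` and the `L`-cosets in `H` are as many as those in `T`, then `T ⊆ H L`. -/
theorem prod_of_card {G : Type*} [Group G] [Finite G] (H L T : Subgroup G) (hH : H ≤ T)
    (hidx : L.relIndex T ≤ L.relIndex H) (t : G) (ht : t ∈ T) :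
    ∃ h ∈ H, ∃ l ∈ L, t = h * l := by
  have hinj := (Subgroup.quotientSubgroupOfEmbeddingOfLE L hH).injective
  have hbij := hinj.bijective_of_nat_card_le hidx
  obtain ⟨q, hq⟩ := hbij.2 (QuotientGroup.mk ⟨t, ht⟩)
  induction q using QuotientGroup.induction_on with
  | H h =>
    rw [Subgroup.quotientSubgroupOfEmbeddingOfLE_apply_mk, QuotientGroup.eq,
      Subgroup.mem_subgroupOf] at hq
    refine ⟨h, h.2, _, hq, ?_⟩
    simp

theorem relIndex_le_of_le {G : Type*} [Group G] [Finite G] (H L T : Subgroup G) (hH : H ≤ T) :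
    L.relIndex H ≤ L.relIndex T :=
  Nat.card_le_card_of_injective _ (Subgroup.quotientSubgroupOfEmbeddingOfLE L hH).injective

theorem card_mul_relIndex {G : Type*} [Group G] (X Y : Subgroup G) (h : X ≤ Y) :
    Nat.card X * X.relIndex Y = Nat.card Y := by
  have h1 := Subgroup.card_mul_index (X.subgroupOf Y)
  rw [S0003.card_subgroupOf_eq', inf_of_le_left h] at h1
  exact h1

theorem result {G : Type*} [Group G] [Finite G] (A K : Subgroup G) (hAK : A ≤ Subgroup.normalizer (K : Set G))
    (hcop : (Nat.card A).Coprime (Nat.card K)) (hsolv : Group.IsSolvable A ∨ Group.IsSolvable K)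
    (p : ℕ) (hp : p.Prime) (hidx : (K ⊓ Subgroup.centralizer (A : Set G)).relIndex K = p) :
    Nat.card (⁅K, A⁆ : Subgroup G) = p := by
  haveI : Fact p.Prime := ⟨hp⟩
  set Z := Subgroup.centralizer (A : Set G) with hZ
  set C := K ⊓ Z with hC
  obtain ⟨P₀, hP₀⟩ := S0023.result A K hAK hcop hsolv p
  set P : Subgroup G := (P₀ : Subgroup K).map K.subtype with hP
  have hPK : P ≤ K := by
    rintro _ ⟨x, -, rfl⟩; exact x.2
  have cP₀ : Nat.card P = Nat.card (P₀ : Subgroup K) :=
    Subgroup.card_map_of_injective (Subgroup.subtype_injective K)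
  have hPp : IsPGroup p P := by
    obtain ⟨n, hn⟩ := IsPGroup.iff_card.1 P₀.isPGroup'
    exact IsPGroup.of_card (cP₀.trans hn)
  obtain ⟨k, hk⟩ := IsPGroup.iff_card.1 hPp
  have cK : Nat.card C * p = Nat.card K := by
    rw [← hidx]; exact card_mul_relIndex C K inf_le_left
  -- P is not contained in C
  have hPC : ¬ P ≤ C := by
    intro hle
    obtain ⟨m, hm⟩ := Subgroup.card_dvd_of_le hle
    have h1 := Subgroup.card_mul_index (P₀ : Subgroup K)
    rw [← cP₀, ← cK, hm] at h1
    have h2 : (P₀ : Subgroup K).index = m * p := by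
      have : Nat.card P * (P₀ : Subgroup K).index = Nat.card P * (m * p) := by
        rw [h1]; ring
      exact Nat.eq_of_mul_eq_mul_left Nat.card_pos this
    exact P₀.not_dvd_index (h2 ▸ Dvd.intro_left m rfl)
  set D := P ⊓ Z with hD
  have hDC : D = P ⊓ C := by
    rw [hD, hC, ← inf_assoc, inf_of_le_left hPK]
  have hDP : D ≤ P := inf_le_left
  have hDne : D ≠ P := by
    intro h
    apply hPC
    rw [← h, hDC]; exact inf_le_right
  -- index of D in P is p
  have hDidx : D.relIndex P = p := by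
    have h1 : D.relIndex P ≤ p := by
      rw [hDC, Subgroup.inf_relIndex_left, ← hidx]
      exact relIndex_le_of_le P C K hPK
    have h2 : D.relIndex P ∣ p ^ k := by
      rw [← hk]; exact Dvd.intro_left _ (card_mul_relIndex D P hDP)
    obtain ⟨j, -, hj⟩ := (Nat.dvd_prime_pow hp).1 h2
    have h3 : D.relIndex P ≠ 1 := by
      intro h
      rw [Subgroup.relIndex_eq_one] at h
      exact hDne (le_antisymm hDP h)
    rcases j with _ | j
    · rw [hj] at h3; simp at h3
    · have : p ^ (j + 1) ≤ p := hj ▸ h1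
      have h4 : p ≤ p ^ (j + 1) := Nat.le_self_pow (by omega) p
      rw [hj]; omega
  have cPD : Nat.card D * p = Nat.card P := by
    rw [← hDidx]; exact card_mul_relIndex D P hDP
  have hk0 : k ≠ 0 := by
    rintro rfl
    rw [pow_zero] at hk
    have : Nat.card D * p = 1 := by rw [cPD, hk]
    have := Nat.eq_one_of_mul_eq_one_left this
    exact hp.one_lt.ne' this
  -- D is normal in P
  have hDn : P ≤ Subgroup.normalizer (D : Set G) := by
    rw [← Subgroup.normal_subgroupOf_iff_le_normalizer hDP]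
    apply Subgroup.normal_of_index_eq_minFac_card
    rw [hk, Nat.Prime.pow_minFac hp hk0]
    exact hDidx
  -- A normalizes P
  have hAP : A ≤ Subgroup.normalizer (P : Set G) := hP₀
  have hcopP : (Nat.card A).Coprime (Nat.card P) :=
    Nat.Coprime.coprime_dvd_right (Subgroup.card_dvd_of_le hPK) hcop
  have hsolvP : Group.IsSolvable P := by
    haveI := hPp.isNilpotent
    infer_instance
  set R := ⁅P, A⁆ with hR
  have hRP : R ≤ P := by
    rw [hR, Subgroup.commutator_le]
    intro x hx a ha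
    have h1 : a * x⁻¹ * a⁻¹ ∈ P := by
      have := hAP ha
      rw [Subgroup.mem_normalizer_iff] at this
      exact (this x⁻¹).1 (P.inv_mem hx)
    have : ⁅x, a⁆ = x * (a * x⁻¹ * a⁻¹) := by rw [commutatorElement_def]; group
    rw [this]; exact P.mul_mem hx h1
  have hRR : ⁅R, A⁆ = R := S0027.result A P hAP hcopP (Or.inr hsolvP)
  have hDA : ⁅D, A⁆ = ⊥ := by
    rw [Subgroup.commutator_eq_bot_iff_le_centralizer]; exact inf_le_right
  have hRD : ⁅R, D⁆ = ⊥ := by
    apply Subgroup.commutator_commutator_eq_bot_of_rotate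
    · rw [Subgroup.commutator_comm A D, hDA]
      exact Subgroup.commutator_eq_bot_iff_le_centralizer.2 (by simp)
    · have h1 : ⁅D, P⁆ ≤ D := by
        rw [Subgroup.commutator_le]
        intro d hd x hx
        have h2 : x * d⁻¹ * x⁻¹ ∈ D := by
          have := hDn hx
          rw [Subgroup.mem_normalizer_iff] at this
          exact (this d⁻¹).1 (D.inv_mem hd)
        have : ⁅d, x⁆ = d * (x * d⁻¹ * x⁻¹) := by rw [commutatorElement_def]; group
        rw [this]; exact D.mul_mem hd h2
      exact le_bot_iff.1 (hDA ▸ Subgroup.commutator_mono h1 le_rfl)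
  have hRcD : ∀ r ∈ R, ∀ d ∈ D, Commute r d := by
    intro r hr d hd
    have := Subgroup.commutator_eq_bot_iff_le_centralizer.1 hRD hr
    rw [Subgroup.mem_centralizer_iff] at this
    exact (this d hd).symm
  -- R is not inside D
  have hRnD : ¬ R ≤ D := by
    intro hle
    have h1 : R = ⊥ := by
      rw [← hRR]
      exact le_bot_iff.1 (hDA ▸ Subgroup.commutator_mono hle le_rfl)
    have h2 : P ≤ Z := Subgroup.commutator_eq_bot_iff_le_centralizer.1 h1
    exact hDne (le_antisymm hDP (le_inf le_rfl h2))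
  obtain ⟨y, hyR, hyD⟩ := SetLike.not_le_iff_exists.1 hRnD
  -- every element of P is y^i * d
  haveI hDnorm : (D.subgroupOf P).Normal :=
    (Subgroup.normal_subgroupOf_iff_le_normalizer hDP).2 hDn
  have cQ : Nat.card (↥P ⧸ D.subgroupOf P) = p := hDidx
  have hdec : ∀ r ∈ P, ∃ i : ℤ, y ^ (-i) * r ∈ D := by
    intro r hr
    have hy1 : (QuotientGroup.mk ⟨y, hRP hyR⟩ : ↥P ⧸ D.subgroupOf P) ≠ 1 := by
      intro h
      rw [QuotientGroup.eq_one_iff, Subgroup.mem_subgroupOf] at h
      exact hyD h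
    have := mem_zpowers_of_prime_card cQ hy1
      (g' := (QuotientGroup.mk ⟨r, hr⟩ : ↥P ⧸ D.subgroupOf P))
    obtain ⟨i, hi⟩ := Subgroup.mem_zpowers_iff.1 this
    refine ⟨i, ?_⟩
    have h2 : (QuotientGroup.mk ((⟨y, hRP hyR⟩ : P) ^ i) : ↥P ⧸ D.subgroupOf P) =
        QuotientGroup.mk ⟨r, hr⟩ := by
      rw [QuotientGroup.mk_zpow]; exact hi
    rw [QuotientGroup.eq, Subgroup.mem_subgroupOf] at h2
    simpa [zpow_neg] using h2
  -- R is abelian
  have hRab : ∀ r₁ ∈ R, ∀ r₂ ∈ R, r₁ * r₂ = r₂ * r₁ := by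
    intro r₁ h₁ r₂ h₂
    obtain ⟨i, hi⟩ := hdec r₁ (hRP h₁)
    obtain ⟨j, hj⟩ := hdec r₂ (hRP h₂)
    have hyi : y ^ i ∈ R := R.zpow_mem hyR i
    have hyj : y ^ j ∈ R := R.zpow_mem hyR j
    have e1 : r₁ = y ^ i * (y ^ (-i) * r₁) := by group
    have e2 : r₂ = y ^ j * (y ^ (-j) * r₂) := by group
    have he1R : y ^ (-i) * r₁ ∈ R := R.mul_mem (R.zpow_mem hyR _) h₁
    have he2R : y ^ (-j) * r₂ ∈ R := R.mul_mem (R.zpow_mem hyR _) h₂
    have c1 : Commute (y ^ i) (y ^ j) := (Commute.refl y).zpow_zpow i j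
    have c2 : Commute (y ^ i) (y ^ (-j) * r₂) := hRcD _ hyi _ hj
    have c3 : Commute (y ^ (-i) * r₁) (y ^ j) := (hRcD _ hyj _ hi).symm
    have c4 : Commute (y ^ (-i) * r₁) (y ^ (-j) * r₂) := (hRcD _ he2R _ hi).symm
    have := (c1.mul_right c2).mul_left (c3.mul_right c4)
    rw [← e1, ← e2] at this
    exact this
  haveI : IsMulCommutative R := IsMulCommutative.of_setLike_mul_comm hRab
  have hAR : A ≤ Subgroup.normalizer (R : Set G) := by
    intro a ha
    rw [Subgroup.mem_normalizer_iff]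
    have key : ∀ b ∈ A, ∀ r ∈ R, b * r * b⁻¹ ∈ R := by
      intro b hb r hr
      have h1 : ⁅r, b⁆ ∈ R := by
        rw [← hRR]; exact Subgroup.commutator_mem_commutator hr hb
      have e : b * r * b⁻¹ = ⁅r, b⁆⁻¹ * r := by
        rw [commutatorElement_def]; group
      rw [e]; exact R.mul_mem (R.inv_mem h1) hr
    intro r
    constructor
    · exact key a ha r
    · intro h
      have := key a⁻¹ (A.inv_mem ha) _ h
      have e : a⁻¹ * (a * r * a⁻¹) * a⁻¹⁻¹ = r := by group
      rwa [e] at this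
  have hcopR : (Nat.card A).Coprime (Nat.card R) :=
    Nat.Coprime.coprime_dvd_right (Subgroup.card_dvd_of_le hRP) hcopP
  have h55 := (S0055.result A R hAR hcopR).1
  have h56 : R ⊓ Z = ⊥ := by
    have := h55
    rw [hRR] at this
    rwa [inf_of_le_left inf_le_left] at this
  have hRDbot : R ⊓ D = ⊥ := le_bot_iff.1 (h56 ▸ inf_le_inf_left R (inf_le_right : D ≤ Z))
  have cR1 : Nat.card R ≤ p := by
    have h1 := S0598.card_mul_le R D
    rw [hRDbot, Subgroup.card_bot, mul_one] at h1
    have h2 : Nat.card ↥(R ⊔ D) ≤ Nat.card P := Subgroup.card_le_of_le (sup_le hRP hDP)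
    have h3 : Nat.card R * Nat.card D ≤ p * Nat.card D := by
      calc Nat.card R * Nat.card D ≤ Nat.card ↥(R ⊔ D) := h1
        _ ≤ Nat.card P := h2
        _ = p * Nat.card D := by rw [← cPD]; ring
    exact Nat.le_of_mul_le_mul_right h3 Nat.card_pos
  have cR : Nat.card R = p := by
    have h2 : Nat.card R ∣ p ^ k := hk ▸ Subgroup.card_dvd_of_le hRP
    obtain ⟨j, -, hj⟩ := (Nat.dvd_prime_pow hp).1 h2
    have h3 : Nat.card R ≠ 1 := by
      intro h
      rw [Subgroup.card_eq_one] at h
      exact hRnD (h ▸ bot_le)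
    rcases j with _ | j
    · rw [hj] at h3; simp at h3
    · have : p ^ (j + 1) ≤ p := hj ▸ cR1
      have h4 : p ≤ p ^ (j + 1) := Nat.le_self_pow (by omega) p
      rw [hj]; omega
  have hKA : ⁅K, A⁆ = R := by
    apply le_antisymm
    · rw [Subgroup.commutator_le]
      intro x hx a ha
      have hle : C.relIndex K ≤ C.relIndex P := by
        rw [hidx, ← Subgroup.inf_relIndex_left, ← hDC, hDidx]
      obtain ⟨h, hh, c, hc, rfl⟩ := prod_of_card P C K hPK hle x hx
      have hca : a * c = c * a := by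
        have h0 : c ∈ Subgroup.centralizer (A : Set G) := hc.2
        rw [Subgroup.mem_centralizer_iff] at h0
        exact h0 a ha
      have e : ⁅h * c, a⁆ = ⁅h, a⁆ := by
        rw [commutatorElement_def, commutatorElement_def]
        have : h * c * a * (h * c)⁻¹ * a⁻¹ = h * (c * a) * c⁻¹ * h⁻¹ * a⁻¹ := by group
        rw [this, ← hca]; group
      rw [e]
      exact Subgroup.commutator_mem_commutator hh ha
    · exact Subgroup.commutator_mono hPK le_rfl
  rw [hKA]
  exact cR

end Cfsg.Agent.S0057
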