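import Mathlib
import Cfsg.Statements.S0599
import Cfsg.Agent.S0598

set_option autoImplicit false
open Pointwise
open Cfsg
open scoped commutatorElement

namespace Cfsg.Agent.S0599

theorem eq_bot_of_le_commutator {G : Type*} [Group G] (X W : Subgroup G)
    (hX : Group.IsNilpotent X) (hWX : W ≤ X) (hW : W ≤ ⁅W, X⁆) : W = ⊥ := by
  obtain ⟨n, hn⟩ := (Subgroup.isNilpotent_iff_lowerCentralSeries X).1 hX
  have h : ∀ k, W ≤ X.lowerCentralSeries k := by
    intro k
    induction k with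
    | zero => exact hWX
    | succ k ih => exact hW.trans (Subgroup.commutator_mono ih le_rfl)
  exact eq_bot_iff.2 (hn ▸ h n)

theorem exists_pgroup_supp {G : Type*} [Group G] [Finite G] {p : ℕ} [Fact p.Prime]
    (V A : Subgroup G) (hAV : A ≤ Subgroup.normalizer (V : Set G))
    (hpow : ∀ a ∈ A, a ^ p ∈ Subgroup.centralizer (V : Set G)) :
    ∃ P : Subgroup G, P ≤ A ∧ IsPGroup p P ∧
      ∀ a ∈ A, ∃ x ∈ P, ∃ c ∈ A ⊓ Subgroup.centralizer (V : Set G), a = x * c := by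
  obtain ⟨P₀⟩ : Nonempty (Sylow p A) := inferInstance
  have hCn : ((Subgroup.centralizer (V : Set G)).subgroupOf A).Normal := by
    constructor
    intro c hc a
    rw [Subgroup.mem_subgroupOf] at hc ⊢
    show (a : G) * (c : G) * (a : G)⁻¹ ∈ Subgroup.centralizer (V : Set G)
    rw [Subgroup.mem_centralizer_iff]
    intro v hv
    have hv' : (a : G)⁻¹ * v * (a : G) ∈ V := by
      have := (Subgroup.mem_normalizer_iff.1 (Subgroup.inv_mem _ (hAV a.2)) v).1 hv
      rwa [inv_inv] at this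
    have h := Subgroup.mem_centralizer_iff.1 hc _ hv'
    calc v * ((a : G) * (c : G) * (a : G)⁻¹)
        = (a : G) * (((a : G)⁻¹ * v * (a : G)) * (c : G)) * (a : G)⁻¹ := by group
      _ = (a : G) * ((c : G) * ((a : G)⁻¹ * v * (a : G))) * (a : G)⁻¹ := by rw [h]
      _ = (a : G) * (c : G) * (a : G)⁻¹ * v := by group
  haveI := hCn
  have hQ : IsPGroup p (↥A ⧸ (Subgroup.centralizer (V : Set G)).subgroupOf A) := by
    intro q
    obtain ⟨a, rfl⟩ := QuotientGroup.mk_surjective q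
    refine ⟨1, ?_⟩
    rw [pow_one, ← QuotientGroup.mk_pow, QuotientGroup.eq_one_iff]
    exact Subgroup.mem_subgroupOf.2 (hpow a a.2)
  obtain ⟨n, hn⟩ := IsPGroup.iff_card.1 hQ
  have hidx : ((P₀ : Subgroup A) ⊔ (Subgroup.centralizer (V : Set G)).subgroupOf A).index = 1 := by
    have h1 : ((P₀ : Subgroup A) ⊔ (Subgroup.centralizer (V : Set G)).subgroupOf A).index ∣
        ((Subgroup.centralizer (V : Set G)).subgroupOf A).index :=
      Subgroup.index_dvd_of_le le_sup_right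
    have hn' : ((Subgroup.centralizer (V : Set G)).subgroupOf A).index = p ^ n := by
      rw [Subgroup.index_eq_card, hn]
    rw [hn'] at h1
    obtain ⟨j, -, hj⟩ := (Nat.dvd_prime_pow (Fact.out)).1 h1
    rcases Nat.eq_zero_or_pos j with h0 | hpos
    · rw [hj, h0, pow_zero]
    · exfalso
      have h2 : p ∣ ((P₀ : Subgroup A) ⊔ (Subgroup.centralizer (V : Set G)).subgroupOf A).index := by
        rw [hj]; exact dvd_pow_self p hpos.ne'
      exact P₀.not_dvd_index (h2.trans (Subgroup.index_dvd_of_le le_sup_left))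
  have htop : (P₀ : Subgroup A) ⊔ (Subgroup.centralizer (V : Set G)).subgroupOf A = ⊤ :=
    Subgroup.index_eq_one.1 hidx
  refine ⟨(P₀ : Subgroup A).map A.subtype, Subgroup.map_subtype_le _, P₀.isPGroup'.map _, ?_⟩
  intro a ha
  have hmem : (⟨a, ha⟩ : A) ∈
      (((P₀ : Subgroup A) ⊔ (Subgroup.centralizer (V : Set G)).subgroupOf A : Subgroup A) : Set A) := by
    rw [htop]; exact Set.mem_univ _
  rw [Subgroup.mul_normal] at hmem
  obtain ⟨x, hx, c, hc, e⟩ := hmem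
  refine ⟨(x : G), ⟨x, hx, rfl⟩, (c : G), Subgroup.mem_inf.2 ⟨c.2, Subgroup.mem_subgroupOf.1 hc⟩, ?_⟩
  have h3 := congrArg Subtype.val e
  exact h3.symm

theorem comm_le_self {G : Type*} [Group G] (V A : Subgroup G)
    (hAV : A ≤ Subgroup.normalizer (V : Set G)) : ⁅V, A⁆ ≤ V := by
  rw [Subgroup.commutator_le]
  intro v hv e he
  rw [commutatorElement_def]
  have h1 : e * v⁻¹ * e⁻¹ ∈ V := (Subgroup.mem_normalizer_iff.1 (hAV he) _).1 (V.inv_mem hv)
  have e2 : v * e * v⁻¹ * e⁻¹ = v * (e * v⁻¹ * e⁻¹) := by group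
  rw [e2]
  exact V.mul_mem hv h1

/-- Nilpotent action: if `A / C_A(V)` has exponent `p` and `V = [V,A] C_V(A)` then `[V,A] = 1`. -/
theorem comm_eq_bot {G : Type*} [Group G] [Finite G] {p : ℕ} [Fact p.Prime] (V A : Subgroup G)
    (hV : Cfsg.IsElementaryAbelian p V) (hAV : A ≤ Subgroup.normalizer (V : Set G))
    (hpow : ∀ a ∈ A, a ^ p ∈ Subgroup.centralizer (V : Set G))
    (hle : V ≤ ⁅V, A⁆ ⊔ (V ⊓ Subgroup.centralizer (A : Set G))) : ⁅V, A⁆ = ⊥ := by
  have hVc : ∀ v ∈ V, ∀ w ∈ V, v * w = w * v := by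
    haveI := hV.1
    exact fun v hv w hw => setLike_mul_comm hv hw
  obtain ⟨P, hPA, hP, hdec⟩ := exists_pgroup_supp V A hAV hpow
  have hWV : ⁅V, A⁆ ≤ V := comm_le_self V A hAV
  have hVp : IsPGroup p V := fun v => ⟨1, Subtype.ext (by
    show (v : G) ^ p ^ 1 = 1
    rw [pow_one]; exact hV.2 v v.2)⟩
  have hXp : IsPGroup p ↥(P ⊔ V) := IsPGroup.to_sup_of_normal_right' hP hVp (hPA.trans hAV)
  have hXn : Group.IsNilpotent ↥(P ⊔ V) := hXp.isNilpotent
  apply eq_bot_of_le_commutator (P ⊔ V) ⁅V, A⁆ hXn (hWV.trans le_sup_right)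
  refine le_trans ?_ (Subgroup.commutator_mono le_rfl (le_sup_left : P ≤ P ⊔ V))
  rw [Subgroup.commutator_le]
  intro v hv a ha
  have hv' : v ∈ ((⁅V, A⁆ ⊔ (V ⊓ Subgroup.centralizer (A : Set G)) : Subgroup G) : Set G) := hle hv
  have hn : V ⊓ Subgroup.centralizer (A : Set G) ≤ Subgroup.normalizer ((⁅V, A⁆ : Subgroup G) : Set G) := by
    intro y hy
    have hyV := (Subgroup.mem_inf.1 hy).1
    rw [Subgroup.mem_normalizer_iff]
    intro h
    constructor
    · intro hh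
      have e : y * h * y⁻¹ = h := by rw [hVc y hyV h (hWV hh)]; group
      rw [e]; exact hh
    · intro hh
      have e1 := hVc y hyV _ (hWV hh)
      have e : h = y * h * y⁻¹ := by
        have e2 : y * h = y * (y * h * y⁻¹) := by rw [e1]; group
        exact mul_left_cancel e2
      rw [e]; exact hh
  rw [Subgroup.coe_mul_of_right_le_normalizer_left _ _ hn] at hv'
  obtain ⟨w, hw, z, hz, e0⟩ := hv'
  have e0' : v = w * z := e0.symm
  subst e0'
  obtain ⟨x, hx, c, hc, rfl⟩ := hdec a ha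
  obtain ⟨hzV, hzC⟩ := Subgroup.mem_inf.1 hz
  have e : ⁅w * z, x * c⁆ = ⁅w, x⁆ := by
    rw [commutatorElement_def, commutatorElement_def]
    have hc1 : c * (w * z)⁻¹ = (w * z)⁻¹ * c :=
      (Subgroup.mem_centralizer_iff.1 (Subgroup.mem_inf.1 hc).2 _
        (V.inv_mem (V.mul_mem (hWV hw) hzV))).symm
    have hz1 : z * x = x * z := (Subgroup.mem_centralizer_iff.1 hzC x (hPA hx)).symm
    calc w * z * (x * c) * (w * z)⁻¹ * (x * c)⁻¹
        = w * z * x * (c * (w * z)⁻¹) * c⁻¹ * x⁻¹ := by group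
      _ = w * z * x * ((w * z)⁻¹ * c) * c⁻¹ * x⁻¹ := by rw [hc1]
      _ = w * (z * x) * z⁻¹ * w⁻¹ * x⁻¹ := by group
      _ = w * (x * z) * z⁻¹ * w⁻¹ * x⁻¹ := by rw [hz1]
      _ = w * x * w⁻¹ * x⁻¹ := by group
  rw [e]
  exact Subgroup.commutator_mem_commutator hw hx

theorem result {G : Type*} [Group G] [Finite G] {p : ℕ} [Fact p.Prime] (V A : Subgroup G) (hV : Cfsg.IsElementaryAbelian p V) (hAV : A ≤ Subgroup.normalizer (V : Set G)) (hA : Cfsg.IsBestOffenderOn p V A) (U : Subgroup G) (hU : U ≤ V) : Cfsg.IsBestOffenderOn p V (A ⊓ Subgroup.centralizer ((⁅U, A⁆ : Subgroup G) : Set G)) ∧ V ⊓ Subgroup.centralizer ((A ⊓ Subgroup.centralizer ((⁅U, A⁆ : Subgroup G) : Set G) : Subgroup G) : Set G) = ⁅U, A⁆ ⊔ (V ⊓ Subgroup.centralizer (A : Set G)) ∧ (⁅V, A⁆ ≠ ⊥ → ⁅V, A ⊓ Subgroup.centralizer ((⁅U, A⁆ : Subgroup G) : Set G)⁆ ≠ ⊥) := by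
  obtain ⟨hbest, hab, hpow⟩ := hA
  have hVc : ∀ v ∈ V, ∀ w ∈ V, v * w = w * v := by
    haveI := hV.1
    exact fun v hv w hw => setLike_mul_comm hv hw
  obtain ⟨h1, h2⟩ := Cfsg.Agent.S0598.main V A hVc hAV hab hbest U hU
  refine ⟨⟨?_, ?_, ?_⟩, h2, ?_⟩
  · intro B hB
    exact (hbest B (hB.trans inf_le_left)).trans h1.symm.le
  · exact (Subgroup.commutator_mono inf_le_left inf_le_left).trans hab
  · exact fun a ha => hpow a (Subgroup.mem_inf.1 ha).1
  · intro hne hbot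
    apply hne
    apply comm_eq_bot V A hV hAV hpow
    have h3 : V ≤ Subgroup.centralizer
        ((A ⊓ Subgroup.centralizer ((⁅U, A⁆ : Subgroup G) : Set G) : Subgroup G) : Set G) :=
      Subgroup.commutator_eq_bot_iff_le_centralizer.1 hbot
    have h4 : V ≤ Cfsg.Agent.S0598.cv V (A ⊓ Subgroup.centralizer ((⁅U, A⁆ : Subgroup G) : Set G)) :=
      le_inf le_rfl h3
    rw [h2] at h4
    exact h4.trans (sup_le_sup_right (Subgroup.commutator_mono hU le_rfl) _)

end Cfsg.Agent.S0599
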