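import Mathlib
import Cfsg.Statements.S0663
import Cfsg.Agent.S0057
import Cfsg.Agent.S0597
import Cfsg.Agent.S0599

set_option autoImplicit false
open Pointwise
open Cfsg
open scoped commutatorElement

namespace Cfsg.Agent.S0663

theorem comm_le_of_norm {L : Type*} [Group L] (H G : Subgroup L)
    (h : G ≤ Subgroup.normalizer (H : Set L)) : ⁅H, G⁆ ≤ H := by
  rw [Subgroup.commutator_le]
  intro x hx g hg
  have h1 : g * x⁻¹ * g⁻¹ ∈ H := by
    have := h hg
    rw [Subgroup.mem_normalizer_iff] at this
    exact (this x⁻¹).1 (H.inv_mem hx)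
  have : ⁅x, g⁆ = x * (g * x⁻¹ * g⁻¹) := by rw [commutatorElement_def]; group
  rw [this]; exact H.mul_mem hx h1

theorem inv_iter {L : Type*} [Group L] [Finite L] (N G : Subgroup L)
    (hGN : G ≤ Subgroup.normalizer (N : Set L)) (i : ℕ) :
    iterCommutator N G i ≤ N ∧ G ≤ Subgroup.normalizer (iterCommutator N G i : Set L) := by
  induction i with
  | zero => exact ⟨le_rfl, hGN⟩
  | succ i ih =>
    refine ⟨(comm_le_of_norm _ _ ih.2).trans ih.1, ?_⟩
    exact le_sup_right.trans (S0597.comm_normalizer (iterCommutator N G i) G)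

theorem partB {L : Type*} [Group L] [Finite L] {p : ℕ} [Fact p.Prime] (N G : Subgroup L)
    (hN : IsPGroup p N) (hG : IsPGroup p G) (hGN : G ≤ Subgroup.normalizer (N : Set L)) (n : ℕ)
    (hn : Nat.card N = p ^ n) (hn0 : n ≠ 0) (hne : iterCommutator N G (n - 1) ≠ ⊥) :
    (∀ H : Subgroup L, H ≤ N → G ≤ Subgroup.normalizer (H : Set L) →
      ∃ i ≤ n, H = iterCommutator N G i) ∧
    (∀ i < n, (iterCommutator N G (i + 1)).relIndex (iterCommutator N G i) = p) ∧
    iterCommutator N G n = ⊥ ∧
    (∀ i ≤ n, N ≤ Subgroup.normalizer (iterCommutator N G i : Set L)) := by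
  have hp : p.Prime := Fact.out
  set c := iterCommutator N G with hc
  have csucc : ∀ i, c (i + 1) = ⁅c i, G⁆ := fun i => rfl
  set X := G ⊔ N with hX
  have hXp : IsPGroup p X := IsPGroup.to_sup_of_normal_right' hG hN hGN
  have hXnil : Group.IsNilpotent X := hXp.isNilpotent
  have hGX : G ≤ X := le_sup_left
  have hNX : N ≤ X := le_sup_right
  have F1 : ∀ i, c i ≤ N ∧ G ≤ Subgroup.normalizer (c i : Set L) := inv_iter N G hGN
  have anti : ∀ i, c (i + 1) ≤ c i := fun i => comm_le_of_norm _ _ (F1 i).2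
  have anti' : ∀ i j, i ≤ j → c j ≤ c i := by
    intro i j hij
    induction hij with
    | refl => exact le_rfl
    | step _ ih => exact (anti _).trans ih
  have F2 : ∀ H : Subgroup L, H ≤ N → H ≠ ⊥ → ¬ H ≤ ⁅H, X⁆ := by
    intro H hHN hH hle
    exact hH (S0599.eq_bot_of_le_commutator X H hXnil (hHN.trans hNX) hle)
  have F2' : ∀ H : Subgroup L, H ≤ N → H ≠ ⊥ → ¬ H ≤ ⁅H, G⁆ := fun H hHN hH hle =>
    F2 H hHN hH (hle.trans (Subgroup.commutator_mono le_rfl hGX))
  have hpow : ∀ i, ∃ k, Nat.card (c i) = p ^ k := by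
    intro i
    have : Nat.card (c i) ∣ p ^ n := hn ▸ Subgroup.card_dvd_of_le (F1 i).1
    obtain ⟨k, -, hk⟩ := (Nat.dvd_prime_pow hp).1 this
    exact ⟨k, hk⟩
  choose e he using hpow
  have e0 : e 0 = n := Nat.pow_right_injective hp.two_le (by
    show p ^ e 0 = p ^ n
    rw [← he 0]; exact hn)
  have cne : ∀ i, i ≤ n - 1 → c i ≠ ⊥ := by
    intro i hi h
    exact hne (le_bot_iff.1 (h ▸ anti' i (n - 1) hi))
  have estrict : ∀ i, i < n → e (i + 1) < e i := by
    intro i hi
    have h1 : c (i + 1) ≤ c i := anti i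
    have h2 : c (i + 1) ≠ c i := fun h =>
      F2' (c i) (F1 i).1 (cne i (by omega)) (by rw [← csucc, h])
    have h3 : Nat.card (c (i + 1)) < Nat.card (c i) := by
      by_contra hcon
      exact h2 (Subgroup.eq_of_le_of_card_ge h1 (not_lt.1 hcon))
    rw [he, he] at h3
    exact (Nat.pow_lt_pow_iff_right hp.one_lt).1 h3
  have e1 : 1 ≤ e (n - 1) := by
    by_contra hcon
    have h0 : e (n - 1) = 0 := by omega
    have h1 : Nat.card (c (n - 1)) = 1 := by rw [he, h0, pow_zero]
    exact hne (Subgroup.card_eq_one.1 h1)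
  have eup : ∀ i, i ≤ n → e i + i ≤ n := by
    intro i
    induction i with
    | zero => intro _; omega
    | succ i ih =>
      intro hi
      have h1 := ih (by omega)
      have h2 := estrict i (by omega)
      omega
  have elow : ∀ k, k + 1 ≤ n → k + 1 ≤ e (n - 1 - k) := by
    intro k
    induction k with
    | zero => intro _; simpa using e1
    | succ k ih =>
      intro hk
      have h1 := ih (by omega)
      have h2 := estrict (n - 1 - (k + 1)) (by omega)
      have h3 : n - 1 - (k + 1) + 1 = n - 1 - k := by omega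
      rw [h3] at h2
      omega
  have eeq : ∀ i, i ≤ n → e i = n - i := by
    intro i hi
    have h1 := eup i hi
    rcases Nat.eq_or_lt_of_le hi with rfl | hlt
    · omega
    · have h2 := elow (n - 1 - i) (by omega)
      have h3 : n - 1 - (n - 1 - i) = i := by omega
      rw [h3] at h2
      omega
  have ccard : ∀ i, i ≤ n → Nat.card (c i) = p ^ (n - i) := fun i hi => by rw [he, eeq i hi]
  have cn : c n = ⊥ := by
    apply Subgroup.card_eq_one.1
    rw [ccard n le_rfl, Nat.sub_self, pow_zero]
  have B2 : ∀ i < n, (c (i + 1)).relIndex (c i) = p := by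
    intro i hi
    have h1 := S0057.card_mul_relIndex (c (i + 1)) (c i) (anti i)
    rw [ccard i hi.le, ccard (i + 1) hi] at h1
    have h2 : p ^ (n - i) = p ^ (n - (i + 1)) * p := by rw [← pow_succ]; congr 1; omega
    rw [h2] at h1
    exact Nat.eq_of_mul_eq_mul_left (pow_pos hp.pos _) h1
  have B4 : ∀ i < n, c i ≤ Subgroup.normalizer (c (i + 1) : Set L) := by
    intro i hi
    rw [← Subgroup.normal_subgroupOf_iff_le_normalizer (anti i)]
    apply Subgroup.normal_of_index_eq_minFac_card
    rw [ccard i hi.le, Nat.Prime.pow_minFac hp (by omega)]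
    exact B2 i hi
  have B4' : ∀ i < n, ∀ a ∈ c i, ∀ b ∈ c i, ⁅a, b⁆ ∈ c (i + 1) := by
    intro i hi a ha b hb
    haveI : ((c (i + 1)).subgroupOf (c i)).Normal :=
      (Subgroup.normal_subgroupOf_iff_le_normalizer (anti i)).2 (B4 i hi)
    have hcard : Nat.card (↥(c i) ⧸ (c (i + 1)).subgroupOf (c i)) = p := B2 i hi
    haveI : IsCyclic (↥(c i) ⧸ (c (i + 1)).subgroupOf (c i)) := isCyclic_of_prime_card hcard
    letI : CommGroup (↥(c i) ⧸ (c (i + 1)).subgroupOf (c i)) := IsCyclic.commGroup
    have h1 := Abelianization.commutator_subset_ker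
      (QuotientGroup.mk' ((c (i + 1)).subgroupOf (c i)))
    rw [QuotientGroup.ker_mk'] at h1
    have h2 : ⁅(⟨a, ha⟩ : c i), ⟨b, hb⟩⁆ ∈ commutator (c i) := by
      rw [commutator_def]
      exact Subgroup.commutator_mem_commutator (Subgroup.mem_top _) (Subgroup.mem_top _)
    have h3 := h1 h2
    rw [Subgroup.mem_subgroupOf] at h3
    simpa [commutatorElement_def] using h3
  have K : ∀ k i, i + k + 1 = n → ∀ H : Subgroup L, H ≤ N →
      G ≤ Subgroup.normalizer (H : Set L) → H ≤ c i → ¬ H ≤ c (i + 1) → H = c i := by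
    intro k
    induction k with
    | zero =>
      intro i hi H hHN hHG hHi hHi1
      have hi1 : i + 1 = n := by omega
      rw [hi1, cn, le_bot_iff] at hHi1
      have h1 : Nat.card (c i) = p := by
        rw [ccard i (by omega)]
        have : n - i = 1 := by omega
        rw [this, pow_one]
      have h2 : Nat.card H ∣ p := h1 ▸ Subgroup.card_dvd_of_le hHi
      have h3 : Nat.card H ≠ 1 := fun h => hHi1 (Subgroup.card_eq_one.1 h)
      have h4 : Nat.card H = p := ((Nat.dvd_prime hp).1 h2).resolve_left h3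
      exact Subgroup.eq_of_le_of_card_ge hHi (by rw [h1, h4])
    | succ k ih =>
      intro i hi H hHN hHG hHi hHi1
      have hi1 : i + 1 < n := by omega
      have ha : c i ≤ H ⊔ c (i + 1) := by
        have hle : H ⊔ c (i + 1) ≤ c i := sup_le hHi (anti i)
        have h1 := S0057.card_mul_relIndex (c (i + 1)) (H ⊔ c (i + 1)) le_sup_right
        have h2 := S0057.card_mul_relIndex (H ⊔ c (i + 1)) (c i) hle
        have h3 := S0057.card_mul_relIndex (c (i + 1)) (c i) (anti i)
        rw [B2 i (by omega)] at h3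
        rw [← h1, mul_assoc, ← h3] at h2
        have h4 : (c (i + 1)).relIndex (H ⊔ c (i + 1)) * (H ⊔ c (i + 1)).relIndex (c i) = p :=
          Nat.eq_of_mul_eq_mul_left Nat.card_pos h2
        have h5 : (c (i + 1)).relIndex (H ⊔ c (i + 1)) ≠ 1 := by
          intro h
          rw [Subgroup.relIndex_eq_one] at h
          exact hHi1 (le_sup_left.trans h)
        have h6 : (c (i + 1)).relIndex (H ⊔ c (i + 1)) ∣ p := Dvd.intro _ h4
        have h7 := ((Nat.dvd_prime hp).1 h6).resolve_left h5
        rw [h7] at h4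
        have h8 : (H ⊔ c (i + 1)).relIndex (c i) = 1 := by
          have : p * (H ⊔ c (i + 1)).relIndex (c i) = p * 1 := by rw [h4, mul_one]
          exact Nat.eq_of_mul_eq_mul_left hp.pos this
        exact Subgroup.relIndex_eq_one.1 h8
      have hHG1 : ⁅H, G⁆ ≤ c (i + 1) := by
        rw [csucc]; exact Subgroup.commutator_mono hHi le_rfl
      have hb : c (i + 1) ≤ ⁅H, G⁆ ⊔ c (i + 2) := by
        rw [csucc i, Subgroup.commutator_le]
        intro x hx g hg
        have hx' : x ∈ ((c (i + 1) ⊔ H : Subgroup L) : Set L) := by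
          rw [sup_comm]; exact ha hx
        rw [Subgroup.coe_mul_of_right_le_normalizer_left _ _ (hHi.trans (B4 i (by omega)))] at hx'
        obtain ⟨m, hm, h, hh, rfl⟩ := hx'
        have e : ⁅m * h, g⁆ = ⁅m, ⁅h, g⁆⁆ * ⁅h, g⁆ * ⁅m, g⁆ := by
          simp only [commutatorElement_def]; group
        rw [e]
        have h1 : ⁅h, g⁆ ∈ ⁅H, G⁆ := Subgroup.commutator_mem_commutator hh hg
        have h2 : ⁅m, ⁅h, g⁆⁆ ∈ c (i + 2) := B4' (i + 1) hi1 m hm _ (hHG1 h1)
        have h3 : ⁅m, g⁆ ∈ c (i + 2) := by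
          rw [csucc (i + 1)]; exact Subgroup.commutator_mem_commutator hm hg
        exact Subgroup.mul_mem _ (Subgroup.mul_mem _ (Subgroup.mem_sup_right h2)
          (Subgroup.mem_sup_left h1)) (Subgroup.mem_sup_right h3)
      have hcc : ¬ ⁅H, G⁆ ≤ c (i + 2) := by
        intro h
        have h1 : c (i + 1) ≤ c (i + 2) := hb.trans (sup_le h le_rfl)
        have h2 := Subgroup.card_le_of_le h1
        rw [ccard (i + 1) (by omega), ccard (i + 2) (by omega)] at h2
        have := (Nat.pow_le_pow_iff_right hp.one_lt).1 h2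
        omega
      have hd := ih (i + 1) (by omega) ⁅H, G⁆ ((comm_le_of_norm H G hHG).trans hHN)
        (le_sup_right.trans (S0597.comm_normalizer H G)) hHG1 hcc
      apply le_antisymm hHi
      refine ha.trans (sup_le le_rfl ?_)
      rw [← hd]; exact comm_le_of_norm H G hHG
  have B6 : ∀ H : Subgroup L, H ≤ N → G ≤ Subgroup.normalizer (H : Set L) →
      ∃ i ≤ n, H = c i := by
    intro H hHN hHG
    by_cases hH : H = ⊥
    · exact ⟨n, le_rfl, by rw [hH, cn]⟩
    · have key : ∀ j, j ≤ n → H ≤ c j ∨ ∃ i < j, H ≤ c i ∧ ¬ H ≤ c (i + 1) := by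
        intro j
        induction j with
        | zero => intro _; left; exact hHN
        | succ j ih =>
          intro hj
          rcases ih (by omega) with h | ⟨i, hi, h1, h2⟩
          · by_cases h' : H ≤ c (j + 1)
            · left; exact h'
            · right; exact ⟨j, by omega, h, h'⟩
          · right; exact ⟨i, by omega, h1, h2⟩
      rcases key n le_rfl with h | ⟨i, hi, h1, h2⟩
      · rw [cn, le_bot_iff] at h; exact absurd h hH
      · exact ⟨i, hi.le, K (n - i - 1) i (by omega) H hHN hHG h1 h2⟩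
  have B8 : ∀ i, i ≤ n → X ≤ Subgroup.normalizer (c i : Set L) := by
    intro i
    induction i with
    | zero => intro _; exact sup_le hGN Subgroup.le_normalizer
    | succ i ih =>
      intro hi
      have hXi := ih (by omega)
      set M := ⁅c i, X⁆ with hM
      have hMi : M ≤ c i := comm_le_of_norm _ _ hXi
      have hMX : X ≤ Subgroup.normalizer (M : Set L) :=
        le_sup_right.trans (S0597.comm_normalizer (c i) X)
      have hMge : c (i + 1) ≤ M := by
        rw [csucc]; exact Subgroup.commutator_mono le_rfl hGX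
      have hMne : M ≠ c i := fun h =>
        F2 (c i) (F1 i).1 (cne i (by omega)) (by rw [← hM, h])
      obtain ⟨j, hj, hMj⟩ := B6 M (hMi.trans (F1 i).1) (hGX.trans hMX)
      have h1 : Nat.card (c (i + 1)) ≤ Nat.card M := Subgroup.card_le_of_le hMge
      have h2 : Nat.card M < Nat.card (c i) := by
        by_contra hcon
        exact hMne (Subgroup.eq_of_le_of_card_ge hMi (not_lt.1 hcon))
      rw [hMj, ccard j hj, ccard (i + 1) hi] at h1
      rw [hMj, ccard j hj, ccard i (by omega)] at h2
      have h3 := (Nat.pow_le_pow_iff_right hp.one_lt).1 h1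
      have h4 := (Nat.pow_lt_pow_iff_right hp.one_lt).1 h2
      have h5 : M = c (i + 1) := by
        symm
        apply Subgroup.eq_of_le_of_card_ge hMge
        rw [hMj, ccard j hj, ccard (i + 1) hi]
        have : n - j = n - (i + 1) := by omega
        rw [this]
      rw [← h5]; exact hMX
  exact ⟨B6, B2, cn, fun i hi => hNX.trans (B8 i hi)⟩

theorem result {L : Type*} [Group L] [Finite L] {p : ℕ} [Fact p.Prime] (N G : Subgroup L) (hN : IsPGroup p N) (hG : IsPGroup p G) (hGN : G ≤ Subgroup.normalizer (N : Set L)) (n : ℕ) (hn : Nat.card N = p ^ n) : ((∀ H : Subgroup L, H ≤ N → G ≤ Subgroup.normalizer (H : Set L) → H ≠ ⊥ → (⁅H, G⁆).relIndex H = p) ↔ Cfsg.iterCommutator N G (n - 1) ≠ ⊥ ∨ n = 0) ∧ ((∀ H : Subgroup L, H ≤ N → G ≤ Subgroup.normalizer (H : Set L) → H ≠ ⊥ → (⁅H, G⁆).relIndex H = p) → ∀ H : Subgroup L, H ≤ N → G ≤ Subgroup.normalizer (H : Set L) → (∃ i ≤ n, H = Cfsg.iterCommutator N G i) ∧ N ≤ Subgroup.normalizer (H : Set L)) := by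
  have hp : p.Prime := Fact.out
  have F1 := inv_iter N G hGN
  have partA : (∀ H : Subgroup L, H ≤ N → G ≤ Subgroup.normalizer (H : Set L) → H ≠ ⊥ →
      (⁅H, G⁆).relIndex H = p) → Cfsg.iterCommutator N G (n - 1) ≠ ⊥ ∨ n = 0 := by
    intro U
    by_cases hn0 : n = 0
    · right; exact hn0
    · left
      have key : ∀ i, i ≤ n → Nat.card (iterCommutator N G i) = p ^ (n - i) := by
        intro i
        induction i with
        | zero =>
          intro _
          show Nat.card N = p ^ (n - 0)
          rw [Nat.sub_zero]; exact hn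
        | succ i ih =>
          intro hi
          have h1 := ih (by omega)
          have hne : iterCommutator N G i ≠ ⊥ := by
            intro h
            rw [h, Subgroup.card_bot] at h1
            have h0 : n - i ≠ 0 := by omega
            exact absurd h1.symm (Nat.one_lt_pow h0 hp.one_lt).ne'
          have h2 := U _ (F1 i).1 (F1 i).2 hne
          have h3 := S0057.card_mul_relIndex ⁅iterCommutator N G i, G⁆ (iterCommutator N G i)
            (comm_le_of_norm _ _ (F1 i).2)
          rw [h2, h1] at h3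
          have h4 : p ^ (n - i) = p ^ (n - (i + 1)) * p := by
            rw [← pow_succ]; congr 1; omega
          rw [h4] at h3
          exact Nat.eq_of_mul_eq_mul_right hp.pos h3
      intro h
      have h1 := key (n - 1) (by omega)
      rw [h, Subgroup.card_bot] at h1
      have h5 : n - (n - 1) = 1 := by omega
      rw [h5, pow_one] at h1
      exact hp.one_lt.ne h1
  have partB' : (Cfsg.iterCommutator N G (n - 1) ≠ ⊥ ∨ n = 0) →
      (∀ H : Subgroup L, H ≤ N → G ≤ Subgroup.normalizer (H : Set L) → H ≠ ⊥ →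
        (⁅H, G⁆).relIndex H = p) ∧
      (∀ H : Subgroup L, H ≤ N → G ≤ Subgroup.normalizer (H : Set L) →
        (∃ i ≤ n, H = Cfsg.iterCommutator N G i) ∧ N ≤ Subgroup.normalizer (H : Set L)) := by
    intro h
    by_cases hn0 : n = 0
    · subst hn0
      have hNbot : N = ⊥ := by
        apply Subgroup.card_eq_one.1; rw [hn, pow_zero]
      constructor
      · intro H hHN _ hH
        rw [hNbot, le_bot_iff] at hHN
        exact absurd hHN hH
      · intro H hHN _
        rw [hNbot, le_bot_iff] at hHN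
        refine ⟨⟨0, le_rfl, ?_⟩, ?_⟩
        · rw [hHN]; exact hNbot.symm
        · rw [hNbot]; exact bot_le
    · have hne : Cfsg.iterCommutator N G (n - 1) ≠ ⊥ := h.resolve_right hn0
      obtain ⟨B6, B2, cn, B8⟩ := partB N G hN hG hGN n hn hn0 hne
      constructor
      · intro H hHN hHG hH
        obtain ⟨i, hi, rfl⟩ := B6 H hHN hHG
        have hi' : i < n := by
          rcases Nat.eq_or_lt_of_le hi with rfl | hlt
          · exact absurd cn hH
          · exact hlt
        exact B2 i hi'
      · intro H hHN hHG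
        obtain ⟨i, hi, rfl⟩ := B6 H hHN hHG
        exact ⟨⟨i, hi, rfl⟩, B8 i hi⟩
  exact ⟨⟨partA, fun h => (partB' h).1⟩, fun U => (partB' (partA U)).2⟩

end Cfsg.Agent.S0663
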