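import Mathlib
import Cfsg.Statements.S0648
import Cfsg.Agent.S0597
import Cfsg.Agent.S0663

set_option autoImplicit false
open Pointwise
open Cfsg
open scoped commutatorElement

namespace Cfsg.Agent.S0648

/-- the commutator `[b⁻¹, a]`. -/
def uu {G : Type*} [Group G] (b a : G) : G := b⁻¹ * a * b * a⁻¹

/-- `t(c, a) = [a, u_c]`. -/
def tt {G : Type*} [Group G] (b c a : G) : G := a * uu b c * a⁻¹ * (uu b c)⁻¹

theorem comm_closure_le {G : Type*} [Group G] (X : Set G) (S : Subgroup G)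
    (hS : ∀ s ∈ S, ∀ u ∈ Subgroup.closure X, s * u = u * s)
    (hgen : ∀ x ∈ X, ∀ y ∈ X, ⁅x, y⁆ ∈ S) :
    ⁅Subgroup.closure X, Subgroup.closure X⁆ ≤ S := by
  have step1 : ∀ x ∈ X, ∀ y ∈ Subgroup.closure X, ⁅x, y⁆ ∈ S := by
    intro x hx y hy
    induction hy using Subgroup.closure_induction with
    | mem y hy => exact hgen x hx y hy
    | one => simp [commutatorElement_def]
    | mul y₁ y₂ hy₁ hy₂ ih₁ ih₂ =>
      have e : ⁅x, y₁ * y₂⁆ = ⁅x, y₁⁆ * (y₁ * ⁅x, y₂⁆ * y₁⁻¹) := by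
        simp only [commutatorElement_def]; group
      have h1 : y₁ * ⁅x, y₂⁆ * y₁⁻¹ = ⁅x, y₂⁆ := by
        rw [← hS _ ih₂ y₁ hy₁]; group
      rw [e, h1]
      exact S.mul_mem ih₁ ih₂
    | inv y hy ih =>
      have e : ⁅x, y⁻¹⁆ = y⁻¹ * ⁅x, y⁆⁻¹ * y := by
        simp only [commutatorElement_def]; group
      have h1 : y⁻¹ * ⁅x, y⁆⁻¹ * y = ⁅x, y⁆⁻¹ := by
        have := hS _ (S.inv_mem ih) y hy
        rw [mul_assoc, this]; group
      rw [e, h1]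
      exact S.inv_mem ih
  rw [Subgroup.commutator_le]
  intro x hx y hy
  induction hx using Subgroup.closure_induction with
  | mem x hx => exact step1 x hx y hy
  | one => simp [commutatorElement_def]
  | mul x₁ x₂ hx₁ hx₂ ih₁ ih₂ =>
    have e : ⁅x₁ * x₂, y⁆ = (x₁ * ⁅x₂, y⁆ * x₁⁻¹) * ⁅x₁, y⁆ := by
      simp only [commutatorElement_def]; group
    have h1 : x₁ * ⁅x₂, y⁆ * x₁⁻¹ = ⁅x₂, y⁆ := by
      rw [← hS _ ih₂ x₁ hx₁]; group
    rw [e, h1]
    exact S.mul_mem ih₂ ih₁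
  | inv x hx ih =>
    have e : ⁅x⁻¹, y⁆ = x⁻¹ * ⁅x, y⁆⁻¹ * x := by
      simp only [commutatorElement_def]; group
    have h1 : x⁻¹ * ⁅x, y⁆⁻¹ * x = ⁅x, y⁆⁻¹ := by
      have := hS _ (S.inv_mem ih) x hx
      rw [mul_assoc, this]; group
    rw [e, h1]
    exact S.inv_mem ih

theorem result {G : Type*} [Group G] [Finite G] (A B : Subgroup G) (hAB : A ≤ Subgroup.normalizer (B : Set G)) (hc : ⁅⁅B, B⁆, A⁆ = ⊥) : ⁅⁅B, A⁆, ⁅B, A⁆⁆ ≤ B ⊓ Subgroup.centralizer (B : Set G) ∧ (IsMulCommutative A → ∀ b ∈ B, ⁅⁅(Subgroup.closure {g : G | ∃ a ∈ A, g = b⁻¹ * a * b * a⁻¹}), A⁆, A⁆ = ⊥ → ∀ w ∈ ⁅(Subgroup.closure {g : G | ∃ a ∈ A, g = b⁻¹ * a * b * a⁻¹}), (Subgroup.closure {g : G | ∃ a ∈ A, g = b⁻¹ * a * b * a⁻¹})⁆, w ^ 2 = 1) := by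
  set D := ⁅B, A⁆ with hD
  have hDB : D ≤ B := S0663.comm_le_of_norm B A hAB
  have hB'B : ⁅⁅B, B⁆, B⁆ ≤ ⁅B, B⁆ :=
    S0663.comm_le_of_norm _ _ (le_sup_left.trans (S0597.comm_normalizer B B))
  have hDB' : ⁅D, ⁅B, B⁆⁆ = ⊥ := by
    apply Subgroup.commutator_commutator_eq_bot_of_rotate
    · rw [Subgroup.commutator_comm A ⁅B, B⁆, hc, Subgroup.commutator_bot_left]
    · exact le_bot_iff.1 (hc ▸ Subgroup.commutator_mono hB'B le_rfl)
  have hB'D : ⁅⁅B, B⁆, D⁆ = ⊥ := by rw [Subgroup.commutator_comm]; exact hDB'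
  have part1 : ⁅D, D⁆ ≤ B ⊓ Subgroup.centralizer (B : Set G) := by
    refine le_inf ((Subgroup.commutator_mono hDB hDB).trans
      (S0663.comm_le_of_norm B B Subgroup.le_normalizer)) ?_
    rw [← Subgroup.commutator_eq_bot_iff_le_centralizer]
    apply Subgroup.commutator_commutator_eq_bot_of_rotate
    · exact le_bot_iff.1 (hB'D ▸ Subgroup.commutator_mono (Subgroup.commutator_mono hDB le_rfl) le_rfl)
    · exact le_bot_iff.1 (hB'D ▸ Subgroup.commutator_mono (Subgroup.commutator_mono le_rfl hDB) le_rfl)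
  refine ⟨part1, ?_⟩
  intro hAc b hb hU2 w hw
  set U := Subgroup.closure {g : G | ∃ a ∈ A, g = b⁻¹ * a * b * a⁻¹} with hU
  -- commutation facts
  have K1 : ∀ x ∈ ⁅B, B⁆, ∀ d ∈ A, d * x = x * d := by
    intro x hx d hd
    have := Subgroup.commutator_eq_bot_iff_le_centralizer.1 hc hx
    rw [Subgroup.mem_centralizer_iff] at this
    exact this d hd
  have K2 : ∀ x ∈ ⁅D, D⁆, ∀ y ∈ B, y * x = x * y := by
    intro x hx y hy
    have h0 : x ∈ Subgroup.centralizer (B : Set G) := (part1 hx).2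
    rw [Subgroup.mem_centralizer_iff] at h0
    exact h0 y hy
  have K3 : ∀ x ∈ D, ∀ y ∈ ⁅B, B⁆, y * x = x * y := by
    intro x hx y hy
    have := Subgroup.commutator_eq_bot_iff_le_centralizer.1 hDB' hx
    rw [Subgroup.mem_centralizer_iff] at this
    exact this y hy
  have K4 : ∀ x ∈ ⁅U, A⁆, ∀ d ∈ A, d * x = x * d := by
    intro x hx d hd
    have := Subgroup.commutator_eq_bot_iff_le_centralizer.1 hU2 hx
    rw [Subgroup.mem_centralizer_iff] at this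
    exact this d hd
  have huD : ∀ a ∈ A, uu b a ∈ D := by
    intro a ha
    have : uu b a = ⁅b⁻¹, a⁆ := by simp only [uu, commutatorElement_def]; group
    rw [this]
    exact Subgroup.commutator_mem_commutator (B.inv_mem hb) ha
  have huU : ∀ a ∈ A, uu b a ∈ U := fun a ha => Subgroup.subset_closure ⟨a, ha, rfl⟩
  have hUD : U ≤ D := by
    rw [hU, Subgroup.closure_le]
    rintro _ ⟨a, ha, rfl⟩
    exact huD a ha
  have hDA : ⁅D, A⁆ ≤ D :=
    S0663.comm_le_of_norm D A (le_sup_right.trans (S0597.comm_normalizer B A))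
  have htUA : ∀ a ∈ A, ∀ c ∈ A, tt b c a ∈ ⁅U, A⁆ := by
    intro a ha c hc'
    have : tt b c a = ⁅uu b c, a⁆⁻¹ := by
      rw [commutatorElement_inv]; simp only [tt, commutatorElement_def]
    rw [this]
    exact Subgroup.inv_mem _ (Subgroup.commutator_mem_commutator (huU c hc') ha)
  have htD : ∀ a ∈ A, ∀ c ∈ A, tt b c a ∈ D := fun a ha c hc' =>
    hDA (Subgroup.commutator_mono hUD le_rfl (htUA a ha c hc'))
  -- (1)
  have L1 : ∀ a ∈ A, ∀ t ∈ D, a * t = t * a → uu b a * t = t * uu b a := by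
    intro a ha t ht hat
    have hk : ⁅b, t⁆ ∈ ⁅B, B⁆ := Subgroup.commutator_mem_commutator hb (hDB ht)
    have h1 : a * ⁅b, t⁆ = ⁅b, t⁆ * a := K1 _ hk a ha
    have hat' : a * t * a⁻¹ = t := by rw [hat]; group
    have e1 : a * ⁅b, t⁆ * a⁻¹ = ⁅b * uu b a, a * t * a⁻¹⁆ := by
      simp only [commutatorElement_def, uu]; group
    rw [hat'] at e1
    have e2 : ⁅b * uu b a, t⁆ = b * ⁅uu b a, t⁆ * b⁻¹ * ⁅b, t⁆ := by
      simp only [commutatorElement_def]; group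
    have h2 : ⁅uu b a, t⁆ ∈ ⁅D, D⁆ := Subgroup.commutator_mem_commutator (huD a ha) ht
    have h3 : b * ⁅uu b a, t⁆ = ⁅uu b a, t⁆ * b := K2 _ h2 b hb
    have h4 : a * ⁅b, t⁆ * a⁻¹ = ⁅b, t⁆ := by rw [h1]; group
    rw [h4, e2, h3] at e1
    have h5 : ⁅uu b a, t⁆ * ⁅b, t⁆ = ⁅b, t⁆ := by
      have e3 : ⁅uu b a, t⁆ * b * b⁻¹ * ⁅b, t⁆ = ⁅uu b a, t⁆ * ⁅b, t⁆ := by group
      rw [← e3]; exact e1.symm
    exact commutatorElement_eq_one_iff_mul_comm.1 (mul_eq_right.1 h5)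
  -- (2)
  have L2 : ∀ a ∈ A, ∀ c ∈ A, ⁅uu b a, uu b c⁆ = (tt b c a)⁻¹ * tt b a c := by
    intro a ha c hc'
    have hac : a * c = c * a := setLike_mul_comm ha hc'
    have E1 : uu b (a * c) = uu b a * tt b c a * uu b c := by
      simp only [uu, tt]; group
    have E2 : uu b (c * a) = uu b c * tt b a c * uu b a := by
      simp only [uu, tt]; group
    rw [hac, E2] at E1
    have c1 : uu b a * tt b c a = tt b c a * uu b a :=
      L1 a ha _ (htD a ha c hc') (K4 _ (htUA a ha c hc') a ha)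
    have c2 : uu b c * tt b a c = tt b a c * uu b c :=
      L1 c hc' _ (htD c hc' a ha) (K4 _ (htUA c hc' a ha) c hc')
    rw [c1, c2] at E1
    rw [commutatorElement_def]
    calc uu b a * uu b c * (uu b a)⁻¹ * (uu b c)⁻¹
        = (tt b c a)⁻¹ * (tt b c a * uu b a * uu b c) * (uu b a)⁻¹ * (uu b c)⁻¹ := by group
      _ = (tt b c a)⁻¹ * (tt b a c * uu b c * uu b a) * (uu b a)⁻¹ * (uu b c)⁻¹ := by rw [E1]
      _ = (tt b c a)⁻¹ * tt b a c := by group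
  -- (3)
  have L3 : ∀ a ∈ A, ∀ c ∈ A, ⁅b, tt b c a⁆ = ⁅uu b a, uu b c⁆⁻¹ := by
    intro a ha c hc'
    have hk : ⁅b, uu b c⁆ ∈ ⁅B, B⁆ :=
      Subgroup.commutator_mem_commutator hb (hDB (huD c hc'))
    have h1 : a * ⁅b, uu b c⁆ = ⁅b, uu b c⁆ * a := K1 _ hk a ha
    have h4 : a * ⁅b, uu b c⁆ * a⁻¹ = ⁅b, uu b c⁆ := by rw [h1]; group
    have e1 : a * ⁅b, uu b c⁆ * a⁻¹ = ⁅b * uu b a, tt b c a * uu b c⁆ := by
      simp only [commutatorElement_def, uu, tt]; group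
    have e2 : ⁅b * uu b a, tt b c a * uu b c⁆ =
        b * ⁅uu b a, tt b c a * uu b c⁆ * b⁻¹ * ⁅b, tt b c a * uu b c⁆ := by
      simp only [commutatorElement_def]; group
    have e3 : ⁅uu b a, tt b c a * uu b c⁆ =
        ⁅uu b a, tt b c a⁆ * (tt b c a * ⁅uu b a, uu b c⁆ * (tt b c a)⁻¹) := by
      simp only [commutatorElement_def]; group
    have e4 : ⁅b, tt b c a * uu b c⁆ =
        ⁅b, tt b c a⁆ * (tt b c a * ⁅b, uu b c⁆ * (tt b c a)⁻¹) := by
      simp only [commutatorElement_def]; group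
    have hz : ⁅uu b a, uu b c⁆ ∈ ⁅D, D⁆ :=
      Subgroup.commutator_mem_commutator (huD a ha) (huD c hc')
    have c1 : ⁅uu b a, tt b c a⁆ = 1 := commutatorElement_eq_one_iff_mul_comm.2
      (L1 a ha _ (htD a ha c hc') (K4 _ (htUA a ha c hc') a ha))
    have c2 : tt b c a * ⁅uu b a, uu b c⁆ * (tt b c a)⁻¹ = ⁅uu b a, uu b c⁆ := by
      rw [K2 _ hz _ (hDB (htD a ha c hc'))]; group
    have c3 : tt b c a * ⁅b, uu b c⁆ * (tt b c a)⁻¹ = ⁅b, uu b c⁆ := by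
      rw [← K3 _ (htD a ha c hc') _ hk]; group
    have c4 : b * ⁅uu b a, uu b c⁆ * b⁻¹ = ⁅uu b a, uu b c⁆ := by
      rw [K2 _ hz b hb]; group
    rw [h4, e2, e3, e4, c1, c2, c3, one_mul, c4] at e1
    have h5 : ⁅uu b a, uu b c⁆ * ⁅b, tt b c a⁆ * ⁅b, uu b c⁆ = ⁅b, uu b c⁆ := by
      rw [mul_assoc]; exact e1.symm
    have h6 := mul_eq_right.1 h5
    exact (eq_inv_of_mul_eq_one_right h6)
  -- (4),(5)
  have L5 : ∀ a ∈ A, ∀ c ∈ A, ⁅uu b a, uu b c⁆ ^ 2 = 1 := by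
    intro a ha c hc'
    have hz : ⁅uu b a, uu b c⁆ ∈ ⁅D, D⁆ :=
      Subgroup.commutator_mem_commutator (huD a ha) (huD c hc')
    have e1 : tt b a c = tt b c a * ⁅uu b a, uu b c⁆ := by
      rw [L2 a ha c hc']; group
    have e2 : ⁅b, tt b c a * ⁅uu b a, uu b c⁆⁆ =
        ⁅b, tt b c a⁆ * (tt b c a * ⁅b, ⁅uu b a, uu b c⁆⁆ * (tt b c a)⁻¹) := by
      simp only [commutatorElement_def]; group
    have c1 : ⁅b, ⁅uu b a, uu b c⁆⁆ = 1 :=
      commutatorElement_eq_one_iff_mul_comm.2 (K2 _ hz b hb)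
    have h1 : ⁅b, tt b a c⁆ = ⁅b, tt b c a⁆ := by
      rw [e1, e2, c1]; group
    rw [L3 a ha c hc', L3 c hc' a ha, commutatorElement_inv, commutatorElement_inv] at h1
    -- h1 : ⁅uu b a, uu b c⁆ = ⁅uu b c, uu b a⁆
    have h3 : ⁅uu b a, uu b c⁆⁻¹ = ⁅uu b a, uu b c⁆ := by
      rw [commutatorElement_inv]; exact h1.symm
    have h2 : ⁅uu b a, uu b c⁆ * ⁅uu b a, uu b c⁆ = 1 := by
      calc ⁅uu b a, uu b c⁆ * ⁅uu b a, uu b c⁆
          = ⁅uu b a, uu b c⁆⁻¹ * ⁅uu b a, uu b c⁆ := by rw [h3]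
        _ = 1 := inv_mul_cancel _
    rw [pow_two]; exact h2
  -- the subgroup of central involutions
  let S : Subgroup G :=
    { carrier := {w | w ∈ B ⊓ Subgroup.centralizer (B : Set G) ∧ w ^ 2 = 1}
      one_mem' := ⟨Subgroup.one_mem _, one_pow 2⟩
      mul_mem' := by
        rintro x y ⟨hx, hx2⟩ ⟨hy, hy2⟩
        refine ⟨Subgroup.mul_mem _ hx hy, ?_⟩
        have hxy : x * y = y * x := by
          have h0 : x ∈ Subgroup.centralizer (B : Set G) := hx.2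
          rw [Subgroup.mem_centralizer_iff] at h0
          exact (h0 y hy.1).symm
        have : (x * y) ^ 2 = x ^ 2 * y ^ 2 := by
          rw [pow_two, pow_two, pow_two]
          calc x * y * (x * y) = x * (y * x) * y := by group
            _ = x * (x * y) * y := by rw [hxy]
            _ = x * x * (y * y) := by group
        rw [this, hx2, hy2, one_mul]
      inv_mem' := by
        rintro x ⟨hx, hx2⟩
        exact ⟨Subgroup.inv_mem _ hx, by rw [inv_pow, hx2, inv_one]⟩ }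
  have hS : ⁅U, U⁆ ≤ S := by
    apply comm_closure_le
    · intro s hs u hu
      have h0 : s ∈ Subgroup.centralizer (B : Set G) := hs.1.2
      rw [Subgroup.mem_centralizer_iff] at h0
      exact (h0 u (hDB (hUD hu))).symm
    · rintro _ ⟨a, ha, rfl⟩ _ ⟨c, hc', rfl⟩
      refine ⟨part1 (Subgroup.commutator_mem_commutator (huD a ha) (huD c hc')), L5 a ha c hc'⟩
  exact (hS hw).2

end Cfsg.Agent.S0648
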