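import Mathlib
import Cfsg.Statements.S0650
import Cfsg.Agent.S0003
import Cfsg.Agent.S0119
import Cfsg.Agent.S0130
import Cfsg.Agent.S0538
import Cfsg.Agent.S0539
import Cfsg.Agent.S0597
import Cfsg.Agent.S0648

set_option autoImplicit false
open Pointwise
open Cfsg
open scoped commutatorElement

namespace Cfsg.Agent.S0650

/-- `κ(a) = a b⁻¹ a⁻¹ b`. -/
def kap {G : Type*} [Group G] (b a : G) : G := a * b⁻¹ * a⁻¹ * b

theorem norm_of_conj {G : Type*} [Group G] [Finite G] (H : Subgroup G) (c : G)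
    (h : ∀ x ∈ H, c * x * c⁻¹ ∈ H) : c ∈ Subgroup.normalizer (H : Set G) := by
  rw [S0538.mem_normalizer_iff_smul]
  apply S0539.smul_eq_of_le
  rintro _ ⟨x, hx, rfl⟩
  exact h x hx

theorem mem_conj_inv {G : Type*} [Group G] (A : Subgroup G) (b x : G) :
    x ∈ A.map (MulAut.conj b⁻¹).toMonoidHom ↔ b * x * b⁻¹ ∈ A := by
  constructor
  · rintro ⟨a, ha, rfl⟩
    have : b * ((MulAut.conj b⁻¹).toMonoidHom a) * b⁻¹ = a := by
      show b * (b⁻¹ * a * b⁻¹⁻¹) * b⁻¹ = a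
      group
    rw [this]; exact ha
  · intro h
    refine ⟨b * x * b⁻¹, h, ?_⟩
    show b⁻¹ * (b * x * b⁻¹) * b⁻¹⁻¹ = x
    group

theorem card_sup_mul_card_inf' {G : Type*} [Group G] [Finite G] (X Y : Subgroup G)
    (h : X ≤ Subgroup.normalizer (Y : Set G)) :
    Nat.card ↥(X ⊔ Y) * Nat.card ↥(X ⊓ Y) = Nat.card X * Nat.card Y := by
  set K := X ⊔ Y with hK
  have hXK : X ≤ K := le_sup_left
  have hYK : Y ≤ K := le_sup_right
  haveI : (Y.subgroupOf K).Normal :=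
    (Subgroup.normal_subgroupOf_iff_le_normalizer hYK).2 (sup_le h Subgroup.le_normalizer)
  have h1 := S0003.card_sup_mul_card_inf (X.subgroupOf K) (Y.subgroupOf K)
  have e1 : X.subgroupOf K ⊔ Y.subgroupOf K = ⊤ := by
    rw [← Subgroup.subgroupOf_sup hXK hYK, Subgroup.subgroupOf_self]
  have e2 : X.subgroupOf K ⊓ Y.subgroupOf K = (X ⊓ Y).subgroupOf K := rfl
  rw [e1, e2, Subgroup.card_top, S0003.card_subgroupOf_eq', S0003.card_subgroupOf_eq',
    S0003.card_subgroupOf_eq', inf_of_le_left hXK, inf_of_le_left hYK,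
    inf_of_le_left (inf_le_left.trans hXK)] at h1
  exact h1

theorem core {G : Type*} [Group G] [Finite G] (A B : Subgroup G)
    (hA : ∀ x ∈ A, ∀ y ∈ A, x * y = y * x) (hAB : A ≤ Subgroup.normalizer (B : Set G))
    (hBA : ⁅B, B⁆ ≤ A) (b : G) (hb : b ∈ B)
    (hb1 : ∀ a ∈ A, b⁻¹ * a * b ∈ Subgroup.normalizer (A : Set G))
    (hb2 : ∀ a ∈ A, b * a * b⁻¹ ∈ Subgroup.normalizer (A : Set G))
    (Ab I C Astar : Subgroup G) (hAb : Ab = A.map (MulAut.conj b⁻¹).toMonoidHom)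
    (hI : I = A ⊓ Ab)
    (hCdef : C = Subgroup.closure {g : G | ∃ a ∈ A, g = a * b⁻¹ * a⁻¹ * b})
    (hAs : Astar = I ⊔ C)
    (hC : ∀ x ∈ C, ∀ y ∈ C, x * y = y * x) :
    Nat.card Astar = Nat.card A ∧ (∀ x ∈ Astar, ∀ y ∈ Astar, x * y = y * x) ∧ ⁅B, B⁆ ≤ I ∧
    A ⊓ B ≤ I ∧ C ≤ B ∧ A ≤ Subgroup.normalizer (Astar : Set G) ∧
    Astar ≤ Subgroup.normalizer (A : Set G) ∧ b ∈ Subgroup.normalizer (Astar : Set G) ∧
    (∀ x ∈ Astar, ∃ i ∈ I, ∃ a ∈ A, x = i * kap b a) ∧ Astar ≤ A ⊔ Ab ∧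
    (∀ i ∈ I, ∀ h ∈ A ⊔ Ab, i * h = h * i) ∧ (∀ i ∈ I, b⁻¹ * i * b ∈ I) ∧
    (∀ u ∈ A, ∀ v ∈ Ab, v⁻¹ * u⁻¹ * v * u ∈ I) ∧ (∀ a ∈ A, b⁻¹ * a * b ∈ Ab) ∧
    (∀ y ∈ Ab, b * y * b⁻¹ ∈ A) := by
  have hAbA : ∀ y ∈ Ab, b * y * b⁻¹ ∈ A := fun y hy => by
    rw [hAb] at hy; exact (mem_conj_inv A b y).1 hy
  have hAbmem : ∀ y, b * y * b⁻¹ ∈ A → y ∈ Ab := fun y hy => by
    rw [hAb]; exact (mem_conj_inv A b y).2 hy
  have hconjAb : ∀ a ∈ A, b⁻¹ * a * b ∈ Ab := by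
    intro a ha
    apply hAbmem
    have : b * (b⁻¹ * a * b) * b⁻¹ = a := by group
    rw [this]; exact ha
  have hAbab : ∀ x ∈ Ab, ∀ y ∈ Ab, x * y = y * x := by
    intro x hx y hy
    have h := hA _ (hAbA x hx) _ (hAbA y hy)
    have e1 : x * y = b⁻¹ * ((b * x * b⁻¹) * (b * y * b⁻¹)) * b := by group
    have e2 : y * x = b⁻¹ * ((b * y * b⁻¹) * (b * x * b⁻¹)) * b := by group
    rw [e1, e2, h]
  have F1 : Ab ≤ Subgroup.normalizer (A : Set G) := by
    intro y hy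
    have := hb1 _ (hAbA y hy)
    have e : b⁻¹ * (b * y * b⁻¹) * b = y := by group
    rwa [e] at this
  have F2 : A ≤ Subgroup.normalizer (Ab : Set G) := by
    intro a ha
    apply norm_of_conj
    intro y hy
    apply hAbmem
    have e : b * (a * y * a⁻¹) * b⁻¹ = (b * a * b⁻¹) * (b * y * b⁻¹) * (b * a * b⁻¹)⁻¹ := by group
    rw [e]
    have := hb2 a ha
    rw [Subgroup.mem_normalizer_iff] at this
    exact (this _).1 (hAbA y hy)
  set H := A ⊔ Ab with hH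
  have hHNA : H ≤ Subgroup.normalizer (A : Set G) := sup_le Subgroup.le_normalizer F1
  have hHNAb : H ≤ Subgroup.normalizer (Ab : Set G) := sup_le F2 Subgroup.le_normalizer
  have hIA : I ≤ A := by rw [hI]; exact inf_le_left
  have hIAb : I ≤ Ab := by rw [hI]; exact inf_le_right
  have hIcent : ∀ i ∈ I, ∀ h ∈ H, i * h = h * i := by
    intro i hi
    have h1 : H ≤ Subgroup.centralizer {i} := by
      apply sup_le
      · intro a ha
        rw [Subgroup.mem_centralizer_iff]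
        intro x hx
        rw [Set.mem_singleton_iff] at hx
        subst hx
        exact hA _ (hIA hi) _ ha
      · intro y hy
        rw [Subgroup.mem_centralizer_iff]
        intro x hx
        rw [Set.mem_singleton_iff] at hx
        subst hx
        exact hAbab _ (hIAb hi) _ hy
    intro h hh
    have := h1 hh
    rw [Subgroup.mem_centralizer_iff] at this
    exact this i rfl
  have hkB : ∀ a ∈ A, kap b a ∈ B := by
    intro a ha
    have h1 : a * b⁻¹ * a⁻¹ ∈ B := by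
      have := hAB ha
      rw [Subgroup.mem_normalizer_iff] at this
      exact (this b⁻¹).1 (B.inv_mem hb)
    exact B.mul_mem h1 hb
  have hkH : ∀ a ∈ A, kap b a ∈ H := by
    intro a ha
    have e : kap b a = a * (b⁻¹ * a⁻¹ * b) := by simp only [kap]; group
    rw [e]
    exact Subgroup.mul_mem_sup ha (hconjAb _ (A.inv_mem ha))
  have hkC : ∀ a ∈ A, kap b a ∈ C := fun a ha => by
    rw [hCdef]; exact Subgroup.subset_closure ⟨a, ha, rfl⟩
  have hCB : C ≤ B := by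
    rw [hCdef, Subgroup.closure_le]
    rintro _ ⟨a, ha, rfl⟩
    exact hkB a ha
  have hCH : C ≤ H := by
    rw [hCdef, Subgroup.closure_le]
    rintro _ ⟨a, ha, rfl⟩
    exact hkH a ha
  have hAsH : Astar ≤ H := by
    rw [hAs]; exact sup_le (hIA.trans le_sup_left) hCH
  have hB'norm : ∀ x ∈ ⁅B, B⁆, ∀ g ∈ B, g * x * g⁻¹ ∈ ⁅B, B⁆ := by
    intro x hx g hg
    have := (le_sup_left.trans (S0597.comm_normalizer B B)) hg
    rw [Subgroup.mem_normalizer_iff] at this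
    exact (this x).1 hx
  have F6 : ⁅B, B⁆ ≤ I := by
    rw [hI]
    refine le_inf hBA ?_
    intro x hx
    exact hAbmem x (hBA (hB'norm x hx b hb))
  have F7 : A ⊓ B ≤ I := by
    rintro x ⟨hxA, hxB⟩
    rw [hI]
    refine ⟨hxA, hAbmem x ?_⟩
    have e : b * x * b⁻¹ = ⁅b, x⁆ * x := by rw [commutatorElement_def]; group
    rw [e]
    exact A.mul_mem (hBA (Subgroup.commutator_mem_commutator hb hxB)) hxA
  have F8a : ∀ x ∈ I, b⁻¹ * x * b ∈ I := by
    intro x hx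
    have hxA := hIA hx
    have hy : b * x * b⁻¹ ∈ A := hAbA x (hIAb hx)
    have hk : kap b (b * x * b⁻¹) ∈ A ⊓ B := by
      refine ⟨?_, hkB _ hy⟩
      have e : kap b (b * x * b⁻¹) = (b * x * b⁻¹) * x⁻¹ := by simp only [kap]; group
      rw [e]; exact A.mul_mem hy (A.inv_mem hxA)
    have h1 : b⁻¹ * kap b (b * x * b⁻¹) * b ∈ A := by
      have e : b⁻¹ * kap b (b * x * b⁻¹) * b =
          kap b (b * x * b⁻¹) * ⁅(kap b (b * x * b⁻¹))⁻¹, b⁻¹⁆ := by
        rw [commutatorElement_def]; group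
      rw [e]
      exact A.mul_mem hk.1 (hBA (Subgroup.commutator_mem_commutator (B.inv_mem hk.2)
        (B.inv_mem hb)))
    have e2 : b⁻¹ * x * b = (b⁻¹ * kap b (b * x * b⁻¹) * b)⁻¹ * x := by
      simp only [kap]; group
    have h2 : b⁻¹ * x * b ∈ A := by
      rw [e2]; exact A.mul_mem (A.inv_mem h1) hxA
    rw [hI]
    exact ⟨h2, hconjAb x hxA⟩
  have F9 : ∀ a ∈ A, ∀ c ∈ A, c * kap b a * c⁻¹ * (kap b a)⁻¹ ∈ I := by
    intro a ha c hc
    rw [hI]
    constructor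
    · have h1 : kap b a * c⁻¹ * (kap b a)⁻¹ ∈ A := by
        have := hHNA (hkH a ha)
        rw [Subgroup.mem_normalizer_iff] at this
        exact (this c⁻¹).1 (A.inv_mem hc)
      have e : c * kap b a * c⁻¹ * (kap b a)⁻¹ = c * (kap b a * c⁻¹ * (kap b a)⁻¹) := by group
      rw [e]; exact A.mul_mem hc h1
    · have hac : c * a = a * c := hA c hc a ha
      have e : c * kap b a * c⁻¹ * (kap b a)⁻¹ =
          a * ((c * (b⁻¹ * a⁻¹ * b) * c⁻¹) * (b⁻¹ * a * b)) * a⁻¹ := by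
        simp only [kap]
        calc c * (a * b⁻¹ * a⁻¹ * b) * c⁻¹ * (a * b⁻¹ * a⁻¹ * b)⁻¹
            = (c * a) * (b⁻¹ * a⁻¹ * b) * c⁻¹ * (b⁻¹ * a * b) * a⁻¹ := by group
          _ = (a * c) * (b⁻¹ * a⁻¹ * b) * c⁻¹ * (b⁻¹ * a * b) * a⁻¹ := by rw [hac]
          _ = a * ((c * (b⁻¹ * a⁻¹ * b) * c⁻¹) * (b⁻¹ * a * b)) * a⁻¹ := by group
      rw [e]
      have h1 : c * (b⁻¹ * a⁻¹ * b) * c⁻¹ ∈ Ab := by
        have := F2 hc
        rw [Subgroup.mem_normalizer_iff] at this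
        exact (this _).1 (hconjAb _ (A.inv_mem ha))
      have h2 := Ab.mul_mem h1 (hconjAb a ha)
      have := F2 ha
      rw [Subgroup.mem_normalizer_iff] at this
      exact (this _).1 h2
  have F10 : ∀ a c : G, kap b (c * a) =
      (c * kap b a * c⁻¹ * (kap b a)⁻¹) * kap b a * kap b c := by
    intro a c; simp only [kap]; group
  have R : ∀ x ∈ Astar, ∃ i ∈ I, ∃ a ∈ A, x = i * kap b a := by
    have hAs' : Astar = Subgroup.closure
        ((I : Set G) ∪ {g : G | ∃ a ∈ A, g = a * b⁻¹ * a⁻¹ * b}) := by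
      rw [hAs, hCdef, Subgroup.closure_union, Subgroup.closure_eq]
    intro x hx
    rw [hAs'] at hx
    induction hx using Subgroup.closure_induction with
    | mem x hx =>
      rcases hx with hx | ⟨a, ha, rfl⟩
      · exact ⟨x, hx, 1, A.one_mem, by simp [kap]⟩
      · exact ⟨1, I.one_mem, a, ha, by simp [kap]⟩
    | one => exact ⟨1, I.one_mem, 1, A.one_mem, by simp [kap]⟩
    | mul x y _ _ ihx ihy =>
      obtain ⟨i, hi, a, ha, rfl⟩ := ihx
      obtain ⟨i', hi', c, hc, rfl⟩ := ihy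
      refine ⟨i * i' * (c * kap b a * c⁻¹ * (kap b a)⁻¹)⁻¹,
        I.mul_mem (I.mul_mem hi hi') (I.inv_mem (F9 a ha c hc)), c * a, A.mul_mem hc ha, ?_⟩
      rw [F10 a c]
      have h1 : i' * kap b a = kap b a * i' := hIcent i' hi' _ (hkH a ha)
      calc i * kap b a * (i' * kap b c) = i * (kap b a * i') * kap b c := by group
        _ = i * (i' * kap b a) * kap b c := by rw [h1]
        _ = i * i' * (c * kap b a * c⁻¹ * (kap b a)⁻¹)⁻¹ *
            (c * kap b a * c⁻¹ * (kap b a)⁻¹ * kap b a * kap b c) := by group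
    | inv x _ ih =>
      obtain ⟨i, hi, a, ha, rfl⟩ := ih
      have hj := F9 a ha a⁻¹ (A.inv_mem ha)
      have e := F10 a a⁻¹
      have e1 : kap b (a⁻¹ * a) = 1 := by simp [kap]
      rw [e1] at e
      refine ⟨i⁻¹ * (a⁻¹ * kap b a * a⁻¹⁻¹ * (kap b a)⁻¹), I.mul_mem (I.inv_mem hi) hj, a⁻¹,
        A.inv_mem ha, ?_⟩
      have h1 : i⁻¹ * (kap b a)⁻¹ = (kap b a)⁻¹ * i⁻¹ :=
        hIcent _ (I.inv_mem hi) _ (H.inv_mem (hkH a ha))
      have hc1 : (a⁻¹ * kap b a * a⁻¹⁻¹ * (kap b a)⁻¹) * kap b a =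
          kap b a * (a⁻¹ * kap b a * a⁻¹⁻¹ * (kap b a)⁻¹) := hIcent _ hj _ (hkH a ha)
      rw [hc1] at e
      have h2 : (kap b a)⁻¹ = (a⁻¹ * kap b a * a⁻¹⁻¹ * (kap b a)⁻¹) * kap b a⁻¹ := by
        calc (kap b a)⁻¹ = (kap b a)⁻¹ * 1 := by group
          _ = (kap b a)⁻¹ * (kap b a * (a⁻¹ * kap b a * a⁻¹⁻¹ * (kap b a)⁻¹) * kap b a⁻¹) := by
            rw [← e]
          _ = (a⁻¹ * kap b a * a⁻¹⁻¹ * (kap b a)⁻¹) * kap b a⁻¹ := by group
      calc (i * kap b a)⁻¹ = (kap b a)⁻¹ * i⁻¹ := by group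
        _ = i⁻¹ * (kap b a)⁻¹ := h1.symm
        _ = i⁻¹ * ((a⁻¹ * kap b a * a⁻¹⁻¹ * (kap b a)⁻¹) * kap b a⁻¹) := by rw [← h2]
        _ = i⁻¹ * (a⁻¹ * kap b a * a⁻¹⁻¹ * (kap b a)⁻¹) * kap b a⁻¹ := by group
  have c2 : ∀ x ∈ Astar, ∀ y ∈ Astar, x * y = y * x := by
    have hAs' : Astar = Subgroup.closure ((I : Set G) ∪ (C : Set G)) := by
      rw [hAs, Subgroup.closure_union, Subgroup.closure_eq, Subgroup.closure_eq]
    rw [hAs']
    apply S0119.closure_comm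
    intro x hx y hy
    rcases hx with hx | hx
    · rcases hy with hy | hy
      · exact hIcent x hx y (hIA.trans le_sup_left hy)
      · exact hIcent x hx y (hCH hy)
    · rcases hy with hy | hy
      · exact (hIcent y hy x (hCH hx)).symm
      · exact hC x hx y hy
  have hsup : Astar ⊔ Ab = A ⊔ Ab := by
    apply le_antisymm (sup_le hAsH le_sup_right)
    apply sup_le _ le_sup_right
    intro a ha
    have e : a = kap b a * (b⁻¹ * a * b) := by simp only [kap]; group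
    rw [e]
    exact Subgroup.mul_mem_sup (by rw [hAs]; exact Subgroup.mem_sup_right (hkC a ha))
      (hconjAb a ha)
  have hinf : Astar ⊓ Ab = I := by
    apply le_antisymm
    · rintro x ⟨hx1, hx2⟩
      obtain ⟨i, hi, a, ha, rfl⟩ := R x hx1
      have h1 : kap b a ∈ Ab := by
        have e : kap b a = i⁻¹ * (i * kap b a) := by group
        rw [e]; exact Ab.mul_mem (Ab.inv_mem (hIAb hi)) hx2
      have h2 : a ∈ Ab := by
        have e : a = kap b a * (b⁻¹ * a * b) := by simp only [kap]; group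
        rw [e]; exact Ab.mul_mem h1 (hconjAb a ha)
      have h3 : a ∈ I := by rw [hI]; exact ⟨ha, h2⟩
      have h4 : kap b a ∈ I := by
        have e : kap b a = a * (b⁻¹ * a⁻¹ * b) := by simp only [kap]; group
        rw [e]; exact I.mul_mem h3 (F8a _ (I.inv_mem h3))
      exact I.mul_mem hi h4
    · exact le_inf (by rw [hAs]; exact le_sup_left) hIAb
  have c1 : Nat.card Astar = Nat.card A := by
    have h1 := card_sup_mul_card_inf' A Ab F2
    have h2 := card_sup_mul_card_inf' Astar Ab (hAsH.trans hHNAb)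
    rw [hsup, hinf] at h2
    rw [← hI] at h1
    rw [h1] at h2
    exact (Nat.eq_of_mul_eq_mul_right Nat.card_pos h2).symm
  have c6 : A ≤ Subgroup.normalizer (Astar : Set G) := by
    intro c hc
    apply norm_of_conj
    intro x hx
    obtain ⟨i, hi, a, ha, rfl⟩ := R x hx
    have e : c * (i * kap b a) * c⁻¹ =
        (c * i * c⁻¹) * (c * kap b a * c⁻¹ * (kap b a)⁻¹) * kap b a := by group
    have h1 : c * i * c⁻¹ = i := by
      rw [← hIcent i hi c (le_sup_left (a := A) hc)]; group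
    rw [e, h1, hAs]
    exact Subgroup.mul_mem _ (Subgroup.mem_sup_left (I.mul_mem hi (F9 a ha c hc)))
      (Subgroup.mem_sup_right (hkC a ha))
  have c8 : b ∈ Subgroup.normalizer (Astar : Set G) := by
    have : b⁻¹ ∈ Subgroup.normalizer (Astar : Set G) := by
      apply norm_of_conj
      intro x hx
      rw [inv_inv]
      obtain ⟨i, hi, a, ha, rfl⟩ := R x hx
      have e : b⁻¹ * (i * kap b a) * b =
          (b⁻¹ * i * b) * (kap b a * ⁅(kap b a)⁻¹, b⁻¹⁆) := by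
        rw [commutatorElement_def]; group
      rw [e, hAs]
      exact Subgroup.mul_mem _ (Subgroup.mem_sup_left (F8a i hi))
        (Subgroup.mul_mem _ (Subgroup.mem_sup_right (hkC a ha))
          (Subgroup.mem_sup_left (F6 (Subgroup.commutator_mem_commutator
            (B.inv_mem (hkB a ha)) (B.inv_mem hb)))))
    simpa using Subgroup.inv_mem _ this
  have F13 : ∀ u ∈ A, ∀ v ∈ Ab, v⁻¹ * u⁻¹ * v * u ∈ I := by
    intro u hu v hv
    rw [hI]
    constructor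
    · have h1 : v⁻¹ * u⁻¹ * v⁻¹⁻¹ ∈ A := by
        have := F1 (Ab.inv_mem hv)
        rw [Subgroup.mem_normalizer_iff] at this
        exact (this u⁻¹).1 (A.inv_mem hu)
      rw [inv_inv] at h1
      exact A.mul_mem h1 hu
    · have h1 : u⁻¹ * v * u⁻¹⁻¹ ∈ Ab := by
        have := F2 (A.inv_mem hu)
        rw [Subgroup.mem_normalizer_iff] at this
        exact (this v).1 hv
      rw [inv_inv] at h1
      have e : v⁻¹ * u⁻¹ * v * u = v⁻¹ * (u⁻¹ * v * u) := by group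
      rw [e]; exact Ab.mul_mem (Ab.inv_mem hv) h1
  exact ⟨c1, c2, F6, F7, hCB, c6, hAsH.trans hHNA, c8, R, hAsH, hIcent, F8a, F13, hconjAb, hAbA⟩

theorem abel_C {S : Type*} [Group S] [Finite S] {p : ℕ} [Fact p.Prime] (hS : IsPGroup p S)
    (A B : Subgroup S) (hA : ∀ x ∈ A, ∀ y ∈ A, x * y = y * x)
    (hAB : A ≤ Subgroup.normalizer (B : Set S)) (hBA : ⁅B, B⁆ ≤ A)
    (hB2 : p = 2 → ∀ x ∈ B, ∀ y ∈ B, x * y = y * x) (b : S) (hb : b ∈ B)
    (hb1 : ∀ a ∈ A, b⁻¹ * a * b ∈ Subgroup.normalizer (A : Set S)) :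
    ∀ x ∈ Subgroup.closure {g : S | ∃ a ∈ A, g = a * b⁻¹ * a⁻¹ * b},
      ∀ y ∈ Subgroup.closure {g : S | ∃ a ∈ A, g = a * b⁻¹ * a⁻¹ * b}, x * y = y * x := by
  set C := Subgroup.closure {g : S | ∃ a ∈ A, g = a * b⁻¹ * a⁻¹ * b} with hC
  have hCB : C ≤ B := by
    rw [hC, Subgroup.closure_le]
    rintro _ ⟨a, ha, rfl⟩
    have h1 : a * b⁻¹ * a⁻¹ ∈ B := by
      have := hAB ha
      rw [Subgroup.mem_normalizer_iff] at this
      exact (this b⁻¹).1 (B.inv_mem hb)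
    exact B.mul_mem h1 hb
  by_cases hp2 : p = 2
  · intro x hx y hy
    exact hB2 hp2 x (hCB hx) y (hCB hy)
  · set U := Subgroup.closure {g : S | ∃ a ∈ A, g = b⁻¹ * a * b * a⁻¹} with hU
    have hUC : U = C := by
      apply le_antisymm
      · rw [hU, Subgroup.closure_le]
        rintro _ ⟨a, ha, rfl⟩
        have e : b⁻¹ * a * b * a⁻¹ = (a * b⁻¹ * a⁻¹ * b)⁻¹ := by group
        rw [e]
        exact C.inv_mem (Subgroup.subset_closure ⟨a, ha, rfl⟩)
      · rw [hC, Subgroup.closure_le]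
        rintro _ ⟨a, ha, rfl⟩
        have e : a * b⁻¹ * a⁻¹ * b = (b⁻¹ * a * b * a⁻¹)⁻¹ := by group
        rw [e]
        exact U.inv_mem (Subgroup.subset_closure ⟨a, ha, rfl⟩)
    have hAA : ⁅A, A⁆ = ⊥ := by
      rw [Subgroup.commutator_eq_bot_iff_le_centralizer]
      intro x hx
      rw [Subgroup.mem_centralizer_iff]
      intro y hy
      exact hA y hy x hx
    have hc : ⁅⁅B, B⁆, A⁆ = ⊥ := le_bot_iff.1 (hAA ▸ Subgroup.commutator_mono hBA le_rfl)
    have hUN : U ≤ Subgroup.normalizer (A : Set S) := by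
      rw [hU, Subgroup.closure_le]
      rintro _ ⟨a, ha, rfl⟩
      have e : b⁻¹ * a * b * a⁻¹ = (b⁻¹ * a * b) * a⁻¹ := by group
      rw [e]
      exact Subgroup.mul_mem _ (hb1 a ha) (Subgroup.le_normalizer (A.inv_mem ha))
    have hUA : ⁅U, A⁆ ≤ A := by
      rw [Subgroup.commutator_le]
      intro u hu a ha
      have h1 : u * a * u⁻¹ ∈ A := by
        have := hUN hu
        rw [Subgroup.mem_normalizer_iff] at this
        exact (this a).1 ha
      have e : ⁅u, a⁆ = (u * a * u⁻¹) * a⁻¹ := by rw [commutatorElement_def]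
      rw [e]; exact A.mul_mem h1 (A.inv_mem ha)
    have hUAA : ⁅⁅U, A⁆, A⁆ = ⊥ := le_bot_iff.1 (hAA ▸ Subgroup.commutator_mono hUA le_rfl)
    have h648 := (S0648.result A B hAB hc).2 (IsMulCommutative.of_setLike_mul_comm hA) b hb hUAA
    have hUU : ⁅U, U⁆ = ⊥ := by
      rw [eq_bot_iff]
      intro w hw
      have h2 := h648 w hw
      obtain ⟨k, hk⟩ := hS w
      have d1 : orderOf w ∣ 2 := orderOf_dvd_of_pow_eq_one h2
      have d2 : orderOf w ∣ p ^ k := orderOf_dvd_of_pow_eq_one hk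
      have hcop : Nat.Coprime 2 (p ^ k) := Nat.Coprime.pow_right k
        ((Nat.coprime_primes Nat.prime_two (Fact.out)).2 (Ne.symm hp2))
      have := Nat.eq_one_of_dvd_coprimes hcop d1 d2
      rw [orderOf_eq_one_iff] at this
      rw [Subgroup.mem_bot]; exact this
    intro x hx y hy
    rw [← hUC] at hx hy
    have := Subgroup.commutator_mem_commutator hx hy
    rw [hUU, Subgroup.mem_bot, commutatorElement_eq_one_iff_mul_comm] at this
    exact this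

theorem result {S : Type*} [Group S] [Finite S] {p : ℕ} [Fact p.Prime] (hS : IsPGroup p S) (B : Subgroup S) [B.Normal] (hB2 : p = 2 → IsMulCommutative B) (A : Subgroup S) (hA : IsMulCommutative A) (hBA : ⁅B, B⁆ ≤ A) (hnot : ¬ B ≤ Subgroup.normalizer (A : Set S)) (b : S) (hb : b ∈ B) (hbN : b ∈ Subgroup.normalizer ((Subgroup.normalizer (A : Set S)) : Set S)) (hbA : b ∉ Subgroup.normalizer (A : Set S)) : Nat.card ↥((A ⊓ A.map (MulAut.conj (b⁻¹)).toMonoidHom) ⊔ Subgroup.closure {g : S | ∃ a ∈ A, g = a * b⁻¹ * a⁻¹ * b}) = Nat.card A ∧ IsMulCommutative ↥((A ⊓ A.map (MulAut.conj (b⁻¹)).toMonoidHom) ⊔ Subgroup.closure {g : S | ∃ a ∈ A, g = a * b⁻¹ * a⁻¹ * b}) ∧ ⁅B, B⁆ ≤ ((A ⊓ A.map (MulAut.conj (b⁻¹)).toMonoidHom) ⊔ Subgroup.closure {g : S | ∃ a ∈ A, g = a * b⁻¹ * a⁻¹ * b}) ∧ A ⊓ B < ((A ⊓ A.map (MulAut.conj (b⁻¹)).toMonoidHom) ⊔ Subgroup.closure {g : S | ∃ a ∈ A, g = a * b⁻¹ * a⁻¹ * b}) ⊓ B ∧ ((A ⊓ A.map (MulAut.conj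 (b⁻¹)).toMonoidHom) ⊔ Subgroup.closure {g : S | ∃ a ∈ A, g = a * b⁻¹ * a⁻¹ * b}) ⊓ B < B ∧ A ≤ Subgroup.normalizer (((A ⊓ A.map (MulAut.conj (b⁻¹)).toMonoidHom) ⊔ Subgroup.closure {g : S | ∃ a ∈ A, g = a * b⁻¹ * a⁻¹ * b} : Subgroup S) : Set S) ∧ ((A ⊓ A.map (MulAut.conj (b⁻¹)).toMonoidHom) ⊔ Subgroup.closure {g : S | ∃ a ∈ A, g = a * b⁻¹ * a⁻¹ * b}) ≤ Subgroup.normalizer (A : Set S) ∧ b ∈ Subgroup.normalizer (((A ⊓ A.map (MulAut.conj (b⁻¹)).toMonoidHom) ⊔ Subgroup.closure {g : S | ∃ a ∈ A, g = a * b⁻¹ * a⁻¹ * b} : Subgroup S) : Set S) ∧ Subgroup.normalizer (A : Set S) < Subgroup.normalizer (((A ⊓ A.map (MulAut.conj (b⁻¹)).toMonoidHom) ⊔ Subgroup.closure {g : S | ∃ a ∈ A, g = a * b⁻¹ * a⁻¹ * b} : Subgroup S) : Set S) ∧ (p ≠ 2 → Monoid.exponent ↥((A ⊓ A.map (MulAut.conj (b⁻¹)).toMonoidHom) ⊔ Subgroup.closure {g : S | ∃ a ∈ A, g = a * b⁻¹ * a⁻¹ * b}) ∣ Monoid.exponent A) := by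
  have hp : p.Prime := Fact.out
  have hA' : ∀ x ∈ A, ∀ y ∈ A, x * y = y * x := fun x hx y hy => setLike_mul_comm hx hy
  have hBn : B.Normal := inferInstance
  have hAB : A ≤ Subgroup.normalizer (B : Set S) := by
    intro a _
    rw [Subgroup.mem_normalizer_iff]
    intro h
    constructor
    · intro hh; exact hBn.conj_mem h hh a
    · intro hh
      have := hBn.conj_mem _ hh a⁻¹
      simpa [mul_assoc] using this
  have hbN' := hbN
  rw [Subgroup.mem_normalizer_iff] at hbN'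
  have hb1 : ∀ a ∈ A, b⁻¹ * a * b ∈ Subgroup.normalizer (A : Set S) := by
    intro a ha
    apply (hbN' _).2
    have e : b * (b⁻¹ * a * b) * b⁻¹ = a := by group
    rw [e]; exact Subgroup.le_normalizer ha
  have hb2 : ∀ a ∈ A, b * a * b⁻¹ ∈ Subgroup.normalizer (A : Set S) := fun a ha =>
    (hbN' a).1 (Subgroup.le_normalizer ha)
  have hCab := abel_C hS A B hA' hAB hBA (fun h2 x hx y hy => by
    haveI := hB2 h2; exact setLike_mul_comm hx hy) b hb hb1
  set Ab := A.map (MulAut.conj b⁻¹).toMonoidHom with hAb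
  set I := A ⊓ Ab with hI
  set C := Subgroup.closure {g : S | ∃ a ∈ A, g = a * b⁻¹ * a⁻¹ * b} with hCdef
  set Astar := I ⊔ C with hAs
  obtain ⟨c1, c2, F6, F7, hCB, c6, c7, c8, R, hAsH, hIcent, F8a, F13, hconjAb, hAbA⟩ :=
    core A B hA' hAB hBA b hb hb1 hb2 Ab I C Astar hAb hI hCdef hAs hCab
  have hkC : ∀ a ∈ A, kap b a ∈ C := fun a ha => Subgroup.subset_closure ⟨a, ha, rfl⟩
  have hIA : I ≤ A := inf_le_left
  have hex : ∃ a ∈ A, b⁻¹ * a * b ∉ A := by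
    by_contra hcon
    have hcon' : ∀ a ∈ A, b⁻¹ * a * b ∈ A := by
      intro a ha
      by_contra h
      exact hcon ⟨a, ha, h⟩
    have : b⁻¹ ∈ Subgroup.normalizer (A : Set S) := by
      apply norm_of_conj
      intro x hx
      rw [inv_inv]; exact hcon' x hx
    exact hbA (by simpa using Subgroup.inv_mem _ this)
  refine ⟨c1, IsMulCommutative.of_setLike_mul_comm c2, F6.trans le_sup_left, ?_, ?_, c6, c7, c8,
    ?_, ?_⟩
  · rw [SetLike.lt_iff_le_and_exists]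
    refine ⟨le_inf (F7.trans le_sup_left) inf_le_right, ?_⟩
    obtain ⟨a, ha, hna⟩ := hex
    refine ⟨kap b a, ⟨Subgroup.mem_sup_right (hkC a ha), hCB (hkC a ha)⟩, ?_⟩
    rintro ⟨hkA, -⟩
    apply hna
    have e : b⁻¹ * a * b = (a⁻¹ * kap b a)⁻¹ := by simp only [kap]; group
    rw [e]
    exact A.inv_mem (A.mul_mem (A.inv_mem ha) hkA)
  · refine lt_of_le_of_ne inf_le_right ?_
    intro h
    apply hnot
    have : B ≤ Astar := by rw [← h]; exact inf_le_left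
    exact this.trans c7
  · rw [SetLike.lt_iff_le_and_exists]
    refine ⟨?_, b, c8, hbA⟩
    intro m hm
    apply norm_of_conj
    intro x hx
    obtain ⟨i, hi, a, ha, rfl⟩ := R x hx
    have hm' := hm
    rw [Subgroup.mem_normalizer_iff] at hm'
    have hm1 : b * m * b⁻¹ ∈ Subgroup.normalizer (A : Set S) := (hbN' m).1 hm
    have hm1' := hm1
    rw [Subgroup.mem_normalizer_iff] at hm1'
    have h1 : m * i * m⁻¹ ∈ I := by
      have e : b * (m * i * m⁻¹) * b⁻¹ = (b * m * b⁻¹) * (b * i * b⁻¹) * (b * m * b⁻¹)⁻¹ := by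
        group
      have h9 : m * i * m⁻¹ ∈ Ab := by
        rw [hAb]
        exact (mem_conj_inv A b _).2 (by rw [e]; exact (hm1' _).1 (hAbA i hi.2))
      exact ⟨(hm' i).1 (hIA hi), h9⟩
    have ha'A : m * a * m⁻¹ ∈ A := (hm' a).1 ha
    have ha''A : (b * m * b⁻¹) * a * (b * m * b⁻¹)⁻¹ ∈ A := (hm1' a).1 ha
    have e : m * (i * kap b a) * m⁻¹ = (m * i * m⁻¹) *
        ((m * a * m⁻¹) * ((b * m * b⁻¹) * a * (b * m * b⁻¹)⁻¹)⁻¹) *
        kap b ((b * m * b⁻¹) * a * (b * m * b⁻¹)⁻¹) := by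
      simp only [kap]; group
    have h2 : (m * a * m⁻¹) * ((b * m * b⁻¹) * a * (b * m * b⁻¹)⁻¹)⁻¹ ∈ A ⊓ B := by
      refine ⟨A.mul_mem ha'A (A.inv_mem ha''A), ?_⟩
      have hn : m⁻¹ * b * m * b⁻¹ ∈ B := by
        have := hBn.conj_mem b hb m⁻¹
        rw [inv_inv] at this
        exact B.mul_mem this (B.inv_mem hb)
      have h3 : a * (m⁻¹ * b * m * b⁻¹) * a⁻¹ * (m⁻¹ * b * m * b⁻¹)⁻¹ ∈ B := by
        have := hBn.conj_mem _ hn a
        exact B.mul_mem this (B.inv_mem hn)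
      have e2 : (m * a * m⁻¹) * ((b * m * b⁻¹) * a * (b * m * b⁻¹)⁻¹)⁻¹ =
          m * (a * (m⁻¹ * b * m * b⁻¹) * a⁻¹ * (m⁻¹ * b * m * b⁻¹)⁻¹) * m⁻¹ := by
        group
      rw [e2]
      exact hBn.conj_mem _ h3 m
    rw [e]
    exact Subgroup.mul_mem _ (Subgroup.mul_mem _ (Subgroup.mem_sup_left h1)
      (Subgroup.mem_sup_left (F7 h2))) (Subgroup.mem_sup_right (hkC _ ha''A))
  · intro hp2
    set e := Monoid.exponent ↥A with he
    have hpowA : ∀ a ∈ A, a ^ e = 1 := by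
      intro a ha
      have h1 := Monoid.pow_exponent_eq_one (⟨a, ha⟩ : A)
      have h2 := congrArg (Subtype.val) h1
      simpa using h2
    have hodd : Odd e := by
      obtain ⟨n, hn⟩ := IsPGroup.iff_card.1 hS
      have h1 : e ∣ p ^ n := by
        rw [← hn]
        exact (Group.exponent_dvd_nat_card (G := A)).trans (Subgroup.card_subgroup_dvd_card A)
      obtain ⟨j, -, hj⟩ := (Nat.dvd_prime_pow hp).1 h1
      rw [hj]
      exact Odd.pow (hp.eq_two_or_odd'.resolve_left hp2)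
    have hsum : e ∣ ∑ i ∈ Finset.range e, i := by
      obtain ⟨m, hm⟩ := hodd
      have h1 := Finset.sum_range_id_mul_two e
      have h2 : e - 1 = 2 * m := by omega
      rw [h2] at h1
      have h3 : (∑ i ∈ Finset.range e, i) = e * m := by
        have : (∑ i ∈ Finset.range e, i) * 2 = (e * m) * 2 := by rw [h1]; ring
        exact Nat.eq_of_mul_eq_mul_right (by norm_num) this
      rw [h3]; exact Dvd.intro _ rfl
    apply Monoid.exponent_dvd_of_forall_pow_eq_one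
    rintro ⟨x, hx⟩
    apply Subtype.ext
    rw [Subgroup.coe_pow]
    show x ^ e = 1
    obtain ⟨i, hi, a, ha, rfl⟩ := R x hx
    have hvAb : b⁻¹ * a⁻¹ * b ∈ Ab := hconjAb _ (A.inv_mem ha)
    have hkuv : kap b a = a * (b⁻¹ * a⁻¹ * b) := by simp only [kap]; group
    have hcI : (b⁻¹ * a⁻¹ * b)⁻¹ * a⁻¹ * (b⁻¹ * a⁻¹ * b) * a ∈ I := F13 a ha _ hvAb
    have hc1 : (b⁻¹ * a⁻¹ * b) * a =
        a * (b⁻¹ * a⁻¹ * b) * ((b⁻¹ * a⁻¹ * b)⁻¹ * a⁻¹ * (b⁻¹ * a⁻¹ * b) * a) := by group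
    have hcu := hIcent _ hcI a (Subgroup.mem_sup_left ha)
    have hcv := hIcent _ hcI _ (Subgroup.mem_sup_right hvAb)
    have hkpow : kap b a ^ e = 1 := by
      rw [hkuv, S0130.mul_pow_class2 a _ _ hc1 hcu hcv e, hpowA a ha]
      have hve : (b⁻¹ * a⁻¹ * b) ^ e = 1 := by
        have h1 := hpowA _ (hAbA _ hvAb)
        rw [conj_pow] at h1
        have : (b⁻¹ * a⁻¹ * b) ^ e = b⁻¹ * (b * (b⁻¹ * a⁻¹ * b) ^ e * b⁻¹) * b := by group
        rw [this, h1]; group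
      obtain ⟨t, ht⟩ := hsum
      rw [hve, ht, pow_mul, hpowA _ (hIA hcI)]
      simp
    have hcomm : Commute i (kap b a) :=
      hIcent i hi _ (hAsH (Subgroup.mem_sup_right (hkC a ha)))
    rw [hcomm.mul_pow, hpowA i (hIA hi), hkpow, one_mul]

end Cfsg.Agent.S0650
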