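import Mathlib
import Cfsg.Statements.S0651
import Cfsg.Agent.S0650
import Cfsg.Agent.S0003
set_option autoImplicit false
open Pointwise
open Cfsg
open scoped commutatorElement

namespace Cfsg.Agent.S0651

theorem card_lt_of_lt {S : Type*} [Group S] [Finite S] {H K : Subgroup S} (h : H < K) :
    Nat.card H < Nat.card K :=
  lt_of_le_of_ne (Subgroup.card_le_of_le h.le)
    (fun h' => h.ne (Subgroup.eq_of_le_of_card_ge h.le h'.ge))

theorem repl_induct {S : Type*} [Group S] [Finite S] (B : Subgroup S) (P : Subgroup S → Prop)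
    (step : ∀ A, P A → ¬ B ≤ Subgroup.normalizer (A : Set S) → ∃ A', P A' ∧ A ⊓ B < A' ⊓ B) :
    ∀ A, P A → ∃ A', P A' ∧ B ≤ Subgroup.normalizer (A' : Set S) := by
  have key : ∀ n : ℕ, ∀ A, P A → Nat.card B - Nat.card ↥(A ⊓ B) ≤ n →
      ∃ A', P A' ∧ B ≤ Subgroup.normalizer (A' : Set S) := by
    intro n
    induction n with
    | zero =>
      intro A hA hn
      by_cases hB : B ≤ Subgroup.normalizer (A : Set S)
      · exact ⟨A, hA, hB⟩
      · obtain ⟨A', hA', hlt⟩ := step A hA hB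
        exfalso
        have h1 : Nat.card ↥(A ⊓ B) < Nat.card ↥(A' ⊓ B) := card_lt_of_lt hlt
        have h2 : Nat.card ↥(A' ⊓ B) ≤ Nat.card B := Subgroup.card_le_of_le inf_le_right
        omega
    | succ n ih =>
      intro A hA hn
      by_cases hB : B ≤ Subgroup.normalizer (A : Set S)
      · exact ⟨A, hA, hB⟩
      · obtain ⟨A', hA', hlt⟩ := step A hA hB
        apply ih A' hA'
        have h1 : Nat.card ↥(A ⊓ B) < Nat.card ↥(A' ⊓ B) := card_lt_of_lt hlt
        omega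
  intro A hA
  exact key _ A hA le_rfl

theorem exists_b {S : Type*} [Group S] [Finite S] {p : ℕ} [Fact p.Prime] (hS : IsPGroup p S)
    (B : Subgroup S) [B.Normal] (A : Subgroup S)
    (hnot : ¬ B ≤ Subgroup.normalizer (A : Set S)) :
    ∃ b ∈ B, b ∈ Subgroup.normalizer ((Subgroup.normalizer (A : Set S)) : Set S) ∧
      b ∉ Subgroup.normalizer (A : Set S) := by
  set N := Subgroup.normalizer (A : Set S) with hN
  haveI : Group.IsNilpotent ↥(N ⊔ B) := (hS.to_subgroup (N ⊔ B)).isNilpotent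
  have hnc := normalizerCondition_of_isNilpotent (G := ↥(N ⊔ B))
  have hlt : N.subgroupOf (N ⊔ B) < ⊤ := by
    rw [lt_top_iff_ne_top]
    intro h
    rw [Subgroup.subgroupOf_eq_top] at h
    exact hnot (le_sup_right.trans h)
  have h1 := hnc _ hlt
  obtain ⟨x, hx, hxN⟩ := SetLike.exists_of_lt h1
  have hxM : (x : S) ∈ N ⊔ B := x.2
  have hxn : (x : S) ∈ Subgroup.normalizer (N : Set S) := by
    apply S0650.norm_of_conj
    intro y hy
    rw [Subgroup.mem_normalizer_iff] at hx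
    have h2 := (hx ⟨y, (le_sup_left : N ≤ N ⊔ B) hy⟩).1
      (by rw [Subgroup.mem_subgroupOf]; exact hy)
    rw [Subgroup.mem_subgroupOf] at h2
    simpa using h2
  rw [Subgroup.mem_sup_of_normal_right] at hxM
  obtain ⟨n, hn, b, hb, hnb⟩ := hxM
  refine ⟨b, hb, ?_, ?_⟩
  · have : b = n⁻¹ * x := by rw [← hnb]; group
    rw [this]
    exact Subgroup.mul_mem _ (Subgroup.inv_mem _ (Subgroup.le_normalizer hn)) hxn
  · intro hbN
    apply hxN
    rw [Subgroup.mem_subgroupOf, ← hnb]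
    exact N.mul_mem hn hbN

theorem mem_fam {S : Type*} [Group S] [Finite S] (D : Subgroup S) (X : Subgroup S) :
    X ∈ (Set.image (fun A : Subgroup ↥D => A.map D.subtype) (Cfsg.maxAbelianSubgroups ↥D)) ↔
    X ≤ D ∧ IsMulCommutative X ∧
      ∀ Y : Subgroup S, Y ≤ D → IsMulCommutative Y → Nat.card Y ≤ Nat.card X := by
  constructor
  · rintro ⟨A, ⟨hA, hmax⟩, rfl⟩
    refine ⟨Subgroup.map_subtype_le A, ?_, ?_⟩
    · haveI := hA; exact Subgroup.map_isMulCommutative A D.subtype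
    · intro Y hY hYc
      have h1 : Nat.card (A.map D.subtype) = Nat.card A :=
        Subgroup.card_map_of_injective D.subtype_injective
      show Nat.card Y ≤ Nat.card (A.map D.subtype)
      rw [h1]
      have h2 := hmax (Y.subgroupOf D)
        (by haveI := hYc; exact Subgroup.subgroupOf_isMulCommutative D Y)
      rwa [S0003.card_subgroupOf_eq', inf_eq_left.2 hY] at h2
  · rintro ⟨hXD, hXc, hmax⟩
    refine ⟨X.subgroupOf D, ⟨?_, ?_⟩, ?_⟩
    · haveI := hXc; exact Subgroup.subgroupOf_isMulCommutative D X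
    · intro B hB
      have h1 : Nat.card (B.map D.subtype) = Nat.card B :=
        Subgroup.card_map_of_injective D.subtype_injective
      have h2 := hmax (B.map D.subtype) (Subgroup.map_subtype_le B)
        (by haveI := hB; exact Subgroup.map_isMulCommutative B D.subtype)
      rw [S0003.card_subgroupOf_eq', inf_eq_left.2 hXD, ← h1]
      exact h2
    · exact Subgroup.map_subgroupOf_eq_of_le hXD

theorem astar_le {S : Type*} [Group S] (D : Subgroup S) [hD : D.Normal] (A : Subgroup S)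
    (hAD : A ≤ D) (b : S) :
    ((A ⊓ A.map (MulAut.conj (b⁻¹)).toMonoidHom) ⊔
      Subgroup.closure {g : S | ∃ a ∈ A, g = a * b⁻¹ * a⁻¹ * b}) ≤ D := by
  refine sup_le (inf_le_left.trans hAD) ?_
  rw [Subgroup.closure_le]
  rintro g ⟨a, ha, rfl⟩
  have h1 := hD.conj_mem a⁻¹ (D.inv_mem (hAD ha)) b⁻¹
  rw [inv_inv] at h1
  have e : a * b⁻¹ * a⁻¹ * b = a * (b⁻¹ * a⁻¹ * b) := by group
  rw [e]
  exact D.mul_mem (hAD ha) h1

theorem result {S : Type*} [Group S] [Finite S] {p : ℕ} [Fact p.Prime] (hS : IsPGroup p S) (hp : p ≠ 2) (D : Subgroup S) [D.Normal] : ∀ (B : Subgroup S) [B.Normal], ⁅⁅B, B⁆, B⁆ = ⊥ → (∃ U ∈ (Set.image (fun A : Subgroup ↥D => A.map D.subtype) (Cfsg.maxAbelianSubgroups ↥D)), ⁅B, B⁆ ≤ U ∧ ¬ B ≤ U) → ∃ A ∈ (Set.image (fun A : Subgroup ↥D => A.map D.subtype) (Cfsg.maxAbelianSubgroups ↥D)), ⁅B, B⁆ ≤ A ∧ ¬ B ≤ A ∧ B ≤ Subgroup.normalizer (A : Set S) := by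
  intro B hBn hB2 ⟨U, hU, hBU, hnBU⟩
  have key := repl_induct B (fun A => A ∈ (Set.image (fun A : Subgroup ↥D => A.map D.subtype)
    (Cfsg.maxAbelianSubgroups ↥D)) ∧ ⁅B, B⁆ ≤ A ∧ ¬ B ≤ A) ?_ U ⟨hU, hBU, hnBU⟩
  · obtain ⟨A, ⟨h1, h2, h3⟩, h4⟩ := key
    exact ⟨A, h1, h2, h3, h4⟩
  · rintro A ⟨hA, hBA, hnBA⟩ hnot
    obtain ⟨b, hb, hbN, hbA⟩ := exists_b hS B A hnot
    rw [mem_fam] at hA
    obtain ⟨hAD, hAc, hAmax⟩ := hA
    obtain ⟨c1, c2, c3, c4, c5, -⟩ := S0650.result hS B (fun h => absurd h hp) A hAc hBA hnot b hb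
      hbN hbA
    refine ⟨_, ⟨?_, c3, ?_⟩, c4⟩
    · rw [mem_fam]
      refine ⟨astar_le D A hAD b, c2, ?_⟩
      intro Y hY hYc
      rw [c1]
      exact hAmax Y hY hYc
    · intro hle
      exact c5.ne (inf_eq_right.2 hle)

end Cfsg.Agent.S0651
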