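import Mathlib
import Cfsg.Statements.S0653
import Cfsg.Agent.S0650
import Cfsg.Agent.S0651
import Cfsg.Agent.S0003
import Cfsg.Agent.S0542
import Cfsg.Agent.S0119
import Cfsg.Agent.Lib.Helper3.Core
set_option autoImplicit false
open Pointwise
open Cfsg
open scoped commutatorElement

namespace Cfsg.Agent.S0653

open Cfsg.Agent.Lib.Helper3.Core

/-- Axioms for a family of abelian subgroups attached to each subgroup. -/
structure Fam {G : Type*} [Group G] (p : ℕ) (F : Subgroup G → Subgroup G → Prop) : Prop where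
  le : ∀ P A, F P A → A ≤ P
  comm : ∀ P A, F P A → IsMulCommutative A
  ex : ∀ P : Subgroup G, ∃ A, F P A
  map : ∀ (φ : G ≃* G) P A, F P A → F (P.map φ.toMonoidHom) (A.map φ.toMonoidHom)
  up : ∀ S T A₀ A, T ≤ S → F S A₀ → A₀ ≤ T → F T A → F S A
  down : ∀ S T A, T ≤ S → F S A → A ≤ T → F T A
  repl : ∀ (S B : Subgroup G), IsPGroup p S → B ≤ S → S ≤ Subgroup.normalizer (B : Set G) →
    ⁅⁅B, B⁆, B⁆ = ⊥ → ∀ U, F S U → ⁅B, B⁆ ≤ U → ¬ B ≤ U →
    ∃ A, F S A ∧ ⁅B, B⁆ ≤ A ∧ ¬ B ≤ A ∧ B ≤ Subgroup.normalizer (A : Set G)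

/-- The intersection of the family. -/
def W {G : Type*} [Group G] (F : Subgroup G → Subgroup G → Prop) (P : Subgroup G) : Subgroup G :=
  sInf {A | F P A}

theorem mem_W {G : Type*} [Group G] (F : Subgroup G → Subgroup G → Prop) (P : Subgroup G) (x : G) :
    x ∈ W F P ↔ ∀ A, F P A → x ∈ A := by
  simp [W, Subgroup.mem_sInf]

theorem map_map_symm {G : Type*} [Group G] (φ : G ≃* G) (P : Subgroup G) :
    (P.map φ.toMonoidHom).map φ.symm.toMonoidHom = P := by
  ext y; constructor
  · rintro ⟨_, ⟨z, hz, rfl⟩, rfl⟩; simpa using hz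
  · intro hy; exact ⟨φ y, ⟨y, hy, rfl⟩, by simp⟩

theorem W_map {G : Type*} [Group G] {p : ℕ} {F : Subgroup G → Subgroup G → Prop} (hF : Fam p F)
    (φ : G ≃* G) (P : Subgroup G) (x : G) (hx : x ∈ W F P) :
    φ x ∈ W F (P.map φ.toMonoidHom) := by
  rw [mem_W] at hx ⊢
  intro A hA
  have h1 := hF.map φ.symm _ A hA
  rw [map_map_symm] at h1
  obtain ⟨a, ha, hax⟩ := hx _ h1
  have : φ x = a := by rw [← hax]; simp
  rw [this]; exact ha

theorem map_conj_eq {G : Type*} [Group G] (T : Subgroup G) (n : G)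
    (hn : n ∈ Subgroup.normalizer (T : Set G)) : T.map (MulAut.conj n).toMonoidHom = T := by
  ext y
  rw [Subgroup.mem_normalizer_iff] at hn
  constructor
  · rintro ⟨z, hz, rfl⟩
    exact (hn z).1 hz
  · intro hy
    refine ⟨n⁻¹ * y * n, ?_, ?_⟩
    · have e : n * (n⁻¹ * y * n) * n⁻¹ = y := by group
      exact (hn _).2 (by rw [e]; exact hy)
    · show n * (n⁻¹ * y * n) * n⁻¹ = y
      group

theorem W_conj {G : Type*} [Group G] {p : ℕ} {F : Subgroup G → Subgroup G → Prop} (hF : Fam p F)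
    (T : Subgroup G) (n : G) (hn : n ∈ Subgroup.normalizer (T : Set G)) (x : G) (hx : x ∈ W F T) :
    n * x * n⁻¹ ∈ W F T := by
  have h := W_map hF (MulAut.conj n) T x hx
  rw [map_conj_eq T n hn] at h
  exact h

theorem W_ab {G : Type*} [Group G] {p : ℕ} {F : Subgroup G → Subgroup G → Prop} (hF : Fam p F)
    (P : Subgroup G) : ∀ x ∈ W F P, ∀ y ∈ W F P, x * y = y * x := by
  intro x hx y hy
  obtain ⟨A, hA⟩ := hF.ex P
  haveI := hF.comm _ A hA
  exact setLike_mul_comm ((mem_W F _ x).1 hx A hA) ((mem_W F _ y).1 hy A hA)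

theorem comm_lt {G : Type*} [Group G] [Finite G] {p : ℕ} [Fact p.Prime] (B : Subgroup G)
    (hB : IsPGroup p B) (hne : B ≠ ⊥) : ⁅B, B⁆ < B := by
  haveI : Group.IsNilpotent B := hB.isNilpotent
  haveI : Nontrivial B := (Subgroup.nontrivial_iff_ne_bot B).2 hne
  have h := Group.IsSolvable.commutator_lt_top_of_nontrivial ↥B
  have hle : ⁅B, B⁆ ≤ B := by
    rw [Subgroup.commutator_le]
    intro x hx y hy
    exact B.mul_mem (B.mul_mem (B.mul_mem hx hy) (B.inv_mem hx)) (B.inv_mem hy)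
  refine lt_of_le_of_ne hle ?_
  intro he
  apply h.ne
  apply Subgroup.map_injective B.subtype_injective
  rw [Subgroup.map_subtype_commutator, he, ← MonoidHom.range_eq_map, Subgroup.range_subtype]

theorem ncl_le {G : Type*} [Group G] (X M : Subgroup G)
    (h : ∀ g : G, ∀ x ∈ X, g * x * g⁻¹ ∈ M) : Subgroup.normalClosure (X : Set G) ≤ M := by
  unfold Subgroup.normalClosure
  rw [Subgroup.closure_le]
  intro y hy
  rw [Group.mem_conjugatesOfSet_iff] at hy
  obtain ⟨x, hx, hxy⟩ := hy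
  rw [isConj_iff] at hxy
  obtain ⟨c, rfl⟩ := hxy
  exact h c x hx

theorem K_props {G : Type*} [Group G] [Finite G] {p : ℕ} [Fact p.Prime] (V : Subgroup G)
    [V.Normal] (S : Sylow p G) :
    ∃ K : Subgroup G, K.Normal ∧
      (∀ a : G, (QuotientGroup.mk a : G ⧸ Subgroup.centralizer (V : Set G)) ∈
        pCore p (G ⧸ Subgroup.centralizer (V : Set G)) → a ∈ K) ∧
      (∀ k ∈ K, ∃ s ∈ (S : Subgroup G) ⊓ K, ∃ c ∈ Subgroup.centralizer (V : Set G), k = s * c) ∧
      (∀ k ∈ K, ∃ n : ℕ, k ^ (p ^ n) ∈ Subgroup.centralizer (V : Set G)) := by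
  set C := Subgroup.centralizer (V : Set G) with hC
  refine ⟨(pCore p (G ⧸ C)).comap (QuotientGroup.mk' C), (Cfsg.Agent.Lib.Helper3.Core.pCore_normal (G := G ⧸ C) p).comap _, ?_, ?_, ?_⟩
  · intro a ha
    exact ha
  · intro k hk
    have hk' : (QuotientGroup.mk k : G ⧸ C) ∈ pCore p (G ⧸ C) := hk
    have h1 := pCore_le_sylow (S.mapSurjective (QuotientGroup.mk'_surjective C)) hk'
    rw [Sylow.coe_mapSurjective] at h1
    obtain ⟨s, hs, hsk⟩ := h1
    have hsk' : (QuotientGroup.mk s : G ⧸ C) = QuotientGroup.mk k := hsk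
    refine ⟨s, ⟨hs, ?_⟩, s⁻¹ * k, QuotientGroup.eq.1 hsk', by group⟩
    show (QuotientGroup.mk s : G ⧸ C) ∈ pCore p (G ⧸ C)
    rw [hsk']; exact hk'
  · intro k hk
    have hk' : (QuotientGroup.mk k : G ⧸ C) ∈ pCore p (G ⧸ C) := hk
    obtain ⟨n, hn⟩ := (pCore_isPGroup (G := G ⧸ C) p) ⟨_, hk'⟩
    refine ⟨n, ?_⟩
    have h2 := congrArg Subtype.val hn
    rw [Subgroup.coe_pow] at h2
    have h3 : ((QuotientGroup.mk (k ^ p ^ n) : G ⧸ C)) = 1 := by
      rw [QuotientGroup.mk_pow]; exact h2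
    exact (QuotientGroup.eq_one_iff _).1 h3

theorem frattini {G : Type*} [Group G] [Finite G] {p : ℕ} [Fact p.Prime] (S : Sylow p G)
    (K : Subgroup G) [K.Normal] (g : G) :
    ∃ n ∈ Subgroup.normalizer (((S : Subgroup G) ⊓ K : Subgroup G) : Set G), ∃ k ∈ K, g = n * k := by
  have hcard : Nat.card ↥(((S : Subgroup G) ⊓ K).subgroupOf K) =
      p ^ (Nat.card K).factorization p := by
    rw [S0003.card_subgroupOf_eq', inf_assoc, inf_idem]
    exact S0542.card_sylow_inf_normal S K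
  have h := Sylow.normalizer_sup_eq_top (Sylow.ofCard _ hcard)
  rw [Sylow.coe_ofCard, Subgroup.map_subgroupOf_eq_of_le inf_le_right] at h
  have hg : g ∈ Subgroup.normalizer (((S : Subgroup G) ⊓ K : Subgroup G) : Set G) ⊔ K := by
    rw [h]; trivial
  rw [Subgroup.mem_sup_of_normal_right] at hg
  obtain ⟨n, hn, k, hk, e⟩ := hg
  exact ⟨n, hn, k, hk, e.symm⟩

theorem normal_step {G : Type*} [Group G] [Finite G] {p : ℕ} [Fact p.Prime]
    (hst : ∀ (P : Subgroup G) [P.Normal], IsPGroup p P → Cfsg.IsPStableOn p P) (S : Sylow p G)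
    (F : Subgroup G → Subgroup G → Prop) (hF : Fam p F) :
    ∀ n : ℕ, ∀ B : Subgroup G, B.Normal → IsPGroup p B → Nat.card B ≤ n →
      ∀ g : G, ∀ x ∈ W F (S : Subgroup G) ⊓ B, g * x * g⁻¹ ∈ W F (S : Subgroup G) ⊓ B := by
  have hWS : ∀ s ∈ (S : Subgroup G), ∀ w ∈ W F (S : Subgroup G), s * w * s⁻¹ ∈ W F (S : Subgroup G) :=
    fun s hs w hw => W_conj hF _ s (Subgroup.le_normalizer hs) w hw
  have hWab := W_ab hF (S : Subgroup G)
  intro n
  induction n with
  | zero =>
    intro B _ _ hcard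
    have : 0 < Nat.card B := Nat.card_pos
    omega
  | succ n ih =>
    intro B hBn hBp hcard g x hx
    haveI := hBn
    have hB₁B : Subgroup.normalClosure ((W F (S : Subgroup G) ⊓ B : Subgroup G) : Set G) ≤ B :=
      Subgroup.normalClosure_le_normal (fun y hy => hy.2)
    have hsub : W F (S : Subgroup G) ⊓ B ≤
        Subgroup.normalClosure ((W F (S : Subgroup G) ⊓ B : Subgroup G) : Set G) :=
      Subgroup.subset_normalClosure
    by_cases hEq : Subgroup.normalClosure ((W F (S : Subgroup G) ⊓ B : Subgroup G) : Set G) = B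
    · by_cases hbot : B = ⊥
      · have hx1 : x = 1 := by
          have := hx.2; rw [hbot] at this; exact Subgroup.mem_bot.1 this
        rw [hx1]
        have e : g * 1 * g⁻¹ = 1 := by group
        rw [e]; exact Subgroup.one_mem _
      have hB'lt := comm_lt B hBp hbot
      have hB'n : (⁅B, B⁆ : Subgroup G).Normal := Subgroup.commutator_normal B B
      have ih' := ih ⁅B, B⁆ hB'n (hBp.to_le hB'lt.le)
        (by have := S0651.card_lt_of_lt hB'lt; omega)
      have hBS : B ≤ (S : Subgroup G) := hBp.le_sylow_of_normal S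
      have hcl : ∀ M : Subgroup G,
          (∀ g : G, ∀ x ∈ W F (S : Subgroup G) ⊓ B, g * x * g⁻¹ ∈ M) → B ≤ M := by
        intro M hM
        rw [← hEq]
        exact ncl_le _ M hM
      have hB'W : ⁅B, B⁆ ≤ W F (S : Subgroup G) := by
        let Mc : Subgroup G :=
          { carrier := {x | ∀ y ∈ B, x * y * x⁻¹ * y⁻¹ ∈ W F (S : Subgroup G) ⊓ ⁅B, B⁆}
            mul_mem' := by
              intro a b ha hb y hy
              have e : a * b * y * (a * b)⁻¹ * y⁻¹ =
                  a * (b * y * b⁻¹ * y⁻¹) * a⁻¹ * (a * y * a⁻¹ * y⁻¹) := by group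
              rw [e]
              exact Subgroup.mul_mem _ (ih' a _ (hb y hy)) (ha y hy)
            one_mem' := by
              intro y hy
              have e : (1 : G) * y * 1⁻¹ * y⁻¹ = 1 := by group
              rw [e]; exact Subgroup.one_mem _
            inv_mem' := by
              intro a ha y hy
              have e : a⁻¹ * y * a⁻¹⁻¹ * y⁻¹ = a⁻¹ * (a * y * a⁻¹ * y⁻¹)⁻¹ * a⁻¹⁻¹ := by group
              rw [e]
              exact ih' a⁻¹ _ (Subgroup.inv_mem _ (ha y hy)) }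
        have hMc : B ≤ Mc := by
          apply hcl
          intro g x hx y hy
          have hy' : g⁻¹ * y * g ∈ B := by
            have := hBn.conj_mem y hy g⁻¹; simpa using this
          have e : g * x * g⁻¹ * y * (g * x * g⁻¹)⁻¹ * y⁻¹ =
              g * (x * (g⁻¹ * y * g) * x⁻¹ * (g⁻¹ * y * g)⁻¹) * g⁻¹ := by group
          rw [e]
          apply ih'
          refine ⟨?_, ?_⟩
          · have h1 := hWS _ (hBS hy') x⁻¹ (Subgroup.inv_mem _ hx.1)
            have e2 : x * (g⁻¹ * y * g) * x⁻¹ * (g⁻¹ * y * g)⁻¹ =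
                x * ((g⁻¹ * y * g) * x⁻¹ * (g⁻¹ * y * g)⁻¹) := by group
            rw [e2]
            exact Subgroup.mul_mem _ hx.1 h1
          · have := Subgroup.commutator_mem_commutator hx.2 hy'
            rwa [commutatorElement_def] at this
        rw [Subgroup.commutator_le]
        intro a ha b hb
        rw [commutatorElement_def]
        exact (hMc ha b hb).1
      have hcls : ⁅⁅B, B⁆, B⁆ = ⊥ := by
        rw [Subgroup.commutator_comm, Subgroup.commutator_eq_bot_iff_le_centralizer]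
        apply hcl
        intro g x hx
        rw [Subgroup.mem_centralizer_iff]
        intro y hy
        have hy' : g⁻¹ * y * g ∈ ⁅B, B⁆ := by
          have := hB'n.conj_mem y hy g⁻¹; simpa using this
        have h1 := hWab x hx.1 _ (hB'W hy')
        have e1 : y * (g * x * g⁻¹) = g * ((g⁻¹ * y * g) * x) * g⁻¹ := by group
        have e2 : (g * x * g⁻¹) * y = g * (x * (g⁻¹ * y * g)) * g⁻¹ := by group
        rw [e1, e2, h1]
      by_cases hall : ∀ A, F (S : Subgroup G) A → B ≤ A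
      · have hBW : B ≤ W F (S : Subgroup G) := by
          intro b hb
          rw [mem_W]
          intro A hA
          exact hall A hA hb
        exact ⟨hBW (hBn.conj_mem x hx.2 g), hBn.conj_mem x hx.2 g⟩
      · exfalso
        have hexU : ∃ U, F (S : Subgroup G) U ∧ ¬ B ≤ U := by
          by_contra hcon
          apply hall
          intro A hA
          by_contra hBA
          exact hcon ⟨A, hA, hBA⟩
        obtain ⟨U, hU, hnBU⟩ := hexU
        have hWU : W F (S : Subgroup G) ≤ U := fun w hw => (mem_W F _ w).1 hw U hU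
        obtain ⟨A, hA, hB'A, hnBA, hBNA⟩ := hF.repl (S : Subgroup G) B S.isPGroup' hBS
          (by rw [Subgroup.normalizer_eq_top]; exact le_top) hcls U hU (hB'W.trans hWU) hnBU
        obtain ⟨K, hKn, hK1, hK2, -⟩ := K_props B S
        haveI := hKn
        haveI hAc := hF.comm _ A hA
        have hAK : A ≤ K := by
          intro a ha
          apply hK1
          apply hst B hBp
          have hz : Subgroup.zpowers a ≤ A := by rw [Subgroup.zpowers_le]; exact ha
          have h1 : ⁅B, Subgroup.zpowers a⁆ ≤ A := by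
            rw [Subgroup.commutator_le]
            intro b hb z hz'
            rw [commutatorElement_def]
            have hbn := hBNA hb
            rw [Subgroup.mem_normalizer_iff] at hbn
            exact A.mul_mem ((hbn z).1 (hz hz')) (A.inv_mem (hz hz'))
          rw [eq_bot_iff]
          refine (Subgroup.commutator_mono h1 hz).trans ?_
          rw [Subgroup.commutator_le]
          intro u hu v hv
          rw [commutatorElement_eq_one_iff_mul_comm.2 (setLike_mul_comm hu hv)]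
          exact Subgroup.one_mem _
        have hAT : A ≤ (S : Subgroup G) ⊓ K := le_inf (hF.le _ A hA) hAK
        have hFT : F ((S : Subgroup G) ⊓ K) A := hF.down _ _ A inf_le_left hA hAT
        have hWT : W F (S : Subgroup G) ≤ W F ((S : Subgroup G) ⊓ K) := by
          intro w hw
          rw [mem_W]
          intro A' hA'
          exact (mem_W F _ w).1 hw A' (hF.up _ _ A A' inf_le_left hA hAT hA')
        have hBWT : B ≤ W F ((S : Subgroup G) ⊓ K) := by
          apply hcl
          intro g x hx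
          obtain ⟨n, hn, k, hk, rfl⟩ := frattini S K g
          obtain ⟨s, hs, c, hc, rfl⟩ := hK2 k hk
          have hcx : c * x * c⁻¹ = x := by
            rw [Subgroup.mem_centralizer_iff] at hc
            rw [← hc x hx.2]; group
          have e : n * (s * c) * x * (n * (s * c))⁻¹ = (n * s) * (c * x * c⁻¹) * (n * s)⁻¹ := by
            group
          rw [e, hcx]
          exact W_conj hF _ (n * s) (Subgroup.mul_mem _ hn (Subgroup.le_normalizer hs)) x
            (hWT hx.1)
        apply hnBA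
        intro b hb
        exact (mem_W F _ b).1 (hBWT hb) A hFT
    · have hlt : Subgroup.normalClosure ((W F (S : Subgroup G) ⊓ B : Subgroup G) : Set G) < B :=
        lt_of_le_of_ne hB₁B hEq
      have ih' := ih _ Subgroup.normalClosure_normal (hBp.to_le hB₁B)
        (by have := S0651.card_lt_of_lt hlt; omega) g x ⟨hx.1, hsub hx⟩
      exact ⟨ih'.1, hB₁B ih'.2⟩

theorem W_le_pCore {G : Type*} [Group G] [Finite G] {p : ℕ} [Fact p.Prime]
    (hc : Subgroup.centralizer (Cfsg.pCore p G : Set G) ≤ Cfsg.pCore p G)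
    (hst : ∀ (P : Subgroup G) [P.Normal], IsPGroup p P → Cfsg.IsPStableOn p P) (S : Sylow p G)
    (F : Subgroup G → Subgroup G → Prop) (hF : Fam p F) :
    W F (S : Subgroup G) ≤ pCore p G := by
  have hWS : ∀ s ∈ (S : Subgroup G), ∀ w ∈ W F (S : Subgroup G), s * w * s⁻¹ ∈ W F (S : Subgroup G) :=
    fun s hs w hw => W_conj hF _ s (Subgroup.le_normalizer hs) w hw
  have hWab := W_ab hF (S : Subgroup G)
  haveI hQn : (pCore p G).Normal := Cfsg.Agent.Lib.Helper3.Core.pCore_normal (G := G) p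
  have hQp : IsPGroup p (pCore p G) := pCore_isPGroup p
  have hQS : pCore p G ≤ (S : Subgroup G) := pCore_le_sylow S
  obtain ⟨K, hKn, hK1, -, hK3⟩ := K_props (pCore p G) S
  have hKp : IsPGroup p K := by
    rintro ⟨k, hk⟩
    obtain ⟨n, hn⟩ := hK3 k hk
    obtain ⟨m, hm⟩ := hQp ⟨k ^ p ^ n, hc hn⟩
    refine ⟨n + m, ?_⟩
    apply Subtype.ext
    have h2 := congrArg Subtype.val hm
    rw [Subgroup.coe_pow] at h2 ⊢
    show k ^ p ^ (n + m) = 1
    rw [pow_add, pow_mul]; exact h2
  have hKQ : K ≤ pCore p G := le_pCore K hKn hKp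
  intro a ha
  apply hKQ
  apply hK1
  apply hst (pCore p G) hQp
  have hz : Subgroup.zpowers a ≤ W F (S : Subgroup G) := by rw [Subgroup.zpowers_le]; exact ha
  have h1 : ⁅pCore p G, Subgroup.zpowers a⁆ ≤ W F (S : Subgroup G) := by
    rw [Subgroup.commutator_le]
    intro q hq z hz'
    rw [commutatorElement_def]
    exact Subgroup.mul_mem _ (hWS q (hQS hq) z (hz hz')) (Subgroup.inv_mem _ (hz hz'))
  rw [eq_bot_iff]
  refine (Subgroup.commutator_mono h1 hz).trans ?_
  rw [Subgroup.commutator_le]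
  intro u hu v hv
  rw [commutatorElement_eq_one_iff_mul_comm.2 (hWab u hu v hv)]
  exact Subgroup.one_mem _

theorem main {G : Type*} [Group G] [Finite G] {p : ℕ} [Fact p.Prime]
    (hc : Subgroup.centralizer (Cfsg.pCore p G : Set G) ≤ Cfsg.pCore p G)
    (hst : ∀ (P : Subgroup G) [P.Normal], IsPGroup p P → Cfsg.IsPStableOn p P) (S : Sylow p G)
    (F : Subgroup G → Subgroup G → Prop) (hF : Fam p F) :
    (W F (S : Subgroup G)).Characteristic := by
  have hnorm : ∀ g : G, ∀ x ∈ W F (S : Subgroup G), g * x * g⁻¹ ∈ W F (S : Subgroup G) := by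
    intro g x hx
    exact (normal_step hst S F hF (Nat.card (pCore p G)) (pCore p G)
      (Cfsg.Agent.Lib.Helper3.Core.pCore_normal (G := G) p)
      (pCore_isPGroup p) le_rfl g x ⟨hx, W_le_pCore hc hst S F hF hx⟩).1
  rw [Subgroup.characteristic_iff_map_le]
  intro φ
  rintro _ ⟨x, hx, rfl⟩
  have h1 := W_map hF φ _ x hx
  have hex : ∃ g : G, (S : Subgroup G).map φ.toMonoidHom =
      (S : Subgroup G).map (MulAut.conj g).toMonoidHom := by
    have hp1 : IsPGroup p ((S : Subgroup G).map φ.toMonoidHom) := S.isPGroup'.map _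
    obtain ⟨Q, hQ⟩ := hp1.exists_le_sylow
    have hc1 : Nat.card ((S : Subgroup G).map φ.toMonoidHom) = Nat.card (S : Subgroup G) :=
      Subgroup.card_map_of_injective φ.injective
    have hc2 : Nat.card (Q : Subgroup G) = Nat.card (S : Subgroup G) := by
      rw [Sylow.card_eq_multiplicity, Sylow.card_eq_multiplicity]
    have hQe : (S : Subgroup G).map φ.toMonoidHom = Q :=
      Subgroup.eq_of_le_of_card_ge hQ (by rw [hc1, hc2])
    obtain ⟨g, hg⟩ := MulAction.exists_smul_eq G S Q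
    refine ⟨g, ?_⟩
    rw [hQe, ← hg, Sylow.coe_subgroup_smul, Subgroup.pointwise_smul_def]
    rfl
  obtain ⟨g, hg⟩ := hex
  rw [hg] at h1
  have h2 := W_map hF (MulAut.conj g).symm _ _ h1
  rw [map_map_symm] at h2
  have h4 := hnorm g _ h2
  have e : g * ((MulAut.conj g).symm (φ x)) * g⁻¹ = φ x := by
    rw [MulAut.conj_symm_apply]; group
  rw [e] at h4; exact h4

/-- Transport of a type-level replacement statement to subgroups of an ambient group. -/
theorem transport {G : Type*} [Group G] [Finite G] (S B : Subgroup G) (hBS : B ≤ S)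
    (hSB : S ≤ Subgroup.normalizer (B : Set G)) (hB2 : ⁅⁅B, B⁆, B⁆ = ⊥)
    (Fm : Set (Subgroup ↥S))
    (h : ∀ (B' : Subgroup ↥S) [B'.Normal], ⁅⁅B', B'⁆, B'⁆ = ⊥ → ∀ U' ∈ Fm, ⁅B', B'⁆ ≤ U' →
      ¬ B' ≤ U' → ∃ A' ∈ Fm, ⁅B', B'⁆ ≤ A' ∧ ¬ B' ≤ A' ∧
        B' ≤ Subgroup.normalizer (A' : Set ↥S))
    (U : Subgroup G) (hU : U ∈ Set.image (fun A : Subgroup ↥S => A.map S.subtype) Fm)
    (hBU : ⁅B, B⁆ ≤ U) (hnBU : ¬ B ≤ U) :
    ∃ A ∈ Set.image (fun A : Subgroup ↥S => A.map S.subtype) Fm,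
      ⁅B, B⁆ ≤ A ∧ ¬ B ≤ A ∧ B ≤ Subgroup.normalizer (A : Set G) := by
  haveI hn : (B.subgroupOf S).Normal := (Subgroup.normal_subgroupOf_iff_le_normalizer hBS).2 hSB
  have hmapB : (B.subgroupOf S).map S.subtype = B := Subgroup.map_subgroupOf_eq_of_le hBS
  have hinj : Function.Injective S.subtype := S.subtype_injective
  have hcomm : (⁅B.subgroupOf S, B.subgroupOf S⁆).map S.subtype = ⁅B, B⁆ := by
    rw [Subgroup.map_commutator, hmapB]
  have hcls : ⁅⁅B.subgroupOf S, B.subgroupOf S⁆, B.subgroupOf S⁆ = ⊥ := by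
    apply Subgroup.map_injective hinj
    rw [Subgroup.map_commutator, hcomm, hmapB, hB2, Subgroup.map_bot]
  obtain ⟨U', hU', rfl⟩ := hU
  have hle1 : ⁅B.subgroupOf S, B.subgroupOf S⁆ ≤ U' := by
    rw [← Subgroup.map_le_map_iff_of_injective hinj, hcomm]
    exact hBU
  have hn1 : ¬ B.subgroupOf S ≤ U' := by
    intro hle
    apply hnBU
    have := Subgroup.map_mono (f := S.subtype) hle
    rw [hmapB] at this
    exact this
  obtain ⟨A', hA', h1, h2, h3⟩ := h (B.subgroupOf S) hcls U' hU' hle1 hn1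
  refine ⟨A'.map S.subtype, ⟨A', hA', rfl⟩, ?_, ?_, ?_⟩
  · rw [← hcomm]
    exact Subgroup.map_mono h1
  · intro hle
    apply h2
    rw [← Subgroup.map_le_map_iff_of_injective hinj, hmapB]
    exact hle
  · intro b hb
    apply S0650.norm_of_conj
    rintro _ ⟨a, ha, rfl⟩
    have hb' : (⟨b, hBS hb⟩ : ↥S) ∈ B.subgroupOf S := by
      rw [Subgroup.mem_subgroupOf]; exact hb
    have hbn := h3 hb'
    rw [Subgroup.mem_normalizer_iff] at hbn
    exact ⟨⟨b, hBS hb⟩ * a * ⟨b, hBS hb⟩⁻¹, (hbn a).1 ha, rfl⟩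

/-- Type-level replacement for abelian subgroups of largest order. -/
theorem repl_ab {S : Type*} [Group S] [Finite S] {p : ℕ} [Fact p.Prime] (hS : IsPGroup p S)
    (hp : p ≠ 2) (B : Subgroup S) [B.Normal] (hB2 : ⁅⁅B, B⁆, B⁆ = ⊥) (U : Subgroup S)
    (hU : U ∈ maxAbelianSubgroups S) (hBU : ⁅B, B⁆ ≤ U) (hnBU : ¬ B ≤ U) :
    ∃ A ∈ maxAbelianSubgroups S, ⁅B, B⁆ ≤ A ∧ ¬ B ≤ A ∧
      B ≤ Subgroup.normalizer (A : Set S) := by
  have key := S0651.repl_induct B
    (fun A => A ∈ maxAbelianSubgroups S ∧ ⁅B, B⁆ ≤ A ∧ ¬ B ≤ A) ?_ U ⟨hU, hBU, hnBU⟩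
  · obtain ⟨A, ⟨h1, h2, h3⟩, h4⟩ := key
    exact ⟨A, h1, h2, h3, h4⟩
  · rintro A ⟨hA, hBA, hnBA⟩ hnot
    obtain ⟨b, hb, hbN, hbA⟩ := S0651.exists_b hS B A hnot
    obtain ⟨hAc, hAmax⟩ := hA
    obtain ⟨c1, c2, c3, c4, c5, -⟩ :=
      S0650.result hS B (fun h => absurd h hp) A hAc hBA hnot b hb hbN hbA
    refine ⟨_, ⟨⟨c2, ?_⟩, c3, ?_⟩, c4⟩
    · intro Y hYc
      rw [c1]
      exact hAmax Y hYc
    · intro hle
      exact c5.ne (inf_eq_right.2 hle)

/-- `A` is an abelian subgroup of `P` of largest order. -/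
def IsMaxAb {G : Type*} [Group G] (P A : Subgroup G) : Prop :=
  A ≤ P ∧ IsMulCommutative A ∧
    ∀ Y : Subgroup G, Y ≤ P → IsMulCommutative Y → Nat.card Y ≤ Nat.card A

theorem fam_ab {G : Type*} [Group G] [Finite G] {p : ℕ} [Fact p.Prime] (hp : p ≠ 2) :
    Fam p (IsMaxAb (G := G)) where
  le := fun P A h => h.1
  comm := fun P A h => h.2.1
  ex := by
    intro P
    haveI : Nonempty {A : Subgroup G // A ≤ P ∧ IsMulCommutative A} :=
      ⟨⟨⊥, bot_le, inferInstance⟩⟩
    obtain ⟨A, hA⟩ := Finite.exists_max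
      (fun A : {A : Subgroup G // A ≤ P ∧ IsMulCommutative A} => Nat.card A.1)
    exact ⟨A.1, A.2.1, A.2.2, fun Y hY hYc => hA ⟨Y, hY, hYc⟩⟩
  map := by
    rintro φ P A ⟨hAP, hAc, hmax⟩
    refine ⟨Subgroup.map_mono hAP, by haveI := hAc; exact Subgroup.map_isMulCommutative A _, ?_⟩
    intro Y hY hYc
    have h1 : Nat.card (A.map φ.toMonoidHom) = Nat.card A :=
      Subgroup.card_map_of_injective φ.injective
    have h2 : Nat.card (Y.map φ.symm.toMonoidHom) = Nat.card Y :=
      Subgroup.card_map_of_injective φ.symm.injective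
    rw [h1, ← h2]
    apply hmax
    · rintro _ ⟨y, hy, rfl⟩
      obtain ⟨z, hz, rfl⟩ := hY hy
      simpa using hz
    · haveI := hYc; exact Subgroup.map_isMulCommutative Y _
  up := fun S T A₀ A hTS hA₀ hA₀T hA =>
    ⟨hA.1.trans hTS, hA.2.1, fun Y hY hYc => (hA₀.2.2 Y hY hYc).trans (hA.2.2 A₀ hA₀T hA₀.2.1)⟩
  down := fun S T A hTS hA hAT => ⟨hAT, hA.2.1, fun Y hY hYc => hA.2.2 Y (hY.trans hTS) hYc⟩
  repl := by
    intro S B hS hBS hSB hB2 U hU hBU hnBU
    have h := transport S B hBS hSB hB2 (maxAbelianSubgroups ↥S)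
      (fun B' _ hB2' U' hU' h1 h2 => repl_ab hS hp B' hB2' U' hU' h1 h2) U
      ((S0651.mem_fam S U).2 hU) hBU hnBU
    obtain ⟨A, hA, h1, h2, h3⟩ := h
    exact ⟨A, (S0651.mem_fam S A).1 hA, h1, h2, h3⟩

theorem center_eq {G : Type*} [Group G] [Finite G] {p : ℕ} [Fact p.Prime] (hp : p ≠ 2)
    (P : Subgroup G) : centerThompsonAOf P = W IsMaxAb P := by
  have hJ : ∀ A, IsMaxAb P A → A ≤ thompsonSubgroupAOf P := by
    intro A hA
    obtain ⟨A', hA', rfl⟩ := (S0651.mem_fam P A).2 hA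
    exact Subgroup.map_mono (le_sSup hA')
  have hJP : thompsonSubgroupAOf P ≤ P := Subgroup.map_subtype_le _
  ext x
  rw [mem_W]
  constructor
  · rintro ⟨hxJ, hxC⟩ A hA
    have hxC' : x ∈ Subgroup.centralizer (thompsonSubgroupAOf P : Set G) := hxC
    rw [Subgroup.mem_centralizer_iff] at hxC'
    haveI := hA.2.1
    have hcomm : ∀ a ∈ Subgroup.closure ((A : Set G) ∪ {x}),
        ∀ b ∈ Subgroup.closure ((A : Set G) ∪ {x}), a * b = b * a := by
      apply S0119.closure_comm
      rintro a (ha | ha) b (hb | hb)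
      · exact setLike_mul_comm ha hb
      · rw [Set.mem_singleton_iff] at hb
        rw [hb]; exact hxC' a (hJ A hA ha)
      · rw [Set.mem_singleton_iff] at ha
        rw [ha]; exact (hxC' b (hJ A hA hb)).symm
      · rw [Set.mem_singleton_iff] at ha hb
        rw [ha, hb]
    have hle : A ≤ Subgroup.closure ((A : Set G) ∪ {x}) := by
      intro a ha
      exact Subgroup.subset_closure (Or.inl ha)
    have hleP : Subgroup.closure ((A : Set G) ∪ {x}) ≤ P := by
      rw [Subgroup.closure_le]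
      rintro a (ha | ha)
      · exact hA.1 ha
      · rw [Set.mem_singleton_iff] at ha
        rw [ha]; exact hJP hxJ
    have hcard := hA.2.2 _ hleP (IsMulCommutative.of_setLike_mul_comm (fun a ha b hb => hcomm a ha b hb))
    have heq := Subgroup.eq_of_le_of_card_ge hle hcard
    rw [heq]
    exact Subgroup.subset_closure (Or.inr rfl)
  · intro hx
    obtain ⟨A₀, hA₀⟩ := (fam_ab (G := G) hp).ex P
    refine ⟨hJ A₀ hA₀ (hx A₀ hA₀), ?_⟩
    show x ∈ Subgroup.centralizer (thompsonSubgroupAOf P : Set G)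
    rw [Subgroup.mem_centralizer_iff]
    have hle : thompsonSubgroupAOf P ≤ Subgroup.centralizer ({x} : Set G) := by
      unfold thompsonSubgroupAOf thompsonSubgroupA
      rw [Subgroup.map_le_iff_le_comap]
      apply sSup_le
      intro A' hA' a ha
      have hA : IsMaxAb P (A'.map P.subtype) := (S0651.mem_fam P _).1 ⟨A', hA', rfl⟩
      haveI := hA.2.1
      have hxA := hx _ hA
      have haA : (a : G) ∈ A'.map P.subtype := ⟨a, ha, rfl⟩
      rw [Subgroup.mem_comap, Subgroup.mem_centralizer_iff]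
      intro y hy
      rw [Set.mem_singleton_iff] at hy
      rw [hy]
      exact setLike_mul_comm hxA haA
    intro y hy
    have := hle hy
    rw [Subgroup.mem_centralizer_iff] at this
    exact (this x rfl).symm

theorem result {G : Type*} [Group G] [Finite G] {p : ℕ} [Fact p.Prime] (hp : p ≠ 2) (hc : Subgroup.centralizer (Cfsg.pCore p G : Set G) ≤ Cfsg.pCore p G) (hst : ∀ (P : Subgroup G) [P.Normal], IsPGroup p P → Cfsg.IsPStableOn p P) (S : Sylow p G) : (Cfsg.centerThompsonAOf ((S : Subgroup G))).Characteristic := by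
  rw [center_eq hp]
  exact main hc hst S IsMaxAb (fam_ab hp)

end Cfsg.Agent.S0653
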