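import Mathlib
import Cfsg.Statements.S0667
import Cfsg.Agent.S0653
import Cfsg.Agent.S0003
import Cfsg.Agent.Lib.Helper2.Lift
import Cfsg.Agent.Lib.Helper2.Local
import Cfsg.Agent.Lib.Helper2.AxB
import Cfsg.Agent.Lib.Helper3.Core
set_option autoImplicit false
open Pointwise
open Cfsg
open scoped commutatorElement

namespace Cfsg.Agent.S0667

open Cfsg.Agent.Lib.Helper2

theorem constrained_quot {G : Type*} [Group G] [Finite G] {p : ℕ} [Fact p.Prime]
    (hc : Cfsg.IsPConstrained p G) :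
    Subgroup.centralizer (Cfsg.pCore p (G ⧸ Cfsg.pPrimeCore p G) : Set (G ⧸ Cfsg.pPrimeCore p G))
      ≤ Cfsg.pCore p (G ⧸ Cfsg.pPrimeCore p G) := by
  intro xbar hx
  obtain ⟨x, rfl⟩ := QuotientGroup.mk'_surjective (pPrimeCore p G) xbar
  obtain ⟨R⟩ : Nonempty (Sylow p ↥(pPrimePCore p G)) := inferInstance
  have hR'p : IsPGroup p ((R : Subgroup ↥(pPrimePCore p G)).map (pPrimePCore p G).subtype) :=
    R.isPGroup'.map _
  have hR'X : (R : Subgroup ↥(pPrimePCore p G)).map (pPrimePCore p G).subtype ≤ pPrimePCore p G :=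
    Subgroup.map_subtype_le _
  have hmap : ((R : Subgroup ↥(pPrimePCore p G)).map (pPrimePCore p G).subtype).map
      (QuotientGroup.mk' (pPrimeCore p G)) ≤ pCore p (G ⧸ pPrimeCore p G) := by
    rintro _ ⟨r, hr, rfl⟩
    exact hR'X hr
  have hx' : QuotientGroup.mk' (pPrimeCore p G) x ∈ Subgroup.centralizer
      ((((R : Subgroup ↥(pPrimePCore p G)).map (pPrimePCore p G).subtype).map
        (QuotientGroup.mk' (pPrimeCore p G)) : Subgroup (G ⧸ pPrimeCore p G)) :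
        Set (G ⧸ pPrimeCore p G)) :=
    Subgroup.centralizer_le (fun z hz => hmap hz) hx
  obtain ⟨y, hy, hyx⟩ := Lift.exists_lift_centralizer (pPrimeCore p G)
    (Local.pPrimeCore_coprime p) _ hR'p x hx'
  have hyX : y ∈ pPrimePCore p G := hc R hy
  rw [← hyx]
  exact hyX

theorem decomp {G : Type*} [Group G] [Finite G] (p : ℕ) [Fact p.Prime] (a : G) :
    ∃ a₁ a₂ : G, a₁ ∈ Subgroup.zpowers a ∧ a₂ ∈ Subgroup.zpowers a ∧ a = a₂ * a₁ ∧
      IsPGroup p (Subgroup.zpowers a₁) ∧ (orderOf a₂).Coprime p := by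
  have hp : p.Prime := Fact.out
  have hn : orderOf a ≠ 0 := (orderOf_pos a).ne'
  obtain ⟨k, r, hr, hkr⟩ := Nat.exists_eq_pow_mul_and_not_dvd hn p hp.ne_one
  have hcop : Nat.Coprime (p ^ k) r :=
    Nat.Coprime.pow_left k ((Nat.Prime.coprime_iff_not_dvd hp).2 hr)
  have hb := Int.gcd_eq_gcd_ab ((p ^ k : ℕ) : ℤ) (r : ℤ)
  have hg : Int.gcd ((p ^ k : ℕ) : ℤ) (r : ℤ) = 1 := by
    rw [Int.gcd_natCast_natCast]; exact hcop
  rw [hg] at hb
  set x := Int.gcdA ((p ^ k : ℕ) : ℤ) (r : ℤ) with hx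
  set y := Int.gcdB ((p ^ k : ℕ) : ℤ) (r : ℤ) with hy
  have h1 : (1 : ℤ) = ((p ^ k : ℕ) : ℤ) * x + (r : ℤ) * y := by
    rw [← hb]; simp
  have h2 : (a ^ ((r : ℤ) * y)) ^ (p ^ k) = 1 := by
    rw [← zpow_natCast, ← zpow_mul]
    have e : (r : ℤ) * y * ((p ^ k : ℕ) : ℤ) = ((orderOf a : ℕ) : ℤ) * y := by
      rw [hkr]; push_cast; ring
    rw [e, zpow_mul, zpow_natCast, pow_orderOf_eq_one, one_zpow]
  have h3 : (a ^ (((p ^ k : ℕ) : ℤ) * x)) ^ r = 1 := by
    rw [← zpow_natCast, ← zpow_mul]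
    have e : ((p ^ k : ℕ) : ℤ) * x * (r : ℤ) = ((orderOf a : ℕ) : ℤ) * x := by
      rw [hkr]; push_cast; ring
    rw [e, zpow_mul, zpow_natCast, pow_orderOf_eq_one, one_zpow]
  refine ⟨a ^ ((r : ℤ) * y), a ^ (((p ^ k : ℕ) : ℤ) * x), ⟨_, rfl⟩, ⟨_, rfl⟩, ?_, ?_, ?_⟩
  · rw [← zpow_add, ← h1, zpow_one]
  · rintro ⟨g, hg⟩
    obtain ⟨m, rfl⟩ := Subgroup.mem_zpowers_iff.1 hg
    refine ⟨k, Subtype.ext ?_⟩
    rw [Subgroup.coe_pow]
    show ((a ^ ((r : ℤ) * y)) ^ m) ^ p ^ k = 1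
    rw [← zpow_natCast, ← zpow_mul, mul_comm m, zpow_mul, zpow_natCast, h2, one_zpow]
  · exact Nat.Coprime.coprime_dvd_left (orderOf_dvd_of_pow_eq_one h3)
      ((Nat.Prime.coprime_iff_not_dvd hp).2 hr).symm

theorem transfer {G : Type*} [Group G] [Finite G] {p : ℕ} [Fact p.Prime] (N : Subgroup G)
    [N.Normal] (V : Subgroup G)
    (hsurj : ∀ g : G, ∃ y ∈ Subgroup.normalizer (V : Set G),
      QuotientGroup.mk' N y = QuotientGroup.mk' N g)
    [hVb : (V.map (QuotientGroup.mk' N)).Normal]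
    (a : G) (haN : a ∈ Subgroup.normalizer (V : Set G))
    (ha : QuotientGroup.mk' ((Subgroup.centralizer (V : Set G)).subgroupOf
        (Subgroup.normalizer (V : Set G))) ⟨a, haN⟩ ∈
      pCore p (↥(Subgroup.normalizer (V : Set G)) ⧸
        (Subgroup.centralizer (V : Set G)).subgroupOf (Subgroup.normalizer (V : Set G)))) :
    (QuotientGroup.mk (QuotientGroup.mk' N a) : (G ⧸ N) ⧸ Subgroup.centralizer
        ((V.map (QuotientGroup.mk' N) : Subgroup (G ⧸ N)) : Set (G ⧸ N))) ∈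
      pCore p ((G ⧸ N) ⧸ Subgroup.centralizer
        ((V.map (QuotientGroup.mk' N) : Subgroup (G ⧸ N)) : Set (G ⧸ N))) := by
  have hKn : ((pCore p (↥(Subgroup.normalizer (V : Set G)) ⧸
      (Subgroup.centralizer (V : Set G)).subgroupOf (Subgroup.normalizer (V : Set G)))).comap
      (QuotientGroup.mk' ((Subgroup.centralizer (V : Set G)).subgroupOf
        (Subgroup.normalizer (V : Set G))))).Normal :=
    (Cfsg.Agent.Lib.Helper3.Core.pCore_normal p).comap _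
  have hK3 : ∀ k ∈ ((pCore p (↥(Subgroup.normalizer (V : Set G)) ⧸
      (Subgroup.centralizer (V : Set G)).subgroupOf (Subgroup.normalizer (V : Set G)))).comap
      (QuotientGroup.mk' ((Subgroup.centralizer (V : Set G)).subgroupOf
        (Subgroup.normalizer (V : Set G))))), ∃ j : ℕ,
      ((k : ↥(Subgroup.normalizer (V : Set G))) : G) ^ (p ^ j) ∈
        Subgroup.centralizer (V : Set G) := by
    intro k hk
    obtain ⟨j, hj⟩ := (Cfsg.Agent.Lib.Helper3.Core.pCore_isPGroup p) ⟨_, hk⟩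
    refine ⟨j, ?_⟩
    have h2 := congrArg Subtype.val hj
    rw [Subgroup.coe_pow] at h2
    have h3 : QuotientGroup.mk' ((Subgroup.centralizer (V : Set G)).subgroupOf
        (Subgroup.normalizer (V : Set G))) (k ^ p ^ j) = 1 := by
      rw [map_pow]; exact h2
    have h4 := (QuotientGroup.eq_one_iff _).1 h3
    rw [Subgroup.mem_subgroupOf] at h4
    rw [Subgroup.coe_pow] at h4
    exact h4
  generalize hKdef : ((pCore p (↥(Subgroup.normalizer (V : Set G)) ⧸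
      (Subgroup.centralizer (V : Set G)).subgroupOf (Subgroup.normalizer (V : Set G)))).comap
      (QuotientGroup.mk' ((Subgroup.centralizer (V : Set G)).subgroupOf
        (Subgroup.normalizer (V : Set G))))) = K at hKn hK3
  have haK : (⟨a, haN⟩ : ↥(Subgroup.normalizer (V : Set G))) ∈ K := by
    rw [← hKdef]; exact ha
  have hcent : ∀ c ∈ Subgroup.centralizer (V : Set G), QuotientGroup.mk' N c ∈
      Subgroup.centralizer ((V.map (QuotientGroup.mk' N) : Subgroup (G ⧸ N)) : Set (G ⧸ N)) := by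
    intro c hc
    rw [Subgroup.mem_centralizer_iff] at hc ⊢
    rintro _ ⟨v, hv, rfl⟩
    rw [← map_mul, ← map_mul, hc v hv]
  have hMp : IsPGroup p ((K.map (Subgroup.normalizer (V : Set G)).subtype).map
      ((QuotientGroup.mk' (Subgroup.centralizer
        ((V.map (QuotientGroup.mk' N) : Subgroup (G ⧸ N)) : Set (G ⧸ N)))).comp
        (QuotientGroup.mk' N))) := by
    rintro ⟨m, hm⟩
    obtain ⟨g, ⟨k, hk, rfl⟩, rfl⟩ := hm
    obtain ⟨j, hj⟩ := hK3 k hk
    refine ⟨j, Subtype.ext ?_⟩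
    rw [Subgroup.coe_pow]
    show ((QuotientGroup.mk' (Subgroup.centralizer
        ((V.map (QuotientGroup.mk' N) : Subgroup (G ⧸ N)) : Set (G ⧸ N)))).comp
        (QuotientGroup.mk' N)) (k : G) ^ p ^ j = 1
    rw [← map_pow]
    exact (QuotientGroup.eq_one_iff _).2 (hcent _ hj)
  have hMn : ((K.map (Subgroup.normalizer (V : Set G)).subtype).map
      ((QuotientGroup.mk' (Subgroup.centralizer
        ((V.map (QuotientGroup.mk' N) : Subgroup (G ⧸ N)) : Set (G ⧸ N)))).comp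
        (QuotientGroup.mk' N))).Normal := by
    constructor
    rintro _ ⟨g, ⟨k, hk, rfl⟩, rfl⟩ gq
    obtain ⟨gb, rfl⟩ := QuotientGroup.mk'_surjective _ gq
    obtain ⟨g₀, rfl⟩ := QuotientGroup.mk'_surjective N gb
    obtain ⟨y, hy, hyg⟩ := hsurj g₀
    refine ⟨y * (k : G) * y⁻¹, ⟨⟨y, hy⟩ * k * ⟨y, hy⟩⁻¹, hKn.conj_mem k hk ⟨y, hy⟩, rfl⟩, ?_⟩
    rw [← hyg]
    simp only [MonoidHom.comp_apply, map_mul, map_inv]
    rfl
  have hmem : (QuotientGroup.mk (QuotientGroup.mk' N a) : (G ⧸ N) ⧸ Subgroup.centralizer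
        ((V.map (QuotientGroup.mk' N) : Subgroup (G ⧸ N)) : Set (G ⧸ N))) ∈
      (K.map (Subgroup.normalizer (V : Set G)).subtype).map
      ((QuotientGroup.mk' (Subgroup.centralizer
        ((V.map (QuotientGroup.mk' N) : Subgroup (G ⧸ N)) : Set (G ⧸ N)))).comp
        (QuotientGroup.mk' N)) := ⟨a, ⟨⟨a, haN⟩, haK, rfl⟩, rfl⟩
  exact Cfsg.Agent.Lib.Helper3.Core.le_pCore _ hMn hMp hmem

theorem stable_quot_aux {G : Type*} [Group G] [Finite G] {p : ℕ} [Fact p.Prime] (N : Subgroup G)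
    [N.Normal] (hNcop : (Nat.card N).Coprime p) (P : Sylow p G)
    (hstab : ∀ A V : Subgroup G, IsPGroup p A → IsPGroup p V →
      (∀ a ∈ A, ∀ x ∈ V, a * x * a⁻¹ ∈ V) →
      V.map (QuotientGroup.mk' N) ≤ pCore p (G ⧸ N) → (N ⊔ V).Normal → ⁅⁅V, A⁆, A⁆ = ⊥ →
      (A.subgroupOf (Subgroup.normalizer (V : Set G))).map
          (QuotientGroup.mk' ((Subgroup.centralizer (V : Set G)).subgroupOf
            (Subgroup.normalizer (V : Set G))))
        ≤ pCore p _)
    (Vb : Subgroup (G ⧸ N)) [hVn : Vb.Normal] (hVp : IsPGroup p Vb) : Cfsg.IsPStableOn p Vb := by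
  have hπs : Function.Surjective (QuotientGroup.mk' N) := QuotientGroup.mk'_surjective N
  obtain ⟨V, hVp', hVmap⟩ : ∃ V : Subgroup G, IsPGroup p V ∧ V.map (QuotientGroup.mk' N) = Vb := by
    refine ⟨(P : Subgroup G) ⊓ Vb.comap (QuotientGroup.mk' N), P.isPGroup'.to_le inf_le_left, ?_⟩
    apply le_antisymm
    · rintro _ ⟨v, hv, rfl⟩; exact hv.2
    · intro vb hvb
      have h1 : Vb ≤ ((P.mapSurjective hπs : Sylow p (G ⧸ N)) : Subgroup (G ⧸ N)) :=
        hVp.le_sylow_of_normal _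
      have h2 := h1 hvb
      rw [Sylow.coe_mapSurjective] at h2
      obtain ⟨v, hv, rfl⟩ := h2
      exact ⟨v, ⟨hv, hvb⟩, rfl⟩
  subst hVmap
  have hVX : V.map (QuotientGroup.mk' N) ≤ pCore p (G ⧸ N) :=
    Cfsg.Agent.Lib.Helper3.Core.le_pCore _ hVn hVp
  have hNV : (N ⊔ V).Normal := by
    have : N ⊔ V = (V.map (QuotientGroup.mk' N)).comap (QuotientGroup.mk' N) := by
      rw [Subgroup.comap_map_eq, QuotientGroup.ker_mk', sup_comm]
    rw [this]; exact hVn.comap _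
  have hsurj : ∀ g : G, ∃ y ∈ Subgroup.normalizer (V : Set G),
      QuotientGroup.mk' N y = QuotientGroup.mk' N g := by
    intro g
    exact Lift.exists_lift_normalizer N hNcop V hVp' g
      (by rw [Subgroup.normalizer_eq_top]; trivial)
  intro abar hq
  obtain ⟨a₀, rfl⟩ := hπs abar
  obtain ⟨a, haN, haa⟩ := hsurj a₀
  rw [← haa] at hq ⊢
  have hA₀N : Subgroup.zpowers a ≤ Subgroup.normalizer (V : Set G) := by
    rw [Subgroup.zpowers_le]; exact haN
  have hnorm : ∀ z ∈ Subgroup.zpowers a, ∀ v ∈ V, z * v * z⁻¹ ∈ V := by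
    intro z hz v hv
    have := hA₀N hz
    rw [Subgroup.mem_normalizer_iff] at this
    exact (this v).1 hv
  have hVA : ⁅V, Subgroup.zpowers a⁆ ≤ V := by
    rw [Subgroup.commutator_le]
    intro v hv z hz
    rw [commutatorElement_def]
    have e : v * z * v⁻¹ * z⁻¹ = v * (z * v⁻¹ * z⁻¹) := by group
    rw [e]
    exact V.mul_mem hv (hnorm z hz _ (V.inv_mem hv))
  have hVAA_V : ⁅⁅V, Subgroup.zpowers a⁆, Subgroup.zpowers a⁆ ≤ V :=
    (Subgroup.commutator_mono hVA le_rfl).trans hVA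
  have hVAA_N : ⁅⁅V, Subgroup.zpowers a⁆, Subgroup.zpowers a⁆ ≤ N := by
    have h1 : (⁅⁅V, Subgroup.zpowers a⁆, Subgroup.zpowers a⁆).map (QuotientGroup.mk' N) = ⊥ := by
      rw [Subgroup.map_commutator, Subgroup.map_commutator, MonoidHom.map_zpowers]
      exact hq
    rw [Subgroup.map_eq_bot_iff, QuotientGroup.ker_mk'] at h1
    exact h1
  have hVAA : ⁅⁅V, Subgroup.zpowers a⁆, Subgroup.zpowers a⁆ = ⊥ := by
    rw [eq_bot_iff]
    intro x hx
    exact Subgroup.mem_bot.2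
      (Local.eq_one_of_mem_pgroup_coprime hVp' hNcop (hVAA_V hx) (hVAA_N hx))
  obtain ⟨a₁, a₂, ha₁, ha₂, hdec, hp₁, hcop₂⟩ := decomp p a
  have ha₂C : a₂ ∈ Subgroup.centralizer (V : Set G) := by
    rw [Subgroup.mem_centralizer_iff]
    intro v hv
    have hc : a₂ * v * a₂⁻¹ * v⁻¹ ∈ V := V.mul_mem (hnorm a₂ ha₂ v hv) (V.inv_mem hv)
    have hcc : a₂ * v * a₂⁻¹ * v⁻¹ ∈ ⁅V, Subgroup.zpowers a⁆ := by
      have h1 := Subgroup.commutator_mem_commutator hv ha₂
      have e : a₂ * v * a₂⁻¹ * v⁻¹ = ⁅v, a₂⁆⁻¹ := by rw [commutatorElement_def]; group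
      rw [e]; exact Subgroup.inv_mem _ h1
    have hcy : a₂ * (a₂ * v * a₂⁻¹ * v⁻¹) = (a₂ * v * a₂⁻¹ * v⁻¹) * a₂ := by
      have h2 := Subgroup.commutator_mem_commutator hcc ha₂
      rw [hVAA, Subgroup.mem_bot, commutatorElement_eq_one_iff_mul_comm] at h2
      exact h2.symm
    exact (AxB.comm_of_coprime hVp' hc hcy hcop₂).symm
  have hA₁ : Subgroup.zpowers a₁ ≤ Subgroup.zpowers a := by
    rw [Subgroup.zpowers_le]; exact ha₁
  have hst1 := hstab (Subgroup.zpowers a₁) V hp₁ hVp' (fun z hz v hv => hnorm z (hA₁ hz) v hv)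
    hVX hNV
    (by rw [eq_bot_iff, ← hVAA]
        exact Subgroup.commutator_mono (Subgroup.commutator_mono le_rfl hA₁) hA₁)
  have ha₁N : a₁ ∈ Subgroup.normalizer (V : Set G) := hA₀N ha₁
  have ha₂N : a₂ ∈ Subgroup.normalizer (V : Set G) := hA₀N ha₂
  have h1 : QuotientGroup.mk' ((Subgroup.centralizer (V : Set G)).subgroupOf
        (Subgroup.normalizer (V : Set G))) ⟨a₁, ha₁N⟩ ∈
      pCore p (↥(Subgroup.normalizer (V : Set G)) ⧸
        (Subgroup.centralizer (V : Set G)).subgroupOf (Subgroup.normalizer (V : Set G))) := by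
    apply hst1
    refine ⟨⟨a₁, ha₁N⟩, ?_, rfl⟩
    show (⟨a₁, ha₁N⟩ : ↥(Subgroup.normalizer (V : Set G))) ∈
      (Subgroup.zpowers a₁).subgroupOf (Subgroup.normalizer (V : Set G))
    rw [Subgroup.mem_subgroupOf]
    exact Subgroup.mem_zpowers a₁
  have h2 : QuotientGroup.mk' ((Subgroup.centralizer (V : Set G)).subgroupOf
        (Subgroup.normalizer (V : Set G))) ⟨a₂, ha₂N⟩ = 1 := by
    apply (QuotientGroup.eq_one_iff _).2
    rw [Subgroup.mem_subgroupOf]
    exact ha₂C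
  have h3 : QuotientGroup.mk' ((Subgroup.centralizer (V : Set G)).subgroupOf
        (Subgroup.normalizer (V : Set G))) ⟨a, haN⟩ ∈
      pCore p (↥(Subgroup.normalizer (V : Set G)) ⧸
        (Subgroup.centralizer (V : Set G)).subgroupOf (Subgroup.normalizer (V : Set G))) := by
    have e : (⟨a, haN⟩ : ↥(Subgroup.normalizer (V : Set G))) = ⟨a₂, ha₂N⟩ * ⟨a₁, ha₁N⟩ :=
      Subtype.ext hdec
    rw [e, map_mul, h2, one_mul]
    exact h1
  exact transfer N V hsurj a haN h3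

theorem exists_maxab {G : Type*} [Group G] [Finite G] (P : Subgroup G) :
    ∃ A, S0653.IsMaxAb P A := by
  haveI : Nonempty {A : Subgroup G // A ≤ P ∧ IsMulCommutative A} :=
    ⟨⟨⊥, bot_le, inferInstance⟩⟩
  obtain ⟨A, hA⟩ := Finite.exists_max
    (fun A : {A : Subgroup G // A ≤ P ∧ IsMulCommutative A} => Nat.card A.1)
  exact ⟨A.1, A.2.1, A.2.2, fun Y hY hYc => hA ⟨Y, hY, hYc⟩⟩

theorem W_quot {G : Type*} [Group G] [Finite G] (N : Subgroup G) [N.Normal] (P : Subgroup G)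
    (hPN : P ⊓ N = ⊥) :
    S0653.W S0653.IsMaxAb (P.map (QuotientGroup.mk' N)) =
      (S0653.W S0653.IsMaxAb P).map (QuotientGroup.mk' N) := by
  have hinj : ∀ x ∈ P, ∀ y ∈ P, QuotientGroup.mk' N x = QuotientGroup.mk' N y → x = y := by
    intro x hx y hy hxy
    have h1 : x⁻¹ * y ∈ N := QuotientGroup.eq.1 hxy
    have h2 : x⁻¹ * y ∈ P ⊓ N := ⟨P.mul_mem (P.inv_mem hx) hy, h1⟩
    rw [hPN, Subgroup.mem_bot] at h2
    calc x = x * (x⁻¹ * y) := by rw [h2, mul_one]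
      _ = y := by group
  have hcard : ∀ A : Subgroup G, A ≤ P →
      Nat.card (A.map (QuotientGroup.mk' N)) = Nat.card A := by
    intro A hA
    have h1 := S0003.card_map_mk A N
    have h2 : A ⊓ N = ⊥ := le_bot_iff.1 ((inf_le_inf_right N hA).trans hPN.le)
    rw [h2, Subgroup.card_bot, mul_one] at h1
    exact h1
  have hpull : ∀ Yb : Subgroup (G ⧸ N), Yb ≤ P.map (QuotientGroup.mk' N) →
      (Yb.comap (QuotientGroup.mk' N) ⊓ P).map (QuotientGroup.mk' N) = Yb ∧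
      (IsMulCommutative Yb → IsMulCommutative ↥(Yb.comap (QuotientGroup.mk' N) ⊓ P)) := by
    intro Yb hYb
    constructor
    · apply le_antisymm
      · rintro _ ⟨y, hy, rfl⟩; exact hy.1
      · intro yb hyb
        obtain ⟨y, hy, rfl⟩ := hYb hyb
        exact ⟨y, ⟨hyb, hy⟩, rfl⟩
    · intro hc
      apply IsMulCommutative.of_setLike_mul_comm
      intro x hx y hy
      apply hinj _ (P.mul_mem hx.2 hy.2) _ (P.mul_mem hy.2 hx.2)
      rw [map_mul, map_mul]
      exact setLike_mul_comm (Subgroup.mem_comap.1 hx.1) (Subgroup.mem_comap.1 hy.1)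
  have hfwd : ∀ A, S0653.IsMaxAb P A →
      S0653.IsMaxAb (P.map (QuotientGroup.mk' N)) (A.map (QuotientGroup.mk' N)) := by
    rintro A ⟨hAP, hAc, hmax⟩
    refine ⟨Subgroup.map_mono hAP, by haveI := hAc; exact Subgroup.map_isMulCommutative A _, ?_⟩
    intro Yb hYb hYc
    obtain ⟨h1, h2⟩ := hpull Yb hYb
    rw [hcard A hAP, ← h1, hcard _ inf_le_right]
    exact hmax _ inf_le_right (h2 hYc)
  have hbwd : ∀ Ab, S0653.IsMaxAb (P.map (QuotientGroup.mk' N)) Ab →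
      ∃ A, S0653.IsMaxAb P A ∧ A.map (QuotientGroup.mk' N) = Ab := by
    rintro Ab ⟨hAP, hAc, hmax⟩
    obtain ⟨h1, h2⟩ := hpull Ab hAP
    refine ⟨_, ⟨inf_le_right, h2 hAc, ?_⟩, h1⟩
    intro Y hY hYc
    rw [← hcard _ inf_le_right, h1, ← hcard Y hY]
    exact hmax _ (Subgroup.map_mono hY) (by haveI := hYc; exact Subgroup.map_isMulCommutative Y _)
  ext xb
  rw [S0653.mem_W]
  constructor
  · intro hx
    obtain ⟨A₀, hA₀⟩ := exists_maxab P
    obtain ⟨x₀, hx₀, rfl⟩ := hx _ (hfwd A₀ hA₀)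
    refine ⟨x₀, (S0653.mem_W _ _ _).2 ?_, rfl⟩
    intro A hA
    obtain ⟨a, ha, hax⟩ := hx _ (hfwd A hA)
    have := hinj a (hA.1 ha) x₀ (hA₀.1 hx₀) hax
    rw [← this]; exact ha
  · rintro ⟨x, hx, rfl⟩ Ab hAb
    obtain ⟨A, hA, rfl⟩ := hbwd Ab hAb
    exact ⟨x, (S0653.mem_W _ _ _).1 hx A hA, rfl⟩

theorem result {G : Type*} [Group G] [Finite G] {p : ℕ} [Fact p.Prime] (hp : p ≠ 2) (hc : Cfsg.IsPConstrained p G) (hs : Cfsg.IsPStable p G) (P : Sylow p G) : Cfsg.pPrimeCore p G ⊔ Subgroup.normalizer (Cfsg.centerThompsonAOf ((P : Subgroup G)) : Set G) = ⊤ ∧ (Cfsg.pPrimeCore p G = ⊥ → (Cfsg.centerThompsonAOf ((P : Subgroup G))).Normal) := by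
  obtain ⟨-, -, hstab⟩ := hs
  have hNcop := Local.pPrimeCore_coprime (G := G) p
  have hc' := constrained_quot hc
  have hst' : ∀ (Vb : Subgroup (G ⧸ pPrimeCore p G)) [Vb.Normal], IsPGroup p Vb →
      Cfsg.IsPStableOn p Vb := by
    intro Vb hVn hVp
    exact stable_quot_aux (pPrimeCore p G) hNcop P
      (fun A V hA hV h1 h2 h3 h4 =>
        hstab A V hA hV h1 (fun v hv => Subgroup.mem_comap.2 (h2 ⟨v, hv, rfl⟩)) h3 h4) Vb hVp
  have hchar := S0653.result hp hc' hst'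
    (P.mapSurjective (QuotientGroup.mk'_surjective (pPrimeCore p G)))
  have hPN : (P : Subgroup G) ⊓ pPrimeCore p G = ⊥ := by
    rw [eq_bot_iff]
    intro x hx
    exact Subgroup.mem_bot.2 (Local.eq_one_of_mem_pgroup_coprime P.isPGroup' hNcop hx.1 hx.2)
  have hZmap : centerThompsonAOf ((P.mapSurjective
      (QuotientGroup.mk'_surjective (pPrimeCore p G)) : Sylow p (G ⧸ pPrimeCore p G)) :
        Subgroup (G ⧸ pPrimeCore p G)) =
      (centerThompsonAOf (P : Subgroup G)).map (QuotientGroup.mk' (pPrimeCore p G)) := by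
    rw [Sylow.coe_mapSurjective, S0653.center_eq hp, S0653.center_eq hp, W_quot _ _ hPN]
  rw [hZmap] at hchar
  haveI hZn : ((centerThompsonAOf (P : Subgroup G)).map
      (QuotientGroup.mk' (pPrimeCore p G))).Normal := by
    haveI := hchar; infer_instance
  have hZp : IsPGroup p (centerThompsonAOf (P : Subgroup G)) :=
    P.isPGroup'.to_le (inf_le_left.trans (Subgroup.map_subtype_le _))
  have hfirst : Cfsg.pPrimeCore p G ⊔
      Subgroup.normalizer (Cfsg.centerThompsonAOf ((P : Subgroup G)) : Set G) = ⊤ := by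
    rw [eq_top_iff]
    intro g _
    obtain ⟨y, hy, hyg⟩ := Lift.exists_lift_normalizer (pPrimeCore p G) hNcop _ hZp g
      (by rw [Subgroup.normalizer_eq_top]; trivial)
    have hgy : g * y⁻¹ ∈ pPrimeCore p G := by
      rw [← QuotientGroup.eq_one_iff]
      have : ((g * y⁻¹ : G) : G ⧸ pPrimeCore p G) =
          QuotientGroup.mk' (pPrimeCore p G) g * (QuotientGroup.mk' (pPrimeCore p G) y)⁻¹ := by
        rw [← map_inv, ← map_mul]; rfl
      rw [this, hyg, mul_inv_cancel]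
    have e : g = (g * y⁻¹) * y := by group
    rw [e]
    exact Subgroup.mul_mem_sup hgy hy
  refine ⟨hfirst, ?_⟩
  intro hbot
  rw [hbot, bot_sup_eq] at hfirst
  exact Subgroup.normalizer_eq_top_iff.1 hfirst

end Cfsg.Agent.S0667
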