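import Mathlib
import Cfsg.Statements.S0658
import Cfsg.Agent.S0650
import Cfsg.Agent.S0651
import Cfsg.Agent.S0653
import Cfsg.Agent.S0667
import Cfsg.Agent.S0119
set_option autoImplicit false
open Pointwise
open Cfsg
open scoped commutatorElement

namespace Cfsg.Agent.S0658

theorem W_inj {H G : Type*} [Group H] [Group G] [Finite H] (f : H →* G)
    (hf : Function.Injective f) (P : Subgroup H) :
    S0653.W S0653.IsMaxAb (P.map f) = (S0653.W S0653.IsMaxAb P).map f := by
  have hcard : ∀ A : Subgroup H, Nat.card (A.map f) = Nat.card A :=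
    fun A => Subgroup.card_map_of_injective hf
  have hpull : ∀ Yb : Subgroup G, Yb ≤ P.map f →
      (Yb.comap f ⊓ P).map f = Yb ∧
      (IsMulCommutative Yb → IsMulCommutative ↥(Yb.comap f ⊓ P)) := by
    intro Yb hYb
    constructor
    · apply le_antisymm
      · rintro _ ⟨y, hy, rfl⟩; exact hy.1
      · intro yb hyb
        obtain ⟨y, hy, rfl⟩ := hYb hyb
        exact ⟨y, ⟨hyb, hy⟩, rfl⟩
    · intro hc
      apply IsMulCommutative.of_setLike_mul_comm
      intro x hx y hy
      apply hf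
      rw [map_mul, map_mul]
      exact setLike_mul_comm (Subgroup.mem_comap.1 hx.1) (Subgroup.mem_comap.1 hy.1)
  have hfwd : ∀ A, S0653.IsMaxAb P A → S0653.IsMaxAb (P.map f) (A.map f) := by
    rintro A ⟨hAP, hAc, hmax⟩
    refine ⟨Subgroup.map_mono hAP, by haveI := hAc; exact Subgroup.map_isMulCommutative A _, ?_⟩
    intro Yb hYb hYc
    obtain ⟨h1, h2⟩ := hpull Yb hYb
    rw [hcard A, ← h1, hcard _]
    exact hmax _ inf_le_right (h2 hYc)
  have hbwd : ∀ Ab, S0653.IsMaxAb (P.map f) Ab → ∃ A, S0653.IsMaxAb P A ∧ A.map f = Ab := by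
    rintro Ab ⟨hAP, hAc, hmax⟩
    obtain ⟨h1, h2⟩ := hpull Ab hAP
    refine ⟨_, ⟨inf_le_right, h2 hAc, ?_⟩, h1⟩
    intro Y hY hYc
    rw [← hcard (Ab.comap f ⊓ P), h1, ← hcard Y]
    exact hmax _ (Subgroup.map_mono hY) (by haveI := hYc; exact Subgroup.map_isMulCommutative Y _)
  ext xb
  rw [S0653.mem_W]
  constructor
  · intro hx
    obtain ⟨A₀, hA₀⟩ := S0667.exists_maxab P
    obtain ⟨x₀, hx₀, rfl⟩ := hx _ (hfwd A₀ hA₀)
    refine ⟨x₀, (S0653.mem_W _ _ _).2 ?_, rfl⟩
    intro A hA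
    obtain ⟨a, ha, hax⟩ := hx _ (hfwd A hA)
    have := hf hax
    rw [← this]; exact ha
  · rintro ⟨x, hx, rfl⟩ Ab hAb
    obtain ⟨A, hA, rfl⟩ := hbwd Ab hAb
    exact ⟨x, (S0653.mem_W _ _ _).1 hx A hA, rfl⟩

theorem ZJ_map {H G : Type*} [Group H] [Group G] [Finite H] [Finite G] {p : ℕ} [Fact p.Prime]
    (hp : p ≠ 2) (f : H →* G) (hf : Function.Injective f) (P : Subgroup H) :
    centerThompsonAOf (P.map f) = (centerThompsonAOf P).map f := by
  rw [S0653.center_eq hp, S0653.center_eq hp, W_inj f hf]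

theorem ZJ_conj {G : Type*} [Group G] [Finite G] {p : ℕ} [Fact p.Prime] (hp : p ≠ 2)
    (P : Subgroup G) (g : G) :
    centerThompsonAOf (P.map (MulAut.conj g).toMonoidHom) =
      (centerThompsonAOf P).map (MulAut.conj g).toMonoidHom :=
  ZJ_map hp _ (MulAut.conj g).injective P

theorem ZJ_norm {G : Type*} [Group G] [Finite G] {p : ℕ} [Fact p.Prime] (hp : p ≠ 2)
    (R : Subgroup G) (t : G) (ht : t ∈ Subgroup.normalizer (R : Set G)) :
    t ∈ Subgroup.normalizer (centerThompsonAOf R : Set G) := by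
  apply S0650.norm_of_conj
  intro z hz
  have h1 : t * z * t⁻¹ ∈ (centerThompsonAOf R).map (MulAut.conj t).toMonoidHom := ⟨z, hz, rfl⟩
  rw [← ZJ_conj hp R t, S0653.map_conj_eq R t ht] at h1
  exact h1

theorem local_normal {G : Type*} [Group G] [Finite G] {p : ℕ} [Fact p.Prime] (hp : p ≠ 2)
    (X : Subgroup G)
    (h1 : pPrimeCore p ↥(Subgroup.normalizer (X : Set G)) = ⊥)
    (h2 : IsPConstrained p ↥(Subgroup.normalizer (X : Set G)))
    (h3 : IsPStable p ↥(Subgroup.normalizer (X : Set G)))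
    (R' : Sylow p ↥(Subgroup.normalizer (X : Set G))) :
    Subgroup.normalizer (X : Set G) ≤ Subgroup.normalizer (centerThompsonAOf
      ((R' : Subgroup ↥(Subgroup.normalizer (X : Set G))).map
        (Subgroup.normalizer (X : Set G)).subtype) : Set G) := by
  have hn := (S0667.result hp h2 h3 R').2 h1
  rw [ZJ_map hp _ (Subgroup.subtype_injective _)]
  intro h hh
  apply S0650.norm_of_conj
  rintro _ ⟨z, hz, rfl⟩
  exact ⟨⟨h, hh⟩ * z * ⟨h, hh⟩⁻¹, hn.conj_mem z hz ⟨h, hh⟩, rfl⟩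

theorem mem_maxab_of_central {G : Type*} [Group G] [Finite G] (P A : Subgroup G)
    (hA : S0653.IsMaxAb P A) (x : G) (hxP : x ∈ P) (hx : ∀ a ∈ A, a * x = x * a) : x ∈ A := by
  haveI := hA.2.1
  have hcomm : ∀ a ∈ Subgroup.closure ((A : Set G) ∪ {x}),
      ∀ b ∈ Subgroup.closure ((A : Set G) ∪ {x}), a * b = b * a := by
    apply S0119.closure_comm
    rintro a (ha | ha) b (hb | hb)
    · exact setLike_mul_comm ha hb
    · rw [Set.mem_singleton_iff] at hb
      rw [hb]; exact hx a ha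
    · rw [Set.mem_singleton_iff] at ha
      rw [ha]; exact (hx b hb).symm
    · rw [Set.mem_singleton_iff] at ha hb
      rw [ha, hb]
  have hle : A ≤ Subgroup.closure ((A : Set G) ∪ {x}) :=
    fun a ha => Subgroup.subset_closure (Or.inl ha)
  have hleP : Subgroup.closure ((A : Set G) ∪ {x}) ≤ P := by
    rw [Subgroup.closure_le]
    rintro a (ha | ha)
    · exact hA.1 ha
    · rw [Set.mem_singleton_iff] at ha
      rw [ha]; exact hxP
  have hcard := hA.2.2 _ hleP
    (IsMulCommutative.of_setLike_mul_comm (fun a ha b hb => hcomm a ha b hb))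
  have heq := Subgroup.eq_of_le_of_card_ge hle hcard
  rw [heq]
  exact Subgroup.subset_closure (Or.inr rfl)

theorem ZJ_ne_bot {G : Type*} [Group G] [Finite G] {p : ℕ} [Fact p.Prime] (hp : p ≠ 2)
    (R : Subgroup G) (hR : IsPGroup p R) (hne : R ≠ ⊥) : centerThompsonAOf R ≠ ⊥ := by
  haveI : Nontrivial R := (Subgroup.nontrivial_iff_ne_bot R).2 hne
  haveI := hR.center_nontrivial
  obtain ⟨z, hz⟩ := exists_ne (1 : Subgroup.center ↥R)
  intro hbot
  have hmem : ((z : ↥R) : G) ∈ centerThompsonAOf R := by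
    rw [S0653.center_eq hp, S0653.mem_W]
    intro A hA
    apply mem_maxab_of_central R A hA _ (z : ↥R).2
    intro a ha
    have h1 := Subgroup.mem_center_iff.1 z.2 ⟨a, hA.1 ha⟩
    exact congrArg Subtype.val h1
  rw [hbot, Subgroup.mem_bot] at hmem
  apply hz
  apply Subtype.ext
  apply Subtype.ext
  exact hmem

theorem norm_grow {G : Type*} [Group G] [Finite G] {p : ℕ} [Fact p.Prime] (S R : Subgroup G)
    (hS : IsPGroup p S) (hRS : R ≤ S) (hne : R ≠ S) :
    ∃ t ∈ S, t ∈ Subgroup.normalizer (R : Set G) ∧ t ∉ R := by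
  haveI : Group.IsNilpotent ↥S := hS.isNilpotent
  have hnc := normalizerCondition_of_isNilpotent (G := ↥S)
  have hlt : R.subgroupOf S < ⊤ := by
    rw [lt_top_iff_ne_top]
    intro h
    rw [Subgroup.subgroupOf_eq_top] at h
    exact hne (le_antisymm hRS h)
  obtain ⟨x, hx, hxR⟩ := SetLike.exists_of_lt (hnc _ hlt)
  refine ⟨x, x.2, ?_, ?_⟩
  · apply S0650.norm_of_conj
    intro y hy
    rw [Subgroup.mem_normalizer_iff] at hx
    have h2 := (hx ⟨y, hRS hy⟩).1 (by rw [Subgroup.mem_subgroupOf]; exact hy)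
    rw [Subgroup.mem_subgroupOf] at h2
    simpa using h2
  · intro h
    apply hxR
    rw [Subgroup.mem_subgroupOf]
    exact h

theorem exists_sylow_ge {G : Type*} [Group G] [Finite G] {p : ℕ} [Fact p.Prime]
    (H T : Subgroup G) (hT : IsPGroup p T) (hTH : T ≤ H) :
    ∃ R' : Sylow p ↥H, T ≤ (R' : Subgroup ↥H).map H.subtype := by
  have hT' : IsPGroup p (T.subgroupOf H) := hT.comap_subtype
  obtain ⟨R', hR'⟩ := hT'.exists_le_sylow
  refine ⟨R', ?_⟩
  intro t ht
  exact ⟨⟨t, hTH ht⟩, hR' (by rw [Subgroup.mem_subgroupOf]; exact ht), rfl⟩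

theorem sylow_conj {G : Type*} [Group G] [Finite G] {p : ℕ} [Fact p.Prime] (H : Subgroup G)
    (R₁ R₂ : Sylow p ↥H) :
    ∃ h ∈ H, (R₂ : Subgroup ↥H).map H.subtype =
      ((R₁ : Subgroup ↥H).map H.subtype).map (MulAut.conj h).toMonoidHom := by
  obtain ⟨h, hh⟩ := MulAction.exists_smul_eq ↥H R₁ R₂
  refine ⟨h, h.2, ?_⟩
  rw [← hh]
  ext y
  constructor
  · rintro ⟨y', hy', rfl⟩
    have hy'' : y' ∈ MulAut.conj h • (R₁ : Subgroup ↥H) := hy'
    rw [Subgroup.pointwise_smul_def] at hy''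
    obtain ⟨s, hs, rfl⟩ := hy''
    exact ⟨(s : G), ⟨s, hs, rfl⟩, rfl⟩
  · rintro ⟨_, ⟨s, hs, rfl⟩, rfl⟩
    refine ⟨h * s * h⁻¹, ?_, rfl⟩
    show h * s * h⁻¹ ∈ MulAut.conj h • (R₁ : Subgroup ↥H)
    rw [Subgroup.pointwise_smul_def]
    exact ⟨s, hs, rfl⟩

theorem coe_smul_sylow {G : Type*} [Group G] {p : ℕ} (g : G) (S : Sylow p G) :
    ((g • S : Sylow p G) : Subgroup G) = (S : Subgroup G).map (MulAut.conj g).toMonoidHom := by
  rw [Sylow.coe_subgroup_smul, Subgroup.pointwise_smul_def]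
  rfl

theorem card_map_subtype {G : Type*} [Group G] (H : Subgroup G) (K : Subgroup ↥H) :
    Nat.card (K.map H.subtype) = Nat.card K :=
  Subgroup.card_map_of_injective (Subgroup.subtype_injective H)

theorem joint {G : Type*} [Group G] [Finite G] {p : ℕ} [Fact p.Prime] (hp : p ≠ 2)
    (hloc : ∀ Q : Subgroup G, IsPGroup p Q → Q ≠ ⊥ →
      Cfsg.pPrimeCore p ↥(Subgroup.normalizer (Q : Set G)) = ⊥ ∧
      Cfsg.IsPConstrained p ↥(Subgroup.normalizer (Q : Set G)) ∧
      Cfsg.IsPStable p ↥(Subgroup.normalizer (Q : Set G)))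
    (n : ℕ) (hn : ∀ P : Sylow p G, Nat.card (P : Subgroup G) = n) :
    ∀ m : ℕ,
      (∀ P₁ P₂ : Sylow p G, (P₁ : Subgroup G) ⊓ P₂ ≠ ⊥ →
        n ≤ Nat.card ↥((P₁ : Subgroup G) ⊓ P₂) + m →
        centerThompsonAOf (P₁ : Subgroup G) = centerThompsonAOf (P₂ : Subgroup G)) ∧
      (∀ X : Subgroup G, IsPGroup p X → X ≠ ⊥ →
        ∀ (R' : Sylow p ↥(Subgroup.normalizer (X : Set G))) (S : Sylow p G),
        (R' : Subgroup ↥(Subgroup.normalizer (X : Set G))).map
          (Subgroup.normalizer (X : Set G)).subtype ≤ S →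
        n ≤ Nat.card (R' : Subgroup ↥(Subgroup.normalizer (X : Set G))) + m →
        Subgroup.normalizer (X : Set G) ≤
          Subgroup.normalizer (centerThompsonAOf (S : Subgroup G) : Set G)) := by
  intro m
  induction m using Nat.strong_induction_on with
  | _ m ih =>
    constructor
    · intro P₁ P₂ hD hcard
      by_cases hEq : (P₁ : Subgroup G) ⊓ P₂ = P₁
      · have hle : (P₁ : Subgroup G) ≤ P₂ := inf_eq_left.1 hEq
        have : (P₁ : Subgroup G) = P₂ :=
          Subgroup.eq_of_le_of_card_ge hle (by rw [hn P₁, hn P₂])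
        rw [this]
      · have hEq2 : (P₁ : Subgroup G) ⊓ P₂ ≠ P₂ := by
          intro h
          have hle : (P₂ : Subgroup G) ≤ P₁ := inf_eq_right.1 h
          have h' : (P₂ : Subgroup G) = P₁ :=
            Subgroup.eq_of_le_of_card_ge hle (by rw [hn P₁, hn P₂])
          apply hEq
          rw [h', inf_idem]
        have hDp : IsPGroup p ↥((P₁ : Subgroup G) ⊓ P₂) := P₁.isPGroup'.to_le inf_le_left
        obtain ⟨t₁, ht₁P, ht₁N, ht₁D⟩ := norm_grow (P₁ : Subgroup G)
          ((P₁ : Subgroup G) ⊓ P₂) P₁.isPGroup' inf_le_left hEq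
        obtain ⟨t₂, ht₂P, ht₂N, ht₂D⟩ := norm_grow (P₂ : Subgroup G)
          ((P₁ : Subgroup G) ⊓ P₂) P₂.isPGroup' inf_le_right hEq2
        have hT₁ : (P₁ : Subgroup G) ⊓ P₂ < (P₁ : Subgroup G) ⊓
            Subgroup.normalizer ((((P₁ : Subgroup G) ⊓ P₂ : Subgroup G)) : Set G) := by
          rw [SetLike.lt_iff_le_and_exists]
          exact ⟨le_inf inf_le_left Subgroup.le_normalizer, t₁, ⟨ht₁P, ht₁N⟩, ht₁D⟩
        have hT₂ : (P₁ : Subgroup G) ⊓ P₂ < (P₂ : Subgroup G) ⊓
            Subgroup.normalizer ((((P₁ : Subgroup G) ⊓ P₂ : Subgroup G)) : Set G) := by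
          rw [SetLike.lt_iff_le_and_exists]
          exact ⟨le_inf inf_le_right Subgroup.le_normalizer, t₂, ⟨ht₂P, ht₂N⟩, ht₂D⟩
        obtain ⟨R₁', hR₁'⟩ := exists_sylow_ge
          (Subgroup.normalizer ((((P₁ : Subgroup G) ⊓ P₂ : Subgroup G)) : Set G)) _
          (P₁.isPGroup'.to_le inf_le_left) inf_le_right
        obtain ⟨R₂', hR₂'⟩ := exists_sylow_ge
          (Subgroup.normalizer ((((P₁ : Subgroup G) ⊓ P₂ : Subgroup G)) : Set G)) _
          (P₂.isPGroup'.to_le inf_le_left) inf_le_right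
        obtain ⟨S₁, hS₁⟩ := (R₁'.isPGroup'.map (Subgroup.normalizer
          ((((P₁ : Subgroup G) ⊓ P₂ : Subgroup G)) : Set G)).subtype).exists_le_sylow
        obtain ⟨S₂, hS₂⟩ := (R₂'.isPGroup'.map (Subgroup.normalizer
          ((((P₁ : Subgroup G) ⊓ P₂ : Subgroup G)) : Set G)).subtype).exists_le_sylow
        have c1 := S0651.card_lt_of_lt hT₁
        have c2 := S0651.card_lt_of_lt hT₂
        have c3 := Subgroup.card_le_of_le hR₁'
        have c4 := Subgroup.card_le_of_le hR₂'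
        have c5 := card_map_subtype _ R₁'.toSubgroup
        have c6 := card_map_subtype _ R₂'.toSubgroup
        have c7 := (Subgroup.card_le_of_le hS₁).trans (hn S₁).le
        have hm : 0 < m := by omega
        have ihm := ih (m - 1) (by omega)
        have hle1 : (P₁ : Subgroup G) ⊓ Subgroup.normalizer
            ((((P₁ : Subgroup G) ⊓ P₂ : Subgroup G)) : Set G) ≤ (S₁ : Subgroup G) ⊓ P₁ :=
          le_inf (hR₁'.trans hS₁) inf_le_left
        have hle2 : (P₂ : Subgroup G) ⊓ Subgroup.normalizer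
            ((((P₁ : Subgroup G) ⊓ P₂ : Subgroup G)) : Set G) ≤ (S₂ : Subgroup G) ⊓ P₂ :=
          le_inf (hR₂'.trans hS₂) inf_le_left
        have e1 := ihm.1 S₁ P₁ (ne_bot_of_le_ne_bot hD (hT₁.le.trans hle1))
          (by have := Subgroup.card_le_of_le hle1; omega)
        have e2 := ihm.1 S₂ P₂ (ne_bot_of_le_ne_bot hD (hT₂.le.trans hle2))
          (by have := Subgroup.card_le_of_le hle2; omega)
        obtain ⟨h, hh, hconj⟩ := sylow_conj _ R₁' R₂'
        have hle3 : (R₂' : Subgroup _).map (Subgroup.normalizer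
            ((((P₁ : Subgroup G) ⊓ P₂ : Subgroup G)) : Set G)).subtype ≤
            ((h • S₁ : Sylow p G) : Subgroup G) ⊓ S₂ := by
          refine le_inf ?_ hS₂
          rw [coe_smul_sylow, hconj]
          exact Subgroup.map_mono hS₁
        have e3 := ihm.1 (h • S₁) S₂
          (ne_bot_of_le_ne_bot hD ((hT₂.le.trans hR₂').trans hle3))
          (by have := Subgroup.card_le_of_le hle3; omega)
        have hΦ := ihm.2 _ hDp hD R₁' S₁ hS₁ (by omega)
        have hhN := hΦ hh
        rw [coe_smul_sylow, ZJ_conj hp, S0653.map_conj_eq _ h hhN] at e3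
        rw [← e1, ← e2, e3]
    · intro X hXp hX1 R' S hRS hcard
      obtain ⟨h1, h2, h3⟩ := hloc X hXp hX1
      have hF2 := local_normal hp X h1 h2 h3 R'
      have hRcard := card_map_subtype _ R'.toSubgroup
      have hXR : X ≤ (R' : Subgroup ↥(Subgroup.normalizer (X : Set G))).map
          (Subgroup.normalizer (X : Set G)).subtype := by
        have hXp' : IsPGroup p (X.subgroupOf (Subgroup.normalizer (X : Set G))) :=
          hXp.comap_subtype
        have := hXp'.le_sylow_of_normal R'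
        intro x hx
        exact ⟨⟨x, Subgroup.le_normalizer hx⟩,
          this (by rw [Subgroup.mem_subgroupOf]; exact hx), rfl⟩
      generalize hRdef : (R' : Subgroup ↥(Subgroup.normalizer (X : Set G))).map
          (Subgroup.normalizer (X : Set G)).subtype = R at hF2 hRcard hXR hRS
      by_cases hEq : R = S
      · rw [← hEq]; exact hF2
      · have hRp : IsPGroup p ↥R := S.isPGroup'.to_le hRS
        obtain ⟨t, htS, htN, htR⟩ := norm_grow (S : Subgroup G) R S.isPGroup' hRS hEq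
        have hRT : R < (S : Subgroup G) ⊓ Subgroup.normalizer (R : Set G) := by
          rw [SetLike.lt_iff_le_and_exists]
          exact ⟨le_inf hRS Subgroup.le_normalizer, t, ⟨htS, htN⟩, htR⟩
        have hR1 : R ≠ ⊥ := ne_bot_of_le_ne_bot hX1 hXR
        have hZ1 := ZJ_ne_bot hp R hRp hR1
        have hZp : IsPGroup p ↥(centerThompsonAOf R) :=
          hRp.to_le (inf_le_left.trans (Subgroup.map_subtype_le _))
        have hTH₁ : (S : Subgroup G) ⊓ Subgroup.normalizer (R : Set G) ≤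
            Subgroup.normalizer (centerThompsonAOf R : Set G) :=
          fun t ht => ZJ_norm hp R t ht.2
        obtain ⟨R₁', hR₁'⟩ := exists_sylow_ge (Subgroup.normalizer (centerThompsonAOf R : Set G))
          ((S : Subgroup G) ⊓ Subgroup.normalizer (R : Set G))
          (S.isPGroup'.to_le inf_le_left) hTH₁
        obtain ⟨S', hS'⟩ := (R₁'.isPGroup'.map
          (Subgroup.normalizer (centerThompsonAOf R : Set G)).subtype).exists_le_sylow
        have c1 := S0651.card_lt_of_lt hRT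
        have c2 := Subgroup.card_le_of_le hR₁'
        have c3 := card_map_subtype _ R₁'.toSubgroup
        have c4 := (Subgroup.card_le_of_le hS').trans (hn S').le
        have hm : 0 < m := by omega
        have ihm := ih (m - 1) (by omega)
        have hΦ := ihm.2 (centerThompsonAOf R) hZp hZ1 R₁' S' hS' (by omega)
        have hle : (S : Subgroup G) ⊓ Subgroup.normalizer (R : Set G) ≤ (S' : Subgroup G) ⊓ S :=
          le_inf (hR₁'.trans hS') inf_le_left
        have hE := ihm.1 S' S (ne_bot_of_le_ne_bot hR1 (hRT.le.trans hle))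
          (by have := Subgroup.card_le_of_le hle; omega)
        rw [← hE]
        exact hF2.trans hΦ

theorem result {G : Type*} [Group G] [Finite G] {p : ℕ} [Fact p.Prime] (hp : p ≠ 2) (hloc : ∀ Q : Subgroup G, IsPGroup p Q → Q ≠ ⊥ → Cfsg.pPrimeCore p ↥(Subgroup.normalizer (Q : Set G)) = ⊥ ∧ Cfsg.IsPConstrained p ↥(Subgroup.normalizer (Q : Set G)) ∧ Cfsg.IsPStable p ↥(Subgroup.normalizer (Q : Set G))) (P : Sylow p G) (Q : Subgroup G) (hQP : Q ≤ (P : Subgroup G)) (hQ1 : Q ≠ ⊥) : Subgroup.normalizer (Q : Set G) ≤ Subgroup.normalizer (Cfsg.centerThompsonAOf ((P : Subgroup G)) : Set G) := by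
  intro g hg
  have hn : ∀ P' : Sylow p G, Nat.card (P' : Subgroup G) = p ^ (Nat.card G).factorization p :=
    fun P' => P'.card_eq_multiplicity
  have hQle : Q ≤ ((g • P : Sylow p G) : Subgroup G) ⊓ P := by
    refine le_inf ?_ hQP
    rw [coe_smul_sylow]
    intro q hq
    rw [Subgroup.mem_normalizer_iff] at hg
    have e : g * (g⁻¹ * q * g) * g⁻¹ = q := by group
    refine ⟨g⁻¹ * q * g, hQP ((hg _).2 (by rw [e]; exact hq)), e⟩
  have hJ := (joint hp hloc _ hn (p ^ (Nat.card G).factorization p)).1 (g • P) P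
    (ne_bot_of_le_ne_bot hQ1 hQle) (by omega)
  rw [coe_smul_sylow, ZJ_conj hp] at hJ
  apply S0650.norm_of_conj
  intro z hz
  rw [← hJ]
  exact ⟨z, hz, rfl⟩

end Cfsg.Agent.S0658
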