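import Mathlib
import Cfsg.Statements.S0659
import Cfsg.Agent.S0653
import Cfsg.Agent.S0658
import Cfsg.Agent.S0667
import Cfsg.Agent.S0072
import Cfsg.Agent.S0579
import Cfsg.Agent.S0651
import Cfsg.Agent.S0003
import Cfsg.Agent.Lib.Helper1.Frob
import Cfsg.Agent.Lib.Helper2.Fit
import Cfsg.Agent.Lib.Helper2.Lift
import Cfsg.Agent.Lib.Helper3.Coprime
import Cfsg.Agent.Lib.Helper3.Core
set_option autoImplicit false
open Pointwise
open Cfsg
open scoped commutatorElement

namespace Cfsg.Agent.S0659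

theorem ring_key {E : Type*} [Ring E] (h2 : ∀ z : E, z + z = 0 → z = 0)
    (n Y : E) (hn : n * n = 0)
    (h1 : Y * ((1 - n) * Y * (1 + n)) = ((1 - n) * Y * (1 + n)) * Y)
    (h2' : Y * ((1 - n) * ((1 - n) * Y * (1 + n)) * (1 + n)) =
      ((1 - n) * ((1 - n) * Y * (1 + n)) * (1 + n)) * Y) :
    Y * (Y * n - n * Y) = (Y * n - n * Y) * Y := by
  obtain ⟨A, hA⟩ : ∃ A, A = Y * (Y * n - n * Y) - (Y * n - n * Y) * Y := ⟨_, rfl⟩
  obtain ⟨B, hB⟩ : ∃ B, B = Y * (n * Y * n) - (n * Y * n) * Y := ⟨_, rfl⟩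
  have e1 : A - B = 0 := by
    rw [hA, hB, ← sub_eq_zero.2 h1]; noncomm_ring
  have a1 : (1 - n) * (1 - n) = 1 - (n + n) := by
    have : (1 - n) * (1 - n) = 1 - (n + n) + n * n := by noncomm_ring
    rw [this, hn, add_zero]
  have a2 : (1 + n) * (1 + n) = 1 + (n + n) := by
    have : (1 + n) * (1 + n) = 1 + (n + n) + n * n := by noncomm_ring
    rw [this, hn, add_zero]
  have a3 : (1 - n) * ((1 - n) * Y * (1 + n)) * (1 + n) = (1 - (n + n)) * Y * (1 + (n + n)) := by
    rw [← a1, ← a2]; simp only [mul_assoc]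
  have e2 : (A + A) - (B + B + B + B) = 0 := by
    rw [hA, hB, ← sub_eq_zero.2 h2', a3]; noncomm_ring
  have hAB : A = B := sub_eq_zero.1 e1
  have hAA : A + A = 0 := by
    rw [← hAB] at e2
    have : A + A - (A + A + A + A) = -(A + A) := by abel
    rw [this] at e2
    exact neg_eq_zero.1 e2
  have := h2 A hAA
  rw [hA] at this
  exact sub_eq_zero.1 this

theorem ring_key2 {E : Type*} [Ring E] (m : ℕ) (hm : ∀ z : E, m • z = 0 → z = 0)
    (n Y Y' : E) (hY : Y * Y' = 1) (hY' : Y' * Y = 1) (hYm : Y ^ m = 1)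
    (h : Y * (Y * n - n * Y) = (Y * n - n * Y) * Y) : Y * n = n * Y := by
  have hd : Y * (Y * n * Y' - n) * Y' = Y * n * Y' - n := by
    have h' : Y * (Y * n - n * Y) * Y' * Y' = (Y * n - n * Y) * Y * Y' * Y' := by rw [h]
    have l1 : Y * (Y * n - n * Y) * Y' * Y' = Y * (Y * n * Y') * Y' - Y * n * (Y * Y') * Y' := by
      noncomm_ring
    have l2 : (Y * n - n * Y) * Y * Y' * Y' = Y * n * (Y * Y') * Y' - n * (Y * Y') * (Y * Y') := by
      have : (Y * n - n * Y) * Y * Y' * Y' = Y * n * (Y * Y') * Y' - n * Y * (Y * Y') * Y' := by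
        noncomm_ring
      rw [this, hY, mul_one, mul_one, mul_one, mul_assoc n Y Y', hY, mul_one]
    rw [l1, l2, hY, mul_one, mul_one, mul_one] at h'
    have : Y * (Y * n * Y' - n) * Y' = Y * (Y * n * Y') * Y' - Y * n * Y' := by noncomm_ring
    rw [this, h']
  have hk : ∀ k : ℕ, Y ^ k * n * Y' ^ k = n + k • (Y * n * Y' - n) := by
    intro k
    induction k with
    | zero => simp
    | succ k ih =>
      rw [pow_succ', pow_succ]
      have : Y * Y ^ k * n * (Y' ^ k * Y') = Y * (Y ^ k * n * Y' ^ k) * Y' := by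
        simp only [mul_assoc]
      rw [this, ih, mul_add, add_mul, mul_smul_comm, smul_mul_assoc, hd, succ_nsmul]
      abel
  have h3 := hk m
  have hY'm : Y' ^ m = 1 := by
    have hc : Commute Y' Y := by
      show Y' * Y = Y * Y'
      rw [hY, hY']
    have := hc.mul_pow m
    rw [hY', one_pow, hYm, mul_one] at this
    exact this.symm
  rw [hYm, hY'm, one_mul, mul_one] at h3
  have h4 : m • (Y * n * Y' - n) = 0 := by
    have : n + m • (Y * n * Y' - n) = n + 0 := by rw [add_zero]; exact h3.symm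
    exact add_left_cancel this
  have h6 : Y * n * Y' = n := sub_eq_zero.1 (hm _ h4)
  calc Y * n = Y * n * (Y' * Y) := by rw [hY', mul_one]
    _ = (Y * n * Y') * Y := by simp only [mul_assoc]
    _ = n * Y := by rw [h6]

/-- The map from automorphisms to the endomorphism ring of the additive version. -/
def toE {W : Type*} [CommGroup W] : MulAut W →* AddMonoid.End (Additive W) where
  toFun f := MonoidHom.toAdditive f.toMonoidHom
  map_one' := rfl
  map_mul' _ _ := rfl

theorem toE_apply {W : Type*} [CommGroup W] (f : MulAut W) (w : Additive W) :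
    toE f w = Additive.ofMul (f w.toMul) := rfl

theorem toE_inj {W : Type*} [CommGroup W] (f g : MulAut W) (h : toE f = toE g) : f = g := by
  ext w
  have := DFunLike.congr_fun h (Additive.ofMul w)
  exact congrArg Additive.toMul this

theorem tors {W : Type*} [CommGroup W] {p : ℕ} (hW : ∀ w : W, ∃ k : ℕ, w ^ (p ^ k) = 1)
    (k : ℕ) (hk : k.Coprime p) (z : AddMonoid.End (Additive W)) (hz : k • z = 0) : z = 0 := by
  ext w
  have h1 : k • (z w) = 0 := by
    have := DFunLike.congr_fun hz w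
    simpa using this
  obtain ⟨j, hj⟩ := hW (z w).toMul
  have h2 : (z w).toMul ^ k = 1 := by
    have := congrArg Additive.toMul h1
    simpa using this
  have h3 : orderOf (z w).toMul ∣ k := orderOf_dvd_of_pow_eq_one h2
  have h4 : orderOf (z w).toMul ∣ p ^ j := orderOf_dvd_of_pow_eq_one hj
  have h5 : (z w).toMul = 1 :=
    orderOf_eq_one_iff.mp (Nat.eq_one_of_dvd_coprimes (Nat.Coprime.pow_right j hk) h3 h4)
  show z w = 0
  exact congrArg Additive.ofMul h5

theorem quad_comm {W : Type*} [CommGroup W] {p : ℕ} [Fact p.Prime] (hp : p ≠ 2)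
    (hW : ∀ w : W, ∃ k : ℕ, w ^ (p ^ k) = 1) (x y : MulAut W)
    (hx : ∀ w : W, x (x w / w) = x w / w) (m : ℕ) (hm : m.Coprime p) (hy : y ^ m = 1)
    (h1 : y * (x⁻¹ * y * x) = (x⁻¹ * y * x) * y)
    (h2 : y * (x⁻¹ * (x⁻¹ * y * x) * x) = (x⁻¹ * (x⁻¹ * y * x) * x) * y) :
    x * y = y * x := by
  have hp' : p.Prime := Fact.out
  obtain ⟨X, hX⟩ : ∃ X, X = toE x := ⟨_, rfl⟩
  obtain ⟨X', hX'⟩ : ∃ X', X' = toE x⁻¹ := ⟨_, rfl⟩
  obtain ⟨Y, hY⟩ : ∃ Y, Y = toE y := ⟨_, rfl⟩
  obtain ⟨Y', hY'⟩ : ∃ Y', Y' = toE y⁻¹ := ⟨_, rfl⟩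
  obtain ⟨n, hn⟩ : ∃ n, n = X - 1 := ⟨_, rfl⟩
  have hXn : X = 1 + n := by rw [hn]; abel
  have hx' : ∀ w : Additive W, X (X w - w) = X w - w := by
    intro w
    rw [hX]
    exact congrArg Additive.ofMul (hx w.toMul)
  have hnn : n * n = 0 := by
    ext w
    show n (n w) = 0
    have e : ∀ v : Additive W, n v = X v - v := by
      intro v; rw [hn]; rfl
    rw [e, e, hx', sub_self]
  have hX'X : X' * X = 1 := by rw [hX, hX', ← map_mul, inv_mul_cancel, map_one]
  have hX'n : X' = 1 - n := by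
    have e : X * (1 - n) = 1 := by
      rw [hXn]
      have : (1 + n) * (1 - n) = 1 - n * n := by
        rw [add_mul, mul_sub, mul_sub, one_mul, one_mul, mul_one]; abel
      rw [this, hnn, sub_zero]
    calc X' = X' * (X * (1 - n)) := by rw [e, mul_one]
      _ = (X' * X) * (1 - n) := by rw [mul_assoc]
      _ = 1 - n := by rw [hX'X, one_mul]
  have g1 : Y * ((1 - n) * Y * (1 + n)) = ((1 - n) * Y * (1 + n)) * Y := by
    have := congrArg toE h1
    simp only [map_mul] at this
    rw [← hX'n, ← hXn, hX, hX', hY]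
    exact this
  have g2 : Y * ((1 - n) * ((1 - n) * Y * (1 + n)) * (1 + n)) =
      ((1 - n) * ((1 - n) * Y * (1 + n)) * (1 + n)) * Y := by
    have := congrArg toE h2
    simp only [map_mul] at this
    rw [← hX'n, ← hXn, hX, hX', hY]
    exact this
  have hcop2 : (2 : ℕ).Coprime p := (Nat.coprime_primes Nat.prime_two hp').2 (Ne.symm hp)
  have k1 := ring_key (fun z hz => tors hW 2 hcop2 z (by rw [two_nsmul]; exact hz)) n Y hnn g1 g2
  have hYY' : Y * Y' = 1 := by rw [hY, hY', ← map_mul, mul_inv_cancel, map_one]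
  have hY'Y : Y' * Y = 1 := by rw [hY, hY', ← map_mul, inv_mul_cancel, map_one]
  have hYm : Y ^ m = 1 := by rw [hY, ← map_pow, hy, map_one]
  have k2 := ring_key2 m (tors hW m hm) n Y Y' hYY' hY'Y hYm k1
  apply toE_inj
  rw [map_mul, map_mul, ← hX, ← hY, hXn, add_mul, mul_add, one_mul, mul_one, k2]

theorem quad_comm' {W : Type*} [Group W] (hc : ∀ a b : W, a * b = b * a) {p : ℕ} [Fact p.Prime]
    (hp : p ≠ 2) (hW : ∀ w : W, ∃ k : ℕ, w ^ (p ^ k) = 1) (x y : MulAut W)
    (hx : ∀ w : W, x (x w / w) = x w / w) (m : ℕ) (hm : m.Coprime p) (hy : y ^ m = 1)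
    (h1 : y * (x⁻¹ * y * x) = (x⁻¹ * y * x) * y)
    (h2 : y * (x⁻¹ * (x⁻¹ * y * x) * x) = (x⁻¹ * (x⁻¹ * y * x) * x) * y) :
    x * y = y * x := by
  letI : CommGroup W := { (inferInstance : Group W) with mul_comm := hc }
  exact quad_comm hp hW x y hx m hm hy h1 h2

/-- Elements acting trivially on the section `A / B`. -/
def stab {G : Type*} [Group G] (A B : Subgroup G) [hB : B.Normal] : Subgroup G where
  carrier := {g | ∀ u ∈ A, ⁅g, u⁆ ∈ B}
  one_mem' := by
    intro u _
    simp
  mul_mem' := by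
    intro g₁ g₂ h₁ h₂ u hu
    have e : ⁅g₁ * g₂, u⁆ = g₁ * ⁅g₂, u⁆ * g₁⁻¹ * ⁅g₁, u⁆ := by
      simp only [commutatorElement_def]; group
    rw [e]
    exact B.mul_mem (hB.conj_mem _ (h₂ u hu) g₁) (h₁ u hu)
  inv_mem' := by
    intro g h u hu
    have e : ⁅g⁻¹, u⁆ = g⁻¹ * (⁅g, u⁆)⁻¹ * g⁻¹⁻¹ := by
      simp only [commutatorElement_def]; group
    rw [e]
    exact hB.conj_mem _ (B.inv_mem (h u hu)) g⁻¹

theorem mem_stab {G : Type*} [Group G] (A B : Subgroup G) [hB : B.Normal] (g : G) :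
    g ∈ stab A B ↔ ∀ u ∈ A, ⁅g, u⁆ ∈ B := Iff.rfl

theorem sect_comm {G : Type*} [Group G] [Finite G] {p : ℕ} [Fact p.Prime] (hp : p ≠ 2)
    (H K A B : Subgroup G) [hK : K.Normal] [hAn : A.Normal] [hBn : B.Normal] (hA : IsPGroup p A)
    (hAA : ⁅A, A⁆ ≤ B) (hAH : ⁅A, H⁆ ≤ B) (hKK : ⁅K, K⁆ ≤ H)
    (m : ℕ) (hm : m.Coprime p) (hKm : ∀ y ∈ K, y ^ m ∈ H)
    (a : G) (hquad : ∀ u ∈ A, ⁅a, ⁅a, u⁆⁆ ∈ B) (y : G) (hy : y ∈ K) : ⁅y, a⁆ ∈ stab A B := by
  obtain ⟨Ab, hAb⟩ : ∃ Ab : Subgroup (G ⧸ B), Ab = A.map (QuotientGroup.mk' B) := ⟨_, rfl⟩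
  haveI hAbn : Ab.Normal := by rw [hAb]; exact hAn.map _ (QuotientGroup.mk'_surjective B)
  have hsurj : ∀ w : ↥Ab, ∃ u ∈ A, (w : G ⧸ B) = QuotientGroup.mk' B u := by
    rintro ⟨w, hw⟩
    rw [hAb] at hw
    obtain ⟨u, hu, rfl⟩ := hw
    exact ⟨u, hu, rfl⟩
  have hcomm : ∀ u v : ↥Ab, u * v = v * u := by
    intro u v
    obtain ⟨u', hu', hu⟩ := hsurj u
    obtain ⟨v', hv', hv⟩ := hsurj v
    apply Subtype.ext
    rw [Subgroup.coe_mul, Subgroup.coe_mul, hu, hv, ← map_mul, ← map_mul]
    apply QuotientGroup.eq.2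
    have e : (u' * v')⁻¹ * (v' * u') = ⁅v'⁻¹, u'⁻¹⁆ := by
      simp only [commutatorElement_def]; group
    rw [e]
    exact hAA (Subgroup.commutator_mem_commutator (A.inv_mem hv') (A.inv_mem hu'))
  have hAbp : ∀ w : ↥Ab, ∃ k : ℕ, w ^ (p ^ k) = 1 := by
    have h1 : IsPGroup p ↥(A.map (QuotientGroup.mk' B)) := hA.map _
    rw [← hAb] at h1
    exact h1
  obtain ⟨ρ, hρ⟩ : ∃ ρ : G →* MulAut ↥Ab,
      ρ = (MulAut.conjNormal (H := Ab)).comp (QuotientGroup.mk' B) := ⟨_, rfl⟩
  have hρv : ∀ (g : G) (w : ↥Ab), ((ρ g w : ↥Ab) : G ⧸ B) =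
      QuotientGroup.mk' B g * w * (QuotientGroup.mk' B g)⁻¹ := by
    intro g w; rw [hρ]; rfl
  have hρc : ∀ (g u : G) (w : ↥Ab), (w : G ⧸ B) = QuotientGroup.mk' B u →
      ((ρ g w : ↥Ab) : G ⧸ B) * (w : G ⧸ B)⁻¹ = QuotientGroup.mk' B ⁅g, u⁆ := by
    intro g u w hw
    rw [hρv, hw, commutatorElement_def, map_mul, map_mul, map_mul, map_inv, map_inv]
  have hker : ∀ g : G, ρ g = 1 ↔ g ∈ stab A B := by
    intro g
    rw [mem_stab]
    constructor
    · intro hg u hu
      have hw : ((⟨QuotientGroup.mk' B u, by rw [hAb]; exact ⟨u, hu, rfl⟩⟩ : ↥Ab) : G ⧸ B) =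
          QuotientGroup.mk' B u := rfl
      have h1 := hρc g u _ hw
      rw [hg] at h1
      have h2 : QuotientGroup.mk' B ⁅g, u⁆ = 1 := by
        rw [← h1]; simp
      exact (QuotientGroup.eq_one_iff _).1 h2
    · intro hg
      ext w
      obtain ⟨u, hu, hw⟩ := hsurj w
      have h1 := hρc g u w hw
      have h2 : QuotientGroup.mk' B ⁅g, u⁆ = 1 := (QuotientGroup.eq_one_iff _).2 (hg u hu)
      rw [h2] at h1
      have h3 := mul_inv_eq_one.1 h1
      rw [h3]; rfl
  have hHker : ∀ h ∈ H, ρ h = 1 := by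
    intro h hh
    rw [hker, mem_stab]
    intro u hu
    rw [← commutatorElement_inv]
    exact hAH (inv_mem (Subgroup.commutator_mem_commutator hu hh))
  have hKcomm : ∀ y₁ ∈ K, ∀ y₂ ∈ K, ρ y₁ * ρ y₂ = ρ y₂ * ρ y₁ := by
    intro y₁ h₁ y₂ h₂
    have e : y₁ * y₂ = ⁅y₁, y₂⁆ * (y₂ * y₁) := by
      simp only [commutatorElement_def]; group
    rw [← map_mul, ← map_mul, e, map_mul,
      hHker _ (hKK (Subgroup.commutator_mem_commutator h₁ h₂)), one_mul]
  have hx : ∀ w : ↥Ab, ρ a (ρ a w / w) = ρ a w / w := by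
    intro w
    obtain ⟨u, hu, hw⟩ := hsurj w
    have hcA : ⁅a, u⁆ ∈ A := by
      have e : ⁅a, u⁆ = (a * u * a⁻¹) * u⁻¹ := by simp only [commutatorElement_def]
      rw [e]
      exact A.mul_mem (hAn.conj_mem u hu a) (A.inv_mem hu)
    have h1 : ((ρ a w / w : ↥Ab) : G ⧸ B) = QuotientGroup.mk' B ⁅a, u⁆ := by
      rw [div_eq_mul_inv, Subgroup.coe_mul, Subgroup.coe_inv]
      exact hρc a u w hw
    have h2 := hρc a ⁅a, u⁆ (ρ a w / w) h1
    have h3 : QuotientGroup.mk' B ⁅a, ⁅a, u⁆⁆ = 1 := (QuotientGroup.eq_one_iff _).2 (hquad u hu)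
    rw [h3] at h2
    apply Subtype.ext
    exact mul_inv_eq_one.1 h2
  have hym : ρ y ^ m = 1 := by
    rw [← map_pow]
    exact hHker _ (hKm y hy)
  have hy1 : a⁻¹ * y * a ∈ K := by
    have := hK.conj_mem y hy a⁻¹
    rwa [inv_inv] at this
  have hy2 : a⁻¹ * (a⁻¹ * y * a) * a ∈ K := by
    have := hK.conj_mem _ hy1 a⁻¹
    rwa [inv_inv] at this
  have h1 : ρ y * ((ρ a)⁻¹ * ρ y * ρ a) = ((ρ a)⁻¹ * ρ y * ρ a) * ρ y := by
    have := hKcomm y hy _ hy1
    rw [map_mul, map_mul, map_inv] at this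
    exact this
  have h2 : ρ y * ((ρ a)⁻¹ * ((ρ a)⁻¹ * ρ y * ρ a) * ρ a) =
      ((ρ a)⁻¹ * ((ρ a)⁻¹ * ρ y * ρ a) * ρ a) * ρ y := by
    have := hKcomm y hy _ hy2
    rw [map_mul, map_mul, map_mul, map_mul, map_inv] at this
    exact this
  have hfin := quad_comm' hcomm hp hAbp (ρ a) (ρ y) hx m hm hym h1 h2
  rw [← hker, commutatorElement_def, map_mul, map_mul, map_mul, map_inv, map_inv, ← hfin]
  group

theorem p_elt_mem {G : Type*} [Group G] [Finite G] {p : ℕ} [Fact p.Prime]
    (H K : Subgroup G) [H.Normal] (m : ℕ) (hm : m.Coprime p)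
    (hKm : ∀ y ∈ K, y ^ m ∈ H) (x : G) (hx : x ∈ K) (n : ℕ) (hxn : x ^ (p ^ n) = 1) : x ∈ H := by
  have h1 : (QuotientGroup.mk' H x) ^ m = 1 := by
    rw [← map_pow]; exact (QuotientGroup.eq_one_iff _).2 (hKm x hx)
  have h2 : (QuotientGroup.mk' H x) ^ (p ^ n) = 1 := by rw [← map_pow, hxn, map_one]
  have h3 := S0579.eq_one_of_pow_coprime h1 h2 (Nat.Coprime.pow_right n hm)
  exact (QuotientGroup.eq_one_iff _).1 h3

theorem stable {G : Type*} [Group G] [Finite G] {p : ℕ} [Fact p.Prime] (hp : p ≠ 2)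
    (H K : Subgroup G) [hHn : H.Normal] [hKn : K.Normal] (hH : IsPGroup p H) (hHK : H ≤ K)
    (hmax : ∀ V : Subgroup G, V.Normal → IsPGroup p V → V ≤ H)
    (m j : ℕ) (hm : m.Coprime p) (hKm : ∀ y ∈ K, y ^ m ∈ H) (hKidx : K.index = p ^ j)
    (hKK : ⁅K, K⁆ ≤ H)
    (hmin : ∀ L : Subgroup G, L.Normal → H ≤ L → L ≤ K → L = H ∨ L = K)
    (V : Subgroup G) [hVn : V.Normal] (hV : IsPGroup p V) : IsPStableOn p V := by
  have hp' : p.Prime := Fact.out
  have hVH : V ≤ H := hmax V hVn hV
  intro a hquad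
  rcases hmin (H ⊔ (Subgroup.centralizer (V : Set G) ⊓ K)) inferInstance le_sup_left
    (sup_le hHK inf_le_right) with hL | hL
  · have hCK : Subgroup.centralizer (V : Set G) ⊓ K ≤ H := by rw [← hL]; exact le_sup_right
    obtain ⟨a₁, a₂, ha₁, ha₂, haa, ha₁p, ha₂c⟩ := S0667.decomp p a
    have ha₂K : a₂ ∈ K := Lib.Helper1.Frob.mem_of_coprime_of_index K hKidx a₂ ha₂c
    have hquad1 : ∀ c ∈ ⁅V, Subgroup.zpowers a⁆, ∀ b ∈ Subgroup.zpowers a, ⁅c, b⁆ = 1 := by
      intro c hc b hb
      have := Subgroup.commutator_mem_commutator hc hb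
      rw [hquad] at this
      exact Subgroup.mem_bot.1 this
    have ha₂C : a₂ ∈ Subgroup.centralizer (V : Set G) := by
      rw [Subgroup.mem_centralizer_iff]
      intro v hv
      apply Lib.Helper3.Coprime.commute_of_coprime_comm v a₂
      · have h := hquad1 _ (Subgroup.commutator_mem_commutator hv ha₂) a₂ ha₂
        exact (commutatorElement_eq_one_iff_mul_comm.1 h).symm
      · have hc : ⁅v, a₂⁆ ∈ V := S0579.comm_mem_normal V v a₂ hv
        obtain ⟨e, he⟩ := hV ⟨_, hc⟩
        have he' : ⁅v, a₂⁆ ^ (p ^ e) = 1 := congrArg Subtype.val he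
        exact Nat.Coprime.coprime_dvd_right (orderOf_dvd_of_pow_eq_one he')
          (Nat.Coprime.pow_right e ha₂c)
    have ha₂1 : a₂ = 1 :=
      Lib.Helper1.Frob.eq_one_of_pgroup_of_coprime hH (hCK ⟨ha₂C, ha₂K⟩) ha₂c
    have hap : IsPGroup p (Subgroup.zpowers a) := by
      rw [haa, ha₂1, one_mul]; exact ha₁p
    obtain ⟨Vs, hVs⟩ : ∃ Vs : ℕ → Subgroup G,
        Vs = fun i => (fun E : Subgroup G => ⁅E, H⁆)^[i] V := ⟨_, rfl⟩
    have hVs0 : Vs 0 = V := by rw [hVs]; rfl
    have hVss : ∀ i, Vs (i + 1) = ⁅Vs i, H⁆ := by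
      intro i; rw [hVs]; exact Function.iterate_succ_apply' _ _ _
    have hVsn : ∀ i, (Vs i).Normal := by
      intro i
      induction i with
      | zero => rw [hVs0]; exact hVn
      | succ i ih => rw [hVss]; haveI := ih; infer_instance
    have hVsanti : ∀ i, Vs (i + 1) ≤ Vs i := by
      intro i; rw [hVss]; haveI := hVsn i; exact Subgroup.commutator_le_left _ _
    have hVsV : ∀ i, Vs i ≤ V := by
      intro i
      induction i with
      | zero => rw [hVs0]
      | succ i ih => exact (hVsanti i).trans ih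
    have hVsbot : ∃ n, Vs n = ⊥ := by
      haveI : Group.IsNilpotent ↥H := hH.isNilpotent
      have key : ∀ n : ℕ, Vs n ≤ H.lowerCentralSeries n := by
        intro n
        induction n with
        | zero => rw [hVs0]; exact hVH
        | succ n ih =>
          rw [hVss, Subgroup.lowerCentralSeries_succ]
          exact Subgroup.commutator_mono ih le_rfl
      obtain ⟨n, hn⟩ := (Subgroup.isNilpotent_iff_lowerCentralSeries H).mp inferInstance
      exact ⟨n, le_bot_iff.1 (hn ▸ key n)⟩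
    obtain ⟨n, hn⟩ := hVsbot
    have hstabK : ∀ y ∈ K, ∀ i, ⁅y, a⁆ ∈ @stab G _ (Vs i) (Vs (i + 1)) (hVsn (i + 1)) := by
      intro y hy i
      haveI := hVsn i
      haveI := hVsn (i + 1)
      apply sect_comm hp H K (Vs i) (Vs (i + 1)) (hV.to_le (hVsV i)) ?_ ?_ hKK m hm hKm a ?_ y hy
      · rw [hVss]; exact Subgroup.commutator_mono le_rfl ((hVsV i).trans hVH)
      · rw [hVss]
      · intro u hu
        have h1 : ⁅a, u⁆ ∈ ⁅V, Subgroup.zpowers a⁆ := by
          rw [← commutatorElement_inv]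
          exact inv_mem (Subgroup.commutator_mem_commutator (hVsV i hu) (Subgroup.mem_zpowers a))
        have h2 : ⁅a, ⁅a, u⁆⁆ = 1 := by
          rw [← commutatorElement_inv, hquad1 _ h1 a (Subgroup.mem_zpowers a), inv_one]
        rw [h2]; exact Subgroup.one_mem _
    have hKa : ∀ y ∈ K, ⁅y, a⁆ ∈ H := by
      intro y hy
      obtain ⟨z, hz⟩ : ∃ z, z = ⁅y, a⁆ := ⟨_, rfl⟩
      have hzK : z ∈ K := by rw [hz]; exact S0579.comm_mem_normal K y a hy
      obtain ⟨z₁, z₂, hz₁, hz₂, hzz, hz₁p, hz₂c⟩ := S0667.decomp p z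
      have hz₂K : z₂ ∈ K := (Subgroup.zpowers_le.2 hzK) hz₂
      have hz₂C : z₂ ∈ Subgroup.centralizer (V : Set G) := by
        rw [Subgroup.mem_centralizer_iff]
        intro v hv
        have hcc := Lib.Helper3.Coprime.centralizes_of_chain z₂ n
          (fun i : Fin (n + 1) => Vs i.val) hn ?_ ?_ ?_ v (by show v ∈ Vs 0; rw [hVs0]; exact hv)
        · exact hcc
        · intro i j hij
          exact (antitone_nat_of_succ_le hVsanti) hij
        · intro d hd
          have hd' : d ∈ V := by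
            have : d ∈ Vs 0 := hd
            rwa [hVs0] at this
          obtain ⟨e, he⟩ := hV ⟨d, hd'⟩
          have he' : d ^ (p ^ e) = 1 := congrArg Subtype.val he
          exact Nat.Coprime.coprime_dvd_right (orderOf_dvd_of_pow_eq_one he')
            (Nat.Coprime.pow_right e hz₂c)
        · intro i h hh
          have h1 : z₂ ∈ @stab G _ (Vs i.val) (Vs (i.val + 1)) (hVsn (i.val + 1)) :=
            (Subgroup.zpowers_le.2 (hz ▸ hstabK y hy i.val)) hz₂
          have h2 := (@mem_stab G _ (Vs i.val) (Vs (i.val + 1)) (hVsn (i.val + 1)) z₂).1 h1 h hh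
          rw [← commutatorElement_inv]
          exact inv_mem h2
      have hz₂1 : z₂ = 1 :=
        Lib.Helper1.Frob.eq_one_of_pgroup_of_coprime hH (hCK ⟨hz₂C, hz₂K⟩) hz₂c
      rw [hz₂1, one_mul] at hzz
      obtain ⟨e, he⟩ := hz₁p ⟨z₁, Subgroup.mem_zpowers z₁⟩
      have he' : z₁ ^ (p ^ e) = 1 := congrArg Subtype.val he
      rw [← hz, hzz]
      exact p_elt_mem H K m hm hKm z₁ (hzz ▸ hzK) e he'
    have haH : a ∈ H := by
      obtain ⟨P, hP⟩ := hap.exists_le_sylow
      have hHP : H ≤ (P : Subgroup G) :=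
        (Lib.Helper2.Fit.le_pCore H hHn hH).trans (Lib.Helper3.Core.pCore_le_sylow P)
      have haP : a ∈ (P : Subgroup G) := hP (Subgroup.mem_zpowers a)
      have hKP : (P : Subgroup G) ⊔ K = ⊤ := by
        have h1 : ((P : Subgroup G) ⊔ K).index ∣ p ^ j :=
          hKidx ▸ Subgroup.index_dvd_of_le le_sup_right
        obtain ⟨i, -, hi⟩ := (Nat.dvd_prime_pow hp').1 h1
        have h2 : ((P : Subgroup G) ⊔ K).index ∣ (P : Subgroup G).index :=
          Subgroup.index_dvd_of_le le_sup_left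
        have h3 : i = 0 := by
          by_contra hi0
          apply P.not_dvd_index
          exact dvd_trans (hi ▸ dvd_pow_self p hi0) h2
        rw [h3, pow_zero] at hi
        exact Subgroup.index_eq_one.1 hi
      have hncl : Subgroup.normalClosure ((Subgroup.zpowers a : Subgroup G) : Set G) ≤
          (P : Subgroup G) := by
        apply S0653.ncl_le
        intro g x hx
        obtain ⟨i, rfl⟩ := Subgroup.mem_zpowers_iff.1 hx
        have hg : g ∈ (P : Subgroup G) ⊔ K := by rw [hKP]; trivial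
        obtain ⟨t, ht, k, hk, rfl⟩ := Subgroup.mem_sup_of_normal_right.mp hg
        have e : t * k * a ^ i * (t * k)⁻¹ = (t * (⁅k, a⁆ * a) * t⁻¹) ^ i := by
          rw [← conj_zpow]
          congr 1
          simp only [commutatorElement_def]; group
        rw [e]
        exact zpow_mem (mul_mem (mul_mem ht (mul_mem (hHP (hKa k hk)) haP)) (inv_mem ht)) i
      have hnclH := hmax _ inferInstance (P.2.to_le hncl)
      exact hnclH (Subgroup.subset_normalClosure (Subgroup.mem_zpowers a))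
    have hT : (H.map (QuotientGroup.mk' (Subgroup.centralizer (V : Set G)))).Normal :=
      hHn.map _ (QuotientGroup.mk'_surjective _)
    exact Lib.Helper2.Fit.le_pCore _ hT (hH.map _) ⟨a, haH, rfl⟩
  · have hGp : IsPGroup p (G ⧸ Subgroup.centralizer (V : Set G)) := by
      intro g
      obtain ⟨g, rfl⟩ := QuotientGroup.mk_surjective g
      have h1 : g ^ (p ^ j) ∈ K := by rw [← hKidx]; exact Subgroup.pow_index_mem K g
      rw [← hL] at h1
      obtain ⟨h, hh, c, hc, hhc⟩ := Subgroup.mem_sup_of_normal_left.mp h1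
      obtain ⟨e, he⟩ := hH ⟨h, hh⟩
      have he' : h ^ (p ^ e) = 1 := congrArg Subtype.val he
      refine ⟨j + e, ?_⟩
      have e1 : (QuotientGroup.mk (g ^ (p ^ j)) : G ⧸ Subgroup.centralizer (V : Set G)) =
          QuotientGroup.mk h := by
        rw [← hhc, QuotientGroup.mk_mul, (QuotientGroup.eq_one_iff c).2 hc.1, mul_one]
      calc (QuotientGroup.mk g : G ⧸ Subgroup.centralizer (V : Set G)) ^ (p ^ (j + e))
          = ((QuotientGroup.mk g) ^ (p ^ j)) ^ (p ^ e) := by rw [pow_add, pow_mul]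
        _ = (QuotientGroup.mk (g ^ (p ^ j))) ^ (p ^ e) := by rw [QuotientGroup.mk_pow]
        _ = (QuotientGroup.mk h) ^ (p ^ e) := by rw [e1]
        _ = QuotientGroup.mk (h ^ (p ^ e)) := by rw [QuotientGroup.mk_pow]
        _ = 1 := by rw [he']; rfl
    exact Lib.Helper2.Fit.le_pCore ⊤ inferInstance (hGp.to_subgroup ⊤) (Subgroup.mem_top _)

theorem cent_le' {G : Type*} [Group G] [Finite G] (p : ℕ) [Fact p.Prime] (P : Subgroup G)
    [P.Normal] (hP : IsPGroup p P)
    (hO : ∀ K : Subgroup G, K.Normal → (Nat.card K).Coprime p → K = ⊥)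
    (C : Subgroup G) [hCn : C.Normal] (hrel : ¬ p ∣ (C ⊓ P).relIndex C)
    (hCP : ∀ c ∈ C, ∀ u ∈ P, u * c = c * u) : C ≤ P := by
  have hp : p.Prime := Fact.out
  have hZp : IsPGroup p ↥(C ⊓ P) := hP.to_le inf_le_right
  obtain ⟨k, hk⟩ := IsPGroup.iff_card.mp hZp
  have hcop : (Nat.card ↥(C ⊓ P)).Coprime ((C ⊓ P).relIndex C) := by
    rw [hk]; exact Nat.Coprime.pow_left _ ((Nat.Prime.coprime_iff_not_dvd hp).mpr hrel)
  obtain ⟨K, hKC, hKc⟩ := S0579.sz_sub C (C ⊓ P) inf_le_left hcop
  have hm : (Nat.card K).Coprime p := by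
    rw [hKc]; exact ((Nat.Prime.coprime_iff_not_dvd hp).mpr hrel).symm
  have hKle : K ≤ C := hKC ▸ le_sup_right
  have hKpow : ∀ x ∈ K, x ^ Nat.card K = 1 := by
    intro x hx
    have := pow_card_eq_one' (G := K) (x := ⟨x, hx⟩)
    exact congrArg Subtype.val this
  have hchar : ∀ x : G, x ∈ K ↔ x ∈ C ∧ x ^ Nat.card K = 1 := by
    intro x
    constructor
    · intro hx
      exact ⟨hKle hx, hKpow x hx⟩
    · rintro ⟨hxC, hxm⟩
      rw [← hKC] at hxC
      obtain ⟨z, hz, k', hk', rfl⟩ := Subgroup.mem_sup_of_normal_left.mp hxC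
      have hcomm : Commute z k' := hCP k' (hKle hk') z hz.2
      have h1 : z ^ Nat.card K * k' ^ Nat.card K = 1 := by rw [← hcomm.mul_pow]; exact hxm
      rw [hKpow k' hk', mul_one] at h1
      obtain ⟨j, hj⟩ := hP ⟨z, hz.2⟩
      have hj' : z ^ (p ^ j) = 1 := congrArg Subtype.val hj
      have hz1 : z = 1 := S0579.eq_one_of_pow_coprime h1 hj' (Nat.Coprime.pow_right j hm)
      rw [hz1, one_mul]; exact hk'
  have hKn : K.Normal := by
    constructor
    intro x hx g
    rw [hchar] at hx ⊢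
    exact ⟨hCn.conj_mem x hx.1 g, by rw [conj_pow, hx.2]; simp⟩
  have hK1 := hO K hKn hm
  rw [hK1, sup_bot_eq] at hKC
  rw [← hKC]; exact inf_le_right

theorem npc_surj {A B : Type*} [Group A] [Group B] [Finite A] [Finite B] {p : ℕ} [Fact p.Prime]
    (f : A →* B) (hf : Function.Surjective f) (h : HasNormalPComplement p A) :
    HasNormalPComplement p B := by
  have hp : p.Prime := Fact.out
  obtain ⟨N, hN, hc, j, hj⟩ := Lib.Helper1.Frob.hasNPC_iff.1 h
  refine Lib.Helper1.Frob.hasNPC_iff.2 ⟨N.map f, hN.map f hf, ?_, ?_⟩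
  · exact Nat.Coprime.coprime_dvd_left (Subgroup.card_map_dvd N f) hc
  · have h2 : (N.map f).index ∣ p ^ j := hj ▸ Subgroup.index_map_dvd N hf
    obtain ⟨i, -, hi⟩ := (Nat.dvd_prime_pow hp).1 h2
    exact ⟨i, hi⟩

theorem npc_inj {A B : Type*} [Group A] [Group B] [Finite A] [Finite B] {p : ℕ} [Fact p.Prime]
    (f : A →* B) (hf : Function.Injective f) (h : HasNormalPComplement p B) :
    HasNormalPComplement p A := by
  have hp : p.Prime := Fact.out
  obtain ⟨N, hN, hc, j, hj⟩ := Lib.Helper1.Frob.hasNPC_iff.1 h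
  refine Lib.Helper1.Frob.hasNPC_iff.2 ⟨N.comap f, hN.comap f, ?_, ?_⟩
  · exact Nat.Coprime.coprime_dvd_left (Subgroup.card_comap_dvd_of_injective N f hf) hc
  · have h2 : (N.comap f).index ∣ p ^ j := by
      rw [Subgroup.index_comap, ← hj]
      exact Subgroup.relIndex_dvd_index_of_normal N f.range
    obtain ⟨i, -, hi⟩ := (Nat.dvd_prime_pow hp).1 h2
    exact ⟨i, hi⟩

theorem npc_ext {G : Type*} [Group G] [Finite G] {p : ℕ} [Fact p.Prime] (R : Subgroup G)
    [R.Normal] (hR : (Nat.card R).Coprime p) (h : HasNormalPComplement p (G ⧸ R)) :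
    HasNormalPComplement p G := by
  obtain ⟨N, hN, hc, j, hj⟩ := Lib.Helper1.Frob.hasNPC_iff.1 h
  refine Lib.Helper1.Frob.hasNPC_iff.2 ⟨N.comap (QuotientGroup.mk' R), hN.comap _, ?_, j, ?_⟩
  · rw [S0003.card_comap_mk']
    exact Nat.Coprime.mul_left hR hc
  · rw [Subgroup.index_comap_of_surjective _ (QuotientGroup.mk'_surjective R)]; exact hj

universe u

theorem ind_step {G : Type u} [Group G] [Finite G] {p : ℕ} [Fact p.Prime] (hp : p ≠ 2)
    (IHs : ∀ (M : Subgroup G), M ≠ ⊤ → ∀ (S : Sylow p ↥M),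
      HasNormalPComplement p ↥(Subgroup.normalizer
        ((centerThompsonAOf ((S : Subgroup ↥M).map M.subtype) : Subgroup G) : Set G)) →
      HasNormalPComplement p ↥M)
    (IHq : ∀ (R : Subgroup G) [R.Normal], R ≠ ⊥ → ∀ (S : Sylow p (G ⧸ R)),
      HasNormalPComplement p ↥(Subgroup.normalizer
        ((centerThompsonAOf (S : Subgroup (G ⧸ R)) : Subgroup (G ⧸ R)) : Set (G ⧸ R))) →
      HasNormalPComplement p (G ⧸ R))
    (hall : ∀ P : Sylow p G, HasNormalPComplement p ↥(Subgroup.normalizer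
      ((centerThompsonAOf (P : Subgroup G) : Subgroup G) : Set G))) :
    HasNormalPComplement p G := by
  have hp' : p.Prime := Fact.out
  by_contra hG
  have hex : ∃ Q : Subgroup G, IsPGroup p Q ∧ Q ≠ ⊥ ∧
      ¬ HasNormalPComplement p ↥(Subgroup.normalizer (Q : Set G)) := by
    by_contra hne
    apply hG
    rw [S0072.result p]
    intro Q hQ hQb
    by_contra hQn
    exact hne ⟨Q, hQ, hQb, hQn⟩
  obtain ⟨f, hf⟩ : ∃ f : Subgroup G → ℕ, f = fun H : Subgroup G =>
      (Nat.card ↥(Subgroup.normalizer (H : Set G))).factorization p * (Nat.card G + 1) +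
        Nat.card H := ⟨_, rfl⟩
  obtain ⟨H, hHmem, hHmax⟩ := Set.exists_max_image {Q : Subgroup G | IsPGroup p Q ∧ Q ≠ ⊥ ∧
      ¬ HasNormalPComplement p ↥(Subgroup.normalizer (Q : Set G))} f (Set.toFinite _) hex
  obtain ⟨hHp, hHne, hHN⟩ := hHmem
  have hm1 : ∀ H' : Subgroup G, IsPGroup p H' → H' ≠ ⊥ →
      ¬ HasNormalPComplement p ↥(Subgroup.normalizer (H' : Set G)) →
      (Nat.card ↥(Subgroup.normalizer (H' : Set G))).factorization p ≤
        (Nat.card ↥(Subgroup.normalizer (H : Set G))).factorization p := by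
    intro H' h1 h2 h3
    have h4 := hHmax H' ⟨h1, h2, h3⟩
    rw [hf] at h4
    have h4' : (Nat.card ↥(Subgroup.normalizer (H' : Set G))).factorization p * (Nat.card G + 1) +
        Nat.card H' ≤ (Nat.card ↥(Subgroup.normalizer (H : Set G))).factorization p *
        (Nat.card G + 1) + Nat.card H := h4
    have h5 : Nat.card H ≤ Nat.card G := Subgroup.card_le_card_group H
    by_contra hlt
    have hlt' : (Nat.card ↥(Subgroup.normalizer (H : Set G))).factorization p + 1 ≤
        (Nat.card ↥(Subgroup.normalizer (H' : Set G))).factorization p := by omega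
    have h6 := Nat.mul_le_mul_right (Nat.card G + 1) hlt'
    nlinarith
  have hm2 : ∀ H' : Subgroup G, IsPGroup p H' → H' ≠ ⊥ →
      ¬ HasNormalPComplement p ↥(Subgroup.normalizer (H' : Set G)) →
      (Nat.card ↥(Subgroup.normalizer (H : Set G))).factorization p ≤
        (Nat.card ↥(Subgroup.normalizer (H' : Set G))).factorization p →
      Nat.card H' ≤ Nat.card H := by
    intro H' h1 h2 h3 h4
    have h5 := hHmax H' ⟨h1, h2, h3⟩
    rw [hf] at h5
    have h5' : (Nat.card ↥(Subgroup.normalizer (H' : Set G))).factorization p * (Nat.card G + 1) +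
        Nat.card H' ≤ (Nat.card ↥(Subgroup.normalizer (H : Set G))).factorization p *
        (Nat.card G + 1) + Nat.card H := h5
    have h6 := Nat.mul_le_mul_right (Nat.card G + 1) h4
    linarith
  have hNtop : Subgroup.normalizer (H : Set G) = ⊤ := by
    by_contra hNtop
    apply hHN
    obtain ⟨S₀⟩ : Nonempty (Sylow p ↥(Subgroup.normalizer (H : Set G))) := inferInstance
    apply IHs _ hNtop S₀
    obtain ⟨S, hS⟩ : ∃ S : Subgroup G, S =
        (S₀ : Subgroup ↥(Subgroup.normalizer (H : Set G))).map (Subgroup.subtype _) := ⟨_, rfl⟩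
    rw [← hS]
    have hSp : IsPGroup p S := by rw [hS]; exact S₀.2.map _
    obtain ⟨P', hSP'⟩ := hSp.exists_le_sylow
    by_cases hSP : S = (P' : Subgroup G)
    · rw [hSP]; exact hall P'
    · by_contra hZ
      have hScard : Nat.card S =
          p ^ (Nat.card ↥(Subgroup.normalizer (H : Set G))).factorization p := by
        rw [hS, S0658.card_map_subtype]; exact S₀.card_eq_multiplicity
      have hSne : S ≠ ⊥ := by
        intro hb
        rw [hb, Subgroup.card_bot] at hScard
        have h1 : p ∣ Nat.card ↥(Subgroup.normalizer (H : Set G)) := by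
          have h2 : p ∣ Nat.card H := by
            obtain ⟨k, hk⟩ := IsPGroup.iff_card.1 hHp
            have hk0 : k ≠ 0 := by
              rintro rfl
              rw [pow_zero] at hk
              exact hHne (Subgroup.card_eq_one.1 hk)
            rw [hk]; exact dvd_pow_self p hk0
          exact h2.trans (Subgroup.card_dvd_of_le Subgroup.le_normalizer)
        have h3 : 0 < (Nat.card ↥(Subgroup.normalizer (H : Set G))).factorization p :=
          hp'.factorization_pos_of_dvd Nat.card_pos.ne' h1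
        have h4 : 1 < p ^ (Nat.card ↥(Subgroup.normalizer (H : Set G))).factorization p :=
          Nat.one_lt_pow h3.ne' hp'.one_lt
        omega
      have hZp : IsPGroup p (centerThompsonAOf S) :=
        hSp.to_le (inf_le_left.trans (Subgroup.map_subtype_le _))
      have hZne := S0658.ZJ_ne_bot hp S hSp hSne
      have h1 := hm1 _ hZp hZne hZ
      obtain ⟨t, htP, htN, htS⟩ := S0658.norm_grow (P' : Subgroup G) S P'.2 hSP' hSP
      have hT1 : S < (P' : Subgroup G) ⊓ Subgroup.normalizer (S : Set G) := by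
        refine lt_of_le_of_ne (le_inf hSP' Subgroup.le_normalizer) ?_
        intro he
        apply htS
        rw [he]; exact ⟨htP, htN⟩
      have hT2 : (P' : Subgroup G) ⊓ Subgroup.normalizer (S : Set G) ≤
          Subgroup.normalizer (centerThompsonAOf S : Set G) := by
        intro x hx
        exact S0658.ZJ_norm hp S x hx.2
      have hTp : IsPGroup p ↥((P' : Subgroup G) ⊓ Subgroup.normalizer (S : Set G)) :=
        P'.2.to_le inf_le_left
      obtain ⟨k, hk⟩ := IsPGroup.iff_card.1 hTp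
      have h2 := S0651.card_lt_of_lt hT1
      rw [hScard, hk] at h2
      have h3 : (Nat.card ↥(Subgroup.normalizer (H : Set G))).factorization p < k :=
        (Nat.pow_lt_pow_iff_right hp'.one_lt).1 h2
      have h4 : p ^ k ∣ Nat.card ↥(Subgroup.normalizer (centerThompsonAOf S : Set G)) :=
        hk ▸ Subgroup.card_dvd_of_le hT2
      have h5 : k ≤ (Nat.card ↥(Subgroup.normalizer
          (centerThompsonAOf S : Set G))).factorization p :=
        (hp'.pow_dvd_iff_le_factorization Nat.card_pos.ne').1 h4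
      omega
  haveI hHn : H.Normal := Subgroup.normalizer_eq_top_iff.mp hNtop
  have hcardN : Nat.card ↥(Subgroup.normalizer (H : Set G)) = Nat.card G := by
    rw [hNtop]; exact Subgroup.card_top
  have hmaxn : ∀ V : Subgroup G, V.Normal → IsPGroup p V → V ≤ H := by
    intro V hVn hVp
    haveI := hVn
    have h1 : IsPGroup p ↥(H ⊔ V) := IsPGroup.to_sup_of_normal_right hHp hVp
    have hnorm : Subgroup.normalizer ((H ⊔ V : Subgroup G) : Set G) = ⊤ :=
      Subgroup.normalizer_eq_top_iff.mpr inferInstance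
    have h2 : ¬ HasNormalPComplement p ↥(Subgroup.normalizer ((H ⊔ V : Subgroup G) : Set G)) := by
      rw [hnorm, ← hNtop]; exact hHN
    have h3 := hm2 _ h1 (fun hb => hHne (le_bot_iff.1 (hb ▸ le_sup_left))) h2
      (by rw [hnorm, hNtop])
    have h4 : H = H ⊔ V := Subgroup.eq_of_le_of_card_ge le_sup_left h3
    rw [h4]; exact le_sup_right
  have hbig : ∀ L : Subgroup G, IsPGroup p L → H ≤ L → L ≠ H →
      (∃ P' : Sylow p G, (P' : Subgroup G) ≤ Subgroup.normalizer (L : Set G)) →
      HasNormalPComplement p ↥(Subgroup.normalizer (L : Set G)) := by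
    rintro L hLp hHL hLH ⟨P', hP'⟩
    by_contra hL
    have hLne : L ≠ ⊥ := fun hb => hHne (le_bot_iff.1 (hb ▸ hHL))
    have h1 : (Nat.card ↥(Subgroup.normalizer (H : Set G))).factorization p ≤
        (Nat.card ↥(Subgroup.normalizer (L : Set G))).factorization p := by
      rw [hcardN]
      have h2 : p ^ (Nat.card G).factorization p ∣ Nat.card ↥(Subgroup.normalizer (L : Set G)) := by
        rw [← P'.card_eq_multiplicity]; exact Subgroup.card_dvd_of_le hP'
      exact (hp'.pow_dvd_iff_le_factorization Nat.card_pos.ne').1 h2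
    have h3 := hm2 L hLp hLne hL h1
    exact hLH (Subgroup.eq_of_le_of_card_ge hHL h3).symm
  obtain ⟨P⟩ : Nonempty (Sylow p G) := inferInstance
  have hHP : H ≤ (P : Subgroup G) :=
    (Lib.Helper2.Fit.le_pCore H hHn hHp).trans (Lib.Helper3.Core.pCore_le_sylow P)
  have htopcase : Subgroup.normalizer
      ((centerThompsonAOf (P : Subgroup G) : Subgroup G) : Set G) = ⊤ → False := by
    intro htop
    apply hG
    refine npc_surj (Subgroup.subtype _) ?_ (hall P)
    intro g
    exact ⟨⟨g, by rw [htop]; trivial⟩, rfl⟩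
  have hHPne : H ≠ (P : Subgroup G) := by
    intro hHPeq
    apply htopcase
    rw [eq_top_iff]
    intro t _
    apply S0658.ZJ_norm hp
    rw [← hHPeq, hNtop]; trivial
  have hquot : HasNormalPComplement p (G ⧸ H) := by
    obtain ⟨Pb, hPb⟩ : ∃ Pb : Sylow p (G ⧸ H),
        Pb = P.mapSurjective (QuotientGroup.mk'_surjective H) := ⟨_, rfl⟩
    have hPbc : (Pb : Subgroup (G ⧸ H)) = (P : Subgroup G).map (QuotientGroup.mk' H) := by
      rw [hPb, Sylow.coe_mapSurjective]
    apply IHq H hHne Pb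
    have hPbne : (Pb : Subgroup (G ⧸ H)) ≠ ⊥ := by
      rw [hPbc]
      intro hb
      apply hHPne
      apply le_antisymm hHP
      intro x hx
      have : QuotientGroup.mk' H x ∈ (P : Subgroup G).map (QuotientGroup.mk' H) := ⟨x, hx, rfl⟩
      rw [hb, Subgroup.mem_bot] at this
      exact (QuotientGroup.eq_one_iff x).1 this
    obtain ⟨Zb, hZb⟩ : ∃ Zb : Subgroup (G ⧸ H),
        Zb = centerThompsonAOf (Pb : Subgroup (G ⧸ H)) := ⟨_, rfl⟩
    rw [← hZb]
    have hZbne : Zb ≠ ⊥ := by rw [hZb]; exact S0658.ZJ_ne_bot hp _ Pb.2 hPbne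
    have hZbp : IsPGroup p Zb := by
      rw [hZb]; exact Pb.2.to_le (inf_le_left.trans (Subgroup.map_subtype_le _))
    obtain ⟨L, hL⟩ : ∃ L : Subgroup G, L = Zb.comap (QuotientGroup.mk' H) := ⟨_, rfl⟩
    have hHL : H ≤ L := by
      intro h hh
      rw [hL, Subgroup.mem_comap]
      have : QuotientGroup.mk' H h = 1 := (QuotientGroup.eq_one_iff h).2 hh
      rw [this]; exact Subgroup.one_mem _
    have hLH : L ≠ H := by
      intro he
      apply hZbne
      have : Zb = L.map (QuotientGroup.mk' H) := by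
        rw [hL, Subgroup.map_comap_eq_self_of_surjective (QuotientGroup.mk'_surjective H)]
      rw [this, he, QuotientGroup.map_mk'_self]
    have hLp : IsPGroup p L := by
      rw [hL]
      apply hZbp.comap_of_ker_isPGroup
      rw [QuotientGroup.ker_mk']; exact hHp
    have hnormL : Subgroup.normalizer (L : Set G) =
        (Subgroup.normalizer (Zb : Set (G ⧸ H))).comap (QuotientGroup.mk' H) := by
      rw [hL]
      exact (Subgroup.comap_normalizer_eq_of_surjective Zb (QuotientGroup.mk'_surjective H)).symm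
    have hPL : (P : Subgroup G) ≤ Subgroup.normalizer (L : Set G) := by
      intro t ht
      rw [hnormL, Subgroup.mem_comap, hZb]
      apply S0658.ZJ_norm hp
      apply Subgroup.le_normalizer
      rw [hPbc]; exact ⟨t, ht, rfl⟩
    have hNL := hbig L hLp hHL hLH ⟨P, hPL⟩
    refine npc_surj (((QuotientGroup.mk' H).comp (Subgroup.subtype _)).codRestrict
      (Subgroup.normalizer (Zb : Set (G ⧸ H))) ?_) ?_ hNL
    · intro x
      exact hnormL.le x.2
    · intro y
      obtain ⟨x, hx⟩ := QuotientGroup.mk'_surjective H y.1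
      have hxN : x ∈ Subgroup.normalizer (L : Set G) := by
        rw [hnormL, Subgroup.mem_comap, hx]; exact y.2
      exact ⟨⟨x, hxN⟩, Subtype.ext hx⟩
  obtain ⟨Kb, hKbn, hKbc, j, hj⟩ := Lib.Helper1.Frob.hasNPC_iff.1 hquot
  obtain ⟨K, hK⟩ : ∃ K : Subgroup G, K = Kb.comap (QuotientGroup.mk' H) := ⟨_, rfl⟩
  haveI hKn : K.Normal := by rw [hK]; exact hKbn.comap _
  have hHK : H ≤ K := by
    intro h hh
    rw [hK, Subgroup.mem_comap]
    have : QuotientGroup.mk' H h = 1 := (QuotientGroup.eq_one_iff h).2 hh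
    rw [this]; exact Subgroup.one_mem _
  have hKidx : K.index = p ^ j := by
    rw [hK, Subgroup.index_comap_of_surjective _ (QuotientGroup.mk'_surjective H)]; exact hj
  obtain ⟨m, hm⟩ : ∃ m, m = Nat.card Kb := ⟨_, rfl⟩
  have hmc : m.Coprime p := hm ▸ hKbc
  have hKm : ∀ y ∈ K, y ^ m ∈ H := by
    intro y hy
    rw [hK, Subgroup.mem_comap] at hy
    have h1 : (⟨QuotientGroup.mk' H y, hy⟩ : ↥Kb) ^ Nat.card Kb = 1 := pow_card_eq_one'
    have h2 : (QuotientGroup.mk' H y) ^ m = 1 := by rw [hm]; exact congrArg Subtype.val h1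
    rw [← map_pow] at h2
    exact (QuotientGroup.eq_one_iff _).1 h2
  have hpK : ∀ x ∈ K, ∀ n : ℕ, x ^ (p ^ n) = 1 → x ∈ H :=
    fun x hx n hxn => p_elt_mem H K m hmc hKm x hx n hxn
  have hO : ∀ R : Subgroup G, R.Normal → (Nat.card R).Coprime p → R = ⊥ := by
    intro R hRn hRc
    by_contra hRne
    haveI := hRn
    apply hG
    apply npc_ext R hRc
    apply IHq R hRne (P.mapSurjective (QuotientGroup.mk'_surjective R))
    have hPR : (P : Subgroup G) ⊓ R = ⊥ := by
      rw [eq_bot_iff]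
      intro x hx
      exact Subgroup.mem_bot.2 (Lib.Helper1.Frob.eq_one_of_pgroup_of_coprime P.2 hx.1
        (Nat.Coprime.coprime_dvd_left (Subgroup.orderOf_dvd_natCard R hx.2) hRc))
    have hZmap : centerThompsonAOf ((P.mapSurjective (QuotientGroup.mk'_surjective R) :
        Sylow p (G ⧸ R)) : Subgroup (G ⧸ R)) =
        (centerThompsonAOf (P : Subgroup G)).map (QuotientGroup.mk' R) := by
      rw [Sylow.coe_mapSurjective, S0653.center_eq hp, S0653.center_eq hp, S0667.W_quot _ _ hPR]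
    rw [hZmap]
    have hZp : IsPGroup p (centerThompsonAOf (P : Subgroup G)) :=
      P.2.to_le (inf_le_left.trans (Subgroup.map_subtype_le _))
    refine npc_surj (((QuotientGroup.mk' R).comp (Subgroup.subtype _)).codRestrict _ ?_) ?_
      (hall P)
    · intro x
      exact Subgroup.le_normalizer_map (QuotientGroup.mk' R) ⟨x.1, x.2, rfl⟩
    · intro y
      obtain ⟨x, hx⟩ := QuotientGroup.mk'_surjective R y.1
      obtain ⟨z, hz, hzx⟩ := Lib.Helper2.Lift.exists_lift_normalizer R hRc _ hZp x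
        (by rw [hx]; exact y.2)
      exact ⟨⟨z, hz⟩, Subtype.ext (hzx.trans hx)⟩
  have hcent : Subgroup.centralizer (H : Set G) ≤ H := by
    have h1 : Subgroup.centralizer (H : Set G) ⊓ K ≤ H := by
      apply cent_le' p H hHp hO (Subgroup.centralizer (H : Set G) ⊓ K)
      · rw [Subgroup.inf_relIndex_left]
        intro hdvd
        obtain ⟨x, hx⟩ := exists_prime_orderOf_dvd_card'
          (G := ↥(Subgroup.centralizer (H : Set G) ⊓ K) ⧸
            H.subgroupOf (Subgroup.centralizer (H : Set G) ⊓ K)) p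
          (by rw [← Subgroup.index_eq_card]; exact hdvd)
        obtain ⟨y, rfl⟩ := QuotientGroup.mk_surjective x
        have h2 : (QuotientGroup.mk y : ↥(Subgroup.centralizer (H : Set G) ⊓ K) ⧸
            H.subgroupOf (Subgroup.centralizer (H : Set G) ⊓ K)) ^ m = 1 := by
          rw [← QuotientGroup.mk_pow, QuotientGroup.eq_one_iff, Subgroup.mem_subgroupOf,
            Subgroup.coe_pow]
          exact hKm _ y.2.2
        have h3 : p ∣ m := hx ▸ orderOf_dvd_of_pow_eq_one h2
        exact (Nat.Prime.coprime_iff_not_dvd hp').1 hmc.symm h3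
      · intro c hc u hu
        exact Subgroup.mem_centralizer_iff.1 hc.1 u hu
    have hCp : IsPGroup p ↥(Subgroup.centralizer (H : Set G)) := by
      rintro ⟨x, hx⟩
      have h2 : x ^ (p ^ j) ∈ K := by rw [← hKidx]; exact Subgroup.pow_index_mem K x
      have h3 : x ^ (p ^ j) ∈ H := h1 ⟨pow_mem hx _, h2⟩
      obtain ⟨e, he⟩ := hHp ⟨_, h3⟩
      have he' : (x ^ (p ^ j)) ^ (p ^ e) = 1 := congrArg Subtype.val he
      refine ⟨j + e, Subtype.ext ?_⟩
      rw [Subgroup.coe_pow, pow_add, pow_mul]; exact he'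
    exact hmaxn _ inferInstance hCp
  have hstar : ∀ (P' : Sylow p G) (L : Subgroup G), H ≤ L → L ≤ K →
      (P' : Subgroup G) ≤ Subgroup.normalizer (L : Set G) → L ⊔ (P' : Subgroup G) ≠ ⊤ →
      L = H := by
    intro P' L hHL hLK hP'L hne
    obtain ⟨M, hM⟩ : ∃ M : Subgroup G, M = L ⊔ (P' : Subgroup G) := ⟨_, rfl⟩
    have hP'M : (P' : Subgroup G) ≤ M := hM ▸ le_sup_right
    have hLM : L ≤ M := hM ▸ le_sup_left
    have hMne : M ≠ ⊤ := hM ▸ hne
    have hSmap : ((P'.subtype hP'M : Sylow p ↥M) : Subgroup ↥M).map M.subtype =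
        (P' : Subgroup G) := by
      rw [Sylow.coe_subtype, Subgroup.subgroupOf_map_subtype, inf_of_le_left hP'M]
    have hMnpc := IHs M hMne (P'.subtype hP'M) (by rw [hSmap]; exact hall P')
    obtain ⟨Q₀, hQ₀n, hQ₀c, i, hi⟩ := Lib.Helper1.Frob.hasNPC_iff.1 hMnpc
    have hQ₀bot : Q₀ = ⊥ := by
      rw [eq_bot_iff]
      intro q hq
      have hqo : (orderOf (q : G)).Coprime p := by
        rw [Subgroup.orderOf_coe]
        exact Nat.Coprime.coprime_dvd_left (Subgroup.orderOf_dvd_natCard Q₀ hq) hQ₀c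
      have hqC : (q : G) ∈ Subgroup.centralizer (H : Set G) := by
        rw [Subgroup.mem_centralizer_iff]
        intro h hh
        have h1 : ⁅(q : G), h⁆ ∈ H := by
          rw [← commutatorElement_inv]; exact inv_mem (S0579.comm_mem_normal H h q hh)
        have h2 : ⁅q, (⟨h, hLM (hHL hh)⟩ : ↥M)⁆ ∈ Q₀ := S0579.comm_mem_normal Q₀ q _ hq
        have h3 : (orderOf ⁅(q : G), h⁆).Coprime p := by
          have e : ⁅(q : G), h⁆ = ((⁅q, (⟨h, hLM (hHL hh)⟩ : ↥M)⁆ : ↥M) : G) := rfl
          rw [e, Subgroup.orderOf_coe]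
          exact Nat.Coprime.coprime_dvd_left (Subgroup.orderOf_dvd_natCard Q₀ h2) hQ₀c
        have h4 := Lib.Helper1.Frob.eq_one_of_pgroup_of_coprime hHp h1 h3
        exact (commutatorElement_eq_one_iff_mul_comm.1 h4).symm
      have hq1 : (q : G) = 1 :=
        Lib.Helper1.Frob.eq_one_of_pgroup_of_coprime hHp (hcent hqC) hqo
      exact Subgroup.mem_bot.2 (Subtype.ext hq1)
    rw [hQ₀bot, Subgroup.index_bot] at hi
    have hMp : IsPGroup p ↥M := IsPGroup.of_card hi
    have hMP : M = (P' : Subgroup G) := P'.3 hMp hP'M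
    apply le_antisymm _ hHL
    intro x hx
    have hxP : x ∈ (P' : Subgroup G) := hMP ▸ hLM hx
    obtain ⟨e, he⟩ := P'.2 ⟨x, hxP⟩
    exact hpK x (hLK hx) e (congrArg Subtype.val he)
  have hKH : K ≠ H := by
    intro hKHeq
    apply hG
    refine Lib.Helper1.Frob.hasNPC_iff.2 ⟨⊥, inferInstance, by simp, ?_⟩
    obtain ⟨k, hk⟩ := IsPGroup.iff_card.1 hHp
    refine ⟨k + j, ?_⟩
    rw [Subgroup.index_bot, ← Subgroup.card_mul_index K, hKidx, hKHeq, hk, pow_add]
  have hded : ∀ (P' : Sylow p G) (L : Subgroup G), L.Normal → H ≤ L → L ≤ K →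
      L ⊔ (P' : Subgroup G) = ⊤ → L = K := by
    intro P' L hLn hHL hLK htop
    haveI := hLn
    apply le_antisymm hLK
    intro x hx
    have hx' : x ∈ L ⊔ (P' : Subgroup G) := by rw [htop]; trivial
    obtain ⟨l, hl, t, ht, rfl⟩ := Subgroup.mem_sup_of_normal_left.mp hx'
    have htK : t ∈ K := by
      have : t = l⁻¹ * (l * t) := by group
      rw [this]; exact K.mul_mem (K.inv_mem (hLK hl)) hx
    obtain ⟨e, he⟩ := P'.2 ⟨t, ht⟩
    exact L.mul_mem hl (hHL (hpK t htK e (congrArg Subtype.val he)))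
  have hmin : ∀ L : Subgroup G, L.Normal → H ≤ L → L ≤ K → L = H ∨ L = K := by
    intro L hLn hHL hLK
    by_cases htop : L ⊔ (P : Subgroup G) = ⊤
    · exact Or.inr (hded P L hLn hHL hLK htop)
    · refine Or.inl (hstar P L hHL hLK ?_ htop)
      rw [Subgroup.normalizer_eq_top_iff.mpr hLn]; exact le_top
  have hKK : ⁅K, K⁆ ≤ H := by
    rcases hmin (H ⊔ ⁅K, K⁆) inferInstance le_sup_left
      (sup_le hHK (Subgroup.commutator_le_left K K)) with h | h
    · rw [← h]; exact le_sup_right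
    · exfalso
      have hm1' : m ≠ 1 := by
        intro h1
        apply hKH
        apply le_antisymm _ hHK
        intro x hx
        have := hKm x hx
        rwa [h1, pow_one] at this
      obtain ⟨q, hq⟩ : ∃ q, q = m.minFac := ⟨_, rfl⟩
      have hqp : q.Prime := hq ▸ Nat.minFac_prime hm1'
      haveI : Fact q.Prime := ⟨hqp⟩
      have hqm : q ∣ m := hq ▸ Nat.minFac_dvd m
      have hqne : q ≠ p := by
        rintro rfl
        exact (Nat.Prime.coprime_iff_not_dvd hp').1 hmc.symm hqm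
      have hcardK : Nat.card K = Nat.card H * m := by rw [hK, S0003.card_comap_mk', hm]
      obtain ⟨Q₁⟩ : Nonempty (Sylow q ↥K) := inferInstance
      obtain ⟨Q, hQ⟩ : ∃ Q : Subgroup G, Q = (Q₁ : Subgroup ↥K).map K.subtype := ⟨_, rfl⟩
      have hQK : Q ≤ K := by rw [hQ]; exact Subgroup.map_subtype_le _
      have hQq : IsPGroup q Q := by rw [hQ]; exact Q₁.2.map _
      have hQ₁ne : (Q₁ : Subgroup ↥K) ≠ ⊥ :=
        Q₁.ne_bot_of_dvd_card (hcardK ▸ hqm.mul_left _)
      have hQne : Q ≠ ⊥ := by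
        intro hb
        rw [hQ] at hb
        exact hQ₁ne ((Subgroup.map_eq_bot_iff_of_injective _ K.subtype_injective).1 hb)
      have hfrat := Sylow.normalizer_sup_eq_top Q₁
      rw [← hQ] at hfrat
      obtain ⟨L, hL⟩ : ∃ L : Subgroup G, L = H ⊔ Q := ⟨_, rfl⟩
      have hHL : H ≤ L := hL ▸ le_sup_left
      have hLK : L ≤ K := hL ▸ sup_le hHK hQK
      have hNQL : Subgroup.normalizer (Q : Set G) ≤ Subgroup.normalizer (L : Set G) := by
        intro g hg
        apply S0650.norm_of_conj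
        intro x hx
        rw [hL] at hx ⊢
        obtain ⟨h, hh, u, hu, rfl⟩ := Subgroup.mem_sup_of_normal_left.mp hx
        have e : g * (h * u) * g⁻¹ = (g * h * g⁻¹) * (g * u * g⁻¹) := by group
        rw [e]
        exact Subgroup.mul_mem_sup (hHn.conj_mem h hh g)
          ((Subgroup.mem_normalizer_iff.1 hg u).1 hu)
      have hsup : Subgroup.normalizer (L : Set G) ⊔ K = ⊤ := by
        rw [eq_top_iff, ← hfrat]; exact sup_le_sup_right hNQL K
      have hidx : ¬ p ∣ (Subgroup.normalizer (L : Set G)).index := by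
        have e1 := S0003.card_sup_mul_card_inf (Subgroup.normalizer (L : Set G)) K
        rw [hsup, Subgroup.card_top] at e1
        have e2 := Subgroup.card_mul_index (Subgroup.normalizer (L : Set G))
        have hHle : H ≤ Subgroup.normalizer (L : Set G) ⊓ K :=
          le_inf (hHL.trans Subgroup.le_normalizer) hHK
        obtain ⟨c, hc⟩ := Subgroup.card_dvd_of_le hHle
        have e3 : (Subgroup.normalizer (L : Set G)).index * c = m := by
          have hpos1 : 0 < Nat.card ↥(Subgroup.normalizer (L : Set G)) := Nat.card_pos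
          have hpos2 : 0 < Nat.card H := Nat.card_pos
          have e4 : Nat.card ↥(Subgroup.normalizer (L : Set G)) *
              ((Subgroup.normalizer (L : Set G)).index *
                Nat.card ↥(Subgroup.normalizer (L : Set G) ⊓ K)) =
              Nat.card ↥(Subgroup.normalizer (L : Set G)) * Nat.card K := by
            rw [← mul_assoc, e2, e1]
          have e5 := Nat.eq_of_mul_eq_mul_left hpos1 e4
          rw [hc, hcardK] at e5
          have e6 : Nat.card H * ((Subgroup.normalizer (L : Set G)).index * c) =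
              Nat.card H * m := by rw [← e5]; ring
          exact Nat.eq_of_mul_eq_mul_left hpos2 e6
        intro hdvd
        exact (Nat.Prime.coprime_iff_not_dvd hp').1 hmc.symm (e3 ▸ hdvd.mul_right c)
      obtain ⟨S₂⟩ : Nonempty (Sylow p ↥(Subgroup.normalizer (L : Set G))) := inferInstance
      obtain ⟨P₂, hP₂⟩ := (S₂.2.map (Subgroup.subtype _)).exists_le_sylow
      have hfac : (Nat.card ↥(Subgroup.normalizer (L : Set G))).factorization p =
          (Nat.card G).factorization p := by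
        rw [← Subgroup.card_mul_index (Subgroup.normalizer (L : Set G)),
          Nat.factorization_mul Nat.card_pos.ne' Subgroup.index_ne_zero_of_finite,
          Finsupp.add_apply, Nat.factorization_eq_zero_of_not_dvd hidx, add_zero]
      have hP₂eq : (S₂ : Subgroup ↥(Subgroup.normalizer (L : Set G))).map (Subgroup.subtype _) =
          (P₂ : Subgroup G) := by
        apply Subgroup.eq_of_le_of_card_ge hP₂
        rw [S0658.card_map_subtype, S₂.card_eq_multiplicity, P₂.card_eq_multiplicity, hfac]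
      have hP₂L : (P₂ : Subgroup G) ≤ Subgroup.normalizer (L : Set G) := by
        rw [← hP₂eq]; exact Subgroup.map_subtype_le _
      have hLtop : L ⊔ (P₂ : Subgroup G) = ⊤ := by
        by_contra hne
        have hLH := hstar P₂ L hHL hLK hP₂L hne
        apply hQne
        rw [eq_bot_iff]
        intro x hx
        have hxH : x ∈ H := by
          rw [← hLH, hL]; exact Subgroup.mem_sup_right hx
        obtain ⟨e, he⟩ := hQq ⟨x, hx⟩
        have he' : x ^ (q ^ e) = 1 := congrArg Subtype.val he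
        obtain ⟨e2, he2⟩ := hHp ⟨x, hxH⟩
        have he2' : x ^ (p ^ e2) = 1 := congrArg Subtype.val he2
        exact Subgroup.mem_bot.2 (S0579.eq_one_of_pow_coprime he' he2'
          (Nat.Coprime.pow _ _ ((Nat.coprime_primes hqp hp').2 hqne)))
      have hLn : L.Normal := by
        apply Subgroup.normalizer_eq_top_iff.mp
        rw [eq_top_iff, ← hLtop]
        exact sup_le Subgroup.le_normalizer hP₂L
      have hLeqK : L = K := hded P₂ L hLn hHL hLK hLtop
      have hKbmap : K.map (QuotientGroup.mk' H) = Kb := by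
        rw [hK, Subgroup.map_comap_eq_self_of_surjective (QuotientGroup.mk'_surjective H)]
      have hKbq : IsPGroup q Kb := by
        rw [← hKbmap, ← hLeqK, hL, Subgroup.map_sup, QuotientGroup.map_mk'_self, bot_sup_eq]
        exact hQq.map _
      have hKbne : Kb ≠ ⊥ := by
        intro hb
        apply hm1'
        rw [hm, hb, Subgroup.card_bot]
      have hlt := S0653.comm_lt Kb hKbq hKbne
      have heq : ⁅Kb, Kb⁆ = Kb := by
        conv_lhs => rw [← hKbmap, ← Subgroup.map_commutator]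
        conv_rhs => rw [← hKbmap, ← h, Subgroup.map_sup, QuotientGroup.map_mk'_self, bot_sup_eq]
      exact hlt.ne heq
  have hst : ∀ (V : Subgroup G) [V.Normal], IsPGroup p V → IsPStableOn p V := by
    intro V hVn hVp
    exact stable hp H K hHp hHK hmaxn m j hmc hKm hKidx hKK hmin V hVp
  have hpc : pCore p G = H :=
    le_antisymm (hmaxn _ (Lib.Helper2.Fit.pCore_normal p) (Lib.Helper2.Fit.pCore_isPGroup p))
      (Lib.Helper2.Fit.le_pCore H hHn hHp)
  have hc : Subgroup.centralizer (pCore p G : Set G) ≤ pCore p G := by rw [hpc]; exact hcent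
  have hchar := S0653.result hp hc hst P
  apply htopcase
  haveI := hchar
  exact Subgroup.normalizer_eq_top_iff.mpr inferInstance

theorem aux {p : ℕ} [Fact p.Prime] (hp : p ≠ 2) : ∀ (n : ℕ) (G : Type u) [Group G] [Finite G],
    Nat.card G = n → ∀ P : Sylow p G,
    HasNormalPComplement p ↥(Subgroup.normalizer
      ((centerThompsonAOf (P : Subgroup G) : Subgroup G) : Set G)) →
    HasNormalPComplement p G := by
  intro n
  induction n using Nat.strong_induction_on with
  | _ n ih =>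
    intro G _ _ hn P hN
    have hall : ∀ P' : Sylow p G, HasNormalPComplement p ↥(Subgroup.normalizer
        ((centerThompsonAOf (P' : Subgroup G) : Subgroup G) : Set G)) := by
      intro P'
      obtain ⟨g, rfl⟩ := MulAction.exists_smul_eq G P P'
      rw [S0658.coe_smul_sylow, S0658.ZJ_conj hp]
      refine npc_inj (((MulAut.conj g⁻¹).toMonoidHom.comp (Subgroup.subtype _)).codRestrict
        (Subgroup.normalizer ((centerThompsonAOf (P : Subgroup G) : Subgroup G) : Set G)) ?_) ?_ hN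
      · intro x
        apply S0650.norm_of_conj
        intro z hz
        have h1 : g * z * g⁻¹ ∈
            (centerThompsonAOf (P : Subgroup G)).map (MulAut.conj g).toMonoidHom := ⟨z, hz, rfl⟩
        have h2 := (Subgroup.mem_normalizer_iff.1 x.2 _).1 h1
        obtain ⟨z', hz', hzz'⟩ := h2
        have h3 : g * z' * g⁻¹ = (x : G) * (g * z * g⁻¹) * (x : G)⁻¹ := hzz'
        have e : ((MulAut.conj g⁻¹).toMonoidHom.comp (Subgroup.subtype _)) x * z *
            (((MulAut.conj g⁻¹).toMonoidHom.comp (Subgroup.subtype _)) x)⁻¹ = z' := by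
          show (g⁻¹ * (x : G) * g⁻¹⁻¹) * z * (g⁻¹ * (x : G) * g⁻¹⁻¹)⁻¹ = z'
          have : z' = g⁻¹ * ((x : G) * (g * z * g⁻¹) * (x : G)⁻¹) * g := by rw [← h3]; group
          rw [this]; group
        rw [e]; exact hz'
      · intro x y hxy
        have := congrArg Subtype.val hxy
        exact Subtype.ext ((MulAut.conj g⁻¹).injective this)
    apply ind_step hp ?_ ?_ hall
    · intro M hM S hS
      have hlt : Nat.card ↥M < n := by
        rw [← hn, ← Subgroup.card_top (G := G)]
        exact S0651.card_lt_of_lt (lt_top_iff_ne_top.2 hM)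
      apply ih _ hlt ↥M rfl S
      refine npc_inj ((M.subtype.comp (Subgroup.subtype _)).codRestrict
        (Subgroup.normalizer ((centerThompsonAOf ((S : Subgroup ↥M).map M.subtype) :
          Subgroup G) : Set G)) ?_) ?_ hS
      · intro x
        rw [S0658.ZJ_map hp M.subtype M.subtype_injective]
        exact Subgroup.le_normalizer_map M.subtype ⟨x.1, x.2, rfl⟩
      · intro x y hxy
        have h := congrArg Subtype.val hxy
        exact Subtype.ext (Subtype.ext h)
    · intro R hRn hRne S hS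
      have hlt : Nat.card (G ⧸ R) < n := by
        rw [← hn, ← S0003.card_quot R]
        have h1 : 1 < Nat.card R := (Subgroup.one_lt_card_iff_ne_bot R).2 hRne
        have h2 : 0 < Nat.card (G ⧸ R) := Nat.card_pos
        nlinarith
      exact ih _ hlt (G ⧸ R) rfl S hS

theorem result {G : Type*} [Group G] [Finite G] {p : ℕ} [Fact p.Prime] (hp : p ≠ 2) (P : Sylow p G) (hN : Cfsg.HasNormalPComplement p ↥(Subgroup.normalizer (Cfsg.centerThompsonAOf ((P : Subgroup G)) : Set G))) : Cfsg.HasNormalPComplement p G := by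
  exact aux hp _ G rfl P hN

end Cfsg.Agent.S0659
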