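import Mathlib
import Cfsg.Statements.S4040
import Cfsg.Agent.S0659
import Cfsg.Agent.S0001
import Cfsg.Agent.Lib.Helper2.Local
set_option autoImplicit false
open Pointwise
open Cfsg
open scoped commutatorElement

namespace Cfsg.Agent.S4040

theorem npc_of_nilpotent {M : Type*} [Group M] [Finite M] [hnil : Group.IsNilpotent M] (p : ℕ)
    [Fact p.Prime] : HasNormalPComplement p M := by
  have hp : p.Prime := Fact.out
  have hsyl := ((Group.isNilpotent_of_finite_tfae (G := M)).out 0 3).1 hnil
  refine Lib.Helper1.Frob.hasNPC_iff.2 ⟨pPrimeCore p M, Lib.Helper3.Core.pPrimeCore_normal p,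
    Lib.Helper2.Local.pPrimeCore_coprime p, ?_⟩
  have hidx : ∀ r : ℕ, r.Prime → r ∣ (pPrimeCore p M).index → r = p := by
    intro r hr hdvd
    by_contra hne
    haveI : Fact r.Prime := ⟨hr⟩
    obtain ⟨R⟩ : Nonempty (Sylow r M) := inferInstance
    have hRn := hsyl r ⟨hr⟩ R
    have hRc : (Nat.card (R : Subgroup M)).Coprime p := by
      obtain ⟨k, hk⟩ := IsPGroup.iff_card.1 R.2
      rw [hk]; exact Nat.Coprime.pow_left _ ((Nat.coprime_primes hr hp).2 hne)
    have hle := Lib.Helper3.Core.le_pPrimeCore (R : Subgroup M) hRn hRc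
    exact R.not_dvd_index (hdvd.trans (Subgroup.index_dvd_of_le hle))
  exact ⟨_, Nat.eq_prime_pow_of_unique_prime_dvd Subgroup.index_ne_zero_of_finite
    (fun {d} hd hdd => hidx d hd hdd)⟩

theorem coatom_map {G : Type*} [Group G] (N M : Subgroup G) [N.Normal] (hNM : N ≤ M)
    (hM : IsCoatom M) : IsCoatom (M.map (QuotientGroup.mk' N)) := by
  have hcomap : (M.map (QuotientGroup.mk' N)).comap (QuotientGroup.mk' N) = M := by
    rw [Subgroup.comap_map_eq, QuotientGroup.ker_mk', sup_of_le_left hNM]
  constructor
  · intro htop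
    apply hM.1
    rw [← hcomap, htop, Subgroup.comap_top]
  · intro X hX
    have h1 : M ≤ X.comap (QuotientGroup.mk' N) := by
      rw [← hcomap]; exact Subgroup.comap_mono hX.le
    rcases eq_or_lt_of_le h1 with h2 | h2
    · exfalso
      apply hX.ne
      rw [← Subgroup.map_comap_eq_self_of_surjective (QuotientGroup.mk'_surjective N) X, ← h2]
    · have h3 := hM.2 _ h2
      rw [← Subgroup.map_comap_eq_self_of_surjective (QuotientGroup.mk'_surjective N) X, h3,
        Subgroup.map_top_of_surjective _ (QuotientGroup.mk'_surjective N)]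

universe u

theorem aux : ∀ (n : ℕ) (G : Type u) [Group G] [Finite G], Nat.card G = n → ∀ (M : Subgroup G),
    IsCoatom M → Group.IsNilpotent M → Odd (Nat.card M) → Group.IsSolvable G := by
  intro n
  induction n using Nat.strong_induction_on with
  | _ n ih =>
    intro G _ _ hn M hmax hnil hodd
    haveI := hnil
    by_cases hcore : M.normalCore = ⊥
    swap
    · obtain ⟨N, hN⟩ : ∃ N, N = M.normalCore := ⟨_, rfl⟩
      haveI hNn : N.Normal := by rw [hN]; infer_instance
      have hNM : N ≤ M := hN ▸ Subgroup.normalCore_le M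
      have hNne : N ≠ ⊥ := hN ▸ hcore
      have hlt : Nat.card (G ⧸ N) < n := by
        rw [← hn, ← S0003.card_quot N]
        have h1 : 1 < Nat.card N := (Subgroup.one_lt_card_iff_ne_bot N).2 hNne
        have h2 : 0 < Nat.card (G ⧸ N) := Nat.card_pos
        nlinarith
      have hM' := coatom_map N M hNM hmax
      haveI : Group.IsNilpotent ↥(M.map (QuotientGroup.mk' N)) :=
        nilpotent_of_surjective ((QuotientGroup.mk' N).subgroupMap M)
          (MonoidHom.subgroupMap_surjective _ _)
      have hodd' : Odd (Nat.card ↥(M.map (QuotientGroup.mk' N))) :=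
        Odd.of_dvd_nat hodd (Subgroup.card_map_dvd M _)
      haveI := ih _ hlt (G ⧸ N) rfl _ hM' inferInstance hodd'
      haveI : Group.IsSolvable ↥N :=
        solvable_of_solvable_injective (Subgroup.inclusion_injective hNM)
      exact Group.isSolvable_of_ker_le_range N.subtype (QuotientGroup.mk' N)
        (by rw [QuotientGroup.ker_mk', Subgroup.range_subtype])
    · have hp2 : ∀ p ∈ (Nat.card M).primeFactors, p ≠ 2 := by
        intro p hp h2
        rw [h2] at hp
        have := Nat.dvd_of_mem_primeFactors hp
        exact (Nat.not_even_iff_odd.2 hodd) (even_iff_two_dvd.2 this)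
      have hnormX : ∀ X : Subgroup G, X ≠ ⊥ → X ≤ M → M ≤ Subgroup.normalizer (X : Set G) →
          Subgroup.normalizer (X : Set G) = M := by
        intro X hXne hXM hMX
        rcases eq_or_lt_of_le hMX with h | h
        · exact h.symm
        · exfalso
          have htop := hmax.2 _ h
          haveI : X.Normal := Subgroup.normalizer_eq_top_iff.mp htop
          have := (Subgroup.normal_le_normalCore (H := M) (N := X)).2 hXM
          rw [hcore] at this
          exact hXne (le_bot_iff.1 this)
      have hKp : ∀ p : ↥(Nat.card M).primeFactors, ∃ Kp : Subgroup G, Kp.Normal ∧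
          (Nat.card Kp).Coprime p.1 ∧ ∃ j : ℕ, Kp.index = p.1 ^ j := by
        rintro ⟨p, hpm⟩
        have hp : p.Prime := Nat.prime_of_mem_primeFactors hpm
        haveI : Fact p.Prime := ⟨hp⟩
        have hpdvd : p ∣ Nat.card M := Nat.dvd_of_mem_primeFactors hpm
        obtain ⟨P₀⟩ : Nonempty (Sylow p ↥M) := inferInstance
        have hsyl : ∀ (r : ℕ) (_ : Fact r.Prime) (R : Sylow r ↥M), (R : Subgroup ↥M).Normal :=
          ((Group.isNilpotent_of_finite_tfae (G := ↥M)).out 0 3).1 hnil
        have hP₀n : (P₀ : Subgroup ↥M).Normal := hsyl p ⟨hp⟩ P₀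
        obtain ⟨P, hP⟩ : ∃ P : Subgroup G, P = (P₀ : Subgroup ↥M).map M.subtype := ⟨_, rfl⟩
        have hPM : P ≤ M := by rw [hP]; exact Subgroup.map_subtype_le _
        have hPp : IsPGroup p P := by rw [hP]; exact P₀.2.map _
        have hPne : P ≠ ⊥ := by
          intro hb
          rw [hP] at hb
          exact (P₀.ne_bot_of_dvd_card hpdvd)
            ((Subgroup.map_eq_bot_iff_of_injective _ M.subtype_injective).1 hb)
        have hMP : M ≤ Subgroup.normalizer (P : Set G) := by
          intro m hm
          apply S0650.norm_of_conj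
          intro x hx
          rw [hP] at hx ⊢
          obtain ⟨x', hx', rfl⟩ := hx
          exact ⟨⟨m, hm⟩ * x' * ⟨m, hm⟩⁻¹, hP₀n.conj_mem x' hx' ⟨m, hm⟩, rfl⟩
        have hNP := hnormX P hPne hPM hMP
        obtain ⟨P', hPP'⟩ := hPp.exists_le_sylow
        have hPeq : P = (P' : Subgroup G) := by
          by_contra hne
          obtain ⟨t, htP', htN, htP⟩ := S0658.norm_grow (P' : Subgroup G) P P'.2 hPP' hne
          rw [hNP] at htN
          have h1 : IsPGroup p ↥(((P' : Subgroup G) ⊓ M).subgroupOf M) :=
            (P'.2.to_le inf_le_left).comap_subtype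
          have h2 : (P₀ : Subgroup ↥M) ≤ ((P' : Subgroup G) ⊓ M).subgroupOf M := by
            intro y hy
            rw [Subgroup.mem_subgroupOf]
            exact ⟨hPP' (hP ▸ ⟨y, hy, rfl⟩), y.2⟩
          have h3 := P₀.3 h1 h2
          have h4 : (⟨t, htN⟩ : ↥M) ∈ (P₀ : Subgroup ↥M) := by
            rw [← h3, Subgroup.mem_subgroupOf]; exact ⟨htP', htN⟩
          apply htP
          rw [hP]; exact ⟨⟨t, htN⟩, h4, rfl⟩
        have hZne := S0658.ZJ_ne_bot (hp2 p hpm) P hPp hPne
        have hZM : centerThompsonAOf P ≤ M :=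
          (inf_le_left.trans (Subgroup.map_subtype_le _)).trans hPM
        have hMZ : M ≤ Subgroup.normalizer (centerThompsonAOf P : Set G) :=
          fun m hm => S0658.ZJ_norm (hp2 p hpm) P m (hMP hm)
        have hNZ := hnormX _ hZne hZM hMZ
        have hnpcM : HasNormalPComplement p ↥M := npc_of_nilpotent p
        have hnpc : HasNormalPComplement p ↥(Subgroup.normalizer
            ((centerThompsonAOf (P' : Subgroup G) : Subgroup G) : Set G)) := by
          rw [← hPeq, hNZ]; exact hnpcM
        exact Lib.Helper1.Frob.hasNPC_iff.1 (S0659.result (hp2 p hpm) P' hnpc)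
      choose Kp hKpn hKpc hKpi using hKp
      obtain ⟨K, hK⟩ : ∃ K : Subgroup G, K = ⨅ p, Kp p := ⟨_, rfl⟩
      haveI hKn : K.Normal := by rw [hK]; exact Subgroup.normal_iInf_normal hKpn
      have hKle : ∀ p, K ≤ Kp p := fun p => hK ▸ iInf_le _ p
      have hder : ∃ N₀ : ℕ, derivedSeries G N₀ ≤ K := by
        have h1 : ∀ p, ∃ n : ℕ, derivedSeries G n ≤ Kp p := by
          intro p
          haveI := hKpn p
          haveI : Fact p.1.Prime := ⟨Nat.prime_of_mem_primeFactors p.2⟩
          obtain ⟨j, hj⟩ := hKpi p
          have hq : IsPGroup p.1 (G ⧸ Kp p) :=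
            IsPGroup.of_card (by rw [← Subgroup.index_eq_card]; exact hj)
          haveI : Group.IsNilpotent (G ⧸ Kp p) := hq.isNilpotent
          obtain ⟨n, hn⟩ := (Group.isSolvable_def (G ⧸ Kp p)).1 inferInstance
          refine ⟨n, ?_⟩
          rw [← map_derivedSeries_eq (QuotientGroup.mk'_surjective (Kp p)) n,
            Subgroup.map_eq_bot_iff, QuotientGroup.ker_mk'] at hn
          exact hn
        choose nn hnn using h1
        refine ⟨Finset.univ.sup nn, ?_⟩
        rw [hK]
        apply le_iInf
        intro p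
        exact (derivedSeries_antitone G (Finset.le_sup (Finset.mem_univ p))).trans (hnn p)
      obtain ⟨N₀, hN₀⟩ := hder
      haveI hGK : Group.IsSolvable (G ⧸ K) := by
        rw [Group.isSolvable_def]
        refine ⟨N₀, ?_⟩
        rw [← map_derivedSeries_eq (QuotientGroup.mk'_surjective K) N₀, Subgroup.map_eq_bot_iff,
          QuotientGroup.ker_mk']
        exact hN₀
      have hKMbot : K ⊓ M = ⊥ := by
        rw [eq_bot_iff]
        intro x hx
        rw [Subgroup.mem_bot]
        by_contra hx1
        have ho : orderOf x ≠ 1 := fun h => hx1 (orderOf_eq_one_iff.1 h)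
        obtain ⟨p, hp, hpx⟩ := Nat.exists_prime_and_dvd ho
        have hpM : p ∣ Nat.card M := hpx.trans (Subgroup.orderOf_dvd_natCard M hx.2)
        have hpm : p ∈ (Nat.card M).primeFactors :=
          Nat.mem_primeFactors.2 ⟨hp, hpM, Nat.card_pos.ne'⟩
        have h1 : p ∣ Nat.card (Kp ⟨p, hpm⟩) :=
          hpx.trans (Subgroup.orderOf_dvd_natCard _ (hKle ⟨p, hpm⟩ hx.1))
        exact (Nat.Prime.coprime_iff_not_dvd hp).1 (hKpc ⟨p, hpm⟩).symm h1
      suffices hKs : Group.IsSolvable ↥K by
        haveI := hKs
        exact Group.isSolvable_of_ker_le_range K.subtype (QuotientGroup.mk' K)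
          (by rw [QuotientGroup.ker_mk', Subgroup.range_subtype])
      by_cases hKbot : K = ⊥
      · apply Group.isSolvable_of_comm
        intro a b
        have hle : K ≤ ⊥ := hKbot.le
        have ha : (a : G) = 1 := Subgroup.mem_bot.1 (hle a.2)
        have hb : (b : G) = 1 := Subgroup.mem_bot.1 (hle b.2)
        apply Subtype.ext
        rw [Subgroup.coe_mul, Subgroup.coe_mul, ha, hb]
      · have hsup : K ⊔ M = ⊤ := by
          rcases eq_or_lt_of_le (le_sup_right : M ≤ K ⊔ M) with h | h
          · exfalso
            apply hKbot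
            have hKM : K ≤ M := by
              have : K ≤ K ⊔ M := le_sup_left
              rw [← h] at this
              exact this
            rw [← hKMbot]
            exact (inf_of_le_left hKM).symm
          · exact hmax.2 _ h
        have hcop : (Nat.card K).Coprime (Nat.card M) := by
          apply Nat.coprime_of_dvd
          intro p hp hpK hpM
          have hpm : p ∈ (Nat.card M).primeFactors :=
            Nat.mem_primeFactors.2 ⟨hp, hpM, Nat.card_pos.ne'⟩
          have h1 : p ∣ Nat.card (Kp ⟨p, hpm⟩) :=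
            hpK.trans (Subgroup.card_dvd_of_le (hKle ⟨p, hpm⟩))
          exact (Nat.Prime.coprime_iff_not_dvd hp).1 (hKpc ⟨p, hpm⟩).symm h1
        have hcard : Nat.card K * Nat.card M = Nat.card G := by
          have := S0003.card_sup_mul_card_inf M K
          rw [sup_comm, hsup, inf_comm, hKMbot, Subgroup.card_top, Subgroup.card_bot,
            mul_one] at this
          rw [this, mul_comm]
        have hKidx : K.index = Nat.card M := by
          have := Subgroup.card_mul_index K
          rw [← hcard] at this
          exact Nat.eq_of_mul_eq_mul_left Nat.card_pos this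
        have hcompl : K.IsComplement' M := Subgroup.isComplement'_of_coprime hcard hcop
        have hK1 : Nat.card K ≠ 1 := fun h => hKbot (Subgroup.card_eq_one.1 h)
        obtain ⟨q, hq, hqK⟩ := Nat.exists_prime_and_dvd hK1
        haveI : Fact q.Prime := ⟨hq⟩
        obtain ⟨Q₁⟩ : Nonempty (Sylow q ↥K) := inferInstance
        obtain ⟨Q, hQ⟩ : ∃ Q : Subgroup G, Q = (Q₁ : Subgroup ↥K).map K.subtype := ⟨_, rfl⟩
        have hQK : Q ≤ K := by rw [hQ]; exact Subgroup.map_subtype_le _
        have hQq : IsPGroup q Q := by rw [hQ]; exact Q₁.2.map _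
        have hQne : Q ≠ ⊥ := by
          intro hb
          rw [hQ] at hb
          exact (Q₁.ne_bot_of_dvd_card hqK)
            ((Subgroup.map_eq_bot_iff_of_injective _ K.subtype_injective).1 hb)
        have hfrat := Sylow.normalizer_sup_eq_top Q₁
        rw [← hQ] at hfrat
        obtain ⟨N₁, hN₁⟩ : ∃ N₁ : Subgroup G, N₁ = Subgroup.normalizer (Q : Set G) := ⟨_, rfl⟩
        rw [← hN₁] at hfrat
        have hidx1 : (K.subgroupOf N₁).index = Nat.card M := by
          have : K.relIndex (N₁ ⊔ K) = K.relIndex N₁ := Subgroup.relIndex_sup_right N₁ K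
          rw [hfrat, Subgroup.relIndex_top_right] at this
          exact this.symm.trans hKidx
        have hcop1 : (Nat.card (K.subgroupOf N₁)).Coprime (K.subgroupOf N₁).index := by
          rw [hidx1]
          refine Nat.Coprime.coprime_dvd_left ?_ hcop
          rw [S0003.card_subgroupOf_eq']; exact Subgroup.card_dvd_of_le inf_le_left
        obtain ⟨M₁', hM₁'⟩ := Subgroup.exists_right_complement'_of_coprime hcop1
        obtain ⟨M₁, hM₁⟩ : ∃ M₁ : Subgroup G, M₁ = M₁'.map N₁.subtype := ⟨_, rfl⟩
        have hM₁N : M₁ ≤ N₁ := by rw [hM₁]; exact Subgroup.map_subtype_le _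
        have hM₁card : Nat.card M₁ = Nat.card M := by
          rw [hM₁, S0658.card_map_subtype, ← hM₁'.symm.index_eq_card, hidx1]
        have hcompl1 : K.IsComplement' M₁ :=
          Subgroup.isComplement'_of_coprime (by rw [hM₁card]; exact hcard)
            (by rw [hM₁card]; exact hcop)
        obtain ⟨g, hg⟩ := S0001.result K (by rw [hKidx]; exact hcop) (Or.inr hGK) M M₁
          hcompl hcompl1
        obtain ⟨Q', hQ'⟩ : ∃ Q' : Subgroup G, Q' = MulAut.conj g⁻¹ • Q := ⟨_, rfl⟩
        have hQ'mem : ∀ x, x ∈ Q' ↔ g * x * g⁻¹ ∈ Q := by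
          intro x
          rw [hQ', Subgroup.mem_pointwise_smul_iff_inv_smul_mem]
          simp [MulAut.smul_def]
        have hMQ' : M ≤ Subgroup.normalizer (Q' : Set G) := by
          intro m hm
          apply S0650.norm_of_conj
          intro x hx
          rw [hQ'mem] at hx ⊢
          have h1 : g * m * g⁻¹ ∈ M₁ := by rw [← hg]; exact ⟨m, hm, rfl⟩
          have h2 : g * m * g⁻¹ ∈ Subgroup.normalizer (Q : Set G) := hN₁ ▸ hM₁N h1
          have h3 := (Subgroup.mem_normalizer_iff.1 h2 _).1 hx
          have e : g * (m * x * m⁻¹) * g⁻¹ =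
              (g * m * g⁻¹) * (g * x * g⁻¹) * (g * m * g⁻¹)⁻¹ := by group
          rw [e]; exact h3
        have hQ'K : Q' ≤ K := by
          intro x hx
          rw [hQ'mem] at hx
          have := hKn.conj_mem _ (hQK hx) g⁻¹
          have e : g⁻¹ * (g * x * g⁻¹) * g⁻¹⁻¹ = x := by group
          rwa [e] at this
        have hQ'ne : Q' ≠ ⊥ := by
          intro hb
          apply hQne
          rw [eq_bot_iff]
          intro u hu
          have h1 : g⁻¹ * u * g ∈ Q' := by
            rw [hQ'mem]
            have e : g * (g⁻¹ * u * g) * g⁻¹ = u := by group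
            rw [e]; exact hu
          rw [hb, Subgroup.mem_bot] at h1
          rw [Subgroup.mem_bot]
          have e : u = g * (g⁻¹ * u * g) * g⁻¹ := by group
          rw [e, h1]; group
        have hQ'q : ∀ x ∈ Q', ∃ k : ℕ, x ^ (q ^ k) = 1 := by
          intro x hx
          rw [hQ'mem] at hx
          obtain ⟨k, hk⟩ := hQq ⟨_, hx⟩
          have hk' : (g * x * g⁻¹) ^ (q ^ k) = 1 := congrArg Subtype.val hk
          refine ⟨k, ?_⟩
          rw [conj_pow] at hk'
          have e : x ^ (q ^ k) = g⁻¹ * (g * x ^ (q ^ k) * g⁻¹) * g := by group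
          rw [e, hk']; group
        have hsup' : M ⊔ Q' = ⊤ := by
          rcases eq_or_lt_of_le (le_sup_left : M ≤ M ⊔ Q') with h | h
          · exfalso
            apply hQ'ne
            have hQM : Q' ≤ M := by
              have : Q' ≤ M ⊔ Q' := le_sup_right
              rw [← h] at this
              exact this
            rw [eq_bot_iff, ← hKMbot]
            exact le_inf hQ'K hQM
          · exact hmax.2 _ h
        haveI hQ'n : Q'.Normal := by
          apply Subgroup.normalizer_eq_top_iff.mp
          rw [eq_top_iff, ← hsup']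
          exact sup_le hMQ' Subgroup.le_normalizer
        have hKQ' : K ≤ Q' := by
          intro x hx
          have hx' : x ∈ M ⊔ Q' := by rw [hsup']; trivial
          obtain ⟨m, hm, u, hu, rfl⟩ := Subgroup.mem_sup_of_normal_right.mp hx'
          have hmK : m ∈ K := by
            have : m = (m * u) * u⁻¹ := by group
            rw [this]; exact K.mul_mem hx (K.inv_mem (hQ'K hu))
          have hm1 : m = 1 := by
            have : m ∈ K ⊓ M := ⟨hmK, hm⟩
            rw [hKMbot] at this
            exact Subgroup.mem_bot.1 this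
          rw [hm1, one_mul]; exact hu
        have hKq : IsPGroup q ↥K := by
          rintro ⟨x, hx⟩
          obtain ⟨k, hk⟩ := hQ'q x (hKQ' hx)
          exact ⟨k, Subtype.ext (by rw [Subgroup.coe_pow]; exact hk)⟩
        haveI : Group.IsNilpotent ↥K := hKq.isNilpotent
        infer_instance

theorem result {G : Type*} [Group G] [Finite G]
    (M : Subgroup G) (hmax : IsCoatom M) (hnil : Group.IsNilpotent M) (hodd : Odd (Nat.card M)) :
    Group.IsSolvable G := by
  exact aux _ G rfl M hmax hnil hodd

end Cfsg.Agent.S4040
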