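import Mathlib
import Cfsg.Statements.S0033
import Cfsg.Agent.S0659
import Cfsg.Agent.S4040
import Cfsg.Agent.S0031
import Cfsg.Agent.S0032
set_option autoImplicit false
open Pointwise
open Cfsg
open scoped commutatorElement

namespace Cfsg.Agent.S0033

theorem frob_lemma {N : Type*} [CommGroup N] [Finite N] {G : Type*} [Group G] (R : Subgroup G)
    [Finite R] (ρ : G →* MulAut N) (φ : G ≃* G) (f : MulAut N)
    (hcomm : ∀ y : G, f * ρ y = ρ (φ y) * f)
    (k : ℕ) (hT : ∀ w : N, ∏ j ∈ Finset.range (k + 1), (f ^ j) w = 1)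
    (hφR : ∀ y ∈ R, φ y ∈ R)
    (hB : ∀ j, 1 ≤ j → j < k + 1 → ∀ y ∈ R, (φ ^ j) y = y → y = 1)
    (hcop : (Nat.card R).Coprime (Nat.card N)) :
    ∀ z ∈ R, ∀ v : N, ρ z v = v := by
  classical
  haveI : Fintype ↥R := Fintype.ofFinite _
  have hpow : ∀ (j : ℕ) (y : G), f ^ j * ρ y = ρ ((φ ^ j) y) * f ^ j := by
    intro j
    induction j with
    | zero => intro y; simp
    | succ j ih =>
      intro y
      rw [pow_succ' f, mul_assoc, ih, ← mul_assoc, hcomm, mul_assoc, pow_succ' φ]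
      rfl
  have hφjR : ∀ (j : ℕ), ∀ y ∈ R, (φ ^ j) y ∈ R := by
    intro j
    induction j with
    | zero => intro y hy; simpa using hy
    | succ j ih =>
      intro y hy
      rw [pow_succ']
      exact hφR _ (ih y hy)
  intro z hz v
  obtain ⟨S, hS⟩ : ∃ S : N → N, S = fun w => ∏ y : ↥R, ρ (y : G) w := ⟨_, rfl⟩
  have hSinv : ∀ (z : G), z ∈ R → ∀ w, ρ z (S w) = S w := by
    intro z hz w
    rw [hS]
    show ρ z (∏ y : ↥R, ρ (y : G) w) = ∏ y : ↥R, ρ (y : G) w
    rw [map_prod]
    have : ∀ y : ↥R, ρ z (ρ (y : G) w) = ρ (((⟨z, hz⟩ : ↥R) * y : ↥R) : G) w := by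
      intro y; rw [Subgroup.coe_mul, map_mul]; rfl
    simp_rw [this]
    exact Fintype.prod_bijective (fun y : ↥R => (⟨z, hz⟩ : ↥R) * y)
      (Group.mulLeft_bijective _) _ _ (fun _ => rfl)
  have hkey : ∀ j, 1 ≤ j → j < k + 1 →
      ∏ y : ↥R, ρ ((y : G)⁻¹ * (φ ^ j) (y : G)) ((f ^ j) v) = S ((f ^ j) v) := by
    intro j hj1 hjk
    have hinj : Function.Injective (fun y : ↥R => (⟨(y : G)⁻¹ * (φ ^ j) (y : G),
        R.mul_mem (R.inv_mem y.2) (hφjR j _ y.2)⟩ : ↥R)) := by
      intro y z hyz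
      have h1 : (y : G)⁻¹ * (φ ^ j) (y : G) = (z : G)⁻¹ * (φ ^ j) (z : G) :=
        congrArg Subtype.val hyz
      have h2 : (φ ^ j) ((z : G) * (y : G)⁻¹) = (z : G) * (y : G)⁻¹ := by
        rw [map_mul, map_inv]
        have h3 : (φ ^ j) (z : G) = (z : G) * ((y : G)⁻¹ * (φ ^ j) (y : G)) := by
          rw [h1]; group
        rw [h3]; group
      have h4 := hB j hj1 hjk _ (R.mul_mem z.2 (R.inv_mem y.2)) h2
      apply Subtype.ext
      have : (z : G) = (y : G) := by
        calc (z : G) = (z : G) * (y : G)⁻¹ * (y : G) := by group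
          _ = (y : G) := by rw [h4, one_mul]
      exact this.symm
    have hbij := Finite.injective_iff_bijective.1 hinj
    rw [hS]
    exact Fintype.prod_bijective _ hbij _ _ (fun _ => rfl)
  have h1 : ∏ y : ↥R, ∏ j ∈ Finset.range (k + 1),
      ρ ((y : G)⁻¹ * (φ ^ j) (y : G)) ((f ^ j) v) = 1 := by
    apply Finset.prod_eq_one
    intro y _
    have h2 := hT (ρ (y : G) v)
    have h3 : ∀ j, ρ ((y : G)⁻¹ * (φ ^ j) (y : G)) ((f ^ j) v) =
        (ρ (y : G))⁻¹ ((f ^ j) (ρ (y : G) v)) := by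
      intro j
      have h4 : (f ^ j) (ρ (y : G) v) = ρ ((φ ^ j) (y : G)) ((f ^ j) v) :=
        DFunLike.congr_fun (hpow j (y : G)) v
      rw [h4, map_mul, map_inv]; rfl
    simp_rw [h3]
    rw [← map_prod (ρ (y : G))⁻¹ (fun j => (f ^ j) (ρ (y : G) v)) (Finset.range (k + 1)), h2,
      map_one]
  rw [Finset.prod_comm, Finset.prod_range_succ'] at h1
  have h5 : ∏ y : ↥R, ρ ((y : G)⁻¹ * (φ ^ 0) (y : G)) ((f ^ 0) v) = v ^ Nat.card R := by
    simp [Finset.prod_const, Nat.card_eq_fintype_card]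
  rw [h5] at h1
  have h6 : ρ z (v ^ Nat.card R) = v ^ Nat.card R := by
    have h7 : v ^ Nat.card R = (∏ j ∈ Finset.range k, ∏ y : ↥R,
        ρ ((y : G)⁻¹ * (φ ^ (j + 1)) (y : G)) ((f ^ (j + 1)) v))⁻¹ :=
      eq_inv_of_mul_eq_one_right h1
    rw [h7, map_inv, map_prod]
    congr 1
    apply Finset.prod_congr rfl
    intro j hj
    rw [hkey (j + 1) (by omega) (by have := Finset.mem_range.1 hj; omega)]
    exact hSinv z hz _
  have h8 : (ρ z v / v) ^ Nat.card R = 1 := by
    rw [div_pow, ← map_pow, h6, div_self']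
  have h9 : (ρ z v / v) ^ Nat.card N = 1 := pow_card_eq_one'
  have h10 := S0579.eq_one_of_pow_coprime h8 h9 hcop
  exact div_eq_one.1 h10

theorem frob_lemma' {N : Type*} [Group N] (hc : ∀ a b : N, a * b = b * a) [Finite N]
    {G : Type*} [Group G] (R : Subgroup G)
    [Finite R] (ρ : G →* MulAut N) (φ : G ≃* G) (f : MulAut N)
    (hcomm : ∀ y : G, f * ρ y = ρ (φ y) * f)
    (k : ℕ) (hf : f ^ (k + 1) = 1) (hfix : ∀ w : N, f w = w → w = 1)
    (hφR : ∀ y ∈ R, φ y ∈ R)
    (hB : ∀ j, 1 ≤ j → j < k + 1 → ∀ y ∈ R, (φ ^ j) y = y → y = 1)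
    (hcop : (Nat.card R).Coprime (Nat.card N)) :
    ∀ z ∈ R, ∀ v : N, ρ z v = v := by
  letI : CommGroup N := { (inferInstance : Group N) with mul_comm := hc }
  refine frob_lemma R ρ φ f hcomm k ?_ hφR hB hcop
  intro w
  apply hfix
  rw [map_prod]
  have h1 : ∀ j, f ((f ^ j) w) = (f ^ (j + 1)) w := by
    intro j; rw [pow_succ']; rfl
  simp_rw [h1]
  have h2 := Finset.prod_range_succ' (fun j => (f ^ j) w) (k + 1)
  have h3 := Finset.prod_range_succ (fun j => (f ^ j) w) (k + 1)
  rw [h3] at h2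
  have h4 : (f ^ (k + 1)) w = (f ^ 0) w := by rw [hf, pow_zero]
  rw [h4] at h2
  exact (mul_right_cancel h2).symm

theorem sylow_normal_of_nilpotent {X : Type*} [Group X] [Finite X] (h : Group.IsNilpotent X)
    (r : ℕ) [hr : Fact r.Prime] (R : Sylow r X) : (R : Subgroup X).Normal := by
  have hsyl : ∀ (r : ℕ) (_ : Fact r.Prime) (R : Sylow r X), (R : Subgroup X).Normal :=
    ((Group.isNilpotent_of_finite_tfae (G := X)).out 0 3).1 h
  exact hsyl r hr R

theorem pow_fix {G : Type*} [Group G] (φ : G ≃* G) (hφ : MonoidHom.FixedPointFree (φ : G →* G))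
    (p : ℕ) (hp : p.Prime) (hφp : φ ^ p = 1) (j : ℕ) (hj1 : 1 ≤ j) (hjp : j < p) (y : G)
    (hy : (φ ^ j) y = y) : y = 1 := by
  have hcop : Nat.Coprime j p := (Nat.coprime_of_lt_prime (by omega) hjp hp).symm
  have h1 : ∀ m : ℕ, ((φ ^ j) ^ m) y = y := by
    intro m
    induction m with
    | zero => rfl
    | succ m ih =>
      rw [pow_succ']
      show (φ ^ j) (((φ ^ j) ^ m) y) = y
      rw [ih, hy]
  obtain ⟨m, -, hm⟩ := Nat.exists_mul_mod_eq_one_of_coprime hcop hp.one_lt
  have h2 : φ ^ (j * m) = φ := by rw [pow_eq_pow_mod (j * m) hφp, hm, pow_one]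
  have h3 : φ y = y := by
    have := h1 m
    rw [← pow_mul, h2] at this
    exact this
  exact hφ y h3

theorem sect_triv {G : Type*} [Group G] [Finite G] (φ : G ≃* G)
    (hφ : MonoidHom.FixedPointFree (φ : G →* G)) (p : ℕ) (hp : p.Prime) (hφp : φ ^ p = 1)
    (A B R : Subgroup G) [hAn : A.Normal] [hBn : B.Normal] (hAA : ⁅A, A⁆ ≤ B)
    (hφA : ∀ x ∈ A, φ x ∈ A) (hφB : ∀ x ∈ B, φ x ∈ B) (hφR : ∀ x ∈ R, φ x ∈ R)
    (hcop : (Nat.card R).Coprime (Nat.card A)) : R ≤ S0659.stab A B := by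
  obtain ⟨Ab, hAb⟩ : ∃ Ab : Subgroup (G ⧸ B), Ab = A.map (QuotientGroup.mk' B) := ⟨_, rfl⟩
  haveI hAbn : Ab.Normal := by rw [hAb]; exact hAn.map _ (QuotientGroup.mk'_surjective B)
  have hsurj : ∀ w : ↥Ab, ∃ u ∈ A, (w : G ⧸ B) = QuotientGroup.mk' B u := by
    rintro ⟨w, hw⟩
    rw [hAb] at hw
    obtain ⟨u, hu, rfl⟩ := hw
    exact ⟨u, hu, rfl⟩
  have hcomm : ∀ u v : ↥Ab, u * v = v * u := by
    intro u v
    obtain ⟨u', hu', hu⟩ := hsurj u
    obtain ⟨v', hv', hv⟩ := hsurj v
    apply Subtype.ext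
    rw [Subgroup.coe_mul, Subgroup.coe_mul, hu, hv, ← map_mul, ← map_mul]
    apply QuotientGroup.eq.2
    have e : (u' * v')⁻¹ * (v' * u') = ⁅v'⁻¹, u'⁻¹⁆ := by
      simp only [commutatorElement_def]; group
    rw [e]
    exact hAA (Subgroup.commutator_mem_commutator (A.inv_mem hv') (A.inv_mem hu'))
  obtain ⟨ρ, hρ⟩ : ∃ ρ : G →* MulAut ↥Ab,
      ρ = (MulAut.conjNormal (H := Ab)).comp (QuotientGroup.mk' B) := ⟨_, rfl⟩
  have hρv : ∀ (g : G) (w : ↥Ab), ((ρ g w : ↥Ab) : G ⧸ B) =
      QuotientGroup.mk' B g * w * (QuotientGroup.mk' B g)⁻¹ := by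
    intro g w; rw [hρ]; rfl
  have hρc : ∀ (g u : G) (w : ↥Ab), (w : G ⧸ B) = QuotientGroup.mk' B u →
      ((ρ g w : ↥Ab) : G ⧸ B) * (w : G ⧸ B)⁻¹ = QuotientGroup.mk' B ⁅g, u⁆ := by
    intro g u w hw
    rw [hρv, hw, commutatorElement_def, map_mul, map_mul, map_mul, map_inv, map_inv]
  have hφB' : ∀ x, φ x ∈ B → x ∈ B := by
    intro x hx
    have hinjB : Function.Injective (fun b : ↥B => (⟨φ b, hφB b b.2⟩ : ↥B)) := by
      intro a b hab
      exact Subtype.ext (φ.injective (congrArg Subtype.val hab))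
    obtain ⟨b, hb⟩ := (Finite.injective_iff_surjective.1 hinjB) ⟨φ x, hx⟩
    have h1 : φ (b : G) = φ x := congrArg Subtype.val hb
    rw [← φ.injective h1]; exact b.2
  have hBle : B ≤ B.comap (φ : G →* G) := fun x hx => hφB x hx
  obtain ⟨φb, hφb⟩ : ∃ φb : G ⧸ B →* G ⧸ B,
      φb = QuotientGroup.map B B (φ : G →* G) hBle := ⟨_, rfl⟩
  have hφbmk : ∀ x : G, φb (QuotientGroup.mk' B x) = QuotientGroup.mk' B (φ x) := by
    intro x; rw [hφb]; rfl
  have hφbA : ∀ w : ↥Ab, φb (w : G ⧸ B) ∈ Ab := by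
    intro w
    obtain ⟨u, hu, hw⟩ := hsurj w
    rw [hw, hφbmk, hAb]; exact ⟨φ u, hφA u hu, rfl⟩
  obtain ⟨f₀, hf₀⟩ : ∃ f₀ : ↥Ab →* ↥Ab, ∀ w : ↥Ab, ((f₀ w : ↥Ab) : G ⧸ B) = φb (w : G ⧸ B) :=
    ⟨(φb.comp Ab.subtype).codRestrict Ab hφbA, fun w => rfl⟩
  have hfix₀ : ∀ w : ↥Ab, f₀ w = w → w = 1 := by
    intro w hw
    obtain ⟨u, hu, hwu⟩ := hsurj w
    have h1 : QuotientGroup.mk' B (φ u) = QuotientGroup.mk' B u := by
      rw [← hφbmk, ← hwu, ← hf₀, hw]
    have h2 : (φ u)⁻¹ * u ∈ B := QuotientGroup.eq.1 h1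
    have h3 := S0032.result φ hφ B hφB u h2
    apply Subtype.ext
    rw [hwu]; exact (QuotientGroup.eq_one_iff u).2 h3
  have hinj : Function.Injective f₀ := by
    rw [injective_iff_map_eq_one]
    intro w hw
    obtain ⟨u, hu, hwu⟩ := hsurj w
    have h1 : QuotientGroup.mk' B (φ u) = 1 := by
      rw [← hφbmk, ← hwu, ← hf₀, hw]; rfl
    have h2 : u ∈ B := hφB' u ((QuotientGroup.eq_one_iff _).1 h1)
    apply Subtype.ext
    rw [hwu]; exact (QuotientGroup.eq_one_iff u).2 h2
  obtain ⟨f, hf⟩ : ∃ f : MulAut ↥Ab, ∀ w, f w = f₀ w :=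
    ⟨MulEquiv.ofBijective f₀ ⟨hinj, Finite.injective_iff_surjective.1 hinj⟩, fun w => rfl⟩
  have hfv : ∀ (w : ↥Ab) (u : G), (w : G ⧸ B) = QuotientGroup.mk' B u →
      ((f w : ↥Ab) : G ⧸ B) = QuotientGroup.mk' B (φ u) := by
    intro w u hw; rw [hf, hf₀, hw, hφbmk]
  have hfj : ∀ (j : ℕ) (w : ↥Ab) (u : G), (w : G ⧸ B) = QuotientGroup.mk' B u →
      (((f ^ j) w : ↥Ab) : G ⧸ B) = QuotientGroup.mk' B ((φ ^ j) u) := by
    intro j
    induction j with
    | zero => intro w u hw; exact hw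
    | succ j ih =>
      intro w u hw
      rw [pow_succ', pow_succ']
      exact hfv _ _ (ih w u hw)
  have hfp : f ^ p = 1 := by
    apply MulEquiv.ext
    intro w
    apply Subtype.ext
    obtain ⟨u, hu, hw⟩ := hsurj w
    rw [hfj p w u hw, hφp]
    exact hw.symm
  have hcomm' : ∀ y : G, f * ρ y = ρ (φ y) * f := by
    intro y
    apply MulEquiv.ext
    intro w
    apply Subtype.ext
    obtain ⟨u, hu, hw⟩ := hsurj w
    show ((f (ρ y w) : ↥Ab) : G ⧸ B) = ((ρ (φ y) (f w) : ↥Ab) : G ⧸ B)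
    have h1 : ((ρ y w : ↥Ab) : G ⧸ B) = QuotientGroup.mk' B (y * u * y⁻¹) := by
      rw [hρv, hw, map_mul, map_mul, map_inv]
    rw [hfv _ _ h1, hρv, hfv w u hw]
    simp only [map_mul, map_inv]
  have hfix : ∀ w : ↥Ab, f w = w → w = 1 := by
    intro w hw
    rw [hf] at hw
    exact hfix₀ w hw
  have hcop' : (Nat.card R).Coprime (Nat.card ↥Ab) := by
    rw [hAb]
    exact Nat.Coprime.coprime_dvd_right (Subgroup.card_map_dvd A _) hcop
  obtain ⟨k, rfl⟩ : ∃ k, p = k + 1 := ⟨p - 1, by have := hp.pos; omega⟩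
  have key := frob_lemma' hcomm R ρ φ f hcomm' k hfp hfix hφR
    (fun j h1 h2 y _ hy => pow_fix φ hφ _ hp hφp j h1 h2 y hy) hcop'
  intro z hz
  rw [S0659.mem_stab]
  intro u hu
  have hw : ((⟨QuotientGroup.mk' B u, by rw [hAb]; exact ⟨u, hu, rfl⟩⟩ : ↥Ab) : G ⧸ B) =
      QuotientGroup.mk' B u := rfl
  have h1 := hρc z u _ hw
  rw [key z hz] at h1
  have h2 : QuotientGroup.mk' B ⁅z, u⁆ = 1 := by
    rw [← h1]; simp
  exact (QuotientGroup.eq_one_iff _).1 h2

theorem centralizes {G : Type*} [Group G] [Finite G] (φ : G ≃* G)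
    (hφ : MonoidHom.FixedPointFree (φ : G →* G)) (p : ℕ) (hp : p.Prime) (hφp : φ ^ p = 1)
    (q : ℕ) [Fact q.Prime] (F R : Subgroup G) [hFn : F.Normal] (hF : IsPGroup q F)
    (hφF : ∀ x ∈ F, φ x ∈ F) (hφR : ∀ x ∈ R, φ x ∈ R) (hcop : (Nat.card R).Coprime q) :
    ∀ z ∈ R, ∀ v ∈ F, v * z = z * v := by
  have hVn : ∀ i, (F.lowerCentralSeries i).Normal := by
    intro i
    induction i with
    | zero => exact hFn
    | succ i ih => rw [Subgroup.lowerCentralSeries_succ]; haveI := ih; infer_instance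
  have hVF : ∀ i, F.lowerCentralSeries i ≤ F := by
    intro i
    exact F.lowerCentralSeries_antitone (Nat.zero_le i)
  have hVφ : ∀ i, ∀ x ∈ F.lowerCentralSeries i, φ x ∈ F.lowerCentralSeries i := by
    intro i
    induction i with
    | zero => exact hφF
    | succ i ih =>
      intro x hx
      rw [Subgroup.lowerCentralSeries_succ] at hx ⊢
      have h1 : (⁅F.lowerCentralSeries i, F⁆).map (φ : G →* G) ≤ ⁅F.lowerCentralSeries i, F⁆ := by
        rw [Subgroup.map_commutator]
        apply Subgroup.commutator_mono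
        · rintro _ ⟨y, hy, rfl⟩; exact ih y hy
        · rintro _ ⟨y, hy, rfl⟩; exact hφF y hy
      exact h1 ⟨x, hx, rfl⟩
  haveI : Group.IsNilpotent ↥F := hF.isNilpotent
  obtain ⟨n, hn⟩ := (Subgroup.isNilpotent_iff_lowerCentralSeries F).mp inferInstance
  have hcopA : ∀ i, (Nat.card R).Coprime (Nat.card ↥(F.lowerCentralSeries i)) := by
    intro i
    obtain ⟨k, hk⟩ := IsPGroup.iff_card.1 (hF.to_le (hVF i))
    rw [hk]; exact Nat.Coprime.pow_right k hcop
  have hstab : ∀ i, R ≤ @S0659.stab G _ (F.lowerCentralSeries i) (F.lowerCentralSeries (i + 1))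
      (hVn (i + 1)) := by
    intro i
    haveI := hVn i
    haveI := hVn (i + 1)
    apply sect_triv φ hφ p hp hφp _ _ R ?_ (hVφ i) (hVφ (i + 1)) hφR (hcopA i)
    rw [Subgroup.lowerCentralSeries_succ]
    exact Subgroup.commutator_mono le_rfl (hVF i)
  intro z hz v hv
  have hcc := Lib.Helper3.Coprime.centralizes_of_chain z n
    (fun i : Fin (n + 1) => F.lowerCentralSeries i.val) hn ?_ ?_ ?_ v hv
  · exact hcc
  · intro i j hij
    exact F.lowerCentralSeries_antitone hij
  · intro d hd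
    have hd' : d ∈ F := hd
    obtain ⟨e, he⟩ := hF ⟨d, hd'⟩
    have he' : d ^ (q ^ e) = 1 := congrArg Subtype.val he
    exact Nat.Coprime.coprime_dvd_left (Subgroup.orderOf_dvd_natCard R hz)
      (Nat.Coprime.coprime_dvd_right (orderOf_dvd_of_pow_eq_one he')
        (Nat.Coprime.pow_right e hcop))
  · intro i h hh
    have h1 := hstab i.val hz
    have h2 := (@S0659.mem_stab G _ _ _ (hVn (i.val + 1)) z).1 h1 h hh
    rw [← commutatorElement_inv]; exact inv_mem h2

theorem normal_of_sup {G : Type*} [Group G] [Finite G] (P R : Subgroup G) [hPn : P.Normal]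
    (hPR : (R ⊔ P).Normal) (hc : ∀ z ∈ R, ∀ v ∈ P, v * z = z * v)
    (hcop : (Nat.card R).Coprime (Nat.card P)) : R.Normal := by
  constructor
  intro y hy g
  have h1 : g * y * g⁻¹ ∈ R ⊔ P := hPR.conj_mem y (Subgroup.mem_sup_left hy) g
  obtain ⟨z, hz, v, hv, hzv⟩ := Subgroup.mem_sup_of_normal_right.mp h1
  have h2 : (g * y * g⁻¹) ^ Nat.card R = 1 := by
    rw [conj_pow]
    have : y ^ Nat.card R = 1 := by
      have := pow_card_eq_one' (G := R) (x := ⟨y, hy⟩)
      exact congrArg Subtype.val this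
    rw [this]; group
  have hcm : Commute z v := (hc z hz v hv).symm
  rw [← hzv, hcm.mul_pow] at h2
  have h3 : z ^ Nat.card R = 1 := by
    have := pow_card_eq_one' (G := R) (x := ⟨z, hz⟩)
    exact congrArg Subtype.val this
  rw [h3, one_mul] at h2
  have h4 : v ^ Nat.card P = 1 := by
    have := pow_card_eq_one' (G := P) (x := ⟨v, hv⟩)
    exact congrArg Subtype.val this
  have h5 := S0579.eq_one_of_pow_coprime h2 h4 hcop
  rw [← hzv, h5, mul_one]; exact hz

universe u

theorem aux (p : ℕ) (hp : p.Prime) : ∀ (n : ℕ) (G : Type u) [Group G] [Finite G],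
    Nat.card G = n → ∀ φ : G ≃* G, MonoidHom.FixedPointFree (φ : G →* G) → φ ^ p = 1 →
    Group.IsNilpotent G := by
  intro n
  induction n using Nat.strong_induction_on with
  | _ n ih =>
    intro G _ _ hn φ hφ hφp
    have IHs : ∀ X : Subgroup G, X ≠ ⊤ → (∀ x ∈ X, φ x ∈ X) → Group.IsNilpotent ↥X := by
      intro X hX hφX
      have hlt : Nat.card ↥X < n := by
        rw [← hn, ← Subgroup.card_top (G := G)]
        exact S0651.card_lt_of_lt (lt_top_iff_ne_top.2 hX)
      have hinj : Function.Injective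
          ((φ.toMonoidHom.comp X.subtype).codRestrict X (fun x => hφX x.1 x.2)) := by
        intro a b hab
        exact Subtype.ext (φ.injective (congrArg Subtype.val hab))
      obtain ⟨φX, hφXv⟩ : ∃ φX : ↥X ≃* ↥X, ∀ x : ↥X, ((φX x : ↥X) : G) = φ (x : G) :=
        ⟨MulEquiv.ofBijective _ ⟨hinj, Finite.injective_iff_surjective.1 hinj⟩, fun x => rfl⟩
      have hpw : ∀ (j : ℕ) (x : ↥X), (((φX ^ j) x : ↥X) : G) = (φ ^ j) (x : G) := by
        intro j
        induction j with
        | zero => intro x; rfl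
        | succ j ih' =>
          intro x
          rw [pow_succ', pow_succ']
          exact (hφXv _).trans (congrArg φ (ih' x))
      apply ih _ hlt ↥X rfl φX
      · intro x hx
        have h1 : φ (x : G) = (x : G) := by
          rw [← hφXv]; exact congrArg Subtype.val hx
        exact Subtype.ext (hφ _ h1)
      · apply MulEquiv.ext
        intro x
        apply Subtype.ext
        rw [hpw, hφp]; rfl
    have IHq : ∀ (Z : Subgroup G) [Z.Normal], Z ≠ ⊥ → (∀ x ∈ Z, φ x ∈ Z) →
        Group.IsNilpotent (G ⧸ Z) := by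
      intro Z hZn hZne hφZ
      have hlt : Nat.card (G ⧸ Z) < n := by
        rw [← hn, ← S0003.card_quot Z]
        have h1 : 1 < Nat.card Z := (Subgroup.one_lt_card_iff_ne_bot Z).2 hZne
        have h2 : 0 < Nat.card (G ⧸ Z) := Nat.card_pos
        nlinarith
      have hmap : Z.map (φ : G →* G) = Z := by
        apply (Subgroup.eq_of_le_of_card_ge _ _)
        · rintro _ ⟨x, hx, rfl⟩; exact hφZ x hx
        · rw [Subgroup.card_map_of_injective φ.injective]
      obtain ⟨φb, hφb⟩ : ∃ φb : G ⧸ Z ≃* G ⧸ Z,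
          ∀ x : G, φb (QuotientGroup.mk' Z x) = QuotientGroup.mk' Z (φ x) :=
        ⟨QuotientGroup.congr Z Z φ hmap, fun x => rfl⟩
      have hpw : ∀ (j : ℕ) (x : G),
          (φb ^ j) (QuotientGroup.mk' Z x) = QuotientGroup.mk' Z ((φ ^ j) x) := by
        intro j
        induction j with
        | zero => intro x; rfl
        | succ j ih' =>
          intro x
          rw [pow_succ', pow_succ']
          exact (congrArg φb (ih' x)).trans (hφb _)
      apply ih _ hlt (G ⧸ Z) rfl φb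
      · intro x hx
        obtain ⟨x, rfl⟩ := QuotientGroup.mk'_surjective Z x
        have h1 : QuotientGroup.mk' Z (φ x) = QuotientGroup.mk' Z x := by
          rw [← hφb]; exact hx
        have h2 : (φ x)⁻¹ * x ∈ Z := QuotientGroup.eq.1 h1
        exact (QuotientGroup.eq_one_iff x).2 (S0032.result φ hφ Z hφZ x h2)
      · apply MulEquiv.ext
        intro x
        obtain ⟨x, rfl⟩ := QuotientGroup.mk'_surjective Z x
        rw [hpw, hφp]; rfl
    have hSyl : ∀ (r : ℕ) [Fact r.Prime], ∃ S : Sylow r G,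
        ∀ x ∈ (S : Subgroup G), φ x ∈ (S : Subgroup G) := by
      intro r _
      obtain ⟨S, hS⟩ := S0031.result φ hφ r
      refine ⟨S, fun x hx => ?_⟩
      rw [← hS]; exact ⟨x, hx, rfl⟩
    by_cases hodd : ∃ p₀ : ℕ, p₀.Prime ∧ p₀ ≠ 2 ∧ p₀ ∣ Nat.card G
    swap
    · have hk := Nat.eq_prime_pow_of_unique_prime_dvd (p := 2) (n := Nat.card G)
        Nat.card_pos.ne' (fun {d} hd hdd => by
          by_contra hne
          exact hodd ⟨d, hd, hne, hdd⟩)
      haveI : Fact (2 : ℕ).Prime := ⟨Nat.prime_two⟩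
      exact (IsPGroup.of_card hk).isNilpotent
    obtain ⟨p₀, hp₀, hp₀2, hp₀d⟩ := hodd
    haveI : Fact p₀.Prime := ⟨hp₀⟩
    obtain ⟨P, hφP⟩ := hSyl p₀
    have hPne : (P : Subgroup G) ≠ ⊥ := P.ne_bot_of_dvd_card hp₀d
    obtain ⟨Z, hZ⟩ : ∃ Z : Subgroup G, Z = centerThompsonAOf (P : Subgroup G) := ⟨_, rfl⟩
    have hZne : Z ≠ ⊥ := hZ ▸ S0658.ZJ_ne_bot hp₀2 _ P.2 hPne
    have hZP : Z ≤ (P : Subgroup G) := hZ ▸ (inf_le_left.trans (Subgroup.map_subtype_le _))
    have hPmap : (P : Subgroup G).map (φ : G →* G) = (P : Subgroup G) := by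
      apply (Subgroup.eq_of_le_of_card_ge _ _)
      · rintro _ ⟨x, hx, rfl⟩; exact hφP x hx
      · rw [Subgroup.card_map_of_injective φ.injective]
    have hZmap : Z.map (φ : G →* G) = Z := by
      rw [hZ, ← S0658.ZJ_map hp₀2 (φ : G →* G) φ.injective, hPmap]
    have hφZ : ∀ x ∈ Z, φ x ∈ Z := by
      intro x hx
      rw [← hZmap]; exact ⟨x, hx, rfl⟩
    suffices hmain : ∀ (r : ℕ) [Fact r.Prime] (S : Sylow r G),
        (∀ x ∈ (S : Subgroup G), φ x ∈ (S : Subgroup G)) → (S : Subgroup G).Normal by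
      apply ((Group.isNilpotent_of_finite_tfae (G := G)).out 0 3).2
      intro r hr S
      haveI := hr
      obtain ⟨S₀, hS₀⟩ := hSyl r
      haveI hS₀n := hmain r S₀ hS₀
      obtain ⟨g, rfl⟩ := MulAction.exists_smul_eq G S₀ S
      rw [Sylow.smul_eq_of_normal]
      exact hS₀n
    by_cases hN : Subgroup.normalizer (Z : Set G) = ⊤
    · haveI hZn : Z.Normal := Subgroup.normalizer_eq_top_iff.mp hN
      haveI := IHq Z hZne hφZ
      have hPn : (P : Subgroup G).Normal := by
        have h1 : ((P.mapSurjective (QuotientGroup.mk'_surjective Z) : Sylow p₀ (G ⧸ Z)) :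
            Subgroup (G ⧸ Z)).Normal :=
          sylow_normal_of_nilpotent inferInstance p₀ _
        rw [Sylow.coe_mapSurjective] at h1
        have h2 := h1.comap (QuotientGroup.mk' Z)
        rw [Subgroup.comap_map_eq, QuotientGroup.ker_mk', sup_of_le_left hZP] at h2
        exact h2
      intro r hr S hφS
      by_cases hrp : r = p₀
      · subst hrp
        haveI := hPn
        obtain ⟨g, rfl⟩ := MulAction.exists_smul_eq G P S
        rw [Sylow.smul_eq_of_normal]
        exact hPn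
      · haveI := hPn
        have hcardS : (Nat.card (S : Subgroup G)).Coprime p₀ := by
          obtain ⟨k, hk⟩ := IsPGroup.iff_card.1 S.2
          rw [hk]; exact Nat.Coprime.pow_left k ((Nat.coprime_primes hr.out hp₀).2 hrp)
        have hcent := centralizes φ hφ p hp hφp p₀ (P : Subgroup G) (S : Subgroup G) P.2 hφP hφS
          hcardS
        haveI := IHq (P : Subgroup G) hPne hφP
        have h1 : ((S.mapSurjective (QuotientGroup.mk'_surjective (P : Subgroup G)) :
            Sylow r (G ⧸ (P : Subgroup G))) : Subgroup (G ⧸ (P : Subgroup G))).Normal :=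
          sylow_normal_of_nilpotent inferInstance r _
        rw [Sylow.coe_mapSurjective] at h1
        have h2 := h1.comap (QuotientGroup.mk' (P : Subgroup G))
        rw [Subgroup.comap_map_eq, QuotientGroup.ker_mk'] at h2
        refine normal_of_sup (P : Subgroup G) (S : Subgroup G) h2 hcent ?_
        obtain ⟨k, hk⟩ := IsPGroup.iff_card.1 P.2
        rw [hk]; exact Nat.Coprime.pow_right k hcardS
    · have hφN : ∀ x ∈ Subgroup.normalizer (Z : Set G), φ x ∈ Subgroup.normalizer (Z : Set G) := by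
        intro x hx
        have h1 := Subgroup.le_normalizer_map (φ : G →* G) (H := Z) ⟨x, hx, rfl⟩
        rw [hZmap] at h1
        exact h1
      haveI hNnil := IHs _ hN hφN
      have hnpcN : HasNormalPComplement p₀ ↥(Subgroup.normalizer (Z : Set G)) :=
        S4040.npc_of_nilpotent p₀
      have hnpc : HasNormalPComplement p₀ G := by
        apply S0659.result hp₀2 P
        rw [← hZ]; exact hnpcN
      obtain ⟨K, hKn, hKc, j, hKj⟩ := Lib.Helper1.Frob.hasNPC_iff.1 hnpc
      haveI := hKn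
      have hKmem : ∀ x : G, (orderOf x).Coprime p₀ → x ∈ K :=
        fun x hx => Lib.Helper1.Frob.mem_of_coprime_of_index K hKj x hx
      have hφK : ∀ x ∈ K, φ x ∈ K := by
        intro x hx
        apply hKmem
        rw [MulEquiv.orderOf_eq φ x]
        exact Nat.Coprime.coprime_dvd_left (Subgroup.orderOf_dvd_natCard K hx) hKc
      have hKtop : K ≠ ⊤ := by
        intro h
        rw [h, Subgroup.card_top] at hKc
        exact (Nat.Prime.coprime_iff_not_dvd hp₀).1 hKc.symm hp₀d
      have hKnil := IHs K hKtop hφK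
      have hSr : ∀ (r : ℕ) [Fact r.Prime] (S : Sylow r G), r ≠ p₀ → (S : Subgroup G).Normal := by
        intro r hr S hrp
        have hSK : (S : Subgroup G) ≤ K := by
          intro x hx
          apply hKmem
          obtain ⟨e, he⟩ := S.2 ⟨x, hx⟩
          have he' : x ^ (r ^ e) = 1 := congrArg Subtype.val he
          exact Nat.Coprime.coprime_dvd_left (orderOf_dvd_of_pow_eq_one he')
            (Nat.Coprime.pow_left e ((Nat.coprime_primes hr.out hp₀).2 hrp))
        have hS₀n : ((S.subtype hSK : Sylow r ↥K) : Subgroup ↥K).Normal :=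
          sylow_normal_of_nilpotent hKnil r _
        have hall : ∀ g : G, g • S = S := by
          intro g
          have hgK : ((g • S : Sylow r G) : Subgroup G) ≤ K := by
            intro x hx
            rw [Sylow.coe_subgroup_smul, Subgroup.pointwise_smul_def] at hx
            obtain ⟨s, hs, rfl⟩ := hx
            exact hKn.conj_mem s (hSK hs) g
          letI := Sylow.unique_of_normal (S.subtype hSK) hS₀n
          have heq : (g • S).subtype hgK = S.subtype hSK := Subsingleton.elim _ _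
          have h1 : (((g • S).subtype hgK : Sylow r ↥K) : Subgroup ↥K).map K.subtype =
              ((S.subtype hSK : Sylow r ↥K) : Subgroup ↥K).map K.subtype := by rw [heq]
          rw [Sylow.coe_subtype, Sylow.coe_subtype, Subgroup.subgroupOf_map_subtype,
            Subgroup.subgroupOf_map_subtype, inf_of_le_left hgK, inf_of_le_left hSK] at h1
          exact Sylow.ext h1
        have htop : Subgroup.normalizer ((S : Subgroup G) : Set G) = ⊤ := by
          rw [eq_top_iff]
          intro g _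
          exact Sylow.smul_eq_iff_mem_normalizer.1 (hall g)
        exact Subgroup.normalizer_eq_top_iff.mp htop
      intro r hr S hφS
      by_cases hrp : r = p₀
      · have hidx : (Subgroup.normalizer ((S : Subgroup G) : Set G)).index = 1 := by
          by_contra hne
          obtain ⟨t, ht, htd⟩ := Nat.exists_prime_and_dvd hne
          haveI : Fact t.Prime := ⟨ht⟩
          by_cases htr : t = r
          · subst htr
            apply S.not_dvd_index
            exact htd.trans (Subgroup.index_dvd_of_le Subgroup.le_normalizer)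
          · obtain ⟨T, hφT⟩ := hSyl t
            have htp : t ≠ p₀ := fun h => htr (h.trans hrp.symm)
            haveI hTn := hSr t T htp
            have hcardS : (Nat.card (S : Subgroup G)).Coprime t := by
              obtain ⟨k, hk⟩ := IsPGroup.iff_card.1 S.2
              rw [hk]; exact Nat.Coprime.pow_left k ((Nat.coprime_primes hr.out ht).2 (Ne.symm htr))
            have hcent := centralizes φ hφ p hp hφp t (T : Subgroup G) (S : Subgroup G) T.2 hφT hφS
              hcardS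
            have hTN : (T : Subgroup G) ≤ Subgroup.normalizer ((S : Subgroup G) : Set G) := by
              intro v hv
              apply Subgroup.centralizer_le_normalizer
              rw [Subgroup.mem_centralizer_iff]
              intro z hz
              exact (hcent z hz v hv).symm
            apply T.not_dvd_index
            exact htd.trans (Subgroup.index_dvd_of_le hTN)
        exact Subgroup.normalizer_eq_top_iff.mp (Subgroup.index_eq_one.1 hidx)
      · exact hSr r S hrp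

theorem result {G : Type*} [Group G] [Finite G] (φ : G ≃* G)
    (hφ : MonoidHom.FixedPointFree (φ : G →* G)) (p : ℕ) (hp : p.Prime) (hord : orderOf φ = p) :
    Group.IsNilpotent G := by
  exact aux p hp _ G rfl φ hφ (by rw [← hord]; exact pow_orderOf_eq_one φ)

end Cfsg.Agent.S0033
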