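import Mathlib
import Cfsg.Agent.Lib.Helper1.Inv
import Cfsg.Statements.S0039

set_option autoImplicit false
open Cfsg
open Pointwise

namespace Cfsg.Agent.S0039

/-- In a finite group that is a semidirect product of a normal subgroup K by a nontrivial subgroup H, H is a Frobenius complement exactly when each nonidentity element of H acts without nonidentity fixed points on K by conjugation. -/
theorem result {G : Type*} [Group G] [Finite G] (K H : Subgroup G) [K.Normal]
    (hc : Subgroup.IsComplement' K H) (hK : K ≠ ⊥) (hH : H ≠ ⊥) :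
    Cfsg.IsFrobeniusComplement H ↔ ∀ h ∈ H, h ≠ 1 → K ⊓ Subgroup.centralizer {h} = ⊥ := by
  have hdisj : ∀ x : G, x ∈ K → x ∈ H → x = 1 := by
    intro x hxK hxH
    have := hc.disjoint
    rw [Subgroup.disjoint_def] at this
    exact this hxK hxH
  constructor
  · rintro ⟨-, -, hF⟩ h hh hh1
    rw [eq_bot_iff]
    intro x hx
    obtain ⟨hxK, hxC⟩ := Subgroup.mem_inf.mp hx
    rw [Subgroup.mem_bot]
    by_contra hx1
    have hxH : x ∉ H := fun hxH => hx1 (hdisj x hxK hxH)
    have h1 := hF x hxH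
    have hxC' : x * h = h * x := Subgroup.mem_centralizer_singleton_iff.mp hxC
    have h2 : h ∈ H ⊓ (MulAut.conj x • H) := by
      refine Subgroup.mem_inf.mpr ⟨hh, ?_⟩
      rw [Lib.Helper1.mem_conj_smul_iff]
      have : x⁻¹ * h * x = h := by
        calc x⁻¹ * h * x = x⁻¹ * (h * x) := by group
          _ = x⁻¹ * (x * h) := by rw [hxC']
          _ = h := by group
      rw [this]
      exact hh
    rw [h1, Subgroup.mem_bot] at h2
    exact hh1 h2
  · intro hyp
    refine ⟨hH, ?_, ?_⟩
    · intro htop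
      apply hK
      rw [eq_bot_iff]
      intro x hx
      rw [Subgroup.mem_bot]
      exact hdisj x hx (by rw [htop]; exact Subgroup.mem_top x)
    · intro g hg
      obtain ⟨⟨⟨k, hk⟩, ⟨h0, hh0⟩⟩, hkh⟩ := hc.2 g
      have hkh' : k * h0 = g := hkh
      have hk1 : k ≠ 1 := by
        intro h
        apply hg
        rw [← hkh', h, one_mul]
        exact hh0
      rw [eq_bot_iff]
      intro x hx
      obtain ⟨hx1, hx2⟩ := Subgroup.mem_inf.mp hx
      rw [Subgroup.mem_bot]
      have hx2' : g⁻¹ * x * g ∈ H := (Lib.Helper1.mem_conj_smul_iff H g x).mp hx2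
      have hy : k⁻¹ * x * k ∈ H := by
        have : k⁻¹ * x * k = h0 * (g⁻¹ * x * g) * h0⁻¹ := by rw [← hkh']; group
        rw [this]
        exact H.mul_mem (H.mul_mem hh0 hx2') (H.inv_mem hh0)
      have h1 : x⁻¹ * (k⁻¹ * x * k) ∈ K := by
        have : x⁻¹ * (k⁻¹ * x * k) = (x⁻¹ * k⁻¹ * x⁻¹⁻¹) * k := by group
        rw [this]
        exact K.mul_mem (‹K.Normal›.conj_mem k⁻¹ (K.inv_mem hk) x⁻¹) hk
      have h2 : x⁻¹ * (k⁻¹ * x * k) ∈ H := H.mul_mem (H.inv_mem hx1) hy
      have h3 := hdisj _ h1 h2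
      have h4 : k * x = x * k := by
        calc k * x = k * x * (x⁻¹ * (k⁻¹ * x * k)) := by rw [h3, mul_one]
          _ = x * k := by group
      by_contra hxne
      have h5 : k ∈ K ⊓ Subgroup.centralizer {x} :=
        Subgroup.mem_inf.mpr ⟨hk, Subgroup.mem_centralizer_singleton_iff.mpr h4⟩
      rw [hyp x hx1 hxne, Subgroup.mem_bot] at h5
      exact hk1 h5

end Cfsg.Agent.S0039
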