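import Mathlib
import Cfsg.Agent.Lib.Helper1.FrobC
import Cfsg.Statements.S0040

set_option autoImplicit false
open Cfsg

namespace Cfsg.Agent.S0040

/-- Sylow subgroups of Frobenius complements: if H complements a nontrivial normal subgroup K and every nonidentity element of H has trivial centraliser in K, then each Sylow subgroup of H is cyclic or isomorphic to a generalized quaternion group. -/
theorem result {G : Type*} [Group G] [Finite G] (K H : Subgroup G) [K.Normal]
    (hc : Subgroup.IsComplement' K H) (hK : K ≠ ⊥) (hfpf : ∀ h ∈ H, h ≠ 1 → K ⊓ Subgroup.centralizer {h} = ⊥)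
    (p : ℕ) [Fact p.Prime] (P : Sylow p H) :
    IsCyclic P ∨ ∃ n : ℕ, Nonempty (P ≃* QuaternionGroup (2 ^ n)) := by
  classical
  have hp : p.Prime := Fact.out
  have hG : IsPGroup p (P : Subgroup H) := P.isPGroup'
  have huniq : ∀ A B : Subgroup (P : Subgroup H), Nat.card A = p → Nat.card B = p → A = B := by
    apply Cfsg.Agent.Lib.Helper1.FrobC.uniq_of_central hG
    intro a z hoa hoz haz
    by_contra hnot
    have hap : a ^ p = 1 := by
      have h' := pow_orderOf_eq_one a
      rw [hoa] at h'
      exact h'
    have hzp : z ^ p = 1 := by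
      have h' := pow_orderOf_eq_one z
      rw [hoz] at h'
      exact h'
    have hne1 : ∀ i j : ℕ, ¬ (p ∣ i ∧ p ∣ j) → a ^ i * z ^ j ≠ 1 := by
      intro i j hij h1
      by_cases hi : p ∣ i
      · have hai : a ^ i = 1 := by
          rw [← hoa] at hi
          exact orderOf_dvd_iff_pow_eq_one.1 hi
        rw [hai, one_mul] at h1
        have := orderOf_dvd_of_pow_eq_one h1
        rw [hoz] at this
        exact hij ⟨hi, this⟩
      · have hcop : Nat.Coprime i p := ((Nat.coprime_comm).1 ((Nat.Prime.coprime_iff_not_dvd hp).2 hi))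
        obtain ⟨m, -, hm⟩ := Nat.exists_mul_mod_eq_one_of_coprime hcop hp.one_lt
        have hai : a ^ i ∈ Subgroup.zpowers z := by
          have : a ^ i = (z ^ j)⁻¹ := eq_inv_of_mul_eq_one_left h1
          rw [this]
          exact inv_mem (Subgroup.pow_mem _ (Subgroup.mem_zpowers z) _)
        apply hnot
        have e : a = (a ^ i) ^ m := by
          rw [← pow_mul, ← pow_mod_orderOf, hoa, hm, pow_one]
        rw [e]
        exact Subgroup.pow_mem _ hai _
    apply Cfsg.Agent.Lib.Helper1.FrobC.no_rank_two K hK p
      ((P : Subgroup H).map H.subtype) (hG.map H.subtype)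
      ((a : H) : G) ((z : H) : G) ⟨(a : H), a.2, rfl⟩ ⟨(z : H), z.2, rfl⟩
    · have := congrArg (fun x : (P : Subgroup H) => ((x : H) : G)) haz
      simpa using this
    · have := congrArg (fun x : (P : Subgroup H) => ((x : H) : G)) hap
      simpa using this
    · have := congrArg (fun x : (P : Subgroup H) => ((x : H) : G)) hzp
      simpa using this
    · intro i j hij k hk hcomm
      have hg1 : (((a ^ i * z ^ j : (P : Subgroup H)) : H) : G) ≠ 1 := by
        intro h
        apply hne1 i j hij
        apply Subtype.ext
        apply Subtype.ext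
        exact h
      have hgH : (((a ^ i * z ^ j : (P : Subgroup H)) : H) : G) ∈ H := (a ^ i * z ^ j : (P : Subgroup H)).1.2
      have hbot := hfpf _ hgH hg1
      have hmem : k ∈ K ⊓ Subgroup.centralizer {(((a ^ i * z ^ j : (P : Subgroup H)) : H) : G)} := by
        refine Subgroup.mem_inf.2 ⟨hk, ?_⟩
        rw [Subgroup.mem_centralizer_singleton_iff]
        have := hcomm.symm
        simpa using this
      rw [hbot, Subgroup.mem_bot] at hmem
      exact hmem
  rcases Cfsg.Agent.Lib.Helper1.UniqP.cyclic_or_quat hG huniq with h | ⟨-, h⟩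
  · exact Or.inl h
  · exact Or.inr h

end Cfsg.Agent.S0040
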