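import Mathlib
import Cfsg.Statements.S0042
import Cfsg.Agent.S0033
import Cfsg.Agent.S0035
set_option autoImplicit false
open Pointwise
open Cfsg
open scoped commutatorElement

namespace Cfsg.Agent.S0042

theorem result {G : Type*} [Group G] [Finite G] (H : Subgroup G) (hH : Cfsg.IsFrobeniusComplement H) :
    ∃ N : Subgroup G, (N : Set G) = Cfsg.frobeniusKernel H ∧ N.Normal ∧ Group.IsNilpotent N := by
  obtain ⟨N, hNk, hNn, hNc⟩ := S0035.result H hH
  refine ⟨N, hNk, hNn, ?_⟩
  obtain ⟨hHbot, hHtop, hTI⟩ := hH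
  haveI := hNn
  have hcard : Nat.card H ≠ 1 := fun h => hHbot (Subgroup.card_eq_one.1 h)
  obtain ⟨p, hp, hpd⟩ := Nat.exists_prime_and_dvd hcard
  haveI : Fact p.Prime := ⟨hp⟩
  obtain ⟨h, hh⟩ := exists_prime_orderOf_dvd_card' (G := ↥H) p hpd
  have hh1 : (h : G) ≠ 1 := by
    intro h1
    have : h = 1 := Subtype.ext h1
    rw [this, orderOf_one] at hh
    exact hp.one_lt.ne hh
  have hhp : (h : G) ^ p = 1 := by
    have := pow_orderOf_eq_one h
    rw [hh] at this
    exact congrArg Subtype.val this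
  have hmemN : ∀ n : G, n ∈ N → n ≠ 1 → ∀ g : G, n ∉ MulAut.conj g • H := by
    intro n hn hn1 g
    have h1 : n ∈ (N : Set G) := hn
    rw [hNk] at h1
    rcases h1 with h1 | h1
    · exact absurd h1 hn1
    · exact h1 g
  apply S0033.aux p hp _ ↥N rfl (MulAut.conjNormal (H := N) (h : G))
  · intro n hn
    by_contra hn1
    have hn1' : (n : G) ≠ 1 := fun h' => hn1 (Subtype.ext h')
    have h2 : (h : G) * (n : G) * (h : G)⁻¹ = (n : G) := by
      have := congrArg Subtype.val hn
      exact this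
    have hnH : (n : G)⁻¹ ∈ H := by
      by_contra hnH
      have h3 := hTI (n : G)⁻¹ hnH
      have h4 : (h : G) ∈ H ⊓ MulAut.conj (n : G)⁻¹ • H := by
        refine Subgroup.mem_inf.mpr ⟨h.2, ?_⟩
        rw [Subgroup.mem_pointwise_smul_iff_inv_smul_mem]
        have e : (MulAut.conj (n : G)⁻¹)⁻¹ • (h : G) = (n : G) * (h : G) * (n : G)⁻¹ := by
          simp [MulAut.smul_def]
        rw [e]
        have e2 : (n : G) * (h : G) * (n : G)⁻¹ = (h : G) := by
          calc (n : G) * (h : G) * (n : G)⁻¹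
              = ((h : G) * (n : G) * (h : G)⁻¹) * (h : G) * (n : G)⁻¹ := by rw [h2]
            _ = (h : G) := by group
        rw [e2]; exact h.2
      rw [h3, Subgroup.mem_bot] at h4
      exact hh1 h4
    have hnH' : (n : G) ∈ H := by
      have := H.inv_mem hnH
      rwa [inv_inv] at this
    apply hmemN (n : G) n.2 hn1' 1
    rw [map_one, one_smul]
    exact hnH'
  · rw [← map_pow, hhp, map_one]

end Cfsg.Agent.S0042
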