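import Mathlib
import Cfsg.Statements.S0056
import Cfsg.Agent.S0026
import Cfsg.Agent.S0055

set_option autoImplicit false
open Cfsg

namespace Cfsg.Agent.S0056

open Subgroup Cfsg.Agent.S0026 Cfsg.Agent.S0055

theorem result {G : Type*} [Group G] [Finite G] (A V : Subgroup G) [IsMulCommutative V]
    (hAV : A ≤ Subgroup.normalizer (V : Set G)) (hcop : (Nat.card A).Coprime (Nat.card V))
    (hΩ : ∀ v ∈ V, (orderOf v).Prime → ∀ a ∈ A, a * v = v * a) : A ≤ Subgroup.centralizer (V : Set G) := by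
  have hbot : ⁅V, A⁆ = ⊥ := by
    by_contra hne
    have hcard : Nat.card ↥⁅V, A⁆ ≠ 1 := by rwa [Ne, Subgroup.card_eq_one]
    obtain ⟨q, hq, hqd⟩ := Nat.exists_prime_and_dvd hcard
    haveI : Fact q.Prime := ⟨hq⟩
    obtain ⟨x, hx⟩ := exists_prime_orderOf_dvd_card' q hqd
    have hxo : orderOf (x : G) = q := by rw [Subgroup.orderOf_coe]; exact hx
    have hxV : (x : G) ∈ V := comm_le_of_normalizes A V hAV x.2
    have hxC : (x : G) ∈ Subgroup.centralizer (A : Set G) := by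
      rw [Subgroup.mem_centralizer_iff]
      intro a ha
      exact hΩ _ hxV (hxo ▸ hq) a ha
    have hmem : (x : G) ∈ (V ⊓ Subgroup.centralizer (A : Set G)) ⊓ ⁅V, A⁆ := ⟨⟨hxV, hxC⟩, x.2⟩
    rw [inf_eq_bot A V hAV hcop, Subgroup.mem_bot] at hmem
    rw [hmem, orderOf_one] at hxo
    exact hq.one_lt.ne hxo
  exact Subgroup.le_centralizer_iff.mp (Subgroup.commutator_eq_bot_iff_le_centralizer.mp hbot)

end Cfsg.Agent.S0056
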