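import Mathlib
import Cfsg.Statements.S0540
import Cfsg.Agent.S0539

set_option autoImplicit false
open Pointwise
open Cfsg
open Cfsg.Agent.Lib.Helper2.Sub

namespace Cfsg.Agent.S0540

open Cfsg.Agent.S0538 Cfsg.Agent.S0539

theorem relSN_smul {G : Type*} [Group G] {B V : Subgroup G} (h : RelSN B V) (g : G) :
    RelSN (MulAut.conj g • B) (MulAut.conj g • V) := by
  refine ⟨Subgroup.pointwise_smul_le_pointwise_smul_iff.2 h.1, ?_⟩
  have hmem : ∀ y : ↥(MulAut.conj g • V), g⁻¹ * (y : G) * g ∈ V := by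
    intro y
    have := y.2
    rw [Subgroup.mem_pointwise_smul_iff_inv_smul_mem] at this
    simpa [MulAut.conj_apply] using this
  let φ : ↥(MulAut.conj g • V) →* ↥V :=
    { toFun := fun y => ⟨g⁻¹ * (y : G) * g, hmem y⟩
      map_one' := by ext; simp
      map_mul' := by intro a b; ext; simp; group }
  have e : (MulAut.conj g • B).subgroupOf (MulAut.conj g • V) = (B.subgroupOf V).comap φ := by
    ext y
    rw [Subgroup.mem_comap, Subgroup.mem_subgroupOf, Subgroup.mem_subgroupOf,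
      Subgroup.mem_pointwise_smul_iff_inv_smul_mem]
    simp [φ, MulAut.conj_apply]
  rw [e]
  exact h.2.comap φ

theorem relSN_conj {G : Type*} [Group G] {B V : Subgroup G} (h : RelSN B V) (v : G) (hv : v ∈ V) :
    RelSN (MulAut.conj v • B) V := by
  have := relSN_smul h v
  rwa [Subgroup.conj_smul_eq_self_of_mem hv] at this

/-- relative zipper lemma -/
theorem rel {G : Type*} [Group G] [Finite G] (V₀ A : Subgroup G) (U : Set (Subgroup G))
    (hU : U.Nonempty) (hUV : ∀ V ∈ U, V ≤ V₀) (S : Subgroup G → Set (Subgroup G))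
    (hS : ∀ V B : Subgroup G, B ∈ S V ↔ (∃ g ∈ V₀, B = MulAut.conj g • A) ∧ RelSN B V)
    (h2 : ∀ V ∈ U, ∀ W ∈ U, ∀ B ∈ S W, B ≤ V → B ∈ S V)
    (h3 : ∀ V ∈ U, ∀ W ∈ U, ∃ X ∈ U,
      Subgroup.normalizer ((sSup (S V ∩ S W) : Subgroup G) : Set G) ⊓ V₀ ≤ X) :
    ∃ M ∈ U, ∀ V ∈ U, V ≤ M := by
  by_contra hcon
  push Not at hcon
  obtain ⟨V0, hV0⟩ := hU
  obtain ⟨M1, hVM1, hM1⟩ := Finite.exists_le_maximal (p := (· ∈ U)) hV0
  obtain ⟨W, hW, hWM1⟩ := hcon M1 hM1.prop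
  obtain ⟨M2, hWM2, hM2⟩ := Finite.exists_le_maximal (p := (· ∈ U)) hW
  have hne : M1 ≠ M2 := by rintro rfl; exact hWM1 hWM2
  let P : Type _ := {p : Subgroup G × Subgroup G //
    Maximal (· ∈ U) p.1 ∧ Maximal (· ∈ U) p.2 ∧ p.1 ≠ p.2}
  haveI : Nonempty P := ⟨⟨(M1, M2), hM1, hM2, hne⟩⟩
  obtain ⟨⟨⟨U1, U2⟩, hU1, hU2, hU12⟩, hmax⟩ :=
    Finite.exists_max (fun p : P => (S p.1.1 ∩ S p.1.2).ncard)
  simp only at hU1 hU2 hU12 hmax
  obtain ⟨X, hX, hNX⟩ := h3 U1 hU1.prop U2 hU2.prop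
  obtain ⟨M, hXM, hM⟩ := Finite.exists_le_maximal (p := (· ∈ U)) hX
  have hNM := hNX.trans hXM
  have hconjS : ∀ V, V ≤ V₀ → ∀ B ∈ S V, ∀ v ∈ V, MulAut.conj v • B ∈ S V := by
    intro V hV B hB v hv
    rw [hS] at hB ⊢
    obtain ⟨⟨g, hg, rfl⟩, hBV⟩ := hB
    refine ⟨⟨v * g, V₀.mul_mem (hV hv) hg, ?_⟩, relSN_conj hBV v hv⟩
    rw [map_mul, mul_smul]
  have claim : ∀ Ui, Maximal (· ∈ U) Ui → S U1 ∩ S U2 ⊆ S Ui →
      (Ui ≠ M → (S Ui ∩ S M).ncard ≤ (S U1 ∩ S U2).ncard) → Ui = M := by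
    intro Ui hUi hsub hnc
    by_contra hneM
    have hUiV := hUV Ui hUi.prop
    have hsubM : S U1 ∩ S U2 ⊆ S M := by
      intro B hB
      have hBUi := hsub hB
      apply h2 M hM.prop Ui hUi.prop B hBUi
      apply le_trans _ hNM
      refine le_inf ((le_sSup hB).trans Subgroup.le_normalizer) ?_
      exact (((hS Ui B).1 hBUi).2.1).trans hUiV
    by_cases heq : S U1 ∩ S U2 = S Ui
    · apply hneM
      apply hUi.eq_of_le hM.prop
      apply le_trans _ hNM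
      refine le_inf ?_ hUiV
      intro u hu
      rw [mem_normalizer_iff_smul]
      apply smul_eq_of_le
      rw [Subgroup.pointwise_smul_subset_iff]
      apply sSup_le
      intro Y hY
      rw [← Subgroup.pointwise_smul_subset_iff]
      apply le_sSup
      rw [heq] at hY ⊢
      exact hconjS Ui hUiV Y hY u hu
    · have hss : S U1 ∩ S U2 ⊂ S Ui := lt_of_le_of_ne hsub heq
      obtain ⟨Y, hY, hY0, hYn⟩ := Cfsg.Agent.S0539.rel Ui (S Ui) (S U1 ∩ S U2)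
        (fun B hB => ((hS Ui B).1 hB).2) (fun B hB g hg => hconjS Ui hUiV B hB g hg) hss
      have hYM : Y ∈ S M := by
        apply h2 M hM.prop Ui hUi.prop Y hY
        apply le_trans _ hNM
        exact le_inf hYn ((((hS Ui Y).1 hY).2.1).trans hUiV)
      have hlt : (S U1 ∩ S U2).ncard < (S Ui ∩ S M).ncard := by
        apply Set.ncard_lt_ncard _ (Set.toFinite _)
        refine ⟨fun B hB => ⟨hsub hB, hsubM hB⟩, ?_⟩
        intro hcon2
        exact hY0 (hcon2 ⟨hY, hYM⟩)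
      exact absurd (hnc hneM) (not_le.2 hlt)
  have e1 : U1 = M := claim U1 hU1 Set.inter_subset_left
    (fun hneM => hmax ⟨(U1, M), hU1, hM, hneM⟩)
  have e2 : U2 = M := by
    apply claim U2 hU2 Set.inter_subset_right
    intro hneM
    have := hmax ⟨(U2, M), hU2, hM, hneM⟩
    exact this
  exact hU12 (e1.trans e2.symm)

theorem result {G : Type*} [Group G] [Finite G] (A : Subgroup G) (U : Set (Subgroup G)) (hU : U.Nonempty) (S : Subgroup G → Set (Subgroup G)) (hS : ∀ V B : Subgroup G, B ∈ S V ↔ (∃ g : G, B = MulAut.conj g • A) ∧ B ≤ V ∧ (B.subgroupOf V).IsSubnormal) (h1 : ∀ V ∈ U, A ∈ S V) (h2 : ∀ V ∈ U, ∀ W ∈ U, ∀ B ∈ S W, B ≤ V → B ∈ S V) (h3 : ∀ V ∈ U, ∀ W ∈ U, ∃ X ∈ U, Subgroup.normalizer ((sSup (S V ∩ S W) : Subgroup G) : Set G) ≤ X) : ∃ M ∈ U, ∀ V ∈ U, V ≤ M := by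
  apply rel ⊤ A U hU (fun V _ => le_top) S _ h2
  · intro V hV W hW
    obtain ⟨X, hX, hle⟩ := h3 V hV W hW
    exact ⟨X, hX, inf_le_left.trans hle⟩
  · intro V B
    rw [hS]
    simp [RelSN]

end Cfsg.Agent.S0540
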