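import Mathlib
import Cfsg.Statements.S0067
import Cfsg.Agent.S0066
import Cfsg.Agent.Lib.Helper2.Fit

set_option autoImplicit false
open Pointwise
open Cfsg
open Cfsg.Agent.Lib.Helper2.Sub

namespace Cfsg.Agent.S0067

theorem sn_of_nilp_aux {G : Type*} [Group G] [Finite G] [Group.IsNilpotent G] (n : ℕ) :
    ∀ H : Subgroup G, Nat.card G - Nat.card H = n → H.IsSubnormal := by
  induction n using Nat.strong_induction_on with
  | _ n ih =>
  intro H hn
  by_cases hH : H = ⊤
  · subst hH; exact Subgroup.IsSubnormal.top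
  have hnc := normalizerCondition_of_isNilpotent (G := G)
  have hlt : H < Subgroup.normalizer (H : Set G) := hnc H (lt_top_iff_ne_top.2 hH)
  have hc1 : Nat.card H < Nat.card (Subgroup.normalizer (H : Set G)) := card_lt_of_ne hlt.le hlt.ne
  have hc2 := Subgroup.card_le_card_group (Subgroup.normalizer (H : Set G))
  have h1 : (Subgroup.normalizer (H : Set G)).IsSubnormal := ih _ (by omega) _ rfl
  exact (RelSN.of_normal hlt.le le_rfl).isSubnormal h1

theorem subnormal_of_nilpotent {G : Type*} [Group G] [Finite G] [Group.IsNilpotent G]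
    (H : Subgroup G) : H.IsSubnormal := sn_of_nilp_aux _ H rfl

theorem result {G : Type*} [Group G] [Finite G] (A : Subgroup G)
    (h : ∀ g : G, Group.IsNilpotent (A ⊔ MulAut.conj g • A : Subgroup G)) : A.IsSubnormal ∧ A ≤ Cfsg.fittingSubgroup G := by
  have hA : A.IsSubnormal := by
    apply Cfsg.Agent.S0066.result
    intro g
    haveI := h g
    exact subnormal_of_nilpotent _
  refine ⟨hA, ?_⟩
  apply Cfsg.Agent.Lib.Helper2.Fit.sn_nilpotent_le_fitting hA
  haveI := h 1
  have h1 : Group.IsNilpotent ↥(A.subgroupOf (A ⊔ MulAut.conj (1 : G) • A)) := inferInstance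
  exact Group.nilpotent_of_mulEquiv (Subgroup.subgroupOfEquivOfLe (le_sup_left : A ≤ A ⊔ MulAut.conj (1 : G) • A))

end Cfsg.Agent.S0067
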