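import Mathlib
import Cfsg.Statements.S4039
import Cfsg.Agent.S4040
set_option autoImplicit false
open Pointwise
open Cfsg
open scoped commutatorElement

namespace Cfsg.Agent.S4039

theorem mem_cj {G : Type*} [Group G] (g : G) (X : Subgroup G) (x : G) :
    x ∈ MulAut.conj g • X ↔ g⁻¹ * x * g ∈ X := by
  rw [Subgroup.mem_pointwise_smul_iff_inv_smul_mem]
  simp [MulAut.smul_def]

theorem two_case {G : Type*} [Group G] [Finite G] (M : Subgroup G) (hmax : IsCoatom M)
    (hcore : M.normalCore = ⊥)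
    (hcl : ∀ a ∈ M, ∀ b ∈ M, ∀ c ∈ M, ⁅⁅a, b⁆, c⁆ = 1)
    (P' : Sylow 2 G) (hPM : (P' : Subgroup G) ≤ M)
    (hMP : M ≤ Subgroup.normalizer ((P' : Subgroup G) : Set G))
    (hP2 : ∀ x ∈ M, (∃ k : ℕ, x ^ (2 ^ k) = 1) → x ∈ (P' : Subgroup G))
    (hPne : (P' : Subgroup G) ≠ ⊥) :
    ∃ Kp : Subgroup G, Kp.Normal ∧ (Nat.card Kp).Coprime 2 ∧ ∃ j : ℕ, Kp.index = 2 ^ j := by
  classical
  obtain ⟨P, hP⟩ : ∃ P : Subgroup G, P = (P' : Subgroup G) := ⟨_, rfl⟩
  rw [← hP] at hPM hMP hP2 hPne
  have hPp : IsPGroup 2 P := hP ▸ P'.2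
  have hnormX : ∀ X : Subgroup G, X ≠ ⊥ → X ≤ M → M ≤ Subgroup.normalizer (X : Set G) →
      Subgroup.normalizer (X : Set G) = M := by
    intro X hXne hXM hMX
    rcases eq_or_lt_of_le hMX with h | h
    · exact h.symm
    · exfalso
      have htop := hmax.2 _ h
      haveI : X.Normal := Subgroup.normalizer_eq_top_iff.mp htop
      have := (Subgroup.normal_le_normalCore (H := M) (N := X)).2 hXM
      rw [hcore] at this
      exact hXne (le_bot_iff.1 this)
  have hMne : M ≠ ⊥ := fun h => hPne (le_bot_iff.1 (h ▸ hPM))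
  have hNM : Subgroup.normalizer (M : Set G) = M :=
    hnormX M hMne le_rfl Subgroup.le_normalizer
  have hconjP : ∀ m ∈ M, ∀ x ∈ P, m * x * m⁻¹ ∈ P :=
    fun m hm x hx => (Subgroup.mem_normalizer_iff.1 (hMP hm) x).1 hx
  have hcomm : ∀ m ∈ M, ∀ x ∈ P, ⁅m, x⁆ ∈ P ⊓ Subgroup.centralizer (M : Set G) := by
    intro m hm x hx
    refine Subgroup.mem_inf.mpr ⟨?_, ?_⟩
    · rw [commutatorElement_def]
      exact P.mul_mem (hconjP m hm x hx) (P.inv_mem hx)
    · rw [Subgroup.mem_centralizer_iff]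
      intro c hc
      have := hcl m hm x (hPM hx) c hc
      rw [commutatorElement_eq_one_iff_commute] at this
      exact this.eq.symm
  obtain ⟨Z, hZ⟩ : ∃ Z : Subgroup G, Z = P ⊓ Subgroup.centralizer (P : Set G) := ⟨_, rfl⟩
  have hZP : Z ≤ P := hZ ▸ inf_le_left
  have hZc : ∀ z ∈ Z, ∀ x ∈ P, x * z = z * x := by
    intro z hz x hx
    rw [hZ] at hz
    exact (Subgroup.mem_centralizer_iff.1 (Subgroup.mem_inf.1 hz).2) x hx
  have hZne : Z ≠ ⊥ := by
    haveI : Nontrivial ↥P := (Subgroup.nontrivial_iff_ne_bot P).2 hPne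
    haveI := hPp.center_nontrivial
    obtain ⟨z, hz⟩ := exists_ne (1 : Subgroup.center ↥P)
    intro h
    have hmem : ((z : ↥P) : G) ∈ Z := by
      rw [hZ]
      refine Subgroup.mem_inf.mpr ⟨(z : ↥P).2, ?_⟩
      rw [Subgroup.mem_centralizer_iff]
      intro y hy
      have := Subgroup.mem_center_iff.1 z.2 ⟨y, hy⟩
      exact congrArg Subtype.val this
    rw [h, Subgroup.mem_bot] at hmem
    apply hz
    apply Subtype.ext; apply Subtype.ext; exact hmem
  have hMZ : ∀ m ∈ M, ∀ z ∈ Z, m * z * m⁻¹ ∈ Z := by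
    intro m hm z hz
    rw [hZ]
    refine Subgroup.mem_inf.mpr ⟨hconjP m hm z (hZP hz), ?_⟩
    rw [Subgroup.mem_centralizer_iff]
    intro x hx
    have hx' : m⁻¹ * x * m ∈ P := by
      have := hconjP m⁻¹ (M.inv_mem hm) x hx
      simpa using this
    have h1 := hZc z hz _ hx'
    calc x * (m * z * m⁻¹) = m * ((m⁻¹ * x * m) * z) * m⁻¹ := by group
      _ = m * (z * (m⁻¹ * x * m)) * m⁻¹ := by rw [h1]
      _ = m * z * m⁻¹ * x := by group
  have hMNZ : M ≤ Subgroup.normalizer (Z : Set G) :=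
    fun m hm => S0650.norm_of_conj Z m (hMZ m hm)
  have hNZ := hnormX Z hZne (hZP.trans hPM) hMNZ
  have hcomZ : ∀ m ∈ M, ∀ x ∈ P, ⁅m, x⁆ ∈ Z := by
    intro m hm x hx
    have h1 := hcomm m hm x hx
    rw [hZ]
    refine Subgroup.mem_inf.mpr ⟨(Subgroup.mem_inf.1 h1).1, ?_⟩
    exact Subgroup.centralizer_le (show (P : Set G) ⊆ M from hPM) (Subgroup.mem_inf.1 h1).2
  have hWC : ∀ g : G, (∀ z ∈ Z, g * z * g⁻¹ ∈ P) → g ∈ M := by
    intro g hg
    by_contra hgM
    have h2 : ∀ z ∈ Z, g⁻¹ * z * g ∈ P := by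
      intro z hz
      have hM' : g⁻¹ * z * g ∈ M := by
        rw [← hNZ]
        apply Subgroup.centralizer_le_normalizer
        rw [Subgroup.mem_centralizer_iff]
        intro z' hz'
        have h3 := hZc z hz _ (hg z' hz')
        calc z' * (g⁻¹ * z * g) = g⁻¹ * ((g * z' * g⁻¹) * z) * g := by group
          _ = g⁻¹ * (z * (g * z' * g⁻¹)) * g := by rw [h3]
          _ = g⁻¹ * z * g * z' := by group
      apply hP2 _ hM'
      obtain ⟨k, hk⟩ := hPp ⟨z, hZP hz⟩
      have hk' : z ^ (2 ^ k) = 1 := congrArg Subtype.val hk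
      refine ⟨k, ?_⟩
      have h5 : (g⁻¹ * z * g) ^ (2 ^ k) = g⁻¹ * z ^ (2 ^ k) * g := by
        have := conj_pow (a := g⁻¹) (b := z) (i := 2 ^ k)
        simpa using this
      rw [h5, hk']; group
    obtain ⟨A, hA⟩ : ∃ A : Subgroup G, A = Z ⊔ MulAut.conj g • Z := ⟨_, rfl⟩
    have hAP : A ≤ P := by
      rw [hA]; apply sup_le hZP
      intro x hx
      have hx' : x ∈ MulAut.conj g • Z := hx
      rw [mem_cj] at hx'
      have := hg _ hx'
      have e : g * (g⁻¹ * x * g) * g⁻¹ = x := by group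
      rwa [e] at this
    have hMA : ∀ m ∈ M, ∀ x ∈ A, m * x * m⁻¹ ∈ A := by
      intro m hm x hx
      have hmap : A.map (MulAut.conj m).toMonoidHom ≤ A := by
        rw [hA, Subgroup.map_sup]
        apply sup_le
        · rintro _ ⟨z, hz, rfl⟩
          exact Subgroup.mem_sup_left (hMZ m hm z hz)
        · rintro _ ⟨y, hy, rfl⟩
          have hyP : y ∈ P := hAP (hA ▸ Subgroup.mem_sup_right hy)
          have h3 : m * y * m⁻¹ = ⁅m, y⁆ * y := by rw [commutatorElement_def]; group
          show m * y * m⁻¹ ∈ Z ⊔ MulAut.conj g • Z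
          rw [h3]
          exact Subgroup.mul_mem _ (Subgroup.mem_sup_left (hcomZ m hm y hyP))
            (Subgroup.mem_sup_right hy)
      exact hmap ⟨x, hx, rfl⟩
    have hMgA : ∀ m ∈ M, ∀ x ∈ A, (g * m * g⁻¹) * x * (g * m * g⁻¹)⁻¹ ∈ A := by
      intro m hm x hx
      have hmap : A.map (MulAut.conj (g * m * g⁻¹)).toMonoidHom ≤ A := by
        rw [hA, Subgroup.map_sup]
        apply sup_le
        · rintro _ ⟨z, hz, rfl⟩
          show (g * m * g⁻¹) * z * (g * m * g⁻¹)⁻¹ ∈ Z ⊔ MulAut.conj g • Z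
          have hx' := h2 z hz
          have h3 : (g * m * g⁻¹) * z * (g * m * g⁻¹)⁻¹ =
              (g * ⁅m, g⁻¹ * z * g⁆ * g⁻¹) * z := by
            rw [commutatorElement_def]; group
          rw [h3]
          refine Subgroup.mul_mem _ (Subgroup.mem_sup_right ?_) (Subgroup.mem_sup_left hz)
          rw [mem_cj]
          have e : g⁻¹ * (g * ⁅m, g⁻¹ * z * g⁆ * g⁻¹) * g = ⁅m, g⁻¹ * z * g⁆ := by group
          rw [e]; exact hcomZ m hm _ hx'
        · rintro _ ⟨y, hy0, rfl⟩
          have hy : y ∈ MulAut.conj g • Z := hy0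
          show (g * m * g⁻¹) * y * (g * m * g⁻¹)⁻¹ ∈ Z ⊔ MulAut.conj g • Z
          apply Subgroup.mem_sup_right
          rw [mem_cj] at hy ⊢
          have e : g⁻¹ * ((g * m * g⁻¹) * y * (g * m * g⁻¹)⁻¹) * g =
              m * (g⁻¹ * y * g) * m⁻¹ := by group
          rw [e]; exact hMZ m hm _ hy
      exact hmap ⟨x, hx, rfl⟩
    have hMNA : M ≤ Subgroup.normalizer (A : Set G) :=
      fun m hm => S0650.norm_of_conj A m (hMA m hm)
    have hANe : A ≠ ⊥ := fun h => hZne (le_bot_iff.1 (h ▸ (hA ▸ le_sup_left : Z ≤ A)))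
    have hNA := hnormX A hANe (hAP.trans hPM) hMNA
    have hgN : g ∈ Subgroup.normalizer (M : Set G) := by
      apply S0650.norm_of_conj
      intro m hm
      rw [← hNA]
      exact S0650.norm_of_conj A _ (hMgA m hm)
    rw [hNM] at hgN
    exact hgM hgN
  have hfus : ∀ x ∈ P, ∀ u : G, u * x * u⁻¹ ∈ P → ∃ m ∈ M, u * x * u⁻¹ = m * x * m⁻¹ := by
    intro x hx u hu
    obtain ⟨C, hC⟩ : ∃ C : Subgroup G, C = Subgroup.centralizer ({x} : Set G) := ⟨_, rfl⟩
    have hCmem : ∀ y, y ∈ C ↔ x * y = y * x := by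
      intro y; rw [hC, Subgroup.mem_centralizer_iff]; simp
    have hZC : Z ≤ C := fun z hz => (hCmem z).2 (hZc z hz x hx)
    obtain ⟨Z₂, hZ₂⟩ : ∃ Z₂ : Subgroup G, Z₂ = MulAut.conj u⁻¹ • Z := ⟨_, rfl⟩
    have hZ₂mem : ∀ y, y ∈ Z₂ ↔ u * y * u⁻¹ ∈ Z := by
      intro y; rw [hZ₂, mem_cj]; simp
    have hZ₂C : Z₂ ≤ C := by
      intro y hy
      rw [hZ₂mem] at hy
      rw [hCmem]
      have h1 := hZc _ hy _ hu
      calc x * y = u⁻¹ * ((u * x * u⁻¹) * (u * y * u⁻¹)) * u := by group
        _ = u⁻¹ * ((u * y * u⁻¹) * (u * x * u⁻¹)) * u := by rw [h1]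
        _ = y * x := by group
    have hZp : IsPGroup 2 Z := hPp.to_le hZP
    have hZ2p : IsPGroup 2 Z₂ := by
      rw [hZ₂, Subgroup.pointwise_smul_def]; exact hZp.map _
    obtain ⟨S₁, hS₁⟩ := (hZp.comap_subtype (K := C)).exists_le_sylow
    obtain ⟨S₂, hS₂⟩ := (hZ2p.comap_subtype (K := C)).exists_le_sylow
    obtain ⟨c, hc⟩ := MulAction.exists_smul_eq C S₂ S₁
    obtain ⟨Q, hQ⟩ := (S₁.2.map C.subtype).exists_le_sylow
    obtain ⟨h, hh⟩ := MulAction.exists_smul_eq G P' Q
    have hTconj : ∀ t : ↥C, t ∈ (S₁ : Subgroup ↥C) → h⁻¹ * (t : G) * h ∈ P := by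
      intro t ht
      have := hQ ⟨t, ht, rfl⟩
      rw [← hh, Sylow.coe_subgroup_smul, mem_cj] at this
      rw [hP]; exact this
    have hhM : h ∈ M := by
      have : h⁻¹ ∈ M := by
        apply hWC
        intro z hz
        have := hTconj ⟨z, hZC hz⟩ (hS₁ (Subgroup.mem_subgroupOf.2 hz))
        simpa using this
      simpa using M.inv_mem this
    have hTP : ∀ t : ↥C, t ∈ (S₁ : Subgroup ↥C) → (t : G) ∈ P := by
      intro t ht
      have := hconjP h hhM _ (hTconj t ht)
      have e : h * (h⁻¹ * (t : G) * h) * h⁻¹ = t := by group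
      rwa [e] at this
    have hcu : (c : G) * u⁻¹ ∈ M := by
      apply hWC
      intro z hz
      have hy : u⁻¹ * z * u ∈ Z₂ := by
        rw [hZ₂mem]
        have e : u * (u⁻¹ * z * u) * u⁻¹ = z := by group
        rw [e]; exact hz
      have h1 : (⟨u⁻¹ * z * u, hZ₂C hy⟩ : ↥C) ∈ (S₂ : Subgroup ↥C) :=
        hS₂ (Subgroup.mem_subgroupOf.2 hy)
      have h2 : c * (⟨u⁻¹ * z * u, hZ₂C hy⟩ : ↥C) * c⁻¹ ∈ (S₁ : Subgroup ↥C) := by
        rw [← hc, Sylow.coe_subgroup_smul, mem_cj]
        have e : c⁻¹ * (c * (⟨u⁻¹ * z * u, hZ₂C hy⟩ : ↥C) * c⁻¹) * c =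
            (⟨u⁻¹ * z * u, hZ₂C hy⟩ : ↥C) := by group
        rw [e]; exact h1
      have h3 := hTP _ h2
      have e : ((c * (⟨u⁻¹ * z * u, hZ₂C hy⟩ : ↥C) * c⁻¹ : ↥C) : G) =
          (c : G) * u⁻¹ * z * ((c : G) * u⁻¹)⁻¹ := by
        push_cast
        group
      rw [e] at h3
      exact h3
    refine ⟨u * (c : G)⁻¹, ?_, ?_⟩
    · have := M.inv_mem hcu
      simpa using this
    · have hcx : x * (c : G) = (c : G) * x := (hCmem _).1 c.2
      have hcx' : (c : G)⁻¹ * x * (c : G) = x := by rw [mul_assoc, hcx]; group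
      calc u * x * u⁻¹ = u * ((c : G)⁻¹ * x * (c : G)) * u⁻¹ := by rw [hcx']
        _ = u * (c : G)⁻¹ * x * (u * (c : G)⁻¹)⁻¹ := by group
  obtain ⟨F, hF⟩ : ∃ F : Subgroup G, F = (P' : Subgroup G).focalSubgroup := ⟨_, rfl⟩
  have hFle : F ≤ P ⊓ Subgroup.centralizer (M : Set G) := by
    rw [hF, Subgroup.focalSubgroup_def, Subgroup.closure_le]
    rintro g ⟨hgP, x, hxP, u, rfl⟩
    rw [← hP] at hgP hxP
    have h1 : u * x * u⁻¹ ∈ P := by
      have h2 : u * x * u⁻¹ = (x⁻¹ * ⁅x, u⁆)⁻¹ := by rw [commutatorElement_def]; group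
      rw [h2]; exact P.inv_mem (P.mul_mem (P.inv_mem hxP) hgP)
    obtain ⟨m, hm, hmx⟩ := hfus x hxP u h1
    have h3 : ⁅x, u⁆ = (⁅m, x⁆)⁻¹ := by
      rw [commutatorElement_def, commutatorElement_def]
      have : x * u * x⁻¹ * u⁻¹ = x * (u * x * u⁻¹)⁻¹ := by group
      rw [this, hmx]; group
    rw [h3]
    exact Subgroup.inv_mem _ (hcomm m hm x hxP)
  obtain ⟨K, hK⟩ : ∃ K : Subgroup G, K = (P' : Subgroup G).transferFocal.ker := ⟨_, rfl⟩
  haveI hKn : K.Normal := by rw [hK]; infer_instance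
  have hKP : K ⊓ P = F := by
    rw [hP, hF, hK]; exact Subgroup.ker_transferFocal_inf_eq_focalSubgroup P'
  have hKidx : ∃ i : ℕ, K.index = 2 ^ i := by
    have h1 : K.index = Nat.card (↥(P' : Subgroup G) ⧸ (P' : Subgroup G).focalSubgroupOf) := by
      rw [hK, Subgroup.index_ker,
        MonoidHom.range_eq_top.2 (Subgroup.transferFocal_surjective P')]
      exact Subgroup.card_top
    have hq : IsPGroup 2 (↥(P' : Subgroup G) ⧸ (P' : Subgroup G).focalSubgroupOf) :=
      P'.2.to_quotient _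
    obtain ⟨i, hi⟩ := IsPGroup.iff_card.1 hq
    exact ⟨i, h1.trans hi⟩
  obtain ⟨S⟩ : Nonempty (Sylow 2 ↥K) := inferInstance
  have hS : Subgroup.normalizer ((S : Subgroup ↥K) : Set ↥K) ≤
      Subgroup.centralizer ((S : Subgroup ↥K) : Set ↥K) := by
    intro k hk
    rw [Subgroup.mem_centralizer_iff]
    intro s hs
    obtain ⟨Q, hQ⟩ := (S.2.map K.subtype).exists_le_sylow
    obtain ⟨h, hh⟩ := MulAction.exists_smul_eq G P' Q
    have hconj : ∀ t : ↥K, t ∈ (S : Subgroup ↥K) →
        h⁻¹ * (t : G) * h ∈ P ⊓ Subgroup.centralizer (M : Set G) := by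
      intro t ht
      apply hFle
      rw [← hKP]
      refine Subgroup.mem_inf.mpr ⟨?_, ?_⟩
      · have := hKn.conj_mem _ t.2 h⁻¹
        simpa using this
      · have := hQ ⟨t, ht, rfl⟩
        rw [← hh, Sylow.coe_subgroup_smul, mem_cj] at this
        rw [hP]; exact this
    by_cases hSb : (S : Subgroup ↥K) = ⊥
    · have hs' : s ∈ (S : Subgroup ↥K) := hs
      rw [hSb, Subgroup.mem_bot] at hs'
      rw [hs']; simp
    obtain ⟨Sz, hSz⟩ : ∃ Sz : Subgroup G,
        Sz = MulAut.conj h⁻¹ • ((S : Subgroup ↥K).map K.subtype) := ⟨_, rfl⟩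
    have hSzmem : ∀ y, y ∈ Sz ↔ ∃ t : ↥K, t ∈ (S : Subgroup ↥K) ∧ y = h⁻¹ * (t : G) * h := by
      intro y
      rw [hSz, mem_cj]
      constructor
      · rintro ⟨t, ht, hty⟩
        refine ⟨t, ht, ?_⟩
        have hty' : (t : G) = h⁻¹⁻¹ * y * h⁻¹ := hty
        rw [hty']; group
      · rintro ⟨t, ht, rfl⟩
        refine ⟨t, ht, ?_⟩
        show (t : G) = h⁻¹⁻¹ * (h⁻¹ * (t : G) * h) * h⁻¹
        group
    have hSzle : Sz ≤ P ⊓ Subgroup.centralizer (M : Set G) := by
      intro y hy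
      obtain ⟨t, ht, rfl⟩ := (hSzmem y).1 hy
      exact hconj t ht
    have hSzne : Sz ≠ ⊥ := by
      intro hb
      apply hSb
      rw [eq_bot_iff]
      intro t ht
      have h1 : h⁻¹ * (t : G) * h ∈ Sz := (hSzmem _).2 ⟨t, ht, rfl⟩
      rw [hb, Subgroup.mem_bot] at h1
      rw [Subgroup.mem_bot]
      apply Subtype.ext
      have e : (t : G) = h * (h⁻¹ * (t : G) * h) * h⁻¹ := by group
      rw [e, h1]; simp
    have hMSz : M ≤ Subgroup.normalizer (Sz : Set G) := by
      intro m hm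
      apply Subgroup.centralizer_le_normalizer
      rw [Subgroup.mem_centralizer_iff]
      intro y hy
      exact ((Subgroup.mem_centralizer_iff.1 (Subgroup.mem_inf.1 (hSzle hy)).2) m hm).symm
    have hNSz := hnormX Sz hSzne (hSzle.trans (inf_le_left.trans hPM)) hMSz
    have hkz : h⁻¹ * (k : G) * h ∈ M := by
      rw [← hNSz]
      apply S0650.norm_of_conj
      intro y hy
      rw [hSzmem] at hy ⊢
      obtain ⟨t, ht, rfl⟩ := hy
      refine ⟨k * t * k⁻¹, (Subgroup.mem_normalizer_iff.1 hk t).1 ht, ?_⟩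
      push_cast
      group
    have hsz := (Subgroup.mem_inf.1 (hconj s hs)).2
    have h4 := Subgroup.mem_centralizer_iff.1 hsz _ hkz
    apply Subtype.ext
    show (s : G) * (k : G) = (k : G) * (s : G)
    have : (k : G) * (s : G) = (s : G) * (k : G) := by
      calc (k : G) * s = h * ((h⁻¹ * k * h) * (h⁻¹ * s * h)) * h⁻¹ := by group
        _ = h * ((h⁻¹ * s * h) * (h⁻¹ * k * h)) * h⁻¹ := by rw [h4]
        _ = s * k := by group
    exact this.symm
  have hc := MonoidHom.ker_transferSylow_isComplement' S hS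
  obtain ⟨L₀, hL₀⟩ : ∃ L₀ : Subgroup ↥K, L₀ = (MonoidHom.transferSylow S hS).ker := ⟨_, rfl⟩
  haveI hL₀n : L₀.Normal := by rw [hL₀]; infer_instance
  rw [← hL₀] at hc
  have hL₀odd : (Nat.card L₀).Coprime 2 := by
    have h2 := S.not_dvd_index
    have h1 := hc.index_eq_card
    rw [h1] at h2
    exact ((Nat.Prime.coprime_iff_not_dvd Nat.prime_two).mpr h2).symm
  obtain ⟨l, hl⟩ := IsPGroup.iff_card.1 S.2
  have hL₀idx : L₀.index = 2 ^ l := hc.symm.index_eq_card.trans hl
  refine ⟨L₀.map K.subtype, ?_, ?_, ?_⟩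
  · constructor
    rintro _ ⟨y, hy, rfl⟩ g
    have hgK : g * (y : G) * g⁻¹ ∈ K := hKn.conj_mem _ y.2 g
    refine ⟨⟨g * (y : G) * g⁻¹, hgK⟩, ?_, rfl⟩
    apply Lib.Helper1.Frob.mem_of_coprime_of_index L₀ hL₀idx
    have ho : orderOf (⟨g * (y : G) * g⁻¹, hgK⟩ : ↥K) = orderOf y := by
      rw [← Subgroup.orderOf_coe, ← Subgroup.orderOf_coe]
      exact MulEquiv.orderOf_eq (MulAut.conj g) (y : G)
    rw [ho]
    exact Nat.Coprime.coprime_dvd_left (Subgroup.orderOf_dvd_natCard L₀ hy) hL₀odd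
  · rw [S0658.card_map_subtype]; exact hL₀odd
  · obtain ⟨i, hi⟩ := hKidx
    refine ⟨l + i, ?_⟩
    rw [Subgroup.index_map_subtype, hL₀idx, hi, pow_add]

universe u

theorem aux : ∀ (n : ℕ) (G : Type u) [Group G] [Finite G], Nat.card G = n → ∀ (M : Subgroup G),
    IsCoatom M → Group.IsNilpotent M →
    (∀ a ∈ M, ∀ b ∈ M, ∀ c ∈ M, ⁅⁅a, b⁆, c⁆ = 1) → Group.IsSolvable G := by
  intro n
  induction n using Nat.strong_induction_on with
  | _ n ih =>
    intro G _ _ hn M hmax hnil hcl
    haveI := hnil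
    by_cases hcore : M.normalCore = ⊥
    swap
    · obtain ⟨N, hN⟩ : ∃ N, N = M.normalCore := ⟨_, rfl⟩
      haveI hNn : N.Normal := by rw [hN]; infer_instance
      have hNM : N ≤ M := hN ▸ Subgroup.normalCore_le M
      have hNne : N ≠ ⊥ := hN ▸ hcore
      have hlt : Nat.card (G ⧸ N) < n := by
        rw [← hn, ← S0003.card_quot N]
        have h1 : 1 < Nat.card N := (Subgroup.one_lt_card_iff_ne_bot N).2 hNne
        have h2 : 0 < Nat.card (G ⧸ N) := Nat.card_pos
        nlinarith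
      have hM' := S4040.coatom_map N M hNM hmax
      haveI : Group.IsNilpotent ↥(M.map (QuotientGroup.mk' N)) :=
        nilpotent_of_surjective ((QuotientGroup.mk' N).subgroupMap M)
          (MonoidHom.subgroupMap_surjective _ _)
      have hcl' : ∀ a ∈ M.map (QuotientGroup.mk' N), ∀ b ∈ M.map (QuotientGroup.mk' N),
          ∀ c ∈ M.map (QuotientGroup.mk' N), ⁅⁅a, b⁆, c⁆ = 1 := by
        rintro _ ⟨a, ha, rfl⟩ _ ⟨b, hb, rfl⟩ _ ⟨c, hc, rfl⟩
        rw [← map_commutatorElement, ← map_commutatorElement, hcl a ha b hb c hc, map_one]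
      haveI := ih _ hlt (G ⧸ N) rfl _ hM' inferInstance hcl'
      haveI : Group.IsSolvable ↥N :=
        solvable_of_solvable_injective (Subgroup.inclusion_injective hNM)
      exact Group.isSolvable_of_ker_le_range N.subtype (QuotientGroup.mk' N)
        (by rw [QuotientGroup.ker_mk', Subgroup.range_subtype])
    · have hnormX : ∀ X : Subgroup G, X ≠ ⊥ → X ≤ M → M ≤ Subgroup.normalizer (X : Set G) →
          Subgroup.normalizer (X : Set G) = M := by
        intro X hXne hXM hMX
        rcases eq_or_lt_of_le hMX with h | h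
        · exact h.symm
        · exfalso
          have htop := hmax.2 _ h
          haveI : X.Normal := Subgroup.normalizer_eq_top_iff.mp htop
          have := (Subgroup.normal_le_normalCore (H := M) (N := X)).2 hXM
          rw [hcore] at this
          exact hXne (le_bot_iff.1 this)
      have hKp : ∀ p : ↥(Nat.card M).primeFactors, ∃ Kp : Subgroup G, Kp.Normal ∧
          (Nat.card Kp).Coprime p.1 ∧ ∃ j : ℕ, Kp.index = p.1 ^ j := by
        rintro ⟨p, hpm⟩
        have hp : p.Prime := Nat.prime_of_mem_primeFactors hpm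
        haveI : Fact p.Prime := ⟨hp⟩
        have hpdvd : p ∣ Nat.card M := Nat.dvd_of_mem_primeFactors hpm
        obtain ⟨P₀⟩ : Nonempty (Sylow p ↥M) := inferInstance
        have hsyl : ∀ (r : ℕ) (_ : Fact r.Prime) (R : Sylow r ↥M), (R : Subgroup ↥M).Normal :=
          ((Group.isNilpotent_of_finite_tfae (G := ↥M)).out 0 3).1 hnil
        have hP₀n : (P₀ : Subgroup ↥M).Normal := hsyl p ⟨hp⟩ P₀
        obtain ⟨P, hP⟩ : ∃ P : Subgroup G, P = (P₀ : Subgroup ↥M).map M.subtype := ⟨_, rfl⟩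
        have hPM : P ≤ M := by rw [hP]; exact Subgroup.map_subtype_le _
        have hPp : IsPGroup p P := by rw [hP]; exact P₀.2.map _
        have hPne : P ≠ ⊥ := by
          intro hb
          rw [hP] at hb
          exact (P₀.ne_bot_of_dvd_card hpdvd)
            ((Subgroup.map_eq_bot_iff_of_injective _ M.subtype_injective).1 hb)
        have hMP : M ≤ Subgroup.normalizer (P : Set G) := by
          intro m hm
          apply S0650.norm_of_conj
          intro x hx
          rw [hP] at hx ⊢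
          obtain ⟨x', hx', rfl⟩ := hx
          exact ⟨⟨m, hm⟩ * x' * ⟨m, hm⟩⁻¹, hP₀n.conj_mem x' hx' ⟨m, hm⟩, rfl⟩
        have hNP := hnormX P hPne hPM hMP
        obtain ⟨P', hPP'⟩ := hPp.exists_le_sylow
        have hPeq : P = (P' : Subgroup G) := by
          by_contra hne
          obtain ⟨t, htP', htN, htP⟩ := S0658.norm_grow (P' : Subgroup G) P P'.2 hPP' hne
          rw [hNP] at htN
          have h1 : IsPGroup p ↥(((P' : Subgroup G) ⊓ M).subgroupOf M) :=
            (P'.2.to_le inf_le_left).comap_subtype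
          have h2 : (P₀ : Subgroup ↥M) ≤ ((P' : Subgroup G) ⊓ M).subgroupOf M := by
            intro y hy
            rw [Subgroup.mem_subgroupOf]
            exact ⟨hPP' (hP ▸ ⟨y, hy, rfl⟩), y.2⟩
          have h3 := P₀.3 h1 h2
          have h4 : (⟨t, htN⟩ : ↥M) ∈ (P₀ : Subgroup ↥M) := by
            rw [← h3, Subgroup.mem_subgroupOf]; exact ⟨htP', htN⟩
          apply htP
          rw [hP]; exact ⟨⟨t, htN⟩, h4, rfl⟩
        by_cases h2 : p = 2
        · subst h2
          have hP2 : ∀ x ∈ M, (∃ k : ℕ, x ^ (2 ^ k) = 1) → x ∈ (P' : Subgroup G) := by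
            rintro x hx ⟨k, hk⟩
            rw [← hPeq, hP]
            have hk' : (⟨x, hx⟩ : ↥M) ^ (2 ^ k) = 1 := Subtype.ext (by rw [Subgroup.coe_pow]; exact hk)
            have hzp : IsPGroup 2 (Subgroup.zpowers (⟨x, hx⟩ : ↥M)) := by
              rintro ⟨y, hy⟩
              obtain ⟨n, rfl⟩ := Subgroup.mem_zpowers_iff.1 hy
              refine ⟨k, Subtype.ext ?_⟩
              rw [Subgroup.coe_pow]
              show ((⟨x, hx⟩ : ↥M) ^ n) ^ (2 ^ k) = 1
              rw [← zpow_natCast, ← zpow_mul, mul_comm, zpow_mul, zpow_natCast, hk', one_zpow]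
            obtain ⟨S, hS⟩ := hzp.exists_le_sylow
            obtain ⟨g, rfl⟩ := MulAction.exists_smul_eq M P₀ S
            haveI := hP₀n
            rw [Sylow.smul_eq_of_normal] at hS
            exact ⟨⟨x, hx⟩, hS (Subgroup.mem_zpowers _), rfl⟩
          exact two_case M hmax hcore hcl P' (hPeq ▸ hPM) (hPeq ▸ hMP) hP2 (hPeq ▸ hPne)
        have hZne := S0658.ZJ_ne_bot h2 P hPp hPne
        have hZM : centerThompsonAOf P ≤ M :=
          (inf_le_left.trans (Subgroup.map_subtype_le _)).trans hPM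
        have hMZ : M ≤ Subgroup.normalizer (centerThompsonAOf P : Set G) :=
          fun m hm => S0658.ZJ_norm h2 P m (hMP hm)
        have hNZ := hnormX _ hZne hZM hMZ
        have hnpcM : HasNormalPComplement p ↥M := S4040.npc_of_nilpotent p
        have hnpc : HasNormalPComplement p ↥(Subgroup.normalizer
            ((centerThompsonAOf (P' : Subgroup G) : Subgroup G) : Set G)) := by
          rw [← hPeq, hNZ]; exact hnpcM
        exact Lib.Helper1.Frob.hasNPC_iff.1 (S0659.result h2 P' hnpc)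
      choose Kp hKpn hKpc hKpi using hKp
      obtain ⟨K, hK⟩ : ∃ K : Subgroup G, K = ⨅ p, Kp p := ⟨_, rfl⟩
      haveI hKn : K.Normal := by rw [hK]; exact Subgroup.normal_iInf_normal hKpn
      have hKle : ∀ p, K ≤ Kp p := fun p => hK ▸ iInf_le _ p
      have hder : ∃ N₀ : ℕ, derivedSeries G N₀ ≤ K := by
        have h1 : ∀ p, ∃ n : ℕ, derivedSeries G n ≤ Kp p := by
          intro p
          haveI := hKpn p
          haveI : Fact p.1.Prime := ⟨Nat.prime_of_mem_primeFactors p.2⟩
          obtain ⟨j, hj⟩ := hKpi p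
          have hq : IsPGroup p.1 (G ⧸ Kp p) :=
            IsPGroup.of_card (by rw [← Subgroup.index_eq_card]; exact hj)
          haveI : Group.IsNilpotent (G ⧸ Kp p) := hq.isNilpotent
          obtain ⟨n, hn⟩ := (Group.isSolvable_def (G ⧸ Kp p)).1 inferInstance
          refine ⟨n, ?_⟩
          rw [← map_derivedSeries_eq (QuotientGroup.mk'_surjective (Kp p)) n,
            Subgroup.map_eq_bot_iff, QuotientGroup.ker_mk'] at hn
          exact hn
        choose nn hnn using h1
        refine ⟨Finset.univ.sup nn, ?_⟩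
        rw [hK]
        apply le_iInf
        intro p
        exact (derivedSeries_antitone G (Finset.le_sup (Finset.mem_univ p))).trans (hnn p)
      obtain ⟨N₀, hN₀⟩ := hder
      haveI hGK : Group.IsSolvable (G ⧸ K) := by
        rw [Group.isSolvable_def]
        refine ⟨N₀, ?_⟩
        rw [← map_derivedSeries_eq (QuotientGroup.mk'_surjective K) N₀, Subgroup.map_eq_bot_iff,
          QuotientGroup.ker_mk']
        exact hN₀
      have hKMbot : K ⊓ M = ⊥ := by
        rw [eq_bot_iff]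
        intro x hx
        rw [Subgroup.mem_bot]
        by_contra hx1
        have ho : orderOf x ≠ 1 := fun h => hx1 (orderOf_eq_one_iff.1 h)
        obtain ⟨p, hp, hpx⟩ := Nat.exists_prime_and_dvd ho
        have hpM : p ∣ Nat.card M := hpx.trans (Subgroup.orderOf_dvd_natCard M hx.2)
        have hpm : p ∈ (Nat.card M).primeFactors :=
          Nat.mem_primeFactors.2 ⟨hp, hpM, Nat.card_pos.ne'⟩
        have h1 : p ∣ Nat.card (Kp ⟨p, hpm⟩) :=
          hpx.trans (Subgroup.orderOf_dvd_natCard _ (hKle ⟨p, hpm⟩ hx.1))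
        exact (Nat.Prime.coprime_iff_not_dvd hp).1 (hKpc ⟨p, hpm⟩).symm h1
      suffices hKs : Group.IsSolvable ↥K by
        haveI := hKs
        exact Group.isSolvable_of_ker_le_range K.subtype (QuotientGroup.mk' K)
          (by rw [QuotientGroup.ker_mk', Subgroup.range_subtype])
      by_cases hKbot : K = ⊥
      · apply Group.isSolvable_of_comm
        intro a b
        have hle : K ≤ ⊥ := hKbot.le
        have ha : (a : G) = 1 := Subgroup.mem_bot.1 (hle a.2)
        have hb : (b : G) = 1 := Subgroup.mem_bot.1 (hle b.2)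
        apply Subtype.ext
        rw [Subgroup.coe_mul, Subgroup.coe_mul, ha, hb]
      · have hsup : K ⊔ M = ⊤ := by
          rcases eq_or_lt_of_le (le_sup_right : M ≤ K ⊔ M) with h | h
          · exfalso
            apply hKbot
            have hKM : K ≤ M := by
              have : K ≤ K ⊔ M := le_sup_left
              rw [← h] at this
              exact this
            rw [← hKMbot]
            exact (inf_of_le_left hKM).symm
          · exact hmax.2 _ h
        have hcop : (Nat.card K).Coprime (Nat.card M) := by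
          apply Nat.coprime_of_dvd
          intro p hp hpK hpM
          have hpm : p ∈ (Nat.card M).primeFactors :=
            Nat.mem_primeFactors.2 ⟨hp, hpM, Nat.card_pos.ne'⟩
          have h1 : p ∣ Nat.card (Kp ⟨p, hpm⟩) :=
            hpK.trans (Subgroup.card_dvd_of_le (hKle ⟨p, hpm⟩))
          exact (Nat.Prime.coprime_iff_not_dvd hp).1 (hKpc ⟨p, hpm⟩).symm h1
        have hcard : Nat.card K * Nat.card M = Nat.card G := by
          have := S0003.card_sup_mul_card_inf M K
          rw [sup_comm, hsup, inf_comm, hKMbot, Subgroup.card_top, Subgroup.card_bot,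
            mul_one] at this
          rw [this, mul_comm]
        have hKidx : K.index = Nat.card M := by
          have := Subgroup.card_mul_index K
          rw [← hcard] at this
          exact Nat.eq_of_mul_eq_mul_left Nat.card_pos this
        have hcompl : K.IsComplement' M := Subgroup.isComplement'_of_coprime hcard hcop
        have hK1 : Nat.card K ≠ 1 := fun h => hKbot (Subgroup.card_eq_one.1 h)
        obtain ⟨q, hq, hqK⟩ := Nat.exists_prime_and_dvd hK1
        haveI : Fact q.Prime := ⟨hq⟩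
        obtain ⟨Q₁⟩ : Nonempty (Sylow q ↥K) := inferInstance
        obtain ⟨Q, hQ⟩ : ∃ Q : Subgroup G, Q = (Q₁ : Subgroup ↥K).map K.subtype := ⟨_, rfl⟩
        have hQK : Q ≤ K := by rw [hQ]; exact Subgroup.map_subtype_le _
        have hQq : IsPGroup q Q := by rw [hQ]; exact Q₁.2.map _
        have hQne : Q ≠ ⊥ := by
          intro hb
          rw [hQ] at hb
          exact (Q₁.ne_bot_of_dvd_card hqK)
            ((Subgroup.map_eq_bot_iff_of_injective _ K.subtype_injective).1 hb)
        have hfrat := Sylow.normalizer_sup_eq_top Q₁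
        rw [← hQ] at hfrat
        obtain ⟨N₁, hN₁⟩ : ∃ N₁ : Subgroup G, N₁ = Subgroup.normalizer (Q : Set G) := ⟨_, rfl⟩
        rw [← hN₁] at hfrat
        have hidx1 : (K.subgroupOf N₁).index = Nat.card M := by
          have : K.relIndex (N₁ ⊔ K) = K.relIndex N₁ := Subgroup.relIndex_sup_right N₁ K
          rw [hfrat, Subgroup.relIndex_top_right] at this
          exact this.symm.trans hKidx
        have hcop1 : (Nat.card (K.subgroupOf N₁)).Coprime (K.subgroupOf N₁).index := by
          rw [hidx1]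
          refine Nat.Coprime.coprime_dvd_left ?_ hcop
          rw [S0003.card_subgroupOf_eq']; exact Subgroup.card_dvd_of_le inf_le_left
        obtain ⟨M₁', hM₁'⟩ := Subgroup.exists_right_complement'_of_coprime hcop1
        obtain ⟨M₁, hM₁⟩ : ∃ M₁ : Subgroup G, M₁ = M₁'.map N₁.subtype := ⟨_, rfl⟩
        have hM₁N : M₁ ≤ N₁ := by rw [hM₁]; exact Subgroup.map_subtype_le _
        have hM₁card : Nat.card M₁ = Nat.card M := by
          rw [hM₁, S0658.card_map_subtype, ← hM₁'.symm.index_eq_card, hidx1]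
        have hcompl1 : K.IsComplement' M₁ :=
          Subgroup.isComplement'_of_coprime (by rw [hM₁card]; exact hcard)
            (by rw [hM₁card]; exact hcop)
        obtain ⟨g, hg⟩ := S0001.result K (by rw [hKidx]; exact hcop) (Or.inr hGK) M M₁
          hcompl hcompl1
        obtain ⟨Q', hQ'⟩ : ∃ Q' : Subgroup G, Q' = MulAut.conj g⁻¹ • Q := ⟨_, rfl⟩
        have hQ'mem : ∀ x, x ∈ Q' ↔ g * x * g⁻¹ ∈ Q := by
          intro x
          rw [hQ', Subgroup.mem_pointwise_smul_iff_inv_smul_mem]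
          simp [MulAut.smul_def]
        have hMQ' : M ≤ Subgroup.normalizer (Q' : Set G) := by
          intro m hm
          apply S0650.norm_of_conj
          intro x hx
          rw [hQ'mem] at hx ⊢
          have h1 : g * m * g⁻¹ ∈ M₁ := by rw [← hg]; exact ⟨m, hm, rfl⟩
          have h2 : g * m * g⁻¹ ∈ Subgroup.normalizer (Q : Set G) := hN₁ ▸ hM₁N h1
          have h3 := (Subgroup.mem_normalizer_iff.1 h2 _).1 hx
          have e : g * (m * x * m⁻¹) * g⁻¹ =
              (g * m * g⁻¹) * (g * x * g⁻¹) * (g * m * g⁻¹)⁻¹ := by group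
          rw [e]; exact h3
        have hQ'K : Q' ≤ K := by
          intro x hx
          rw [hQ'mem] at hx
          have := hKn.conj_mem _ (hQK hx) g⁻¹
          have e : g⁻¹ * (g * x * g⁻¹) * g⁻¹⁻¹ = x := by group
          rwa [e] at this
        have hQ'ne : Q' ≠ ⊥ := by
          intro hb
          apply hQne
          rw [eq_bot_iff]
          intro u hu
          have h1 : g⁻¹ * u * g ∈ Q' := by
            rw [hQ'mem]
            have e : g * (g⁻¹ * u * g) * g⁻¹ = u := by group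
            rw [e]; exact hu
          rw [hb, Subgroup.mem_bot] at h1
          rw [Subgroup.mem_bot]
          have e : u = g * (g⁻¹ * u * g) * g⁻¹ := by group
          rw [e, h1]; group
        have hQ'q : ∀ x ∈ Q', ∃ k : ℕ, x ^ (q ^ k) = 1 := by
          intro x hx
          rw [hQ'mem] at hx
          obtain ⟨k, hk⟩ := hQq ⟨_, hx⟩
          have hk' : (g * x * g⁻¹) ^ (q ^ k) = 1 := congrArg Subtype.val hk
          refine ⟨k, ?_⟩
          rw [conj_pow] at hk'
          have e : x ^ (q ^ k) = g⁻¹ * (g * x ^ (q ^ k) * g⁻¹) * g := by group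
          rw [e, hk']; group
        have hsup' : M ⊔ Q' = ⊤ := by
          rcases eq_or_lt_of_le (le_sup_left : M ≤ M ⊔ Q') with h | h
          · exfalso
            apply hQ'ne
            have hQM : Q' ≤ M := by
              have : Q' ≤ M ⊔ Q' := le_sup_right
              rw [← h] at this
              exact this
            rw [eq_bot_iff, ← hKMbot]
            exact le_inf hQ'K hQM
          · exact hmax.2 _ h
        haveI hQ'n : Q'.Normal := by
          apply Subgroup.normalizer_eq_top_iff.mp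
          rw [eq_top_iff, ← hsup']
          exact sup_le hMQ' Subgroup.le_normalizer
        have hKQ' : K ≤ Q' := by
          intro x hx
          have hx' : x ∈ M ⊔ Q' := by rw [hsup']; trivial
          obtain ⟨m, hm, u, hu, rfl⟩ := Subgroup.mem_sup_of_normal_right.mp hx'
          have hmK : m ∈ K := by
            have : m = (m * u) * u⁻¹ := by group
            rw [this]; exact K.mul_mem hx (K.inv_mem (hQ'K hu))
          have hm1 : m = 1 := by
            have : m ∈ K ⊓ M := ⟨hmK, hm⟩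
            rw [hKMbot] at this
            exact Subgroup.mem_bot.1 this
          rw [hm1, one_mul]; exact hu
        have hKq : IsPGroup q ↥K := by
          rintro ⟨x, hx⟩
          obtain ⟨k, hk⟩ := hQ'q x (hKQ' hx)
          exact ⟨k, Subtype.ext (by rw [Subgroup.coe_pow]; exact hk)⟩
        haveI : Group.IsNilpotent ↥K := hKq.isNilpotent
        infer_instance

theorem result {G : Type*} [Group G] [Finite G]
    (M : Subgroup G) (hmax : IsCoatom M) (hnil : Group.IsNilpotent M) (hcl : Group.nilpotencyClass ↥M ≤ 2) :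
    Group.IsSolvable G := by
  haveI := hnil
  have h1 : (⊤ : Subgroup ↥M).lowerCentralSeries 2 = ⊥ := by
    have h2 := Subgroup.lowerCentralSeries_nilpotencyClass (G := ↥M)
    exact le_bot_iff.1 (h2 ▸ (⊤ : Subgroup ↥M).lowerCentralSeries_antitone hcl)
  apply aux _ G rfl M hmax hnil
  intro a ha b hb c hc
  have h3 : ⁅⁅(⟨a, ha⟩ : ↥M), (⟨b, hb⟩ : ↥M)⁆, (⟨c, hc⟩ : ↥M)⁆ ∈
      (⊤ : Subgroup ↥M).lowerCentralSeries 2 := by
    change _ ∈ ⁅⁅(⊤ : Subgroup ↥M), ⊤⁆, ⊤⁆
    exact Subgroup.commutator_mem_commutator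
      (Subgroup.commutator_mem_commutator (Subgroup.mem_top _) (Subgroup.mem_top _))
      (Subgroup.mem_top _)
  rw [h1, Subgroup.mem_bot] at h3
  have h4 := congrArg M.subtype h3
  rw [map_commutatorElement, map_commutatorElement, map_one] at h4
  exact h4

end Cfsg.Agent.S4039
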