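import Mathlib
import Cfsg.Statements.S0078
import Cfsg.Agent.Lib.Helper8.HypGroup
import Cfsg.Agent.Lib.Helper1.Frob
import Cfsg.Agent.S4039
set_option autoImplicit false
open Pointwise
open Cfsg
open scoped commutatorElement

namespace Cfsg.Agent.S0078

open Cfsg.Agent.Lib.Helper8.Fusion Cfsg.Agent.Lib.Helper8.GroupFusion Cfsg.Agent.Lib.Helper8.Sat
  Cfsg.Agent.Lib.Helper8.Sat2 Cfsg.Agent.Lib.Helper8.Alperin Cfsg.Agent.Lib.Helper8.Focal
  Cfsg.Agent.Lib.Helper8.Hyp Cfsg.Agent.Lib.Helper8.GroupSub Cfsg.Agent.Lib.Helper8.Essential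

theorem exists_rep {G : Type*} [Group G] [Finite G] (p : ℕ) [Fact p.Prime]
    (S : Subgroup G) {P : Subgroup G} (hPS : P ≤ S)
    (α : ↥((groupFusionSystem S).autGroup P))
    (hα : α ∈ pResidual p ↥((groupFusionSystem S).autGroup P)) :
    ∃ n : ↥(Subgroup.normalizer (P : Set G)),
      n ∈ pResidual p ↥(Subgroup.normalizer (P : Set G)) ∧
      ∀ x : P, (((α : MulAut P) x : P) : G) = n * x * (n : G)⁻¹ := by
  have hrange : ∀ n : ↥(Subgroup.normalizer (P : Set G)), P.normalizerMonoidHom n ∈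
      (groupFusionSystem S).autGroup P := by
    intro n
    rw [autGroup_groupFusionSystem hPS]
    exact mem_autInducedBy_iff.mpr ⟨n, Subgroup.mem_top _, fun x => rfl⟩
  obtain ⟨c, hc⟩ : ∃ c : ↥(Subgroup.normalizer (P : Set G)) →*
      ↥((groupFusionSystem S).autGroup P),
      ∀ n, ((c n : ↥((groupFusionSystem S).autGroup P)) : MulAut P) =
        P.normalizerMonoidHom n :=
    ⟨P.normalizerMonoidHom.codRestrict _ hrange, fun n => rfl⟩
  have hsurj : Function.Surjective c := by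
    rintro ⟨β, hβ⟩
    have hβ' := hβ
    rw [autGroup_groupFusionSystem hPS] at hβ'
    obtain ⟨g, -, hg⟩ := mem_autInducedBy_iff.mp hβ'
    have hgN : g ∈ Subgroup.normalizer (P : Set G) := mem_normalizer_of_aut hg
    refine ⟨⟨g, hgN⟩, ?_⟩
    apply Subtype.ext
    rw [hc]
    apply MulEquiv.ext
    intro x
    apply Subtype.ext
    exact (hg x).symm
  obtain ⟨n, hn, hnα⟩ := Cfsg.Agent.Lib.Helper8.HypGroup.pResidual_le_map c hsurj hα
  refine ⟨n, hn, fun x => ?_⟩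
  rw [← hnα, hc]
  rfl

theorem fus {G : Type*} [Group G] [Finite G] {p : ℕ} [Fact p.Prime] (P : Sylow p G)
    (hn : ∀ Q : Sylow p G, (P : Subgroup G) ⊓ Subgroup.centralizer (P : Set G) ≤ (Q : Subgroup G) →
      (Q : Subgroup G) ⊓ Subgroup.centralizer (Q : Set G) =
        (P : Subgroup G) ⊓ Subgroup.centralizer (P : Set G))
    (Q : Subgroup G) (hQ : Q ≤ (P : Subgroup G)) (g : G)
    (hg : ∀ x ∈ Q, g * x * g⁻¹ ∈ (P : Subgroup G)) :
    ∃ m ∈ Subgroup.normalizer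
        (((P : Subgroup G) ⊓ Subgroup.centralizer (P : Set G) : Subgroup G) : Set G),
      ∀ x ∈ Q, g * x * g⁻¹ = m * x * m⁻¹ := by
  classical
  obtain ⟨Z, hZ⟩ : ∃ Z : Subgroup G,
      Z = (P : Subgroup G) ⊓ Subgroup.centralizer (P : Set G) := ⟨_, rfl⟩
  rw [← hZ] at hn ⊢
  have hZP : Z ≤ (P : Subgroup G) := hZ ▸ inf_le_left
  have hZc : ∀ z ∈ Z, ∀ x ∈ (P : Subgroup G), x * z = z * x := by
    intro z hz x hx
    rw [hZ] at hz
    exact (Subgroup.mem_centralizer_iff.1 (Subgroup.mem_inf.1 hz).2) x hx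
  obtain ⟨C, hC⟩ : ∃ C : Subgroup G, C = Subgroup.centralizer (Q : Set G) := ⟨_, rfl⟩
  have hCmem : ∀ y, y ∈ C ↔ ∀ x ∈ Q, x * y = y * x := by
    intro y; rw [hC, Subgroup.mem_centralizer_iff]; rfl
  have hZC : Z ≤ C := fun z hz => (hCmem z).2 (fun x hx => hZc z hz x (hQ hx))
  obtain ⟨Z₂, hZ₂⟩ : ∃ Z₂ : Subgroup G, Z₂ = MulAut.conj g⁻¹ • Z := ⟨_, rfl⟩
  have hZ₂mem : ∀ y, y ∈ Z₂ ↔ g * y * g⁻¹ ∈ Z := by
    intro y; rw [hZ₂, S4039.mem_cj]; simp
  have hZ₂C : Z₂ ≤ C := by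
    intro y hy
    rw [hZ₂mem] at hy
    rw [hCmem]
    intro x hx
    have h1 := hZc _ hy _ (hg x hx)
    calc x * y = g⁻¹ * ((g * x * g⁻¹) * (g * y * g⁻¹)) * g := by group
      _ = g⁻¹ * ((g * y * g⁻¹) * (g * x * g⁻¹)) * g := by rw [h1]
      _ = y * x := by group
  have hZp : IsPGroup p Z := P.2.to_le hZP
  have hZ2p : IsPGroup p Z₂ := by
    rw [hZ₂, Subgroup.pointwise_smul_def]; exact hZp.map _
  obtain ⟨S₁, hS₁⟩ := (hZp.comap_subtype (K := C)).exists_le_sylow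
  obtain ⟨S₂, hS₂⟩ := (hZ2p.comap_subtype (K := C)).exists_le_sylow
  obtain ⟨c, hc⟩ := MulAction.exists_smul_eq C S₂ S₁
  obtain ⟨Q₀, hQ₀⟩ := (S₁.2.map C.subtype).exists_le_sylow
  have hZQ₀ : Z ≤ (Q₀ : Subgroup G) :=
    fun z hz => hQ₀ ⟨⟨z, hZC hz⟩, hS₁ (Subgroup.mem_subgroupOf.2 hz), rfl⟩
  have h1 := hn Q₀ hZQ₀
  obtain ⟨w, hwdef⟩ : ∃ w : G, w = (c : G) * g⁻¹ := ⟨_, rfl⟩
  have hw : ∀ z ∈ Z, w * z * w⁻¹ ∈ (Q₀ : Subgroup G) := by
    intro z hz
    have hy : g⁻¹ * z * g ∈ Z₂ := by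
      rw [hZ₂mem]
      have e : g * (g⁻¹ * z * g) * g⁻¹ = z := by group
      rw [e]; exact hz
    have h2 : (⟨g⁻¹ * z * g, hZ₂C hy⟩ : ↥C) ∈ (S₂ : Subgroup ↥C) :=
      hS₂ (Subgroup.mem_subgroupOf.2 hy)
    have h3 : c * (⟨g⁻¹ * z * g, hZ₂C hy⟩ : ↥C) * c⁻¹ ∈ (S₁ : Subgroup ↥C) := by
      rw [← hc, Sylow.coe_subgroup_smul, S4039.mem_cj]
      have e : c⁻¹ * (c * (⟨g⁻¹ * z * g, hZ₂C hy⟩ : ↥C) * c⁻¹) * c =
          (⟨g⁻¹ * z * g, hZ₂C hy⟩ : ↥C) := by group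
      rw [e]; exact h2
    have h4 := hQ₀ ⟨_, h3, rfl⟩
    have e : C.subtype (c * (⟨g⁻¹ * z * g, hZ₂C hy⟩ : ↥C) * c⁻¹) = w * z * w⁻¹ := by
      rw [hwdef]
      show (c : G) * (g⁻¹ * z * g) * (c : G)⁻¹ = _
      group
    rw [e] at h4; exact h4
  have hZQ₁ : Z ≤ ((w⁻¹ • Q₀ : Sylow p G) : Subgroup G) := by
    intro z hz
    rw [Sylow.coe_subgroup_smul, S4039.mem_cj]
    have := hw z hz
    simpa using this
  have h2 := hn (w⁻¹ • Q₀) hZQ₁
  have hwN : w ∈ Subgroup.normalizer (Z : Set G) := by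
    apply S0650.norm_of_conj
    intro z hz
    rw [← h1]
    have hz' := hz
    rw [← h2] at hz'
    obtain ⟨hz1, hz2⟩ := Subgroup.mem_inf.1 hz'
    refine Subgroup.mem_inf.mpr ⟨hw z hz, ?_⟩
    rw [Subgroup.mem_centralizer_iff] at hz2 ⊢
    intro y hy
    have hy' : w⁻¹ * y * w ∈ ((w⁻¹ • Q₀ : Sylow p G) : Subgroup G) := by
      rw [Sylow.coe_subgroup_smul, S4039.mem_cj]
      have e : w⁻¹⁻¹ * (w⁻¹ * y * w) * w⁻¹ = y := by group
      rw [e]; exact hy
    have h3 := hz2 _ hy'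
    calc y * (w * z * w⁻¹) = w * ((w⁻¹ * y * w) * z) * w⁻¹ := by group
      _ = w * (z * (w⁻¹ * y * w)) * w⁻¹ := by rw [h3]
      _ = w * z * w⁻¹ * y := by group
  refine ⟨w⁻¹, Subgroup.inv_mem _ hwN, ?_⟩
  intro x hx
  have hcx : x * (c : G) = (c : G) * x := (hCmem _).1 c.2 x hx
  rw [hwdef]
  have hcx' : (c : G)⁻¹ * x * (c : G) = x := by rw [mul_assoc, hcx]; group
  calc g * x * g⁻¹ = g * ((c : G)⁻¹ * x * (c : G)) * g⁻¹ := by rw [hcx']
    _ = ((c : G) * g⁻¹)⁻¹ * x * ((c : G) * g⁻¹)⁻¹⁻¹ := by group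

theorem result {G : Type*} [Group G] [Finite G] {p : ℕ} [Fact p.Prime] (P : Sylow p G) (hn : ∀ Q : Sylow p G, (P : Subgroup G) ⊓ Subgroup.centralizer (P : Set G) ≤ (Q : Subgroup G) → (Q : Subgroup G) ⊓ Subgroup.centralizer (Q : Set G) = (P : Subgroup G) ⊓ Subgroup.centralizer (P : Set G)) (V : Subgroup G) (hV : Subgroup.normalizer (((P : Subgroup G) ⊓ Subgroup.centralizer (P : Set G) : Subgroup G) : Set G) ≤ V) : (P : Subgroup G) ⊓ Cfsg.pResidual p G = (P : Subgroup G) ⊓ (Cfsg.pResidual p V).map V.subtype := by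
  classical
  have hp : p.Prime := Fact.out
  have hPN : (P : Subgroup G) ≤ Subgroup.normalizer
      (((P : Subgroup G) ⊓ Subgroup.centralizer (P : Set G) : Subgroup G) : Set G) := by
    intro y hy
    apply S0650.norm_of_conj
    intro z hz
    obtain ⟨hz1, hz2⟩ := Subgroup.mem_inf.1 hz
    refine Subgroup.mem_inf.mpr ⟨Subgroup.mul_mem _ (Subgroup.mul_mem _ hy hz1)
      (Subgroup.inv_mem _ hy), ?_⟩
    rw [Subgroup.mem_centralizer_iff] at hz2 ⊢
    intro x hx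
    have hx' : y⁻¹ * x * y ∈ (P : Subgroup G) :=
      Subgroup.mul_mem _ (Subgroup.mul_mem _ (Subgroup.inv_mem _ hy) hx) hy
    have h3 := hz2 _ hx'
    calc x * (y * z * y⁻¹) = y * ((y⁻¹ * x * y) * z) * y⁻¹ := by group
      _ = y * (z * (y⁻¹ * x * y)) * y⁻¹ := by rw [h3]
      _ = y * z * y⁻¹ * x := by group
  have hPV := hPN.trans hV
  obtain ⟨T, hT⟩ : ∃ T : Subgroup G, T = (pResidual p ↥V).map V.subtype := ⟨_, rfl⟩
  rw [← hT]
  have hTG : T ≤ pResidual p G := by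
    rw [hT]; rintro _ ⟨v, hv, rfl⟩; exact map_mem_pResidual p V.subtype hv
  have hTn : ∀ v ∈ V, ∀ t ∈ T, v * t * v⁻¹ ∈ T := by
    intro v hv t ht
    rw [hT] at ht ⊢
    obtain ⟨t', ht', rfl⟩ := ht
    exact ⟨⟨v, hv⟩ * t' * ⟨v, hv⟩⁻¹, (pResidual_normal p ↥V).conj_mem t' ht' ⟨v, hv⟩, rfl⟩
  have hTmem : ∀ v ∈ V, (orderOf v).Coprime p → v ∈ T := by
    intro v hv hcop
    rw [hT]
    refine ⟨⟨v, hv⟩, Subgroup.subset_closure ?_, rfl⟩
    show Nat.Coprime (orderOf (⟨v, hv⟩ : ↥V)) p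
    rw [← Subgroup.orderOf_coe]; exact hcop
  apply le_antisymm
  · refine le_inf inf_le_left ?_
    rw [← Cfsg.Agent.Lib.Helper8.HypGroup.hyperfocal_eq p P]
    show Subgroup.closure _ ≤ T
    rw [Subgroup.closure_le]
    rintro y ⟨Q, α, x, hQP, hα, rfl⟩
    obtain ⟨n, hn', hnα⟩ := exists_rep p (P : Subgroup G) hQP α hα
    rw [hnα x]
    have key : ∀ n : ↥(Subgroup.normalizer (Q : Set G)),
        n ∈ pResidual p ↥(Subgroup.normalizer (Q : Set G)) →
        ∀ x ∈ Q, x⁻¹ * ((n : G) * x * (n : G)⁻¹) ∈ T := by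
      intro n hn'
      unfold pResidual at hn'
      induction hn' using Subgroup.closure_induction with
      | mem n hn0 =>
        intro x hx
        have hn0' : Nat.Coprime (orderOf (n : G)) p := by
          rw [Subgroup.orderOf_coe]; exact hn0
        have hnQ : ∀ x ∈ Q, (n : G) * x * (n : G)⁻¹ ∈ Q :=
          fun x hx => (Subgroup.mem_normalizer_iff.1 n.2 x).1 hx
        obtain ⟨m, hm, hmx⟩ := fus P hn Q hQP (n : G) (fun x hx => hQP (hnQ x hx))
        by_cases ho : orderOf (n : G) = 1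
        · rw [orderOf_eq_one_iff] at ho
          rw [ho]; simp
        have ho1 : 1 < orderOf (n : G) := by
          have := orderOf_pos (n : G)
          omega
        obtain ⟨e, he⟩ := Lib.Helper1.Frob.pow_prime_pow_coprime (p := p) m
        have hcop : (p ^ e).Coprime (orderOf (n : G)) :=
          Nat.Coprime.pow_left e hn0'.symm
        obtain ⟨k', -, hk'⟩ := Nat.exists_mul_mod_eq_one_of_coprime hcop ho1
        have hpowj : ∀ (j : ℕ), ∀ x ∈ Q,
            (n : G) ^ j * x * ((n : G) ^ j)⁻¹ = m ^ j * x * (m ^ j)⁻¹ := by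
          intro j
          induction j with
          | zero => intro x _; simp
          | succ j ih =>
            intro x hx
            have h5 : (n : G) ^ (j + 1) * x * ((n : G) ^ (j + 1))⁻¹ =
                (n : G) ^ j * ((n : G) * x * (n : G)⁻¹) * ((n : G) ^ j)⁻¹ := by
              rw [pow_succ]; group
            have h6 : m ^ (j + 1) * x * (m ^ (j + 1))⁻¹ =
                m ^ j * (m * x * m⁻¹) * (m ^ j)⁻¹ := by
              rw [pow_succ]; group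
            rw [h5, h6, ih _ (hnQ x hx), hmx x hx]
        have hnk : (n : G) ^ (p ^ e * k') = (n : G) := by
          rw [pow_eq_pow_mod (p ^ e * k') (pow_orderOf_eq_one (n : G)), hk', pow_one]
        have h7 : (n : G) * x * (n : G)⁻¹ =
            m ^ (p ^ e * k') * x * (m ^ (p ^ e * k'))⁻¹ := by
          rw [← hpowj (p ^ e * k') x hx, hnk]
        have hm'V : m ^ (p ^ e * k') ∈ V := Subgroup.pow_mem _ (hV hm) _
        have hm'c : (orderOf (m ^ (p ^ e * k'))).Coprime p := by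
          rw [pow_mul]
          exact Nat.Coprime.coprime_dvd_left (orderOf_pow_dvd k') he
        have hm'T := hTmem _ hm'V hm'c
        rw [h7]
        have h8 : x⁻¹ * (m ^ (p ^ e * k') * x * (m ^ (p ^ e * k'))⁻¹) =
            (x⁻¹ * m ^ (p ^ e * k') * x⁻¹⁻¹) * (m ^ (p ^ e * k'))⁻¹ := by group
        rw [h8]
        exact T.mul_mem (hTn _ (V.inv_mem (hPV (hQP hx))) _ hm'T) (T.inv_mem hm'T)
      | one => intro x hx; simp
      | mul a b _ _ iha ihb =>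
        intro x hx
        have hy : (b : G) * x * (b : G)⁻¹ ∈ Q := (Subgroup.mem_normalizer_iff.1 b.2 x).1 hx
        have e : x⁻¹ * (((a * b : ↥(Subgroup.normalizer (Q : Set G))) : G) * x *
            ((a * b : ↥(Subgroup.normalizer (Q : Set G))) : G)⁻¹) =
            (x⁻¹ * ((b : G) * x * (b : G)⁻¹)) * (((b : G) * x * (b : G)⁻¹)⁻¹ *
              ((a : G) * ((b : G) * x * (b : G)⁻¹) * (a : G)⁻¹)) := by
          rw [Subgroup.coe_mul]; group
        rw [e]; exact T.mul_mem (ihb x hx) (iha _ hy)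
      | inv a _ iha =>
        intro x hx
        have hy : (a : G)⁻¹ * x * (a : G) ∈ Q := by
          have := (Subgroup.mem_normalizer_iff.1 (Subgroup.inv_mem _ a.2) x).1 hx
          simpa using this
        have e : x⁻¹ * (((a⁻¹ : ↥(Subgroup.normalizer (Q : Set G))) : G) * x *
            ((a⁻¹ : ↥(Subgroup.normalizer (Q : Set G))) : G)⁻¹) =
            (((a : G)⁻¹ * x * (a : G))⁻¹ *
              ((a : G) * ((a : G)⁻¹ * x * (a : G)) * (a : G)⁻¹))⁻¹ := by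
          rw [Subgroup.coe_inv]; group
        rw [e]; exact T.inv_mem (iha _ hy)
    exact key n hn' x x.2
  · exact inf_le_inf_left _ hTG

end Cfsg.Agent.S0078
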