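import Mathlib
import Cfsg.Statements.S0081
import Cfsg.Agent.S0579
import Cfsg.Agent.S0667
import Cfsg.Agent.Lib.Helper1.Frob

set_option autoImplicit false
open Pointwise
open Cfsg
open scoped commutatorElement

namespace Cfsg.Agent.S0081

open scoped IsMulCommutative in
/-- Lifting lemma (Gaschütz-type, via transfer): a map to a quotient `D` lifts through a central
extension `β : E → D` of `p`-groups as soon as it lifts on a subgroup of index prime to `p`. -/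
theorem lift_lemma {H E D : Type*} [Group H] [Finite H] [Group E] [Finite E] [Group D]
    (p : ℕ) [Fact p.Prime] (α : H →* D) (β : E →* D) (P : Subgroup H) (δ : ↥P →* E)
    (hδ : ∀ x : ↥P, β (δ x) = α x) (hZ : ∀ e : E, β e = 1 → e ∈ Subgroup.center E)
    (hE : IsPGroup p E) (hidx : (P.index).Coprime p) (hsurj : ∀ h : H, ∃ e : E, β e = α h) :
    ∃ σ : H →* E, ∀ h, β (σ h) = α h := by
  classical
  have hp : p.Prime := Fact.out
  obtain ⟨Eh, hEh⟩ : ∃ Eh : Subgroup (H × E),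
      Eh = (α.comp (MonoidHom.fst H E)).eqLocus (β.comp (MonoidHom.snd H E)) := ⟨_, rfl⟩
  have hEmem : ∀ g : H × E, g ∈ Eh ↔ α g.1 = β g.2 := by
    intro g; rw [hEh]; exact Iff.rfl
  obtain ⟨Ph, hPh⟩ : ∃ Ph : Subgroup ↥Eh,
      Ph = P.comap ((MonoidHom.fst H E).comp Eh.subtype) := ⟨_, rfl⟩
  have hPmem : ∀ g : ↥Eh, g ∈ Ph ↔ (g : H × E).1 ∈ P := by
    intro g; rw [hPh]; exact Iff.rfl
  obtain ⟨A, hA⟩ : ∃ A : Subgroup E, A = β.ker := ⟨_, rfl⟩
  have hAmem : ∀ c : E, c ∈ A ↔ β c = 1 := by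
    intro c; rw [hA]; exact MonoidHom.mem_ker
  haveI hAcomm : IsMulCommutative ↥A :=
    ⟨⟨fun a b => Subtype.ext
      ((Subgroup.mem_center_iff.1 (hZ _ ((hAmem _).1 b.2)) (a : E)))⟩⟩
  have hkey : ∀ g : ↥Ph,
      β ((δ ⟨((g : ↥Eh) : H × E).1, (hPmem _).1 g.2⟩)⁻¹ * ((g : ↥Eh) : H × E).2) = 1 := by
    intro g
    have h1 := (hEmem _).1 (g : ↥Eh).2
    rw [map_mul, map_inv, hδ, ← h1]
    exact inv_mul_cancel _
  obtain ⟨ϕ, hϕ⟩ : ∃ ϕ : ↥Ph →* ↥A, ∀ g : ↥Ph, ((ϕ g : ↥A) : E) =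
      (δ ⟨((g : ↥Eh) : H × E).1, (hPmem _).1 g.2⟩)⁻¹ * ((g : ↥Eh) : H × E).2 := by
    refine ⟨MonoidHom.mk' (fun g => ⟨(δ ⟨((g : ↥Eh) : H × E).1, (hPmem _).1 g.2⟩)⁻¹ *
      ((g : ↥Eh) : H × E).2, (hAmem _).2 (hkey g)⟩) ?_, fun g => rfl⟩
    intro g g'
    apply Subtype.ext
    have e1 : (⟨(((g * g' : ↥Ph) : ↥Eh) : H × E).1, (hPmem _).1 (g * g').2⟩ : ↥P) =
        ⟨((g : ↥Eh) : H × E).1, (hPmem _).1 g.2⟩ * ⟨((g' : ↥Eh) : H × E).1, (hPmem _).1 g'.2⟩ :=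
      Subtype.ext rfl
    obtain ⟨a, ha⟩ : ∃ a : E, a = δ ⟨((g : ↥Eh) : H × E).1, (hPmem _).1 g.2⟩ := ⟨_, rfl⟩
    obtain ⟨a', ha'⟩ : ∃ a' : E, a' = δ ⟨((g' : ↥Eh) : H × E).1, (hPmem _).1 g'.2⟩ := ⟨_, rfl⟩
    have hc : ∀ y : E, y * (a⁻¹ * ((g : ↥Eh) : H × E).2) =
        a⁻¹ * ((g : ↥Eh) : H × E).2 * y := by
      rw [ha]; exact Subgroup.mem_center_iff.1 (hZ _ (hkey g))
    show (δ ⟨(((g * g' : ↥Ph) : ↥Eh) : H × E).1, (hPmem _).1 (g * g').2⟩)⁻¹ *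
        (((g * g' : ↥Ph) : ↥Eh) : H × E).2 =
      ((δ ⟨((g : ↥Eh) : H × E).1, (hPmem _).1 g.2⟩)⁻¹ * ((g : ↥Eh) : H × E).2) *
        ((δ ⟨((g' : ↥Eh) : H × E).1, (hPmem _).1 g'.2⟩)⁻¹ * ((g' : ↥Eh) : H × E).2)
    rw [e1, map_mul]
    have e2 : (((g * g' : ↥Ph) : ↥Eh) : H × E).2 =
        ((g : ↥Eh) : H × E).2 * ((g' : ↥Eh) : H × E).2 := rfl
    rw [e2, ← ha, ← ha']
    have h3 := hc a'⁻¹
    calc (a * a')⁻¹ * (((g : ↥Eh) : H × E).2 * ((g' : ↥Eh) : H × E).2)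
        = a'⁻¹ * (a⁻¹ * ((g : ↥Eh) : H × E).2) * ((g' : ↥Eh) : H × E).2 := by group
      _ = (a⁻¹ * ((g : ↥Eh) : H × E).2) * a'⁻¹ * ((g' : ↥Eh) : H × E).2 := by rw [h3]
      _ = _ := by group
  have hϕ1 : ∀ g : ↥Ph, ((g : ↥Eh) : H × E).1 = 1 →
      ((ϕ g : ↥A) : E) = ((g : ↥Eh) : H × E).2 := by
    intro g hg
    rw [hϕ]
    have h1 : (⟨((g : ↥Eh) : H × E).1, (hPmem _).1 g.2⟩ : ↥P) = 1 := Subtype.ext hg
    rw [h1, map_one, inv_one, one_mul]
  have hζmem : ∀ z : E, β z = 1 → ((1 : H), z) ∈ Eh := by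
    intro z hz
    rw [hEmem]
    show α 1 = β z
    rw [hz, map_one]
  have hT : ∀ (z : E) (hz : β z = 1),
      ((MonoidHom.transfer ϕ (⟨((1 : H), z), hζmem z hz⟩ : ↥Eh) : ↥A) : E) =
        z ^ Ph.index := by
    intro z hz
    have hzc := Subgroup.mem_center_iff.1 (hZ z hz)
    have hcent : ∀ (k : ℕ) (g₀ : ↥Eh),
        g₀⁻¹ * (⟨((1 : H), z), hζmem z hz⟩ : ↥Eh) ^ k * g₀ =
          (⟨((1 : H), z), hζmem z hz⟩ : ↥Eh) ^ k := by
      intro k g₀
      have h1 : (⟨((1 : H), z), hζmem z hz⟩ : ↥Eh) * g₀ = g₀ * ⟨((1 : H), z), hζmem z hz⟩ := by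
        apply Subtype.ext
        apply Prod.ext
        · show 1 * (g₀ : H × E).1 = (g₀ : H × E).1 * 1
          rw [one_mul, mul_one]
        · show z * (g₀ : H × E).2 = (g₀ : H × E).2 * z
          exact (hzc _).symm
      have h2 : Commute ((⟨((1 : H), z), hζmem z hz⟩ : ↥Eh) ^ k) g₀ := (Commute.pow_left h1 k)
      rw [mul_assoc, h2.eq, ← mul_assoc, inv_mul_cancel, one_mul]
    have h3 := MonoidHom.transfer_eq_pow ϕ (⟨((1 : H), z), hζmem z hz⟩ : ↥Eh)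
      (fun k g₀ _ => hcent k g₀)
    rw [h3, hϕ1]
    · show (((⟨((1 : H), z), hζmem z hz⟩ : ↥Eh) ^ Ph.index : ↥Eh) : H × E).2 = z ^ Ph.index
      rw [Subgroup.coe_pow, Prod.pow_snd]
    · show (((⟨((1 : H), z), hζmem z hz⟩ : ↥Eh) ^ Ph.index : ↥Eh) : H × E).1 = 1
      rw [Subgroup.coe_pow, Prod.pow_fst]
      exact one_pow _
  have hidx' : Ph.index = P.index := by
    rw [hPh]
    apply Subgroup.index_comap_of_surjective
    intro h
    obtain ⟨e, he⟩ := hsurj h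
    exact ⟨⟨(h, e), (hEmem _).2 he.symm⟩, rfl⟩
  obtain ⟨k, hk⟩ := IsPGroup.iff_card.1 hE
  have hcopA : (Nat.card ↥A).Coprime Ph.index := by
    have h1 : Nat.card ↥A ∣ Nat.card E := Subgroup.card_subgroup_dvd_card A
    rw [hk] at h1
    rw [hidx']
    exact Nat.Coprime.coprime_dvd_left h1 (Nat.Coprime.pow_left k hidx.symm)
  have hex : ∀ h : H, ∃ e : E, ∃ hm : (h, e) ∈ Eh,
      MonoidHom.transfer ϕ (⟨(h, e), hm⟩ : ↥Eh) = 1 := by
    intro h
    obtain ⟨e₀, he₀⟩ := hsurj h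
    have hm₀ : (h, e₀) ∈ Eh := (hEmem _).2 he₀.symm
    obtain ⟨a, ha⟩ := (Nat.Coprime.pow_left_bijective hcopA).surjective
      (MonoidHom.transfer ϕ (⟨(h, e₀), hm₀⟩ : ↥Eh))⁻¹
    have ha' : a ^ Ph.index = (MonoidHom.transfer ϕ (⟨(h, e₀), hm₀⟩ : ↥Eh))⁻¹ := ha
    have hz : β (a : E) = 1 := (hAmem _).1 a.2
    have hTz : MonoidHom.transfer ϕ
        (⟨((1 : H), (a : E)), hζmem _ hz⟩ : ↥Eh) = a ^ Ph.index := by
      apply Subtype.ext
      rw [hT _ hz]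
      rfl
    refine ⟨e₀ * (a : E), ?_, ?_⟩
    · have := Eh.mul_mem hm₀ (hζmem _ hz)
      have e : ((h, e₀) : H × E) * ((1 : H), (a : E)) =
          (h, e₀ * (a : E)) := by
        apply Prod.ext
        · exact mul_one h
        · rfl
      rw [e] at this
      exact this
    · have e : (⟨(h, e₀ * (a : E)), by
          have := Eh.mul_mem hm₀ (hζmem _ hz)
          have e : ((h, e₀) : H × E) * ((1 : H), (a : E)) =
              (h, e₀ * (a : E)) := by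
            apply Prod.ext
            · exact mul_one h
            · rfl
          rw [e] at this
          exact this⟩ : ↥Eh) = ⟨(h, e₀), hm₀⟩ *
            ⟨((1 : H), (a : E)), hζmem _ hz⟩ := by
        apply Subtype.ext
        apply Prod.ext
        · exact (mul_one h).symm
        · rfl
      rw [e, map_mul, hTz, ha']
      exact mul_inv_cancel _
  have hun : ∀ (h : H) (e e' : E) (hm : (h, e) ∈ Eh) (hm' : (h, e') ∈ Eh),
      MonoidHom.transfer ϕ (⟨(h, e), hm⟩ : ↥Eh) = 1 →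
      MonoidHom.transfer ϕ (⟨(h, e'), hm'⟩ : ↥Eh) = 1 → e = e' := by
    intro h e e' hm hm' h1 h2
    have hz : β (e⁻¹ * e') = 1 := by
      rw [map_mul, map_inv, ← (hEmem _).1 hm, ← (hEmem _).1 hm']
      exact inv_mul_cancel _
    have e1 : (⟨((1 : H), e⁻¹ * e'), hζmem _ hz⟩ : ↥Eh) =
        (⟨(h, e), hm⟩ : ↥Eh)⁻¹ * ⟨(h, e'), hm'⟩ := by
      apply Subtype.ext
      apply Prod.ext
      · exact (inv_mul_cancel h).symm
      · rfl
    have h3 := hT _ hz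
    rw [e1, map_mul, map_inv, h1, h2, inv_one, one_mul] at h3
    have h4 : (e⁻¹ * e') ^ Ph.index = 1 := h3.symm
    obtain ⟨j, hj⟩ := hE (e⁻¹ * e')
    have h5 : e⁻¹ * e' = 1 := S0579.eq_one_of_pow_coprime h4 hj
      (by rw [hidx']; exact Nat.Coprime.pow_right j hidx)
    exact inv_mul_eq_one.1 h5
  choose s hs using hex
  refine ⟨MonoidHom.mk' s ?_, ?_⟩
  · intro h h'
    obtain ⟨hm, ht⟩ := hs h
    obtain ⟨hm', ht'⟩ := hs h'
    obtain ⟨hm'', ht''⟩ := hs (h * h')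
    have hmm : (h * h', s h * s h') ∈ Eh := Eh.mul_mem hm hm'
    refine hun (h * h') _ _ hm'' hmm ht'' ?_
    have e : (⟨(h * h', s h * s h'), hmm⟩ : ↥Eh) = ⟨(h, s h), hm⟩ * ⟨(h', s h'), hm'⟩ := rfl
    rw [e, map_mul, ht, ht', one_mul]
  · intro h
    obtain ⟨hm, -⟩ := hs h
    exact ((hEmem _).1 hm).symm

theorem tate_core {G : Type*} [Group G] [Finite G] {p : ℕ} [Fact p.Prime] (P : Sylow p G)
    (K : Subgroup G) [hKn : K.Normal]
    (hgen : K ≤ Subgroup.closure {g : G | g ∈ K ∧ (orderOf g).Coprime p})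
    (hΦ : K ⊓ (P : Subgroup G) ≤ (frattini ↥(P : Subgroup G)).map (P : Subgroup G).subtype) :
    K ⊓ (P : Subgroup G) = ⊥ := by
  have hp : p.Prime := Fact.out
  obtain ⟨Qp, hQp⟩ : ∃ Qp : Subgroup ↥(P : Subgroup G), Qp = K.subgroupOf (P : Subgroup G) :=
    ⟨_, rfl⟩
  haveI hQpn : Qp.Normal := by rw [hQp]; infer_instance
  have hQpmem : ∀ x : ↥(P : Subgroup G), x ∈ Qp ↔ (x : G) ∈ K := by
    intro x; rw [hQp]; exact Subgroup.mem_subgroupOf
  have hQpΦ : Qp ≤ frattini ↥(P : Subgroup G) := by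
    intro x hx
    have h1 : (x : G) ∈ K ⊓ (P : Subgroup G) := Subgroup.mem_inf.2 ⟨(hQpmem x).1 hx, x.2⟩
    obtain ⟨y, hy, hyx⟩ := Subgroup.mem_map.1 (hΦ h1)
    have h2 : y = x := Subtype.ext hyx
    rw [← h2]; exact hy
  obtain ⟨Q1, hQ1⟩ : ∃ Q1 : Subgroup ↥(P : Subgroup G),
      Q1 = ⁅Qp, (⊤ : Subgroup ↥(P : Subgroup G))⁆ := ⟨_, rfl⟩
  haveI hQ1n : Q1.Normal := by rw [hQ1]; infer_instance
  have hQ1le : Q1 ≤ Qp := by rw [hQ1]; exact Subgroup.commutator_le_left Qp ⊤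
  suffices hsuff : Qp ≤ Q1 by
    haveI hnil : Group.IsNilpotent ↥(P : Subgroup G) := P.2.isNilpotent
    have hQpbot : Qp = ⊥ := by
      have hall : ∀ n : ℕ,
          Qp ≤ Subgroup.lowerCentralSeries (⊤ : Subgroup ↥(P : Subgroup G)) n := by
        intro n
        induction n with
        | zero => rw [Subgroup.lowerCentralSeries_zero]; exact le_top
        | succ n ih =>
          calc Qp ≤ Q1 := hsuff
            _ = ⁅Qp, (⊤ : Subgroup ↥(P : Subgroup G))⁆ := hQ1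
            _ ≤ ⁅Subgroup.lowerCentralSeries (⊤ : Subgroup ↥(P : Subgroup G)) n,
                (⊤ : Subgroup ↥(P : Subgroup G))⁆ := Subgroup.commutator_mono ih le_rfl
            _ = Subgroup.lowerCentralSeries (⊤ : Subgroup ↥(P : Subgroup G)) (n + 1) :=
                (Subgroup.lowerCentralSeries_succ _ n).symm
      rw [eq_bot_iff, ← Subgroup.lowerCentralSeries_nilpotencyClass (G := ↥(P : Subgroup G))]
      exact hall _
    rw [eq_bot_iff]
    intro x hx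
    obtain ⟨hxK, hxP⟩ := Subgroup.mem_inf.1 hx
    have h1 : (⟨x, hxP⟩ : ↥(P : Subgroup G)) ∈ Qp := (hQpmem _).2 hxK
    rw [hQpbot] at h1
    exact Subgroup.mem_bot.2 (congrArg Subtype.val (Subgroup.mem_bot.1 h1))
  obtain ⟨L, hL⟩ : ∃ L : Subgroup G, L = K ⊔ (P : Subgroup G) := ⟨_, rfl⟩
  have hPL : (P : Subgroup G) ≤ L := hL ▸ le_sup_right
  have hKL : K ≤ L := hL ▸ le_sup_left
  obtain ⟨α, hα⟩ : ∃ α : ↥L →* G ⧸ K, ∀ l : ↥L, α l = QuotientGroup.mk' K (l : G) :=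
    ⟨(QuotientGroup.mk' K).comp L.subtype, fun l => rfl⟩
  have hker0 : Q1 ≤ ((QuotientGroup.mk' K).comp (P : Subgroup G).subtype).ker := by
    intro x hx
    rw [MonoidHom.mem_ker]
    show (QuotientGroup.mk' K) (x : G) = 1
    exact (QuotientGroup.eq_one_iff _).2 ((hQpmem x).1 (hQ1le hx))
  obtain ⟨β, hβ⟩ : ∃ β : (↥(P : Subgroup G) ⧸ Q1) →* G ⧸ K,
      ∀ x : ↥(P : Subgroup G), β (QuotientGroup.mk' Q1 x) = QuotientGroup.mk' K (x : G) :=
    ⟨QuotientGroup.lift Q1 _ hker0, fun x => rfl⟩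
  obtain ⟨δ, hδ⟩ : ∃ δ : ↥((P : Subgroup G).subgroupOf L) →* (↥(P : Subgroup G) ⧸ Q1),
      ∀ x : ↥((P : Subgroup G).subgroupOf L),
        δ x = QuotientGroup.mk' Q1 ⟨((x : ↥L) : G), Subgroup.mem_subgroupOf.1 x.2⟩ :=
    ⟨(QuotientGroup.mk' Q1).comp (Subgroup.subgroupOfEquivOfLe hPL).toMonoidHom, fun x => rfl⟩
  have hE : IsPGroup p (↥(P : Subgroup G) ⧸ Q1) := P.2.to_quotient Q1
  have hβker : ∀ x : ↥(P : Subgroup G), β (QuotientGroup.mk' Q1 x) = 1 → x ∈ Qp := by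
    intro x hx
    rw [hβ] at hx
    exact (hQpmem x).2 ((QuotientGroup.eq_one_iff _).1 hx)
  have hZ : ∀ e : ↥(P : Subgroup G) ⧸ Q1, β e = 1 →
      e ∈ Subgroup.center (↥(P : Subgroup G) ⧸ Q1) := by
    intro e he
    obtain ⟨x, rfl⟩ := QuotientGroup.mk'_surjective Q1 e
    have hx := hβker x he
    rw [Subgroup.mem_center_iff]
    intro g
    obtain ⟨y, rfl⟩ := QuotientGroup.mk'_surjective Q1 g
    have h1 : ⁅x, y⁆ ∈ Q1 := by
      rw [hQ1]; exact Subgroup.commutator_mem_commutator hx (Subgroup.mem_top y)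
    have h2 : QuotientGroup.mk' Q1 ⁅x, y⁆ = 1 := (QuotientGroup.eq_one_iff _).2 h1
    rw [map_commutatorElement, commutatorElement_eq_one_iff_commute] at h2
    exact h2.eq.symm
  have hidx : (((P : Subgroup G).subgroupOf L).index).Coprime p := by
    have h1 : ((P : Subgroup G).subgroupOf L).index ∣ (P : Subgroup G).index :=
      Dvd.intro _ (Subgroup.relIndex_mul_index hPL)
    have h2 : ¬ p ∣ (P : Subgroup G).index := P.not_dvd_index
    exact (Nat.Coprime.coprime_dvd_left h1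
      ((Nat.Prime.coprime_iff_not_dvd hp).2 h2).symm)
  have hsurj : ∀ h : ↥L, ∃ e : ↥(P : Subgroup G) ⧸ Q1, β e = α h := by
    intro h
    have h1 : (h : G) ∈ K ⊔ (P : Subgroup G) := hL ▸ h.2
    obtain ⟨k, hk, x, hx, hkx⟩ := Subgroup.mem_sup_of_normal_left.1 h1
    refine ⟨QuotientGroup.mk' Q1 ⟨x, hx⟩, ?_⟩
    have hk1 : QuotientGroup.mk' K k = 1 := (QuotientGroup.eq_one_iff k).2 hk
    rw [hβ, hα, ← hkx, map_mul, hk1, one_mul]
  obtain ⟨σ, hσ⟩ := lift_lemma p α β ((P : Subgroup G).subgroupOf L) δ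
    (by
      intro x
      rw [hδ, hβ, hα])
    hZ hE hidx hsurj
  -- σ kills K
  have hσK : ∀ (k : G) (hk : k ∈ K), σ ⟨k, hKL hk⟩ = 1 := by
    have h1 : K ≤ (σ.ker).map L.subtype := by
      refine hgen.trans ((Subgroup.closure_le _).2 ?_)
      rintro g ⟨hgK, hgc⟩
      refine Subgroup.mem_map.2 ⟨⟨g, hKL hgK⟩, ?_, rfl⟩
      rw [MonoidHom.mem_ker]
      have h2 : (σ ⟨g, hKL hgK⟩) ^ orderOf g = 1 := by
        rw [← map_pow]
        have h3 : (⟨g, hKL hgK⟩ : ↥L) ^ orderOf g = 1 :=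
          Subtype.ext (by rw [Subgroup.coe_pow]; exact pow_orderOf_eq_one g)
        rw [h3, map_one]
      obtain ⟨j, hj⟩ := hE (σ ⟨g, hKL hgK⟩)
      exact S0579.eq_one_of_pow_coprime h2 hj (Nat.Coprime.pow_right j hgc)
    intro k hk
    obtain ⟨l, hl, hlk⟩ := Subgroup.mem_map.1 (h1 hk)
    have h2 : l = ⟨k, hKL hk⟩ := Subtype.ext hlk
    rw [← h2]; exact MonoidHom.mem_ker.1 hl
  -- σ is surjective
  have hσsurj : σ.range = ⊤ := by
    apply frattini_nongenerating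
    rw [eq_top_iff]
    intro e _
    obtain ⟨x, rfl⟩ := QuotientGroup.mk'_surjective Q1 e
    have h1 : β (QuotientGroup.mk' Q1 x * (σ ⟨(x : G), hPL x.2⟩)⁻¹) = 1 := by
      rw [map_mul, map_inv, hσ, hβ, hα]
      exact mul_inv_cancel _
    obtain ⟨y, hy⟩ := QuotientGroup.mk'_surjective Q1
      (QuotientGroup.mk' Q1 x * (σ ⟨(x : G), hPL x.2⟩)⁻¹)
    rw [← hy] at h1
    have h2 := hQpΦ (hβker y h1)
    have h3 : QuotientGroup.mk' Q1 y ∈ frattini (↥(P : Subgroup G) ⧸ Q1) :=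
      frattini_le_comap_frattini_of_surjective (QuotientGroup.mk'_surjective Q1) h2
    have h4 : QuotientGroup.mk' Q1 x = σ ⟨(x : G), hPL x.2⟩ * QuotientGroup.mk' Q1 y := by
      have hc := Subgroup.mem_center_iff.1 (hZ _ h1) (σ ⟨(x : G), hPL x.2⟩)
      rw [hc, hy]; group
    rw [h4]
    exact Subgroup.mul_mem_sup (MonoidHom.mem_range.2 ⟨_, rfl⟩) h3
  intro x hx
  have h1 : QuotientGroup.mk' Q1 x ∈ σ.range := by rw [hσsurj]; exact Subgroup.mem_top _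
  obtain ⟨l, hl⟩ := MonoidHom.mem_range.1 h1
  have h2 : α l = 1 := by
    rw [← hσ, hl, hβ]
    exact (QuotientGroup.eq_one_iff _).2 ((hQpmem x).1 hx)
  rw [hα] at h2
  have h3 : (l : G) ∈ K := (QuotientGroup.eq_one_iff _).1 h2
  have h4 := hσK (l : G) h3
  have h5 : (⟨(l : G), hKL h3⟩ : ↥L) = l := Subtype.ext rfl
  rw [h5, hl] at h4
  exact (QuotientGroup.eq_one_iff x).1 h4

theorem result {G : Type*} [Group G] [Finite G] {p : ℕ} [Fact p.Prime] (P : Sylow p G) (N : Subgroup G) [N.Normal] (h : N ⊓ (P : Subgroup G) ≤ (frattini P).map (P : Subgroup G).subtype) : Cfsg.HasNormalPComplement p N := by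
  have hp : p.Prime := Fact.out
  obtain ⟨K, hK⟩ : ∃ K : Subgroup G,
      K = Subgroup.closure {g : G | g ∈ N ∧ (orderOf g).Coprime p} := ⟨_, rfl⟩
  have hKN : K ≤ N := by rw [hK]; exact (Subgroup.closure_le _).2 (fun g hg => hg.1)
  have hNn : N.Normal := inferInstance
  haveI hKn : K.Normal := by
    constructor
    intro n hn g
    rw [hK] at hn ⊢
    refine Subgroup.closure_induction
      (p := fun x _ => g * x * g⁻¹ ∈ Subgroup.closure {g : G | g ∈ N ∧ (orderOf g).Coprime p})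
      ?_ ?_ ?_ ?_ hn
    · intro x hx
      refine Subgroup.subset_closure ⟨hNn.conj_mem x hx.1 g, ?_⟩
      have h1 := (SemiconjBy.conj_mk g x).orderOf_eq
      rw [← h1]; exact hx.2
    · simp
    · intro x y _ _ hx hy
      have e : g * (x * y) * g⁻¹ = (g * x * g⁻¹) * (g * y * g⁻¹) := by group
      rw [e]; exact Subgroup.mul_mem _ hx hy
    · intro x _ hx
      have e : g * x⁻¹ * g⁻¹ = (g * x * g⁻¹)⁻¹ := by group
      rw [e]; exact Subgroup.inv_mem _ hx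
  have hgenmem : ∀ g : G, g ∈ N → (orderOf g).Coprime p → g ∈ K := by
    intro g hg hc
    rw [hK]; exact Subgroup.subset_closure ⟨hg, hc⟩
  have hgen : K ≤ Subgroup.closure {g : G | g ∈ K ∧ (orderOf g).Coprime p} := by
    have h1 : Subgroup.closure {g : G | g ∈ N ∧ (orderOf g).Coprime p} ≤
        Subgroup.closure {g : G | g ∈ K ∧ (orderOf g).Coprime p} :=
      Subgroup.closure_mono (fun g hg => ⟨hgenmem g hg.1 hg.2, hg.2⟩)
    rw [← hK] at h1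
    exact h1
  have hKP := tate_core P K hgen ((inf_le_inf_right _ hKN).trans h)
  have hcard : ¬ p ∣ Nat.card ↥K := by
    intro hdvd
    obtain ⟨x, hx⟩ := exists_prime_orderOf_dvd_card' (G := ↥K) p hdvd
    have hxo : orderOf (x : G) = p := by rw [Subgroup.orderOf_coe]; exact hx
    have hpg : IsPGroup p ↥(Subgroup.zpowers (x : G)) := by
      apply IsPGroup.of_card (n := 1)
      rw [Nat.card_zpowers, hxo, pow_one]
    obtain ⟨S, hS⟩ := hpg.exists_le_sylow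
    obtain ⟨g, hg⟩ := MulAction.exists_smul_eq G S P
    have h1 : g * (x : G) * g⁻¹ ∈ (P : Subgroup G) := by
      rw [← hg, Sylow.coe_subgroup_smul]
      have h2 : (x : G) ∈ (S : Subgroup G) := hS (Subgroup.mem_zpowers _)
      have h3 := Subgroup.smul_mem_pointwise_smul (x : G) (MulAut.conj g) (S : Subgroup G) h2
      rwa [MulAut.smul_def, MulAut.conj_apply] at h3
    have h2 : g * (x : G) * g⁻¹ ∈ K ⊓ (P : Subgroup G) :=
      Subgroup.mem_inf.2 ⟨hKn.conj_mem _ x.2 g, h1⟩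
    rw [hKP, Subgroup.mem_bot] at h2
    have h3 : (x : G) = 1 := by
      have e : (x : G) = g⁻¹ * (g * (x : G) * g⁻¹) * g := by group
      rw [e, h2]; group
    rw [h3, orderOf_one] at hxo
    exact hp.one_lt.ne hxo
  have hcop : (Nat.card ↥(K.subgroupOf N)).Coprime p := by
    have h1 : Nat.card ↥(K.subgroupOf N) = Nat.card ↥K :=
      Nat.card_congr (Subgroup.subgroupOfEquivOfLe hKN).toEquiv
    rw [h1]
    exact ((Nat.Prime.coprime_iff_not_dvd hp).2 hcard).symm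
  have hpq : IsPGroup p (↥N ⧸ K.subgroupOf N) := by
    intro q
    obtain ⟨x, rfl⟩ := QuotientGroup.mk_surjective q
    obtain ⟨a₁, a₂, ha₁, ha₂, haa, ha₁p, ha₂c⟩ := S0667.decomp p (x : G)
    have hzN : Subgroup.zpowers (x : G) ≤ N := by
      rw [Subgroup.zpowers_le]; exact x.2
    have ha₂K : a₂ ∈ K := hgenmem a₂ (hzN ha₂) ha₂c
    obtain ⟨j, hj⟩ := ha₁p ⟨a₁, Subgroup.mem_zpowers a₁⟩
    have hj' : a₁ ^ p ^ j = 1 := congrArg Subtype.val hj
    refine ⟨j, ?_⟩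
    rw [← QuotientGroup.mk_pow, QuotientGroup.eq_one_iff, Subgroup.mem_subgroupOf]
    have hcomm : Commute a₂ a₁ := by
      obtain ⟨i, rfl⟩ := Subgroup.mem_zpowers_iff.1 ha₁
      obtain ⟨i', rfl⟩ := Subgroup.mem_zpowers_iff.1 ha₂
      exact (Commute.refl (x : G)).zpow_zpow i' i
    have e : ((x ^ p ^ j : ↥N) : G) = a₂ ^ p ^ j := by
      rw [Subgroup.coe_pow]
      conv_lhs => rw [haa]
      rw [hcomm.mul_pow, hj', mul_one]
    rw [e]
    exact Subgroup.pow_mem _ ha₂K _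
  obtain ⟨j, hj⟩ := IsPGroup.iff_card.1 hpq
  exact Lib.Helper1.Frob.hasNPC_iff.2 ⟨K.subgroupOf N, inferInstance, hcop, j, by
    rw [Subgroup.index_eq_card]; exact hj⟩

end Cfsg.Agent.S0081
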