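import Mathlib
import Cfsg.Statements.S0112
import Cfsg.Agent.S0003

set_option autoImplicit false
open Pointwise
open Cfsg
open scoped commutatorElement

namespace Cfsg.Agent.S0112

theorem card_le_of_comm_mem {G : Type*} [Group G] [Finite G] (T Z : Subgroup G) (a : G)
    (h : ∀ g ∈ T, ⁅g, a⁆ ∈ Z) :
    Nat.card T ≤ Nat.card Z * Nat.card (T ⊓ Subgroup.centralizer ({a} : Set G) : Subgroup G) := by
  classical
  set K' := T ⊓ Subgroup.centralizer ({a} : Set G) with hK'
  have hK'T : K' ≤ T := inf_le_left
  have hxK' : ∀ k ∈ K', k * a = a * k := by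
    intro k hk
    have h1 := (Subgroup.mem_inf.1 hk).2
    rw [Subgroup.mem_centralizer_iff] at h1
    exact (h1 a rfl).symm
  have h1 : Nat.card T = Nat.card K' * K'.relIndex T := by
    have h := Subgroup.relIndex_mul_relIndex (⊥ : Subgroup G) K' T bot_le hK'T
    rw [Subgroup.relIndex_bot_left, Subgroup.relIndex_bot_left] at h
    exact h.symm
  have h2 : K'.relIndex T ≤ Nat.card Z := by
    let f : ↥T ⧸ (K'.subgroupOf T) → ↥Z :=
      Quotient.lift (fun g : ↥T => (⟨⁅(g : G), a⁆, h g g.2⟩ : ↥Z)) (by
        intro g g' hgh
        have h1 : g⁻¹ * g' ∈ K'.subgroupOf T := QuotientGroup.leftRel_apply.mp hgh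
        have h2 : ((g : G)⁻¹ * g') ∈ K' := Subgroup.mem_subgroupOf.1 h1
        apply Subtype.ext
        show ⁅(g : G), a⁆ = ⁅(g' : G), a⁆
        have h3 := hxK' _ h2
        have e : (g' : G) * a * (g' : G)⁻¹ = g * a * (g : G)⁻¹ := by
          calc (g' : G) * a * (g' : G)⁻¹ = g * (((g : G)⁻¹ * g') * a) * (g' : G)⁻¹ := by group
            _ = g * (a * ((g : G)⁻¹ * g')) * (g' : G)⁻¹ := by rw [h3]
            _ = g * a * (g : G)⁻¹ := by group
        rw [commutatorElement_def, commutatorElement_def, e])
    have hf : ∀ g : ↥T, f (QuotientGroup.mk g) = (⟨⁅(g : G), a⁆, h g g.2⟩ : ↥Z) := fun g => rfl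
    have hinj : Function.Injective f := by
      intro u v
      induction u using QuotientGroup.induction_on with
      | H g =>
        induction v using QuotientGroup.induction_on with
        | H g' =>
          intro hgh
          rw [hf, hf] at hgh
          have h3 : ⁅(g : G), a⁆ = ⁅(g' : G), a⁆ := congrArg Subtype.val hgh
          rw [QuotientGroup.eq]
          apply Subgroup.mem_subgroupOf.2
          refine Subgroup.mem_inf.2 ⟨T.mul_mem (T.inv_mem g.2) g'.2, ?_⟩
          rw [Subgroup.mem_centralizer_iff]
          intro b hb
          rw [Set.mem_singleton_iff] at hb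
          rw [hb]
          rw [commutatorElement_def, commutatorElement_def] at h3
          have h4 : (g : G) * a * (g : G)⁻¹ = g' * a * (g' : G)⁻¹ := mul_right_cancel h3
          show a * ((g : G)⁻¹ * (g' : G)) = (g : G)⁻¹ * (g' : G) * a
          calc a * ((g : G)⁻¹ * (g' : G)) = (g : G)⁻¹ * ((g : G) * a * (g : G)⁻¹) * g' := by group
            _ = (g : G)⁻¹ * ((g' : G) * a * (g' : G)⁻¹) * g' := by rw [h4]
            _ = (g : G)⁻¹ * (g' : G) * a := by group
    exact Nat.card_le_card_of_injective f hinj
  rw [h1, mul_comm]
  exact Nat.mul_le_mul_right _ h2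

universe u in
theorem aux {p : ℕ} [Fact p.Prime] (n : ℕ) : ∀ (X : Type u) [Group X] [Finite X],
    Nat.card X = p ^ n → ∀ A : Subgroup X, Nat.card A = p ^ 2 →
    Subgroup.centralizer (A : Set X) ≤ A → Group.nilpotencyClass X = n - 1 := by
  induction n using Nat.strong_induction_on with
  | _ n ih =>
    intro X _ _ hX A hA hC
    classical
    have hpp : p.Prime := Fact.out
    have hXp : IsPGroup p X := IsPGroup.of_card hX
    haveI : Group.IsNilpotent X := hXp.isNilpotent
    have hn2 : 2 ≤ n := by
      have h1 : p ^ 2 ∣ p ^ n := hA ▸ hX ▸ Subgroup.card_subgroup_dvd_card A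
      exact (Nat.pow_dvd_pow_iff_le_right hpp.one_lt).1 h1
    haveI : Nontrivial X := by
      rw [← Finite.one_lt_card_iff_nontrivial, hX]
      exact Nat.one_lt_pow (by omega) hpp.one_lt
    rcases Nat.eq_or_lt_of_le hn2 with hn | hn
    · subst hn
      have hab := IsPGroup.commutative_of_card_eq_prime_sq hX
      have h1 : Group.nilpotencyClass X ≤ 1 :=
        (Group.IsNilpotent.nilpotencyClass_le_one_iff).2 ⟨⟨hab⟩⟩
      have h0 : Group.nilpotencyClass X ≠ 0 := by
        rw [Ne, Group.nilpotencyClass_zero_iff_subsingleton]
        exact not_subsingleton X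
      omega
    · have hZA : Subgroup.center X ≤ A := fun z hz => hC (Subgroup.center_le_centralizer _ hz)
      have hZne : Subgroup.center X ≠ A := by
        intro h
        have h1 : Subgroup.centralizer (A : Set X) = ⊤ := by
          rw [← h]
          exact Subgroup.centralizer_eq_top_iff_subset.2 (le_refl _)
        have h2 : A = ⊤ := top_le_iff.1 (h1 ▸ hC)
        rw [h2, Subgroup.card_top, hX] at hA
        have := Nat.pow_right_injective hpp.two_le hA
        omega
      have hZnt : Nontrivial (Subgroup.center X) := hXp.center_nontrivial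
      have hZcard : Nat.card (Subgroup.center X) = p := by
        obtain ⟨k, hk⟩ := (hXp.to_subgroup (Subgroup.center X)).exists_card_eq
        have hk2 : k < 2 := by
          by_contra hge
          apply hZne
          exact Subgroup.eq_of_le_of_card_ge hZA (by
            rw [hA, hk]; exact Nat.pow_le_pow_right hpp.pos (by omega))
        have hk0 : k ≠ 0 := by
          rintro rfl
          rw [pow_zero] at hk
          have := Finite.one_lt_card_iff_nontrivial.2 hZnt
          omega
        have hk1 : k = 1 := by omega
        rw [hk, hk1, pow_one]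
      have hXb : Nat.card (X ⧸ Subgroup.center X) = p ^ (n - 1) := by
        have h1 := Subgroup.card_mul_index (Subgroup.center X)
        rw [hZcard, hX, Subgroup.index_eq_card] at h1
        apply Nat.eq_of_mul_eq_mul_left hpp.pos
        rw [h1, ← pow_succ']; congr 1; omega
      have hXbp : IsPGroup p (X ⧸ Subgroup.center X) := IsPGroup.of_card hXb
      haveI : Nontrivial (X ⧸ Subgroup.center X) := by
        rw [← Finite.one_lt_card_iff_nontrivial, hXb]
        exact Nat.one_lt_pow (by omega) hpp.one_lt
      have hAbcard : Nat.card (A.map (QuotientGroup.mk' (Subgroup.center X))) = p := by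
        have h1 := Cfsg.Agent.S0003.card_map_mk A (Subgroup.center X)
        rw [inf_of_le_right hZA, hZcard, hA] at h1
        exact Nat.eq_of_mul_eq_mul_right hpp.pos (h1.trans (sq p))
      have hAab : ∀ b ∈ A, ∀ a ∈ A, b * a = a * b := by
        intro b hb a ha
        exact congrArg Subtype.val (IsPGroup.commutative_of_card_eq_prime_sq hA ⟨b, hb⟩ ⟨a, ha⟩)
      have hAbTb : A.map (QuotientGroup.mk' (Subgroup.center X)) ≤ Subgroup.centralizer
          ((A.map (QuotientGroup.mk' (Subgroup.center X)) : Subgroup (X ⧸ Subgroup.center X)) :
            Set (X ⧸ Subgroup.center X)) := by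
        rintro _ ⟨a, ha, rfl⟩
        rw [Subgroup.mem_centralizer_iff]
        rintro _ ⟨b, hb, rfl⟩
        rw [← map_mul, ← map_mul, hAab b hb a ha]
      have hCTb : Subgroup.centralizer ((Subgroup.centralizer
          ((A.map (QuotientGroup.mk' (Subgroup.center X)) : Subgroup (X ⧸ Subgroup.center X)) :
            Set (X ⧸ Subgroup.center X)) : Subgroup (X ⧸ Subgroup.center X)) :
            Set (X ⧸ Subgroup.center X)) ≤ Subgroup.centralizer
          ((A.map (QuotientGroup.mk' (Subgroup.center X)) : Subgroup (X ⧸ Subgroup.center X)) :
            Set (X ⧸ Subgroup.center X)) := Subgroup.centralizer_le hAbTb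
      obtain ⟨Tb, hTb⟩ : ∃ Tb : Subgroup (X ⧸ Subgroup.center X), Tb = Subgroup.centralizer
          ((A.map (QuotientGroup.mk' (Subgroup.center X)) : Subgroup (X ⧸ Subgroup.center X)) :
            Set (X ⧸ Subgroup.center X)) := ⟨_, rfl⟩
      rw [← hTb] at hCTb hAbTb
      -- the counting
      have hTble : Nat.card Tb ≤ p ^ 2 := by
        obtain ⟨a, haA, haZ⟩ := SetLike.exists_of_lt (lt_of_le_of_ne hZA hZne)
        have hcomm : ∀ g ∈ Tb.comap (QuotientGroup.mk' (Subgroup.center X)),
            ⁅g, a⁆ ∈ Subgroup.center X := by
          intro g hg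
          rw [Subgroup.mem_comap, hTb, Subgroup.mem_centralizer_iff] at hg
          have h1 := hg _ ⟨a, haA, rfl⟩
          rw [← QuotientGroup.eq_one_iff]
          have h2 : ((⁅g, a⁆ : X) : X ⧸ Subgroup.center X) =
              ⁅(QuotientGroup.mk' (Subgroup.center X)) g, (QuotientGroup.mk' (Subgroup.center X)) a⁆ :=
            map_commutatorElement (QuotientGroup.mk' (Subgroup.center X)) g a
          rw [h2, commutatorElement_eq_one_iff_mul_comm]
          exact h1.symm
        have h1 := card_le_of_comm_mem (Tb.comap (QuotientGroup.mk' (Subgroup.center X)))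
          (Subgroup.center X) a hcomm
        have hAsup : A ≤ Subgroup.center X ⊔ Subgroup.zpowers a := by
          have hle : Subgroup.center X ⊔ Subgroup.zpowers a ≤ A :=
            sup_le hZA (Subgroup.zpowers_le.2 haA)
          have heq : Subgroup.center X ⊔ Subgroup.zpowers a = A := by
            apply Subgroup.eq_of_le_of_card_ge hle
            obtain ⟨k, hk⟩ := (hXp.to_subgroup (Subgroup.center X ⊔ Subgroup.zpowers a)).exists_card_eq
            rw [hA, hk]
            apply Nat.pow_le_pow_right hpp.pos
            by_contra hk2
            have hk1 : k ≤ 1 := by omega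
            have h3 : Subgroup.center X = Subgroup.center X ⊔ Subgroup.zpowers a :=
              Subgroup.eq_of_le_of_card_ge le_sup_left (by
                rw [hk, hZcard]
                calc p ^ k ≤ p ^ 1 := Nat.pow_le_pow_right hpp.pos hk1
                  _ = p := pow_one p)
            exact haZ (h3 ▸ Subgroup.mem_sup_right (Subgroup.mem_zpowers a))
          exact heq.ge
        have hCa : Subgroup.centralizer ({a} : Set X) ≤ A := by
          intro g hg
          apply hC
          rw [Subgroup.mem_centralizer_iff] at hg
          have hga := hg a rfl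
          have hle : Subgroup.center X ⊔ Subgroup.zpowers a ≤ Subgroup.centralizer ({g} : Set X) := by
            apply sup_le
            · intro z hz
              rw [Subgroup.mem_centralizer_iff]
              intro b hb
              rw [Set.mem_singleton_iff] at hb
              rw [hb]
              exact Subgroup.mem_center_iff.1 hz g
            · rw [Subgroup.zpowers_le, Subgroup.mem_centralizer_iff]
              intro b hb
              rw [Set.mem_singleton_iff] at hb
              rw [hb]
              exact hga.symm
          rw [Subgroup.mem_centralizer_iff]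
          intro b hb
          have h3 := hle (hAsup hb)
          rw [Subgroup.mem_centralizer_iff] at h3
          exact (h3 g rfl).symm
        have h2 : Nat.card (Tb.comap (QuotientGroup.mk' (Subgroup.center X)) ⊓
            Subgroup.centralizer ({a} : Set X) : Subgroup X) ≤ p ^ 2 :=
          hA ▸ Subgroup.card_le_of_le (inf_le_right.trans hCa)
        have h3 := Cfsg.Agent.S0003.card_comap_mk' (Subgroup.center X) Tb
        rw [h3, hZcard] at h1
        have h4 : p * Nat.card Tb ≤ p * p ^ 2 := h1.trans (Nat.mul_le_mul_left p h2)
        exact Nat.le_of_mul_le_mul_left h4 hpp.pos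
      have hTbcard : Nat.card Tb = p ^ 2 := by
        obtain ⟨k, hk⟩ := (hXbp.to_subgroup Tb).exists_card_eq
        have hk2 : k ≤ 2 := (Nat.pow_le_pow_iff_right hpp.one_lt).1 (hk ▸ hTble)
        have hk1 : 1 ≤ k := by
          have h1 := Subgroup.card_le_of_le hAbTb
          rw [hAbcard, hk] at h1
          by_contra h0
          have hk0 : k = 0 := by omega
          rw [hk0, pow_zero] at h1
          have := hpp.two_le
          omega
        rcases (by omega : k = 1 ∨ k = 2) with hk' | hk'
        · exfalso
          rw [hk', pow_one] at hk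
          have hTA : A.map (QuotientGroup.mk' (Subgroup.center X)) = Tb :=
            Subgroup.eq_of_le_of_card_ge hAbTb (by rw [hk, hAbcard])
          have hcn := hXbp.center_nontrivial
          have hcle : Subgroup.center (X ⧸ Subgroup.center X) ≤ Tb := by
            rw [hTb]; exact Subgroup.center_le_centralizer _
          have hceq : Subgroup.center (X ⧸ Subgroup.center X) = Tb := by
            apply Subgroup.eq_of_le_of_card_ge hcle
            rw [hk]
            obtain ⟨j, hj⟩ := (hXbp.to_subgroup (Subgroup.center (X ⧸ Subgroup.center X))).exists_card_eq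
            rw [hj]
            have hj0 : j ≠ 0 := by
              rintro rfl
              rw [pow_zero] at hj
              have := Finite.one_lt_card_iff_nontrivial.2 hcn
              omega
            exact Nat.le_self_pow hj0 p
          have hTtop : Tb = ⊤ := by
            rw [hTb, hTA, ← hceq]
            exact Subgroup.centralizer_eq_top_iff_subset.2 (le_refl _)
          have h5 : Nat.card Tb = Nat.card (X ⧸ Subgroup.center X) := by
            rw [hTtop, Subgroup.card_top]
          rw [hk, hXb] at h5
          have h6 : p ^ 1 = p ^ (n - 1) := by rw [pow_one]; exact h5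
          have := Nat.pow_right_injective hpp.two_le h6
          omega
        · rw [hk, hk']
      have hIH := ih (n - 1) (by omega) (X ⧸ Subgroup.center X) hXb Tb hTbcard hCTb
      have h1 := Group.nilpotencyClass_eq_quotient_center_plus_one (G := X)
      rw [h1, hIH]; omega

theorem result {X : Type*} [Group X] [Finite X] {p : ℕ} [Fact p.Prime] (n : ℕ) (hX : Nat.card X = p ^ n) (A : Subgroup X) (hA : Nat.card A = p ^ 2) (hC : Subgroup.centralizer (A : Set X) = A) : Group.nilpotencyClass X = n - 1 :=
  aux n X hX A hA hC.le

end Cfsg.Agent.S0112
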