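import Cfsg.Statements.S4107

import Mathlib
import Cfsg.Agent.Lib.Helper2.Fit

set_option autoImplicit false
open Cfsg
open scoped Pointwise

namespace Cfsg.Agent.S4107

open Cfsg.Agent.Lib.Helper2

theorem pow_mem_of {G : Type*} [Group G] (N K : Subgroup G) [K.Normal]
    (heq : ∀ x : G, x ∉ N → ∀ n ∈ N, orderOf (x * n) = orderOf x)
    (x : G) (hxK : x ∈ K) (hxN : x ∉ N) (n : G) (hn : n ∈ N) (m : ℕ) (hm : x ^ m = 1) :
    n ^ m ∈ K := by
  have h1 : (x * n) ^ m = 1 := by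
    have hd : orderOf x ∣ m := orderOf_dvd_of_pow_eq_one hm
    rw [← heq x hxN n hn] at hd
    exact orderOf_dvd_iff_pow_eq_one.mp hd
  have h2 : (QuotientGroup.mk' K) (x * n) = (QuotientGroup.mk' K) n := by
    rw [map_mul]
    have : (QuotientGroup.mk' K) x = 1 := (QuotientGroup.eq_one_iff x).mpr hxK
    rw [this, one_mul]
  have h3 : (QuotientGroup.mk' K) (n ^ m) = 1 := by
    rw [map_pow, ← h2, ← map_pow, h1, map_one]
  exact (QuotientGroup.eq_one_iff _).mp h3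

theorem eq_one_of_two {G : Type*} [Group G] {p q : ℕ} (hp : p.Prime) (hq : q.Prime) (hpq : p ≠ q)
    (g : G) (a b : ℕ) (h1 : g ^ (p ^ a) = 1) (h2 : g ^ (q ^ b) = 1) : g = 1 := by
  have d1 : orderOf g ∣ p ^ a := orderOf_dvd_of_pow_eq_one h1
  have d2 : orderOf g ∣ q ^ b := orderOf_dvd_of_pow_eq_one h2
  have hc : Nat.Coprime (p ^ a) (q ^ b) := Nat.coprime_pow_primes a b hp hq hpq
  have : orderOf g ∣ 1 := by
    have := Nat.dvd_gcd d1 d2
    rwa [hc] at this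
  exact orderOf_eq_one_iff.mp (Nat.dvd_one.mp this)

theorem mem_pgroup_pow {G : Type*} [Group G] {p : ℕ} {K : Subgroup G} (hK : IsPGroup p K)
    (g : G) (hg : g ∈ K) : ∃ k : ℕ, g ^ (p ^ k) = 1 := by
  obtain ⟨k, hk⟩ := hK ⟨g, hg⟩
  refine ⟨k, ?_⟩
  have := congrArg Subtype.val hk
  simpa using this

theorem result {G : Type*} [Group G] [Finite G] (N : Subgroup G) [N.Normal] (hN1 : N ≠ ⊥) (hN2 : N ≠ ⊤)
    (heq : ∀ x : G, x ∉ N → ∀ n ∈ N, orderOf (x * n) = orderOf x) :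
    (N ≤ Cfsg.fittingSubgroup G ∨ Cfsg.fittingSubgroup G ≤ N) ∧
    (N < Cfsg.fittingSubgroup G → IsPrimePow (Nat.card (Cfsg.fittingSubgroup G))) := by
  classical
  by_cases hFN : Cfsg.fittingSubgroup G ≤ N
  · refine ⟨Or.inr hFN, fun h => absurd (lt_of_lt_of_le h hFN) (lt_irrefl _)⟩
  · -- some O_p(G) is not inside N
    have hex : ∃ p : Nat.Primes, ¬ Cfsg.pCore (p : ℕ) G ≤ N := by
      by_contra hcon
      push_neg at hcon
      apply hFN
      rw [Fit.fitting_eq_iSup_pCore]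
      exact iSup_le hcon
    obtain ⟨p, hp⟩ := hex
    haveI : Fact (p : ℕ).Prime := ⟨p.2⟩
    obtain ⟨x, hxK, hxN⟩ := SetLike.not_le_iff_exists.mp hp
    haveI hKn : (Cfsg.pCore (p : ℕ) G).Normal := Fit.pCore_normal _
    have hKp : IsPGroup (p : ℕ) (Cfsg.pCore (p : ℕ) G) := Fit.pCore_isPGroup _
    -- every element of N is a p-element
    have hNelt : ∀ n ∈ N, ∃ k : ℕ, n ^ ((p : ℕ) ^ k) = 1 := by
      intro n hn
      obtain ⟨k, hk⟩ := mem_pgroup_pow hKp x hxK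
      have h1 := pow_mem_of N (Cfsg.pCore (p : ℕ) G) heq x hxK hxN n hn _ hk
      obtain ⟨j, hj⟩ := mem_pgroup_pow hKp _ h1
      refine ⟨k + j, ?_⟩
      rw [pow_add, pow_mul]
      exact hj
    have hNp : IsPGroup (p : ℕ) N := by
      intro g
      obtain ⟨k, hk⟩ := hNelt g.1 g.2
      refine ⟨k, ?_⟩
      apply Subtype.ext
      simpa using hk
    have hNle : N ≤ Cfsg.pCore (p : ℕ) G := Fit.le_pCore N inferInstance hNp
    have hNF : N ≤ Cfsg.fittingSubgroup G := hNle.trans (Fit.pCore_le_fitting _)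
    refine ⟨Or.inl hNF, fun _ => ?_⟩
    -- other cores are trivial
    have hother : ∀ q : Nat.Primes, q ≠ p → Cfsg.pCore (q : ℕ) G = ⊥ := by
      intro q hqp
      by_contra hne
      obtain ⟨y, hyK, hy1⟩ := (Subgroup.ne_bot_iff_exists_ne_one
        (H := Cfsg.pCore (q : ℕ) G)).mp hne |>.imp (fun y hy => hy) |> fun ⟨y, hy⟩ =>
          (⟨y.1, y.2, fun h => hy (Subtype.ext h)⟩ : ∃ y : G, y ∈ Cfsg.pCore (q : ℕ) G ∧ y ≠ 1)
      haveI hQn : (Cfsg.pCore (q : ℕ) G).Normal := Fit.pCore_normal _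
      have hQp : IsPGroup (q : ℕ) (Cfsg.pCore (q : ℕ) G) := Fit.pCore_isPGroup _
      have hpq : (p : ℕ) ≠ (q : ℕ) := fun h => hqp (Subtype.ext h.symm)
      obtain ⟨b, hb⟩ := mem_pgroup_pow hQp y hyK
      have hyN : y ∉ N := by
        intro hyN
        obtain ⟨a, ha⟩ := hNelt y hyN
        exact hy1 (eq_one_of_two p.2 q.2 hpq y a b ha hb)
      apply hN1
      rw [Subgroup.eq_bot_iff_forall]
      intro n hn
      have h1 := pow_mem_of N (Cfsg.pCore (q : ℕ) G) heq y hyK hyN n hn _ hb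
      obtain ⟨c, hc⟩ := mem_pgroup_pow hQp _ h1
      obtain ⟨a, ha⟩ := hNelt _ (N.pow_mem hn ((q : ℕ) ^ b))
      have h2 : n ^ ((q : ℕ) ^ b) = 1 := eq_one_of_two p.2 q.2 hpq _ a c ha hc
      obtain ⟨a', ha'⟩ := hNelt n hn
      exact eq_one_of_two p.2 q.2 hpq n a' b ha' h2
    have hFeq : Cfsg.fittingSubgroup G = Cfsg.pCore (p : ℕ) G := by
      rw [Fit.fitting_eq_iSup_pCore]
      apply le_antisymm
      · apply iSup_le
        intro q
        by_cases hqp : q = p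
        · rw [hqp]
        · rw [hother q hqp]; exact bot_le
      · exact le_iSup (fun q : Nat.Primes => Cfsg.pCore (q : ℕ) G) p
    rw [hFeq]
    obtain ⟨k, hk⟩ := hKp.exists_card_eq
    rw [isPrimePow_nat_iff]
    refine ⟨p, k, p.2, ?_, hk.symm⟩
    rcases Nat.eq_zero_or_pos k with h0 | h0
    · exfalso
      rw [h0, pow_zero] at hk
      apply hN1
      have : Cfsg.pCore (p : ℕ) G = ⊥ := Subgroup.eq_bot_of_card_eq _ hk
      rw [this] at hNle
      exact le_bot_iff.mp hNle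
    · exact h0

end Cfsg.Agent.S4107
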