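import Cfsg.Statements.S4155

import Mathlib
import Cfsg.Agent.S4107
import Cfsg.Agent.S0067
import Cfsg.Agent.Lib.Helper1.UniqP
import Cfsg.Agent.Lib.Helper2.Fit

set_option autoImplicit false
open Cfsg
open scoped Pointwise

namespace Cfsg.Agent.S4155

open Cfsg.Agent.Lib.Helper2 Cfsg.Agent.Lib.Helper2.Sub

theorem prod_shift {W : Type*} [CommGroup W] (q : ℕ) (ρ : MulAut W) (hρ : ρ ^ q = 1)
    (hf : ∀ w, ρ w = w → w = 1) (w : W) : ∏ i ∈ Finset.range q, (ρ ^ i) w = 1 := by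
  apply hf
  rw [map_prod]
  have h1 := Finset.prod_range_succ' (fun i => (ρ ^ i) w) q
  have h2 := Finset.prod_range_succ (fun i => (ρ ^ i) w) q
  rw [h2] at h1
  simp only [pow_zero, hρ, MulAut.one_apply] at h1
  have h3 := mul_right_cancel h1
  rw [h3]
  apply Finset.prod_congr rfl
  intro i _
  rw [pow_succ']
  rfl

theorem prod_reindex {W : Type*} [CommGroup W] (q : ℕ) (hq : q.Prime) (σ : MulAut W)
    (hσ : σ ^ q = 1) (j : ℕ) (hj0 : 0 < j) (hjq : j < q) (u : W) :
    ∏ k ∈ Finset.range q, (σ ^ (k * j)) u = ∏ i ∈ Finset.range q, (σ ^ i) u := by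
  have hcop : Nat.gcd q j = 1 := by
    have : ¬ q ∣ j := fun h => by have := Nat.le_of_dvd hj0 h; omega
    exact (Nat.Prime.coprime_iff_not_dvd hq).mpr this
  have hinj : Set.InjOn (fun k => (k * j) % q) (Finset.range q : Set ℕ) := by
    intro k hk k' hk' h
    simp only [Finset.coe_range, Set.mem_Iio] at hk hk'
    have h1 : k * j ≡ k' * j [MOD q] := h
    have h2 : k ≡ k' [MOD q] := Nat.ModEq.cancel_right_of_coprime hcop h1
    have h3 : k % q = k' % q := h2
    rwa [Nat.mod_eq_of_lt hk, Nat.mod_eq_of_lt hk'] at h3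
  have himg : (Finset.range q).image (fun k => (k * j) % q) = Finset.range q := by
    apply Finset.eq_of_subset_of_card_le
    · intro i hi
      obtain ⟨k, _, rfl⟩ := Finset.mem_image.mp hi
      exact Finset.mem_range.mpr (Nat.mod_lt _ hq.pos)
    · rw [Finset.card_image_of_injOn hinj]
  calc ∏ k ∈ Finset.range q, (σ ^ (k * j)) u
      = ∏ k ∈ Finset.range q, (σ ^ ((k * j) % q)) u := by
        apply Finset.prod_congr rfl
        intro k _
        rw [pow_eq_pow_mod (k * j) hσ]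
    _ = ∏ i ∈ (Finset.range q).image (fun k => (k * j) % q), (σ ^ i) u := by
        rw [Finset.prod_image hinj]
    _ = ∏ i ∈ Finset.range q, (σ ^ i) u := by rw [himg]

theorem PT {W : Type*} [CommGroup W] (q : ℕ) (hq : q.Prime) (σ τ : MulAut W)
    (hcomm : Commute σ τ) (hσ : σ ^ q = 1) (hτ : τ ^ q = 1)
    (hfσ : ∀ w, σ w = w → w = 1) (hfρ : ∀ k : ℕ, ∀ w, (σ ^ k * τ) w = w → w = 1) (w : W) :
    w ^ q = 1 := by
  have hρq : ∀ k : ℕ, (σ ^ k * τ) ^ q = 1 := by
    intro k
    rw [(hcomm.pow_left k).mul_pow, ← pow_mul, mul_comm, pow_mul, hσ, one_pow, hτ, one_mul]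
  have h1 : ∏ k ∈ Finset.range q, ∏ j ∈ Finset.range q, ((σ ^ k * τ) ^ j) w = 1 := by
    apply Finset.prod_eq_one
    intro k _
    exact prod_shift q (σ ^ k * τ) (hρq k) (hfρ k) w
  rw [Finset.prod_comm] at h1
  rw [Finset.prod_eq_single 0] at h1
  · simpa using h1
  · intro j hj hj0
    have hjq : j < q := Finset.mem_range.mp hj
    have h2 : ∀ k ∈ Finset.range q, ((σ ^ k * τ) ^ j) w = (σ ^ (k * j)) ((τ ^ j) w) := by
      intro k _
      rw [(hcomm.pow_left k).mul_pow, ← pow_mul]; rfl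
    rw [Finset.prod_congr rfl h2, prod_reindex q hq σ hσ j (Nat.pos_of_ne_zero hj0) hjq]
    exact prod_shift q σ hσ hfσ _
  · intro h
    exact absurd (Finset.mem_range.mpr hq.pos) h

open scoped commutatorElement in
theorem normal_inf_center {Γ : Type*} [Group Γ] [hnil : Group.IsNilpotent Γ] (V : Subgroup Γ)
    [hVn : V.Normal] (hV : V ≠ ⊥) : ∃ v ∈ V, v ∈ Subgroup.center Γ ∧ v ≠ 1 := by
  obtain ⟨n, hn⟩ := hnil.nilpotent'
  have key : ∀ k : ℕ, (∃ v ∈ V, v ∈ Subgroup.upperCentralSeries Γ k ∧ v ≠ 1) →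
      ∃ v ∈ V, v ∈ Subgroup.center Γ ∧ v ≠ 1 := by
    intro k
    induction k with
    | zero =>
      rintro ⟨v, _, hv, hv1⟩
      rw [Subgroup.upperCentralSeries_zero, Subgroup.mem_bot] at hv
      exact absurd hv hv1
    | succ k ih =>
      rintro ⟨v, hvV, hv, hv1⟩
      by_cases hc : ∀ g : Γ, ⁅v, g⁆ = 1
      · refine ⟨v, hvV, ?_, hv1⟩
        rw [Subgroup.mem_center_iff]
        intro g
        have h := hc g
        rw [commutatorElement_eq_one_iff_mul_comm] at h
        exact h.symm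
      · push Not at hc
        obtain ⟨g, hg⟩ := hc
        apply ih
        refine ⟨⁅v, g⁆, ?_, ?_, hg⟩
        · have h1 : g * v⁻¹ * g⁻¹ ∈ V := hVn.conj_mem _ (V.inv_mem hvV) g
          have e : ⁅v, g⁆ = v * (g * v⁻¹ * g⁻¹) := by rw [commutatorElement_def]; group
          rw [e]; exact V.mul_mem hvV h1
        · exact Subgroup.mem_upperCentralSeries_succ_iff.mp hv g
  obtain ⟨v, hv⟩ := (Subgroup.ne_bot_iff_exists_ne_one (H := V)).mp hV
  exact key n ⟨v.1, v.2, hn ▸ Subgroup.mem_top _, fun h => hv (Subtype.ext h)⟩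

theorem FP {G : Type*} [Group G] [Finite G] (N : Subgroup G) [N.Normal]
    (heq : ∀ x : G, x ∉ N → ∀ n ∈ N, orderOf (x * n) = orderOf x)
    (p q : ℕ) (hp : p.Prime) (hq : q.Prime) (hpq : p ≠ q) (g : G) (hg : g ∉ N) (hgq : g ^ q ∈ N)
    (v : G) (hvN : v ∈ N) (hvp : ∃ j : ℕ, orderOf v = p ^ j) (hc : Commute g v) : v = 1 := by
  have ho : orderOf g ≠ 0 := (orderOf_pos g).ne'
  obtain ⟨e, m, hqm, hom⟩ := Nat.exists_eq_pow_mul_and_not_dvd ho q hq.ne_one
  have hh : (g ^ m) ^ (q ^ e) = 1 := by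
    rw [← pow_mul, mul_comm, ← hom]; exact pow_orderOf_eq_one g
  have hhN : g ^ m ∉ N := by
    intro h
    apply hg
    have h1 : (QuotientGroup.mk g : G ⧸ N) ^ m = 1 := by
      rw [← QuotientGroup.mk_pow]; exact (QuotientGroup.eq_one_iff _).mpr h
    have h2 : (QuotientGroup.mk g : G ⧸ N) ^ q = 1 := by
      rw [← QuotientGroup.mk_pow]; exact (QuotientGroup.eq_one_iff _).mpr hgq
    have h3 : (QuotientGroup.mk g : G ⧸ N) ^ (Nat.gcd m q) = 1 := pow_gcd_eq_one.mpr ⟨h1, h2⟩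
    have hcop : Nat.gcd m q = 1 := ((Nat.Prime.coprime_iff_not_dvd hq).mpr hqm).symm
    rw [hcop, pow_one] at h3
    exact (QuotientGroup.eq_one_iff g).mp h3
  obtain ⟨j, hj⟩ := hvp
  obtain ⟨e', _, he'⟩ := (Nat.dvd_prime_pow hq).mp (orderOf_dvd_of_pow_eq_one hh)
  have hcop : (orderOf (g ^ m)).Coprime (orderOf v) := by
    rw [he', hj]; exact Nat.coprime_pow_primes _ _ hq hp (Ne.symm hpq)
  have h1 := (hc.pow_left m).orderOf_mul_eq_mul_orderOf_of_coprime hcop
  rw [heq _ hhN v hvN] at h1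
  have hpos := orderOf_pos (g ^ m)
  have h2 : orderOf v = 1 :=
    Nat.eq_of_mul_eq_mul_left hpos (by rw [mul_one]; exact h1.symm)
  exact orderOf_eq_one_iff.mp h2

set_option maxHeartbeats 1600000 in
theorem lemmaR {G : Type*} [Group G] [Finite G] (N : Subgroup G) [N.Normal]
    (heq : ∀ x : G, x ∉ N → ∀ n ∈ N, orderOf (x * n) = orderOf x)
    (hnil : Group.IsNilpotent N) (p q : ℕ) (hp : p.Prime) (hq : q.Prime) (hpq : p ≠ q)
    (hpN : p ∣ Nat.card N)
    (a b : G ⧸ N) (ha : orderOf a = q) (hb : orderOf b = q) (hab : Commute a b)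
    (hnot : b ∉ Subgroup.zpowers a) : False := by
  haveI : Fact p.Prime := ⟨hp⟩
  haveI : Fact q.Prime := ⟨hq⟩
  haveI hcn : (Cfsg.pCore p G).Normal := Fit.pCore_normal p
  set W : Subgroup G := Cfsg.pCore p G ⊓ N ⊓ Subgroup.centralizer (N : Set G) with hW
  have hWp : IsPGroup p W := (Fit.pCore_isPGroup p).to_le (inf_le_left.trans inf_le_left)
  have hWN : W ≤ N := inf_le_left.trans inf_le_right
  have hWC : W ≤ Subgroup.centralizer (N : Set G) := inf_le_right
  -- W is nontrivial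
  have hWne : ∃ w ∈ W, w ≠ 1 := by
    obtain ⟨y, hy⟩ := exists_prime_orderOf_dvd_card' (G := ↥N) p hpN
    have hyc : (y : G) ∈ Cfsg.pCore p G := by
      have hsn : RelSN (Subgroup.zpowers (y : G)) N :=
        ⟨(Subgroup.zpowers_le).mpr y.2, Cfsg.Agent.S0067.subnormal_of_nilpotent _⟩
      have hsn' : (Subgroup.zpowers (y : G)).IsSubnormal :=
        hsn.isSubnormal (inferInstance : N.Normal).isSubnormal
      have hpg : IsPGroup p (Subgroup.zpowers (y : G)) := by
        apply IsPGroup.of_card (n := 1)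
        rw [Nat.card_zpowers, Subgroup.orderOf_coe, hy, pow_one]
      exact Fit.sn_pgroup_le_pCore hsn' hpg (Subgroup.mem_zpowers _)
    have hVne : (Cfsg.pCore p G).subgroupOf N ≠ ⊥ := by
      intro hbot
      have hmem : y ∈ (Cfsg.pCore p G).subgroupOf N := Subgroup.mem_subgroupOf.mpr hyc
      rw [hbot, Subgroup.mem_bot] at hmem
      rw [hmem, orderOf_one] at hy
      exact hp.one_lt.ne hy
    obtain ⟨v, hvV, hvc, hv1⟩ := normal_inf_center ((Cfsg.pCore p G).subgroupOf N) hVne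
    refine ⟨(v : G), ?_, fun h => hv1 (Subtype.ext h)⟩
    refine Subgroup.mem_inf.mpr ⟨Subgroup.mem_inf.mpr ⟨Subgroup.mem_subgroupOf.mp hvV, v.2⟩, ?_⟩
    rw [Subgroup.mem_centralizer_iff]
    intro n hn
    have := Subgroup.mem_center_iff.mp hvc ⟨n, hn⟩
    exact congrArg Subtype.val this
  have hWc : ∀ u ∈ W, ∀ w ∈ W, u * w = w * u := by
    intro u hu w hw
    exact (Subgroup.mem_centralizer_iff.mp (hWC hw)) u (hWN hu)
  haveI hWn : W.Normal := by
    rw [hW]; infer_instance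
  letI instW : CommGroup ↥W :=
    { (inferInstance : Group ↥W) with
      mul_comm := fun u w => Subtype.ext (hWc u.1 u.2 w.1 w.2) }
  obtain ⟨x, rfl⟩ := QuotientGroup.mk_surjective a
  obtain ⟨y, rfl⟩ := QuotientGroup.mk_surjective b
  have hmkN : ∀ g : G, (QuotientGroup.mk g : G ⧸ N) = 1 ↔ g ∈ N := fun g =>
    QuotientGroup.eq_one_iff g
  -- independence
  have hI : ∀ i j : ℕ, x ^ i * y ^ j ∈ N → q ∣ i ∧ q ∣ j := by
    intro i j hij
    have h1 : (QuotientGroup.mk x : G ⧸ N) ^ i * (QuotientGroup.mk y : G ⧸ N) ^ j = 1 := by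
      rw [← QuotientGroup.mk_pow, ← QuotientGroup.mk_pow, ← QuotientGroup.mk_mul]
      exact (hmkN _).mpr hij
    have hqj : q ∣ j := by
      by_contra hqj
      apply hnot
      have hco : j.Coprime (orderOf (QuotientGroup.mk y : G ⧸ N)) := by
        rw [hb]; exact ((Nat.Prime.coprime_iff_not_dvd hq).mpr hqj).symm
      obtain ⟨m, hm⟩ := exists_pow_eq_self_of_coprime hco
      have h2 : (QuotientGroup.mk y : G ⧸ N) ^ j = ((QuotientGroup.mk x : G ⧸ N) ^ i)⁻¹ :=
        eq_inv_of_mul_eq_one_right h1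
      rw [← hm, h2]
      exact Subgroup.pow_mem _ (Subgroup.inv_mem _ (Subgroup.pow_mem _ (Subgroup.mem_zpowers _) _)) _
    refine ⟨?_, hqj⟩
    have h3 : (QuotientGroup.mk y : G ⧸ N) ^ j = 1 := by
      rw [← hb] at hqj; exact orderOf_dvd_iff_pow_eq_one.mp hqj
    rw [h3, mul_one] at h1
    rw [← ha]; exact orderOf_dvd_of_pow_eq_one h1
  have hxN : x ∉ N := by
    intro h
    have := (hI 1 0 (by simpa using h)).1
    exact hq.one_lt.ne' (Nat.dvd_one.mp this)
  have hxq : x ^ q ∈ N := by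
    rw [← hmkN, QuotientGroup.mk_pow, ← ha]; exact pow_orderOf_eq_one _
  have hyq : y ^ q ∈ N := by
    rw [← hmkN, QuotientGroup.mk_pow, ← hb]; exact pow_orderOf_eq_one _
  -- fixed-point-freeness
  have fp : ∀ g : G, g ∉ N → g ^ q ∈ N → ∀ w : ↥W, (MulAut.conjNormal g) w = w → w = 1 := by
    intro g hg hgq w hw
    have h1 : g * (w : G) * g⁻¹ = w := by
      rw [← MulAut.conjNormal_apply]; exact congrArg Subtype.val hw
    have hc : Commute g (w : G) := by
      show g * (w : G) = w * g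
      calc g * (w : G) = g * w * g⁻¹ * g := by group
        _ = w * g := by rw [h1]
    have hwp : ∃ j : ℕ, orderOf (w : G) = p ^ j := by
      obtain ⟨j, hj⟩ := (IsPGroup.iff_orderOf.mp hWp) w
      exact ⟨j, by rw [Subgroup.orderOf_coe]; exact hj⟩
    apply Subtype.ext
    exact FP N heq p q hp hq hpq g hg hgq w (hWN w.2) hwp hc
  have triv : ∀ n ∈ N, (MulAut.conjNormal n : MulAut ↥W) = 1 := by
    intro n hn
    ext w
    rw [MulAut.conjNormal_apply, MulAut.one_apply]
    have := (Subgroup.mem_centralizer_iff.mp (hWC w.2)) n hn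
    rw [this]; group
  have hσq : (MulAut.conjNormal x : MulAut ↥W) ^ q = 1 := by
    rw [← map_pow]; exact triv _ hxq
  have hτq : (MulAut.conjNormal y : MulAut ↥W) ^ q = 1 := by
    rw [← map_pow]; exact triv _ hyq
  have hcomm : Commute (MulAut.conjNormal x : MulAut ↥W) (MulAut.conjNormal y) := by
    show (MulAut.conjNormal x : MulAut ↥W) * MulAut.conjNormal y =
      MulAut.conjNormal y * MulAut.conjNormal x
    rw [← map_mul, ← map_mul]
    have hcN : x * y * x⁻¹ * y⁻¹ ∈ N := by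
      rw [← hmkN]
      simp only [QuotientGroup.mk_mul, QuotientGroup.mk_inv]
      rw [hab.eq]; group
    have e : x * y = (x * y * x⁻¹ * y⁻¹) * (y * x) := by group
    rw [e, map_mul, triv _ hcN, one_mul]
  have hfρ : ∀ k : ℕ, ∀ w : ↥W,
      (((MulAut.conjNormal x : MulAut ↥W) ^ k * MulAut.conjNormal y : MulAut ↥W)) w = w →
      w = 1 := by
    intro k w hw
    rw [← map_pow, ← map_mul] at hw
    apply fp (x ^ k * y) _ _ w hw
    · intro h
      have := (hI k 1 (by simpa using h)).2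
      exact hq.one_lt.ne' (Nat.dvd_one.mp this)
    · rw [← hmkN]
      simp only [QuotientGroup.mk_mul, QuotientGroup.mk_pow]
      rw [(hab.pow_left k).mul_pow, ← pow_mul, mul_comm, pow_mul, ← ha, pow_orderOf_eq_one,
        one_pow, ha, ← hb, pow_orderOf_eq_one, one_mul]
  have hall : ∀ w : ↥W, w ^ q = 1 := fun w =>
    PT q hq (MulAut.conjNormal x) (MulAut.conjNormal y) hcomm hσq hτq (fp x hxN hxq) hfρ w
  obtain ⟨w, hwW, hw1⟩ := hWne
  have h1 := hall ⟨w, hwW⟩
  have h2 : orderOf (⟨w, hwW⟩ : ↥W) ∣ q := orderOf_dvd_of_pow_eq_one h1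
  obtain ⟨j, hj⟩ := (IsPGroup.iff_orderOf.mp hWp) ⟨w, hwW⟩
  rw [hj] at h2
  rcases Nat.eq_zero_or_pos j with h0 | h0
  · rw [h0, pow_zero, orderOf_eq_one_iff] at hj
    exact hw1 (congrArg Subtype.val hj)
  · have h3 : p ∣ q := (dvd_pow_self p h0.ne').trans h2
    exact hpq ((Nat.prime_dvd_prime_iff_eq hp hq).mp h3)

theorem result {G : Type*} [Group G] [Finite G] (N : Subgroup G) [N.Normal] (hN1 : N ≠ ⊥) (hN2 : N ≠ ⊤)
    (heq : ∀ x : G, x ∉ N → ∀ n ∈ N, orderOf (x * n) = orderOf x)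
    (hnil : Group.IsNilpotent N) (hnpp : ¬ IsPrimePow (Nat.card N)) :
    N = Cfsg.fittingSubgroup G ∧
    ∀ (q : ℕ) [Fact q.Prime] (Q : Sylow q (G ⧸ N)), IsCyclic (Q : Subgroup (G ⧸ N)) ∨ ∃ n : ℕ, Nonempty ((Q : Subgroup (G ⧸ N)) ≃* QuaternionGroup (2 ^ n)) := by
  classical
  have h107 := Cfsg.Agent.S4107.result N hN1 hN2 heq
  have hNF : N ≤ Cfsg.fittingSubgroup G := Fit.le_fitting N inferInstance hnil
  have hEq : N = Cfsg.fittingSubgroup G := by
    by_contra hne
    have hlt : N < Cfsg.fittingSubgroup G := lt_of_le_of_ne hNF hne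
    obtain ⟨r, k, hr, hk, hrk⟩ := (isPrimePow_nat_iff _).mp (h107.2 hlt)
    apply hnpp
    have hdvd : Nat.card N ∣ r ^ k := by rw [hrk]; exact Subgroup.card_dvd_of_le hNF
    obtain ⟨j, hj, hNj⟩ := (Nat.dvd_prime_pow hr).mp hdvd
    rw [isPrimePow_nat_iff]
    refine ⟨r, j, hr, ?_, hNj.symm⟩
    rcases Nat.eq_zero_or_pos j with h0 | h0
    · exfalso
      rw [h0, pow_zero] at hNj
      exact hN1 (Subgroup.eq_bot_of_card_eq N hNj)
    · exact h0
  refine ⟨hEq, ?_⟩
  intro q _ Q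
  have hq : q.Prime := Fact.out
  have hex : ∃ p : ℕ, p.Prime ∧ p ∣ Nat.card N ∧ p ≠ q := by
    by_contra hcon
    push Not at hcon
    apply hnpp
    have hcard0 : Nat.card N ≠ 0 := Nat.card_pos.ne'
    have h1 := Nat.eq_prime_pow_of_unique_prime_dvd hcard0 (fun {d} hd hdn => hcon d hd hdn)
    rw [isPrimePow_nat_iff]
    refine ⟨q, _, hq, ?_, h1.symm⟩
    rcases Nat.eq_zero_or_pos (Nat.card N).primeFactorsList.length with h0 | h0
    · exfalso
      rw [h0, pow_zero] at h1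
      exact hN1 (Subgroup.eq_bot_of_card_eq N h1)
    · exact h0
  obtain ⟨p, hp, hpN, hpq⟩ := hex
  have hR : ∀ a b : G ⧸ N, orderOf a = q → orderOf b = q → Commute a b →
      b ∉ Subgroup.zpowers a → False :=
    fun a b ha hb hab hnot => lemmaR N heq hnil p q hp hq hpq hpN a b ha hb hab hnot
  have hQp : IsPGroup q ↥(Q : Subgroup (G ⧸ N)) := Q.isPGroup'
  have huniq : ∀ H K : Subgroup ↥(Q : Subgroup (G ⧸ N)), Nat.card H = q → Nat.card K = q →
      H = K := by
    intro H K hH hK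
    haveI : Nontrivial ↥(Q : Subgroup (G ⧸ N)) := by
      rw [← Finite.one_lt_card_iff_nontrivial]
      have := Subgroup.card_le_card_group H
      have := hq.one_lt
      omega
    haveI := hQp.center_nontrivial
    have hcq : q ∣ Nat.card (Subgroup.center ↥(Q : Subgroup (G ⧸ N))) := by
      have hcp : IsPGroup q (Subgroup.center ↥(Q : Subgroup (G ⧸ N))) := hQp.to_subgroup _
      obtain ⟨k, hk⟩ := hcp.exists_card_eq
      rcases Nat.eq_zero_or_pos k with h0 | h0
      · exfalso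
        rw [h0, pow_zero] at hk
        have h1lt : 1 < Nat.card (Subgroup.center ↥(Q : Subgroup (G ⧸ N))) :=
          Finite.one_lt_card_iff_nontrivial.mpr inferInstance
        omega
      · rw [hk]; exact dvd_pow_self q h0.ne'
    obtain ⟨z, hz⟩ := exists_prime_orderOf_dvd_card' q hcq
    have hz0 : orderOf (z : ↥(Q : Subgroup (G ⧸ N))) = q := by rw [Subgroup.orderOf_coe]; exact hz
    have hzc : ∀ g : ↥(Q : Subgroup (G ⧸ N)), g * (z : ↥(Q : Subgroup (G ⧸ N))) = z * g :=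
      fun g => Subgroup.mem_center_iff.mp z.2 g
    have claim : ∀ H : Subgroup ↥(Q : Subgroup (G ⧸ N)), Nat.card H = q →
        H = Subgroup.zpowers (z : ↥(Q : Subgroup (G ⧸ N))) := by
      intro H hH
      have hHne : H ≠ ⊥ := by
        intro h
        rw [h, Subgroup.card_bot] at hH
        exact hq.one_lt.ne hH
      obtain ⟨h, hh⟩ := (Subgroup.ne_bot_iff_exists_ne_one (H := H)).mp hHne
      have hoh : orderOf (h : ↥(Q : Subgroup (G ⧸ N))) = q := by
        have h1 : orderOf h ∣ q := (orderOf_dvd_natCard h).trans (dvd_of_eq hH)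
        rcases (Nat.dvd_prime hq).mp h1 with h2 | h2
        · exact absurd (orderOf_eq_one_iff.mp h2) hh
        · rw [Subgroup.orderOf_coe]; exact h2
      have hHz : H = Subgroup.zpowers (h : ↥(Q : Subgroup (G ⧸ N))) := by
        symm
        apply Subgroup.eq_of_le_of_card_ge
        · rw [Subgroup.zpowers_le]; exact h.2
        · rw [Nat.card_zpowers, hoh, hH]
      rw [hHz]
      by_cases hmem : (h : ↥(Q : Subgroup (G ⧸ N))) ∈ Subgroup.zpowers (z : ↥(Q : Subgroup (G ⧸ N)))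
      · apply Subgroup.eq_of_le_of_card_ge
        · rw [Subgroup.zpowers_le]; exact hmem
        · rw [Nat.card_zpowers, Nat.card_zpowers, hoh, hz0]
      · exfalso
        apply hR ((z : ↥(Q : Subgroup (G ⧸ N))) : G ⧸ N) ((h : ↥(Q : Subgroup (G ⧸ N))) : G ⧸ N)
        · rw [Subgroup.orderOf_coe]; exact hz0
        · rw [Subgroup.orderOf_coe]; exact hoh
        · have := hzc h
          exact (congrArg Subtype.val this).symm
        · intro hcon
          apply hmem
          obtain ⟨k, hk⟩ := Subgroup.mem_zpowers_iff.mp hcon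
          rw [Subgroup.mem_zpowers_iff]
          refine ⟨k, Subtype.ext ?_⟩
          rw [Subgroup.coe_zpow]; exact hk
    rw [claim H hH, claim K hK]
  rcases Cfsg.Agent.Lib.Helper1.UniqP.cyclic_or_quat hQp huniq with h | ⟨_, n, hn⟩
  · exact Or.inl h
  · exact Or.inr ⟨n, hn⟩

end Cfsg.Agent.S4155
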