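import Cfsg.Statements.S1447

import Mathlib
import Cfsg.Agent.S0026
import Cfsg.Agent.S0027
import Cfsg.Agent.S0638
import Cfsg.Agent.S3879
import Cfsg.Agent.S3882
import Cfsg.Agent.S3880
import Cfsg.Agent.S3886
import Cfsg.Agent.S4155
import Cfsg.Agent.Lib.Helper1.Coprime
import Cfsg.Agent.Lib.Helper7.Meta

set_option autoImplicit false
open Cfsg
open scoped Pointwise

namespace Cfsg.Agent.S1447

open Cfsg.Agent.Lib.Helper1
open scoped commutatorElement

universe u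

section cl2
variable {T : Type*} [Group T]

theorem comm_central (hc : ∀ x y : T, ⁅x, y⁆ ∈ Subgroup.center T) (x y z : T) :
    ⁅x, y⁆ * z = z * ⁅x, y⁆ := (Subgroup.mem_center_iff.mp (hc x y) z).symm

theorem c1 (hc : ∀ x y : T, ⁅x, y⁆ ∈ Subgroup.center T) (x y z : T) :
    ⁅x * y, z⁆ = ⁅x, z⁆ * ⁅y, z⁆ := by
  have h := comm_central hc y z
  calc ⁅x * y, z⁆ = x * ⁅y, z⁆ * x⁻¹ * ⁅x, z⁆ := by simp only [commutatorElement_def]; group
    _ = ⁅y, z⁆ * x * x⁻¹ * ⁅x, z⁆ := by rw [← h x]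
    _ = ⁅x, z⁆ * ⁅y, z⁆ := by rw [mul_inv_cancel_right, h ⁅x, z⁆]

theorem c2 (hc : ∀ x y : T, ⁅x, y⁆ ∈ Subgroup.center T) (x y z : T) :
    ⁅x, y * z⁆ = ⁅x, y⁆ * ⁅x, z⁆ := by
  have h := comm_central hc x z
  calc ⁅x, y * z⁆ = ⁅x, y⁆ * (y * ⁅x, z⁆) * y⁻¹ := by simp only [commutatorElement_def]; group
    _ = ⁅x, y⁆ * (⁅x, z⁆ * y) * y⁻¹ := by rw [← h y]
    _ = ⁅x, y⁆ * ⁅x, z⁆ := by rw [← mul_assoc, mul_inv_cancel_right]

theorem c3l (hc : ∀ x y : T, ⁅x, y⁆ ∈ Subgroup.center T) (x y : T) (n : ℕ) :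
    ⁅x ^ n, y⁆ = ⁅x, y⁆ ^ n := by
  induction n with
  | zero => simp
  | succ n ih => rw [pow_succ, c1 hc, ih, pow_succ]

theorem c3r (hc : ∀ x y : T, ⁅x, y⁆ ∈ Subgroup.center T) (x y : T) (n : ℕ) :
    ⁅x, y ^ n⁆ = ⁅x, y⁆ ^ n := by
  induction n with
  | zero => simp
  | succ n ih => rw [pow_succ, c2 hc, ih, pow_succ]

theorem c2inv (hc : ∀ x y : T, ⁅x, y⁆ ∈ Subgroup.center T) (x y : T) :
    ⁅x, y⁻¹⁆ = ⁅x, y⁆⁻¹ := by
  have h : ⁅x, y⁆ * ⁅x, y⁻¹⁆ = 1 := by rw [← c2 hc, mul_inv_cancel]; simp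
  exact eq_inv_of_mul_eq_one_right h

theorem pow_formula (hc : ∀ x y : T, ⁅x, y⁆ ∈ Subgroup.center T) (x y : T) (n : ℕ) :
    (x * y) ^ n = x ^ n * y ^ n * ⁅y, x⁆ ^ (n.choose 2) := by
  induction n with
  | zero => simp
  | succ n ih =>
    have hK : ∀ (m : ℕ) (z : T), ⁅y, x⁆ ^ m * z = z * ⁅y, x⁆ ^ m := fun m z =>
      (Commute.pow_left (show Commute ⁅y, x⁆ z from comm_central hc y x z) m).eq
    have e1 : y ^ n * x = x * y ^ n * ⁅y, x⁆ ^ n := by
      have h0 : ⁅y ^ n, x⁆ * (x * y ^ n) = y ^ n * x := by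
        simp only [commutatorElement_def]; group
      rw [← h0, comm_central hc (y ^ n) x (x * y ^ n), c3l hc y x n]
    have e2 : (n + 1).choose 2 = n + n.choose 2 := by
      rw [Nat.choose_succ_succ, Nat.choose_one_right]
    rw [pow_succ, ih, e2, pow_add ⁅y, x⁆ n (n.choose 2)]
    calc x ^ n * y ^ n * ⁅y, x⁆ ^ n.choose 2 * (x * y)
        = x ^ n * (y ^ n * x) * y * ⁅y, x⁆ ^ n.choose 2 := by
          rw [mul_assoc (x ^ n * y ^ n), hK (n.choose 2) (x * y)]; simp only [mul_assoc]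
      _ = x ^ n * (x * y ^ n * ⁅y, x⁆ ^ n) * y * ⁅y, x⁆ ^ n.choose 2 := by rw [e1]
      _ = x ^ n * x * y ^ n * (⁅y, x⁆ ^ n * y) * ⁅y, x⁆ ^ n.choose 2 := by simp only [mul_assoc]
      _ = x ^ n * x * y ^ n * (y * ⁅y, x⁆ ^ n) * ⁅y, x⁆ ^ n.choose 2 := by rw [hK n y]
      _ = x ^ (n + 1) * y ^ (n + 1) * (⁅y, x⁆ ^ n * ⁅y, x⁆ ^ n.choose 2) := by
          rw [pow_succ, pow_succ]; simp only [mul_assoc]

theorem pow_p_mul (hc : ∀ x y : T, ⁅x, y⁆ ∈ Subgroup.center T) (p : ℕ) (hp : p.Prime)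
    (hp2 : p ≠ 2) (hexp : ∀ x y : T, ⁅x, y⁆ ^ p = 1) (x y : T) :
    (x * y) ^ p = x ^ p * y ^ p := by
  rw [pow_formula hc x y p]
  have h2 : p ∣ p.choose 2 :=
    hp.dvd_choose_self (by norm_num) (by have := hp.two_le; omega)
  obtain ⟨m, hm⟩ := h2
  rw [hm, pow_mul, hexp, one_pow, mul_one]

theorem pow_pk_mul (hc : ∀ x y : T, ⁅x, y⁆ ∈ Subgroup.center T) (p : ℕ) (hp : p.Prime)
    (hp2 : p ≠ 2) (hexp : ∀ x y : T, ⁅x, y⁆ ^ p = 1) (k : ℕ) (x y : T) :
    (x * y) ^ p ^ k = x ^ p ^ k * y ^ p ^ k := by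
  induction k with
  | zero => simp
  | succ k ih =>
    rw [pow_succ, pow_mul, ih, pow_p_mul hc p hp hp2 hexp, ← pow_mul, ← pow_mul]

end cl2

theorem meta_surj {G H : Type u} [Group G] [Group H] (f : G →* H) (hf : Function.Surjective f)
    (hmc : Cfsg.IsMetacyclic G) : Cfsg.IsMetacyclic H := by
  obtain ⟨N, hN, hNc, hQc⟩ := hmc
  haveI := hN
  haveI : (N.map f).Normal := Subgroup.Normal.map hN f hf
  refine ⟨N.map f, inferInstance, ?_, ?_⟩
  · haveI := hNc
    exact isCyclic_of_surjective (f.subgroupMap N) (f.subgroupMap_surjective N)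
  · haveI := hQc
    let g : G ⧸ N →* H ⧸ N.map f := QuotientGroup.map N (N.map f) f (Subgroup.le_comap_map f N)
    refine isCyclic_of_surjective g ?_
    intro x
    obtain ⟨h, rfl⟩ := QuotientGroup.mk_surjective x
    obtain ⟨y, rfl⟩ := hf h
    exact ⟨QuotientGroup.mk y, rfl⟩

theorem main_T {T : Type*} [Group T] [Finite T] (p : ℕ) [hpf : Fact p.Prime] (hp : p ≠ 2)
    (hT : IsPGroup p T) (hmc : Cfsg.IsMetacyclic T) (hcard : Nat.card (commutator T) = p)
    {ι : Type*} (n : ℕ) (hcop : n.Coprime p) (φ : ι → (T →* T))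
    (hinj : ∀ i, Function.Injective (φ i))
    (hgen : ∀ S : Subgroup T, (∀ i y, y * (φ i y)⁻¹ ∈ S) → S = ⊤)
    (havg : ∀ v : T, (∀ i, ∃ z ∈ Subgroup.center T, φ i v = v * z) →
        commutator T ≤ Subgroup.center T → v ^ n ∈ Subgroup.center T) : False := by
  classical
  have hpp := hpf.out
  have : Group.IsNilpotent T := hT.isNilpotent
  have hne : commutator T ≠ ⊥ := by
    intro h
    rw [h, Subgroup.card_bot] at hcard
    exact hpp.one_lt.ne hcard
  obtain ⟨c, hcmem, hcZ, hc1⟩ := Cfsg.Agent.S4155.normal_inf_center (commutator T) hne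
  have hco : orderOf c = p := by
    have h1 : orderOf c ∣ p := by
      have := orderOf_dvd_natCard (⟨c, hcmem⟩ : commutator T)
      rwa [Subgroup.orderOf_mk, hcard] at this
    rcases (Nat.dvd_prime hpp).mp h1 with h | h
    · exact absurd (orderOf_eq_one_iff.mp h) hc1
    · exact h
  have hcp : c ^ p = 1 := by rw [← hco]; exact pow_orderOf_eq_one c
  have hzv : Subgroup.zpowers c = commutator T := by
    apply Subgroup.eq_of_le_of_card_ge (by rw [Subgroup.zpowers_le]; exact hcmem)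
    rw [hcard, Nat.card_zpowers, hco]
  have hTZ : commutator T ≤ Subgroup.center T := by
    rw [← hzv, Subgroup.zpowers_le]; exact hcZ
  have mem_comm : ∀ x y : T, ⁅x, y⁆ ∈ commutator T := fun x y => by
    rw [commutator_def]
    exact Subgroup.commutator_mem_commutator (Subgroup.mem_top x) (Subgroup.mem_top y)
  have hc : ∀ x y : T, ⁅x, y⁆ ∈ Subgroup.center T := fun x y => hTZ (mem_comm x y)
  have hcn : ∀ d ∈ commutator T, ∃ s : ℕ, c ^ s = d := by
    intro d hd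
    rw [← hzv] at hd
    obtain ⟨t, rfl⟩ := Subgroup.mem_zpowers_iff.mp hd
    exact Cfsg.Agent.Lib.Helper7.Meta.nat_pow_of_zpow c t
  have hexp : ∀ x y : T, ⁅x, y⁆ ^ p = 1 := by
    intro x y
    obtain ⟨s, hs⟩ := hcn _ (mem_comm x y)
    rw [← hs, ← pow_mul, mul_comm, pow_mul, hcp, one_pow]
  have hpow : ∀ (k : ℕ) (x y : T), (x * y) ^ p ^ k = x ^ p ^ k * y ^ p ^ k :=
    pow_pk_mul hc p hpp hp hexp
  have hpZ : ∀ x : T, x ^ p ∈ Subgroup.center T := by
    intro x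
    rw [Subgroup.mem_center_iff]
    intro g
    have h1 : ⁅x ^ p, g⁆ = 1 := by rw [c3l hc, hexp]
    exact (commutatorElement_eq_one_iff_commute.mp h1).eq.symm
  have hcomZl : ∀ z ∈ Subgroup.center T, ∀ g : T, Commute z g := fun z hz g =>
    (Subgroup.mem_center_iff.mp hz g).symm
  have hcomZr : ∀ z ∈ Subgroup.center T, ∀ g : T, Commute g z := fun z hz g =>
    (Subgroup.mem_center_iff.mp hz g)
  have hZpow : ∀ z ∈ Subgroup.center T, ∃ y : T, y ^ p = z := by
    intro z hz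
    have h2 := (Cfsg.Agent.S3882.result hp hT hmc 1 (by rw [hcard, pow_one]) 1 le_rfl 1).2
    rw [← h2] at hz
    let P : Subgroup T :=
      { carrier := {x | ∃ y : T, y ^ p = x}
        mul_mem' := by
          rintro _ _ ⟨a, rfl⟩ ⟨b, rfl⟩
          refine ⟨a * b, ?_⟩
          have := hpow 1 a b
          simpa using this
        one_mem' := ⟨1, one_pow p⟩
        inv_mem' := by
          rintro _ ⟨a, rfl⟩
          exact ⟨a⁻¹, inv_pow a p⟩ }
    have hle : Subgroup.closure {x : T | ∃ y : T, y ^ p ^ 1 = x} ≤ P := by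
      rw [Subgroup.closure_le]
      rintro x ⟨y, rfl⟩
      exact ⟨y, by rw [pow_one]⟩
    exact hle hz
  have hidx : (Subgroup.center T).index = p ^ 2 := by
    rw [Cfsg.Agent.S3879.result hp hT hmc, hcard]
  -- maximal k
  have hex1 : ∃ r : T, r ^ p ^ 1 = c := by
    obtain ⟨y, hy⟩ := hZpow c hcZ
    exact ⟨y, by rw [pow_one]; exact hy⟩
  have hbound : ∀ k : ℕ, (∃ r : T, r ^ p ^ k = c) → k ≤ Nat.card T := by
    rintro k ⟨r, hr⟩
    by_contra hlt
    push Not at hlt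
    obtain ⟨m, hm⟩ := hT.exists_card_eq
    have hmk : m ≤ k := by
      have : m < p ^ m := Nat.lt_pow_self hpp.one_lt
      omega
    have h1 : r ^ p ^ k = 1 := by
      obtain ⟨d, rfl⟩ := Nat.exists_eq_add_of_le hmk
      rw [pow_add, pow_mul, ← hm, pow_card_eq_one', one_pow]
    rw [h1] at hr
    exact hc1 hr.symm
  obtain ⟨k, ⟨r, hr⟩, hkmax⟩ : ∃ k : ℕ, (∃ r : T, r ^ p ^ k = c) ∧ ∀ s : T, s ^ p ^ (k + 1) ≠ c := by
    refine ⟨Nat.findGreatest (fun k => ∃ r : T, r ^ p ^ k = c) (Nat.card T),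
      Nat.findGreatest_spec (P := fun k => ∃ r : T, r ^ p ^ k = c) (hbound 1 hex1) hex1, ?_⟩
    intro s hs
    have h1 := Nat.le_findGreatest (P := fun k => ∃ r : T, r ^ p ^ k = c)
      (hbound _ ⟨s, hs⟩) ⟨s, hs⟩
    omega
  have hrZ : r ∉ Subgroup.center T := by
    intro h
    obtain ⟨s, hs⟩ := hZpow r h
    apply hkmax s
    rw [pow_succ', pow_mul, hs, hr]
  have hφc : ∀ i, ∃ j : ℕ, φ i c = c ^ j ∧ ¬ p ∣ j := by
    intro i
    have h1 : φ i c ∈ commutator T := by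
      have : (commutator T).map (φ i) ≤ commutator T := by
        rw [commutator_def, Subgroup.map_commutator]
        exact Subgroup.commutator_mono le_top le_top
      exact this ⟨c, hcmem, rfl⟩
    obtain ⟨j, hj⟩ := hcn _ h1
    refine ⟨j, hj.symm, ?_⟩
    rintro ⟨q, rfl⟩
    have h2 : φ i c = 1 := by rw [← hj, pow_mul, hcp, one_pow]
    exact hc1 (hinj i (by rw [h2, map_one]))
  have hφd : ∀ i (j : ℕ), φ i c = c ^ j → ∀ d ∈ commutator T, φ i d = d ^ j := by
    intro i j hj d hd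
    obtain ⟨s, rfl⟩ := hcn d hd
    rw [map_pow, hj, ← pow_mul, ← pow_mul, mul_comm]
  have hu : ∀ i (j : ℕ), φ i c = c ^ j → (φ i r * (r ^ j)⁻¹) ^ p ^ k = 1 := by
    intro i j hj
    rw [hpow k, ← map_pow, hr, hj, inv_pow, ← pow_mul, mul_comm j, pow_mul, hr, mul_inv_cancel]
  have hinjpow : ∀ (j : ℕ), ¬ p ∣ j → ∀ d₁ ∈ commutator T, ∀ d₂ ∈ commutator T,
      d₁ ^ j = d₂ ^ j → d₁ = d₂ := by
    intro j hj d₁ h1 d₂ h2 h
    obtain ⟨s, rfl⟩ := hcn d₁ h1
    obtain ⟨t, rfl⟩ := hcn d₂ h2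
    rw [← pow_mul, ← pow_mul, pow_eq_pow_iff_modEq, hco] at h
    have h' := Nat.ModEq.cancel_right_of_coprime ((Nat.Prime.coprime_iff_not_dvd hpp).mpr hj) h
    rw [pow_eq_pow_iff_modEq, hco]
    exact h'
  by_cases hK : ∀ u : T, u ^ p ^ k = 1 → u ∈ Subgroup.center T
  · -- Case A
    have hcent : ∀ i (y : T), y * (φ i y)⁻¹ ∈ Subgroup.centralizer ({r} : Set T) := by
      intro i y
      obtain ⟨j, hj, hpj⟩ := hφc i
      have huZ := hK _ (hu i j hj)
      obtain ⟨u, hu_def⟩ : ∃ u, u = φ i r * (r ^ j)⁻¹ := ⟨_, rfl⟩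
      rw [← hu_def] at huZ
      have hφr : φ i r = u * r ^ j := by rw [hu_def, inv_mul_cancel_right]
      have h1 : ⁅φ i r, φ i y⁆ = ⁅r, y⁆ ^ j := by
        rw [← map_commutatorElement]
        exact hφd i j hj _ (mem_comm r y)
      have h2 : ⁅φ i r, φ i y⁆ = ⁅r, φ i y⁆ ^ j := by
        rw [hφr, c1 hc, commutatorElement_eq_one_iff_commute.mpr (hcomZl u huZ _), one_mul,
          c3l hc]
      have h3 : ⁅r, φ i y⁆ = ⁅r, y⁆ :=
        hinjpow j hpj _ (mem_comm _ _) _ (mem_comm _ _) (h2.symm.trans h1)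
      have h4 : ⁅r, y * (φ i y)⁻¹⁆ = 1 := by
        rw [c2 hc, c2inv hc, h3, mul_inv_cancel]
      rw [Subgroup.mem_centralizer_singleton_iff]
      exact (commutatorElement_eq_one_iff_commute.mp h4).eq.symm
    have htop := hgen (Subgroup.centralizer ({r} : Set T)) hcent
    apply hrZ
    rw [Subgroup.mem_center_iff]
    intro g
    have hg : g ∈ Subgroup.centralizer ({r} : Set T) := by rw [htop]; exact Subgroup.mem_top g
    rw [Subgroup.mem_centralizer_singleton_iff] at hg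
    exact hg
  · -- Case B
    push Not at hK
    obtain ⟨v, hvk, hvZ⟩ := hK
    set Mv : Subgroup T := Subgroup.zpowers v ⊔ Subgroup.center T with hMv
    have hZM : Subgroup.center T ≤ Mv := le_sup_right
    have hvM : v ∈ Mv := (le_sup_left : Subgroup.zpowers v ≤ Mv) (Subgroup.mem_zpowers v)
    have hMmem : ∀ g ∈ Mv, ∃ (i : ℕ), ∃ z ∈ Subgroup.center T, g = v ^ i * z := by
      intro g hg
      rw [hMv, Subgroup.mem_sup_of_normal_right] at hg
      obtain ⟨h, hh, z, hz, rfl⟩ := hg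
      obtain ⟨t, rfl⟩ := Subgroup.mem_zpowers_iff.mp hh
      obtain ⟨i, hi⟩ := Cfsg.Agent.Lib.Helper7.Meta.nat_pow_of_zpow v t
      exact ⟨i, z, hz, by rw [hi]⟩
    have huniq : ∀ L : Subgroup T, Subgroup.center T ≤ L → L ≠ ⊤ → v ∈ L → L ≤ Mv := by
      intro L hZL hL hvL
      have hML : Mv ≤ L := sup_le (by rw [Subgroup.zpowers_le]; exact hvL) hZL
      have h1 : (Subgroup.center T).relIndex Mv * Mv.index = p ^ 2 := by
        rw [Subgroup.relIndex_mul_index hZM, hidx]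
      have h2 : (Subgroup.center T).relIndex Mv ≠ 1 := by
        intro h
        exact hvZ (Subgroup.relIndex_eq_one.mp h hvM)
      have h3 : Mv.relIndex L * L.index = Mv.index := Subgroup.relIndex_mul_index hML
      have h4 : L.index ≠ 1 := fun h => hL (Subgroup.index_eq_one.mp h)
      have h5 : Mv.relIndex L = 1 := by
        have hb : Mv.index ∣ p ^ 2 := Dvd.intro_left _ h1
        obtain ⟨t, ht, hbt⟩ := (Nat.dvd_prime_pow hpp).mp hb
        have ht2 : t ≠ 2 := by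
          rintro rfl
          rw [hbt] at h1
          have hpos : 0 < p ^ 2 := pow_pos hpp.pos 2
          exact h2 (Nat.eq_of_mul_eq_mul_right hpos (by rw [h1, one_mul]))
        have he : L.index ∣ Mv.index := Dvd.intro_left _ h3
        rw [hbt] at he h3
        interval_cases t
        · rw [pow_zero] at he; exact absurd (Nat.dvd_one.mp he) h4
        · rw [pow_one] at he h3
          rcases (Nat.dvd_prime hpp).mp he with h | h
          · exact absurd h h4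
          · rw [h] at h3
            exact Nat.eq_of_mul_eq_mul_right hpp.pos (by rw [h3, one_mul])
        · exact absurd rfl ht2
      exact Subgroup.relIndex_eq_one.mp h5
    have hCv : Subgroup.centralizer ({v} : Set T) ≤ Mv := by
      apply huniq
      · intro z hz
        rw [Subgroup.mem_centralizer_singleton_iff]
        exact (Subgroup.mem_center_iff.mp hz v).symm
      · intro h
        apply hvZ
        rw [Subgroup.mem_center_iff]
        intro g
        have hg : g ∈ Subgroup.centralizer ({v} : Set T) := by rw [h]; exact Subgroup.mem_top g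
        rwa [Subgroup.mem_centralizer_singleton_iff] at hg
      · rw [Subgroup.mem_centralizer_singleton_iff]
    have hKM : ∀ u : T, u ^ p ^ k = 1 → u ∈ Mv := by
      intro u hu1
      let Kk : Subgroup T :=
        { carrier := {u | u ^ p ^ k = 1}
          mul_mem' := by
            intro a b ha hb
            have ha' : a ^ p ^ k = 1 := ha
            have hb' : b ^ p ^ k = 1 := hb
            show (a * b) ^ p ^ k = 1
            rw [hpow k, ha', hb', one_mul]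
          one_mem' := one_pow _
          inv_mem' := by
            intro a ha
            have ha' : a ^ p ^ k = 1 := ha
            show a⁻¹ ^ p ^ k = 1
            rw [inv_pow, ha', inv_one] }
      have hL : Kk ⊔ Subgroup.center T ≤ Mv := by
        apply huniq _ le_sup_right
        · intro h
          have hr' : r ∈ Kk ⊔ Subgroup.center T := by rw [h]; exact Subgroup.mem_top r
          rw [Subgroup.mem_sup_of_normal_right] at hr'
          obtain ⟨κ, hκ, z, hz, hκz⟩ := hr'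
          obtain ⟨s, hs⟩ := hZpow z hz
          apply hkmax s
          have hκ' : κ ^ p ^ k = 1 := hκ
          rw [pow_succ', pow_mul, hs, ← hr, ← hκz, hpow k, hκ', one_mul]
        · exact (le_sup_left : Kk ≤ Kk ⊔ Subgroup.center T) (show v ∈ Kk from hvk)
      exact hL ((le_sup_left : Kk ≤ Kk ⊔ Subgroup.center T) (show u ∈ Kk from hu1))
    have hrv : ⁅r, v⁆ ≠ 1 := by
      intro h
      have hcomm := commutatorElement_eq_one_iff_commute.mp h
      have hrC : r ∈ Subgroup.centralizer ({v} : Set T) := by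
        rw [Subgroup.mem_centralizer_singleton_iff]; exact hcomm.eq
      obtain ⟨i, z, hz, hrz⟩ := hMmem r (hCv hrC)
      obtain ⟨s, hs⟩ := hZpow z hz
      apply hkmax s
      rw [pow_succ', pow_mul, hs, ← hr, hrz, hpow k, ← pow_mul, mul_comm i (p ^ k), pow_mul, hvk,
        one_pow, one_mul]
    have hrv_ord : orderOf ⁅r, v⁆ = p := by
      have h1 : orderOf ⁅r, v⁆ ∣ p := orderOf_dvd_of_pow_eq_one (hexp r v)
      rcases (Nat.dvd_prime hpp).mp h1 with h | h
      · exact absurd (orderOf_eq_one_iff.mp h) hrv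
      · exact h
    have hfix : ∀ i, ∃ z ∈ Subgroup.center T, φ i v = v * z := by
      intro i
      obtain ⟨j, hj, hpj⟩ := hφc i
      have h1 : (φ i v) ^ p ^ k = 1 := by rw [← map_pow, hvk, map_one]
      obtain ⟨e, z, hz, hφv⟩ := hMmem _ (hKM _ h1)
      obtain ⟨l, z', hz', hul⟩ := hMmem _ (hKM _ (hu i j hj))
      have hφr : φ i r = v ^ l * z' * r ^ j := by rw [← hul, inv_mul_cancel_right]
      have hA : ⁅φ i r, φ i v⁆ = ⁅r, v⁆ ^ j := by
        rw [← map_commutatorElement]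
        exact hφd i j hj _ (mem_comm r v)
      have hB : ⁅φ i r, φ i v⁆ = ⁅r, v⁆ ^ (j * e) := by
        rw [hφr, hφv, c2 hc, commutatorElement_eq_one_iff_commute.mpr (hcomZr z hz _), mul_one,
          c1 hc, c1 hc, commutatorElement_eq_one_iff_commute.mpr ((Commute.refl v).pow_pow l e),
          commutatorElement_eq_one_iff_commute.mpr (hcomZl z' hz' _), one_mul, one_mul,
          c3l hc, c3r hc, ← pow_mul, mul_comm e j]
      have hmod : j * e ≡ j [MOD p] := by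
        have h' := hB.symm.trans hA
        rw [pow_eq_pow_iff_modEq, hrv_ord] at h'
        exact h'
      have he1 : e ≡ 1 [MOD p] := by
        have h' : e * j ≡ 1 * j [MOD p] := by rw [one_mul, mul_comm]; exact hmod
        exact Nat.ModEq.cancel_right_of_coprime ((Nat.Prime.coprime_iff_not_dvd hpp).mpr hpj) h'
      have hve : ∃ z₂ ∈ Subgroup.center T, v ^ e = v * z₂ := by
        have h1 : e % p = 1 := by
          have := he1
          unfold Nat.ModEq at this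
          rw [this, Nat.mod_eq_of_lt hpp.one_lt]
        refine ⟨(v ^ p) ^ (e / p), Subgroup.pow_mem _ (hpZ v) _, ?_⟩
        conv_lhs => rw [← Nat.div_add_mod e p, h1]
        rw [pow_add, pow_one, pow_mul]
        exact (((Commute.refl v).pow_left p).pow_left (e / p)).eq
      obtain ⟨z₂, hz₂, hve⟩ := hve
      exact ⟨z₂ * z, Subgroup.mul_mem _ hz₂ hz, by rw [hφv, hve, mul_assoc]⟩
    have hvn := havg v hfix hTZ
    apply hvZ
    obtain ⟨m, -, hm⟩ := Nat.exists_mul_mod_eq_one_of_coprime hcop hpp.one_lt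
    have h1 : v ^ (n * m) = (v ^ p) ^ (n * m / p) * v := by
      conv_lhs => rw [← Nat.div_add_mod (n * m) p, hm]
      rw [pow_add, pow_one, pow_mul]
    have h2 : v = ((v ^ p) ^ (n * m / p))⁻¹ * (v ^ n) ^ m := by
      rw [← pow_mul v n m, h1, inv_mul_cancel_left]
    rw [h2]
    exact Subgroup.mul_mem _ (Subgroup.inv_mem _ (Subgroup.pow_mem _ (hpZ v) _))
      (Subgroup.pow_mem _ hvn _)

noncomputable def avgAb {G : Type*} [Group G] (A W : Subgroup G) [Fintype A]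
    (hAW : A ≤ Subgroup.normalizer (W : Set G)) : W →* Abelianization W :=
  ∏ a : A, (Abelianization.of).comp (conjHom A W hAW a)

theorem avgAb_apply {G : Type*} [Group G] (A W : Subgroup G) [Fintype A]
    (hAW : A ≤ Subgroup.normalizer (W : Set G)) (w : W) :
    avgAb A W hAW w = ∏ a : A, Abelianization.of (conjHom A W hAW a w) := by
  unfold avgAb
  rw [MonoidHom.finsetProd_apply]
  rfl

theorem avgAb_conj {G : Type*} [Group G] (A W : Subgroup G) [Fintype A]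
    (hAW : A ≤ Subgroup.normalizer (W : Set G)) (b : A) (w : W) :
    avgAb A W hAW (conjHom A W hAW b w) = avgAb A W hAW w := by
  rw [avgAb_apply, avgAb_apply]
  refine Fintype.prod_equiv (Equiv.mulRight b) _ _ (fun a => ?_)
  rw [Equiv.coe_mulRight, conjHom_mul]

theorem avgAb_trivial {G : Type*} [Group G] (A W : Subgroup G) [Fintype A]
    (hAW : A ≤ Subgroup.normalizer (W : Set G)) (hWA : ⁅W, A⁆ = W) (w : W) :
    avgAb A W hAW w = 1 := by
  have hker : ⁅W, A⁆ ≤ (avgAb A W hAW).ker.map W.subtype := by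
    rw [Subgroup.commutator_le]
    intro v hv a ha
    refine ⟨(⟨v, hv⟩ : W) * conjHom A W hAW ⟨a, ha⟩ (⟨v, hv⟩ : W)⁻¹, ?_, ?_⟩
    · show _ ∈ (avgAb A W hAW).ker
      rw [MonoidHom.mem_ker, map_mul, avgAb_conj, ← map_mul, mul_inv_cancel, map_one]
    · rw [commutatorElement_def]
      simp only [Subgroup.coe_subtype, Subgroup.coe_mul, conjHom_val, Subgroup.coe_inv]
      group
  have hw : (w : G) ∈ ⁅W, A⁆ := by rw [hWA]; exact w.2
  obtain ⟨y, hy, hyw⟩ := hker hw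
  have : y = w := Subtype.ext hyw
  rw [← this]; exact MonoidHom.mem_ker.mp hy

theorem main_amb {G : Type*} [Group G] [Finite G] (p : ℕ) [Fact p.Prime] (hp : p ≠ 2)
    (W A : Subgroup G) (hW : IsPGroup p W) (hmc : Cfsg.IsMetacyclic W)
    (hAW : A ≤ Subgroup.normalizer (W : Set G)) (hcop : (Nat.card A).Coprime p)
    (hWA : ⁅W, A⁆ = W) (hcard : Nat.card (commutator W) = p) : False := by
  classical
  haveI : Fintype A := Fintype.ofFinite A
  refine main_T p hp hW hmc hcard (Fintype.card A)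
    (by rw [← Nat.card_eq_fintype_card]; exact hcop)
    (fun a : A => conjHom A W hAW a) ?_ ?_ ?_
  · intro a x y hxy
    have h := congrArg Subtype.val hxy
    simp only [conjHom_val] at h
    exact Subtype.ext (mul_left_cancel (mul_right_cancel h))
  · intro S hS
    rw [eq_top_iff]
    intro t _
    have hle : ⁅W, A⁆ ≤ S.map W.subtype := by
      rw [Subgroup.commutator_le]
      intro v hv a ha
      refine ⟨(⟨v, hv⟩ : W) * (conjHom A W hAW ⟨a, ha⟩ (⟨v, hv⟩ : W))⁻¹, hS ⟨a, ha⟩ ⟨v, hv⟩, ?_⟩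
      rw [commutatorElement_def]
      simp only [Subgroup.coe_subtype, Subgroup.coe_mul, conjHom_val, Subgroup.coe_inv]
      group
    have ht : (t : G) ∈ ⁅W, A⁆ := by rw [hWA]; exact t.2
    obtain ⟨y, hy, hyt⟩ := hle ht
    have : y = t := Subtype.ext hyt
    rw [← this]; exact hy
  · intro v hfix hTZ
    choose zz hzz hzv using hfix
    have h1 := avgAb_trivial A W hAW hWA v
    rw [avgAb_apply] at h1
    have e : ∀ a : A, Abelianization.of (conjHom A W hAW a v)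
        = Abelianization.of v * Abelianization.of (zz a) := fun a => by rw [hzv a, map_mul]
    have h2 : ∏ a : A, Abelianization.of (conjHom A W hAW a v)
        = Abelianization.of (v ^ Fintype.card A) * ∏ a : A, Abelianization.of (zz a) := by
      rw [Finset.prod_congr rfl (fun a _ => e a), Finset.prod_mul_distrib, Finset.prod_const,
        Finset.card_univ, map_pow]
    rw [h2] at h1
    have h3 : ∏ a : A, Abelianization.of (zz a) ∈ (Subgroup.center W).map Abelianization.of :=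
      Subgroup.prod_mem _ (fun a _ => Subgroup.mem_map_of_mem _ (hzz a))
    obtain ⟨z₀, hz₀, hz₀e⟩ := h3
    rw [← hz₀e, ← map_mul] at h1
    have h4 : v ^ Fintype.card A * z₀ ∈ commutator W := by
      rw [← Abelianization.ker_of]; exact MonoidHom.mem_ker.mpr h1
    have h5 := hTZ h4
    have h6 : v ^ Fintype.card A = (v ^ Fintype.card A * z₀) * z₀⁻¹ := by
      rw [mul_inv_cancel_right]
    rw [h6]; exact Subgroup.mul_mem _ h5 (Subgroup.inv_mem _ hz₀)

theorem norm_of_conj_le {S : Type*} [Group S] [Finite S] (P : Subgroup S) (a : S)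
    (h : ∀ p ∈ P, a * p * a⁻¹ ∈ P) : a ∈ Subgroup.normalizer (P : Set S) := by
  rw [Subgroup.mem_normalizer_iff]
  intro x
  refine ⟨h x, fun hx => ?_⟩
  let φ : P → P := fun p => ⟨a * p * a⁻¹, h p p.2⟩
  have hinj : Function.Injective φ := by
    intro p q hpq
    have : a * (p : S) * a⁻¹ = a * (q : S) * a⁻¹ := congrArg Subtype.val hpq
    exact Subtype.ext (mul_left_cancel (mul_right_cancel this))
  obtain ⟨p, hp⟩ := (Finite.injective_iff_surjective.mp hinj) ⟨a * x * a⁻¹, hx⟩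
  have : a * (p : S) * a⁻¹ = a * x * a⁻¹ := congrArg Subtype.val hp
  have hpx : (p : S) = x := mul_left_cancel (mul_right_cancel this)
  rw [← hpx]; exact p.2

theorem norm_comm {G : Type*} [Group G] [Finite G] (R A : Subgroup G) (g : G)
    (h1 : ∀ x ∈ R, g * x * g⁻¹ ∈ R) (h2 : ∀ x ∈ A, g * x * g⁻¹ ∈ A) :
    g ∈ Subgroup.normalizer ((⁅R, A⁆ : Subgroup G) : Set G) := by
  apply norm_of_conj_le
  intro x hx
  have hmap : (⁅R, A⁆).map (MulAut.conj g).toMonoidHom ≤ ⁅R, A⁆ := by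
    rw [Subgroup.map_commutator]
    apply Subgroup.commutator_mono
    · rintro _ ⟨w, hw, rfl⟩; exact h1 w hw
    · rintro _ ⟨w, hw, rfl⟩; exact h2 w hw
  exact hmap ⟨x, hx, rfl⟩

theorem card_comm {G : Type*} [Group G] (H : Subgroup G) :
    Nat.card (commutator H) = Nat.card (⁅H, H⁆ : Subgroup G) := by
  rw [← Subgroup.map_subtype_commutator, Subgroup.card_map_of_injective H.subtype_injective]

theorem abelian_of_comm_self {G : Type u} [Group G] [Finite G] (p : ℕ) [hpf : Fact p.Prime]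
    (hp : p ≠ 2) (W A : Subgroup G) (hW : IsPGroup p W) (hmc : Cfsg.IsMetacyclic W)
    (hAW : A ≤ Subgroup.normalizer (W : Set G)) (hcop : (Nat.card A).Coprime p)
    (hWA : ⁅W, A⁆ = W) : ⁅W, W⁆ = ⊥ := by
  by_contra hne
  have hpp := hpf.out
  obtain ⟨a, b, α, r, D⟩ := Cfsg.Agent.Lib.Helper7.Meta.exists_data hW hmc
  have hcomm := D.commutator_eq
  obtain ⟨c, hc_def⟩ : ∃ c : G, c = ((a ^ (r - 1) : W) : G) := ⟨_, rfl⟩
  have hDc : ⁅W, W⁆ = Subgroup.zpowers c := by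
    rw [← Subgroup.map_subtype_commutator, hcomm, MonoidHom.map_zpowers, hc_def]
    rfl
  have hcW : c ∈ W := by rw [hc_def]; exact (a ^ (r - 1) : W).2
  have hc1 : c ≠ 1 := by
    intro h
    apply hne
    rw [hDc, h, Subgroup.zpowers_one_eq_bot]
  obtain ⟨n, hn0, hn⟩ : ∃ n : ℕ, n ≠ 0 ∧ orderOf c = p ^ n := by
    obtain ⟨k, hk⟩ := hW ⟨c, hcW⟩
    have hk' : c ^ p ^ k = 1 := by
      have := congrArg Subtype.val hk
      simpa using this
    obtain ⟨n, -, hn⟩ := (Nat.dvd_prime_pow hpp).mp (orderOf_dvd_of_pow_eq_one hk')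
    refine ⟨n, ?_, hn⟩
    rintro rfl
    rw [pow_zero] at hn
    exact hc1 (orderOf_eq_one_iff.mp hn)
  set Z₁ : Subgroup G := Subgroup.zpowers (c ^ p) with hZ₁
  have hcZ₁ : c ∉ Z₁ := by
    intro h
    obtain ⟨t, ht⟩ := Subgroup.mem_zpowers_iff.mp h
    have h1 : c ^ ((p : ℤ) * t - 1) = 1 := by
      rw [zpow_sub, zpow_mul, zpow_natCast, ht, zpow_one, mul_inv_cancel]
    have h2 : ((orderOf c : ℕ) : ℤ) ∣ (p : ℤ) * t - 1 := orderOf_dvd_iff_zpow_eq_one.mpr h1
    have h3 : (p : ℤ) ∣ ((orderOf c : ℕ) : ℤ) := by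
      rw [hn]; exact_mod_cast dvd_pow_self p hn0
    have h4 : (p : ℤ) ∣ (p : ℤ) * t - 1 := h3.trans h2
    have h5 : (p : ℤ) ∣ 1 := by
      have := dvd_sub (dvd_mul_right (p : ℤ) t) h4
      simpa using this
    have h6 : p ∣ 1 := by exact_mod_cast h5
    exact hpp.one_lt.ne' (Nat.dvd_one.mp h6)
  have hNW : Subgroup.normalizer (W : Set G) ≤ Subgroup.normalizer (Z₁ : Set G) := by
    intro g hg
    apply norm_of_conj_le
    intro x hx
    obtain ⟨m, rfl⟩ := Subgroup.mem_zpowers_iff.mp hx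
    have hgW : ∀ x ∈ W, g * x * g⁻¹ ∈ W := fun x hx =>
      (Subgroup.mem_normalizer_iff.mp hg x).mp hx
    have hgn := norm_comm W W g hgW hgW
    have h1 : g * c * g⁻¹ ∈ Subgroup.zpowers c := by
      rw [← hDc]
      exact (Subgroup.mem_normalizer_iff.mp hgn c).mp (by rw [hDc]; exact Subgroup.mem_zpowers c)
    obtain ⟨t, ht⟩ := Subgroup.mem_zpowers_iff.mp h1
    have h3 : (c ^ t) ^ p ∈ Z₁ := by
      have e : (c ^ t) ^ p = (c ^ p) ^ t := by
        rw [← zpow_natCast, ← zpow_mul, mul_comm, zpow_mul, zpow_natCast]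
      rw [e]; exact Subgroup.zpow_mem _ (Subgroup.mem_zpowers _) t
    have h2 : g * (c ^ p) ^ m * g⁻¹ = ((c ^ t) ^ p) ^ m := by
      rw [← conj_zpow, ← conj_pow, ← ht]
    rw [h2]; exact Subgroup.zpow_mem _ h3 m
  set Nz : Subgroup G := Subgroup.normalizer (Z₁ : Set G) with hNz
  have hWN : W ≤ Nz := Subgroup.le_normalizer.trans hNW
  have hAN : A ≤ Nz := hAW.trans hNW
  have hinj : Function.Injective Nz.subtype := Subgroup.subtype_injective _
  have hW₁map : (W.subgroupOf Nz).map Nz.subtype = W := Subgroup.map_subgroupOf_eq_of_le hWN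
  have hA₁map : (A.subgroupOf Nz).map Nz.subtype = A := Subgroup.map_subgroupOf_eq_of_le hAN
  haveI : (Z₁.subgroupOf Nz).Normal := Subgroup.normal_in_normalizer
  let f : Nz →* Nz ⧸ Z₁.subgroupOf Nz := QuotientGroup.mk' (Z₁.subgroupOf Nz)
  apply main_amb p hp ((W.subgroupOf Nz).map f) ((A.subgroupOf Nz).map f)
  · exact (hW.comap_subtype).map f
  · exact meta_surj ((f.subgroupMap (W.subgroupOf Nz)).comp
        (Subgroup.subgroupOfEquivOfLe hWN).symm.toMonoidHom)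
      ((f.subgroupMap_surjective (W.subgroupOf Nz)).comp (MulEquiv.surjective _)) hmc
  · refine (Subgroup.map_mono ?_).trans (Subgroup.le_normalizer_map f)
    intro x hx
    rw [Subgroup.mem_normalizer_iff]
    intro h
    rw [Subgroup.mem_subgroupOf, Subgroup.mem_subgroupOf]
    have := Subgroup.mem_normalizer_iff.mp (hAW (Subgroup.mem_subgroupOf.mp hx)) (h : G)
    simpa using this
  · refine Nat.Coprime.coprime_dvd_left (Subgroup.card_map_dvd _ f) ?_
    have : Nat.card (A.subgroupOf Nz) = Nat.card A :=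
      Nat.card_congr (Subgroup.subgroupOfEquivOfLe hAN).toEquiv
    rw [this]; exact hcop
  · rw [← Subgroup.map_commutator]
    congr 1
    apply Subgroup.map_injective hinj
    rw [Subgroup.map_commutator, hW₁map, hA₁map, hWA]
  · rw [card_comm, ← Subgroup.map_commutator]
    have hc₁ : ⁅W.subgroupOf Nz, W.subgroupOf Nz⁆ = Subgroup.zpowers (⟨c, hWN hcW⟩ : Nz) := by
      apply Subgroup.map_injective hinj
      rw [Subgroup.map_commutator, hW₁map, hDc, MonoidHom.map_zpowers]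
      rfl
    rw [hc₁, MonoidHom.map_zpowers, Nat.card_zpowers]
    apply orderOf_eq_prime
    · rw [← map_pow]
      show (QuotientGroup.mk ((⟨c, hWN hcW⟩ : Nz) ^ p) : Nz ⧸ Z₁.subgroupOf Nz) = 1
      rw [QuotientGroup.eq_one_iff, Subgroup.mem_subgroupOf]
      show c ^ p ∈ Z₁
      exact Subgroup.mem_zpowers _
    · intro h
      have h' : (QuotientGroup.mk (⟨c, hWN hcW⟩ : Nz) : Nz ⧸ Z₁.subgroupOf Nz) = 1 := h
      rw [QuotientGroup.eq_one_iff, Subgroup.mem_subgroupOf] at h'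
      exact hcZ₁ h'

theorem cyc_comm {H : Type*} [Group H] [IsCyclic H] (x y : H) : x * y = y * x := by
  obtain ⟨g, hg⟩ := IsCyclic.exists_generator (α := H)
  obtain ⟨i, rfl⟩ := Subgroup.mem_zpowers_iff.mp (hg x)
  obtain ⟨j, rfl⟩ := Subgroup.mem_zpowers_iff.mp (hg y)
  exact zpow_mul_comm g i j

theorem exists_order_p {G : Type*} [Group G] [Finite G] (p : ℕ) [hpf : Fact p.Prime]
    (H : Subgroup G) (hH : IsPGroup p H) (hne : H ≠ ⊥) : ∃ x ∈ H, orderOf x = p := by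
  obtain ⟨k, hk⟩ := hH.exists_card_eq
  have hk0 : k ≠ 0 := by
    rintro rfl
    rw [pow_zero] at hk
    exact hne (Subgroup.eq_bot_of_card_le H hk.le)
  have hdvd : p ∣ Nat.card H := by rw [hk]; exact dvd_pow_self p hk0
  obtain ⟨x, hx⟩ := exists_prime_orderOf_dvd_card' (G := H) p hdvd
  exact ⟨x, x.2, by rw [Subgroup.orderOf_coe]; exact hx⟩

theorem lemY {G : Type u} [Group G] [Finite G] (p : ℕ) [hpf : Fact p.Prime] (hp : p ≠ 2)
    (R H : Subgroup G) (hR : IsPGroup p R) (hRm : Cfsg.IsMetacyclic R) (hRc : ¬ IsCyclic R)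
    (hHR : H ≤ R) (hHc : ¬ IsCyclic H) : ∀ x ∈ R, x ^ p = 1 → x ∈ H := by
  intro x hxR hxp
  have hH'm : Cfsg.IsMetacyclic (H.subgroupOf R) := Cfsg.Agent.S3886.meta_sub hRm (H.subgroupOf R)
  have hH'c : ¬ IsCyclic (H.subgroupOf R) := by
    intro h
    apply hHc
    haveI := h
    exact isCyclic_of_surjective (Subgroup.subgroupOfEquivOfLe hHR).toMonoidHom
      (MulEquiv.surjective _)
  have hH'p : IsPGroup p (H.subgroupOf R) := hR.to_subgroup (H.subgroupOf R)
  have h1 := (Cfsg.Agent.S0638.result hp hR hRm hRc).2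
  have h2 := (Cfsg.Agent.S0638.result hp hH'p hH'm hH'c).2
  have hle : (Cfsg.omegaOne p (⊤ : Subgroup (H.subgroupOf R))).map (H.subgroupOf R).subtype
      ≤ Cfsg.omegaOne p (⊤ : Subgroup R) := by
    unfold Cfsg.omegaOne
    rw [MonoidHom.map_closure]
    apply Subgroup.closure_mono
    rintro _ ⟨y, ⟨-, hy⟩, rfl⟩
    exact ⟨Subgroup.mem_top _, by rw [← map_pow, hy, map_one]⟩
  have heq : (Cfsg.omegaOne p (⊤ : Subgroup (H.subgroupOf R))).map (H.subgroupOf R).subtype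
      = Cfsg.omegaOne p (⊤ : Subgroup R) := by
    apply Subgroup.eq_of_le_of_card_ge hle
    rw [Subgroup.card_map_of_injective (H.subgroupOf R).subtype_injective, h1, h2]
  have hx : (⟨x, hxR⟩ : R) ∈ Cfsg.omegaOne p (⊤ : Subgroup R) := by
    unfold Cfsg.omegaOne
    exact Subgroup.subset_closure ⟨Subgroup.mem_top _, Subtype.ext (by simpa using hxp)⟩
  rw [← heq] at hx
  have := Subgroup.map_subtype_le _ hx
  exact Subgroup.mem_subgroupOf.mp this

theorem dec {G : Type*} [Group G] (W C : Subgroup G)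
    (hCW : C ≤ Subgroup.normalizer (W : Set G)) :
    ∀ x ∈ W ⊔ C, ∃ w ∈ W, ∃ c ∈ C, x = w * c := by
  intro x hx
  rw [Subgroup.sup_eq_closure] at hx
  refine Subgroup.closure_induction ?_ ?_ ?_ ?_ hx
  · rintro x (hx | hx)
    · exact ⟨x, hx, 1, C.one_mem, (mul_one x).symm⟩
    · exact ⟨1, W.one_mem, x, hx, (one_mul x).symm⟩
  · exact ⟨1, W.one_mem, 1, C.one_mem, (mul_one 1).symm⟩
  · rintro _ _ _ _ ⟨w₁, hw₁, c₁, hc₁, rfl⟩ ⟨w₂, hw₂, c₂, hc₂, rfl⟩
    exact ⟨w₁ * (c₁ * w₂ * c₁⁻¹),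
      W.mul_mem hw₁ ((Subgroup.mem_normalizer_iff.mp (hCW hc₁) w₂).mp hw₂),
      c₁ * c₂, C.mul_mem hc₁ hc₂, by group⟩
  · rintro _ _ ⟨w, hw, c, hc, rfl⟩
    exact ⟨c⁻¹ * w⁻¹ * c⁻¹⁻¹,
      (Subgroup.mem_normalizer_iff.mp (hCW (C.inv_mem hc)) w⁻¹).mp (W.inv_mem hw),
      c⁻¹, C.inv_mem hc, by group⟩

theorem result {G : Type*} [Group G] [Finite G] (p : ℕ) [Fact p.Prime] (hp : p ≠ 2) (R A : Subgroup G) (hR : IsPGroup p R) (hRm : Cfsg.IsMetacyclic R)
    (hA : (A ≤ Subgroup.normalizer (R : Set G))) (hcop : (Nat.card A).Coprime p) :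
    IsMulCommutative ↥⁅R, A⁆ ∧ ⁅R, A⁆ ⊔ (R ⊓ Subgroup.centralizer (A : Set G)) = R ∧ ⁅R, A⁆ ⊓ (R ⊓ Subgroup.centralizer (A : Set G)) = ⊥ ∧
      (¬ IsMulCommutative R → ¬ A ≤ Subgroup.centralizer (R : Set G) →
        ⁅R, A⁆ ≠ ⊥ ∧ IsCyclic ↥⁅R, A⁆ ∧ (R ⊓ Subgroup.centralizer (A : Set G)) ≠ ⊥ ∧ IsCyclic ↥(R ⊓ Subgroup.centralizer (A : Set G)) ∧ ⁅R, R⁆ ≤ ⁅R, A⁆) := by
  have hpp : p.Prime := Fact.out
  obtain ⟨kR, hkR⟩ := hR.exists_card_eq
  have hcopR : (Nat.card A).Coprime (Nat.card R) := by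
    rw [hkR]; exact Nat.Coprime.pow_right kR hcop
  haveI : Group.IsNilpotent R := hR.isNilpotent
  have hsolv : Group.IsSolvable R := inferInstance
  have h26 := Cfsg.Agent.S0026.result A R hA hcopR (Or.inr hsolv)
  have h27 := Cfsg.Agent.S0027.result A R hA hcopR (Or.inr hsolv)
  have hWR : ⁅R, A⁆ ≤ R := by
    rw [Subgroup.commutator_le]
    intro v hv a ha
    rw [commutatorElement_def]
    have h1 : v * a * v⁻¹ * a⁻¹ = v * (a * v⁻¹ * a⁻¹) := by group
    rw [h1]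
    exact R.mul_mem hv ((Subgroup.mem_normalizer_iff.mp (hA ha) v⁻¹).mp (R.inv_mem hv))
  have hAW : A ≤ Subgroup.normalizer ((⁅R, A⁆ : Subgroup G) : Set G) := by
    intro a ha
    exact norm_comm R A a (fun x hx => (Subgroup.mem_normalizer_iff.mp (hA ha) x).mp hx)
      (fun x hx => A.mul_mem (A.mul_mem ha hx) (A.inv_mem ha))
  have hWp : IsPGroup p (⁅R, A⁆ : Subgroup G) := hR.to_le hWR
  have hWm : Cfsg.IsMetacyclic (⁅R, A⁆ : Subgroup G) :=
    meta_surj (Subgroup.subgroupOfEquivOfLe hWR).toMonoidHom (MulEquiv.surjective _)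
      (Cfsg.Agent.S3886.meta_sub hRm ((⁅R, A⁆ : Subgroup G).subgroupOf R))
  have hWab : ⁅(⁅R, A⁆ : Subgroup G), (⁅R, A⁆ : Subgroup G)⁆ = ⊥ :=
    abelian_of_comm_self p hp _ A hWp hWm hAW hcop h27
  have hWel : ∀ y ∈ (⁅R, A⁆ : Subgroup G), ∀ y' ∈ (⁅R, A⁆ : Subgroup G), y * y' = y' * y := by
    intro y hy y' hy'
    have h1 : ⁅y, y'⁆ ∈ ⁅(⁅R, A⁆ : Subgroup G), (⁅R, A⁆ : Subgroup G)⁆ :=
      Subgroup.commutator_mem_commutator hy hy'
    rw [hWab, Subgroup.mem_bot, commutatorElement_eq_one_iff_mul_comm] at h1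
    exact h1
  have hWcomm : IsMulCommutative (⁅R, A⁆ : Subgroup G) :=
    (Cfsg.Agent.S3880.comm_iff_el _).mpr hWel
  have hcopW : (Nat.card A).Coprime (Nat.card (⁅R, A⁆ : Subgroup G)) := by
    obtain ⟨k, hk⟩ := hWp.exists_card_eq
    rw [hk]; exact Nat.Coprime.pow_right k hcop
  haveI := hWcomm
  have hdec := coprime_abelian_decomp A (⁅R, A⁆ : Subgroup G) hAW hcopW
  have h3 : ⁅R, A⁆ ⊓ (R ⊓ Subgroup.centralizer (A : Set G)) = ⊥ := by
    rw [eq_bot_iff]
    intro x hx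
    obtain ⟨hx1, hx2⟩ := Subgroup.mem_inf.mp hx
    have hx3 : x ∈ ((⁅R, A⁆ : Subgroup G) ⊓ Subgroup.centralizer (A : Set G))
        ⊓ ⁅(⁅R, A⁆ : Subgroup G), A⁆ := by
      rw [h27]
      exact Subgroup.mem_inf.mpr ⟨Subgroup.mem_inf.mpr ⟨hx1, (Subgroup.mem_inf.mp hx2).2⟩, hx1⟩
    rw [hdec.1] at hx3
    exact hx3
  refine ⟨hWcomm, h26, h3, ?_⟩
  intro hRna hAc
  have hW0 : ⁅R, A⁆ ≠ ⊥ := by
    intro h
    apply hAc
    rw [Subgroup.commutator_comm, Subgroup.commutator_eq_bot_iff_le_centralizer] at h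
    exact h
  have hC0 : R ⊓ Subgroup.centralizer (A : Set G) ≠ ⊥ := by
    intro h
    rw [h, sup_bot_eq] at h26
    apply hRna
    rw [Cfsg.Agent.S3880.comm_iff_el]
    intro y hy y' hy'
    exact hWel y (by rw [h26]; exact hy) y' (by rw [h26]; exact hy')
  have hRc : ¬ IsCyclic R := by
    intro h
    apply hRna
    haveI := h
    exact ⟨⟨fun x y => cyc_comm x y⟩⟩
  have hCp : IsPGroup p (R ⊓ Subgroup.centralizer (A : Set G) : Subgroup G) :=
    hR.to_le inf_le_left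
  have hWcyc : IsCyclic (⁅R, A⁆ : Subgroup G) := by
    by_contra hnc
    obtain ⟨x, hxC, hxo⟩ := exists_order_p p _ hCp hC0
    have hxp : x ^ p = 1 := by rw [← hxo]; exact pow_orderOf_eq_one x
    have hxW := lemY p hp R _ hR hRm hRc hWR hnc x (Subgroup.mem_inf.mp hxC).1 hxp
    have hx0 : x ∈ ⁅R, A⁆ ⊓ (R ⊓ Subgroup.centralizer (A : Set G)) :=
      Subgroup.mem_inf.mpr ⟨hxW, hxC⟩
    rw [h3, Subgroup.mem_bot] at hx0
    rw [hx0, orderOf_one] at hxo
    exact hpp.one_lt.ne hxo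
  have hCcyc : IsCyclic (R ⊓ Subgroup.centralizer (A : Set G) : Subgroup G) := by
    by_contra hnc
    obtain ⟨x, hxW, hxo⟩ := exists_order_p p _ hWp hW0
    have hxp : x ^ p = 1 := by rw [← hxo]; exact pow_orderOf_eq_one x
    have hxC := lemY p hp R _ hR hRm hRc inf_le_left hnc x (hWR hxW) hxp
    have hx0 : x ∈ ⁅R, A⁆ ⊓ (R ⊓ Subgroup.centralizer (A : Set G)) :=
      Subgroup.mem_inf.mpr ⟨hxW, hxC⟩
    rw [h3, Subgroup.mem_bot] at hx0
    rw [hx0, orderOf_one] at hxo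
    exact hpp.one_lt.ne hxo
  refine ⟨hW0, hWcyc, hC0, hCcyc, ?_⟩
  have hCW : R ⊓ Subgroup.centralizer (A : Set G)
      ≤ Subgroup.normalizer ((⁅R, A⁆ : Subgroup G) : Set G) := by
    intro c hc
    obtain ⟨hcR, hcA⟩ := Subgroup.mem_inf.mp hc
    apply norm_comm R A c (fun x hx => R.mul_mem (R.mul_mem hcR hx) (R.inv_mem hcR))
    intro x hx
    have hxc := Subgroup.mem_centralizer_iff.mp hcA x hx
    rw [← hxc, mul_inv_cancel_right]; exact hx
  have hdecomp : ∀ x ∈ R, ∃ w ∈ (⁅R, A⁆ : Subgroup G),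
      ∃ c ∈ R ⊓ Subgroup.centralizer (A : Set G), x = w * c := by
    intro x hx
    rw [← h26] at hx
    exact dec _ _ hCW x hx
  rw [Subgroup.commutator_le]
  intro x hx y hy
  obtain ⟨w₁, hw₁, c₁, hc₁, rfl⟩ := hdecomp x hx
  obtain ⟨w₂, hw₂, c₂, hc₂, rfl⟩ := hdecomp y hy
  haveI := hCcyc
  have hcc0 : c₁ * c₂ = c₂ * c₁ := congrArg Subtype.val
    (cyc_comm (⟨c₁, hc₁⟩ : (R ⊓ Subgroup.centralizer (A : Set G) : Subgroup G)) ⟨c₂, hc₂⟩)
  have hcc : c₂ * c₁⁻¹ = c₁⁻¹ * c₂ := by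
    rw [eq_inv_mul_iff_mul_eq, ← mul_assoc, hcc0, mul_inv_cancel_right]
  have e : ⁅w₁ * c₁, w₂ * c₂⁆ = w₁ * (c₁ * w₂ * c₁⁻¹) * (c₂ * w₁⁻¹ * c₂⁻¹) * w₂⁻¹ := by
    rw [commutatorElement_def]
    calc w₁ * c₁ * (w₂ * c₂) * (w₁ * c₁)⁻¹ * (w₂ * c₂)⁻¹
        = w₁ * c₁ * w₂ * (c₂ * c₁⁻¹) * w₁⁻¹ * c₂⁻¹ * w₂⁻¹ := by group
      _ = w₁ * c₁ * w₂ * (c₁⁻¹ * c₂) * w₁⁻¹ * c₂⁻¹ * w₂⁻¹ := by rw [hcc]
      _ = w₁ * (c₁ * w₂ * c₁⁻¹) * (c₂ * w₁⁻¹ * c₂⁻¹) * w₂⁻¹ := by group
  rw [e]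
  have n1 := (Subgroup.mem_normalizer_iff.mp (hCW hc₁) w₂).mp hw₂
  have n2 := (Subgroup.mem_normalizer_iff.mp (hCW hc₂) w₁⁻¹).mp (Subgroup.inv_mem _ hw₁)
  exact Subgroup.mul_mem _ (Subgroup.mul_mem _ (Subgroup.mul_mem _ hw₁ n1) n2)
    (Subgroup.inv_mem _ hw₂)

end Cfsg.Agent.S1447
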