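import Cfsg.Statements.S1452

import Mathlib
import Cfsg.Agent.S1447
import Cfsg.Agent.S4155
import Cfsg.Agent.S0112
import Cfsg.Agent.S3880

set_option autoImplicit false
open Cfsg
open scoped Pointwise

namespace Cfsg.Agent.S1452

open scoped commutatorElement

theorem lemQ {Γ : Type*} [Group Γ] [Group.IsNilpotent Γ] (E N : Subgroup Γ) [hEn : E.Normal]
    [hNn : N.Normal] (hEN : E ≤ N) (hne : E ≠ N) : ∃ y ∈ N, y ∉ E ∧ ∀ s : Γ, ⁅s, y⁆ ∈ E := by
  haveI hN' : (N.map (QuotientGroup.mk' E)).Normal :=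
    Subgroup.Normal.map hNn _ (QuotientGroup.mk'_surjective E)
  have hne' : N.map (QuotientGroup.mk' E) ≠ ⊥ := by
    intro h
    apply hne
    apply le_antisymm hEN
    intro n hn
    have h1 : (QuotientGroup.mk' E) n ∈ N.map (QuotientGroup.mk' E) := Subgroup.mem_map_of_mem _ hn
    rw [h, Subgroup.mem_bot] at h1
    exact (QuotientGroup.eq_one_iff n).mp h1
  obtain ⟨v, hv, hvc, hv1⟩ := Cfsg.Agent.S4155.normal_inf_center (N.map (QuotientGroup.mk' E)) hne'
  obtain ⟨y, hy, rfl⟩ := Subgroup.mem_map.mp hv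
  refine ⟨y, hy, ?_, ?_⟩
  · intro hyE
    apply hv1
    exact (QuotientGroup.eq_one_iff y).mpr hyE
  · intro s
    have h := Subgroup.mem_center_iff.mp hvc (QuotientGroup.mk' E s)
    have h2 : (QuotientGroup.mk' E) ⁅s, y⁆ = 1 := by
      rw [map_commutatorElement, commutatorElement_eq_one_iff_commute]
      exact h
    exact (QuotientGroup.eq_one_iff _).mp h2

theorem lemQ' {G : Type*} [Group G] [Group.IsNilpotent G] (S N E : Subgroup G) (hEN : E ≤ N)
    (hNS : N ≤ S) (hne : E ≠ N)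
    (hSN : ∀ s ∈ S, ∀ n ∈ N, s * n * s⁻¹ ∈ N) (hSE : ∀ s ∈ S, ∀ e ∈ E, s * e * s⁻¹ ∈ E) :
    ∃ y ∈ N, y ∉ E ∧ ∀ s ∈ S, ⁅s, y⁆ ∈ E := by
  haveI h1 : (E.subgroupOf S).Normal := ⟨fun n hn g => hSE g g.2 n hn⟩
  haveI h2 : (N.subgroupOf S).Normal := ⟨fun n hn g => hSN g g.2 n hn⟩
  obtain ⟨y, hy, hyE, hc⟩ := lemQ (E.subgroupOf S) (N.subgroupOf S) (fun a ha => hEN ha) (by
    intro h
    apply hne
    apply le_antisymm hEN
    intro n hn
    have h3 : (⟨n, hNS hn⟩ : ↥S) ∈ N.subgroupOf S := hn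
    rw [← h] at h3
    exact h3)
  exact ⟨(y : G), hy, hyE, fun s hs => hc ⟨s, hs⟩⟩

theorem ext_lemma {G : Type*} [Group G] (E : Subgroup G) [hEn : E.Normal]
    (hE : ∀ a ∈ E, ∀ b ∈ E, a * b = b * a)
    (y : G) (hy : ∀ e ∈ E, y * e = e * y) (hn : ∀ s : G, ⁅s, y⁆ ∈ E) :
    (E ⊔ Subgroup.zpowers y).Normal ∧
      (∀ a ∈ E ⊔ Subgroup.zpowers y, ∀ b ∈ E ⊔ Subgroup.zpowers y, a * b = b * a) ∧
      (∀ d ∈ E ⊔ Subgroup.zpowers y, ∃ e ∈ E, ∃ k : ℤ, e * y ^ k = d) := by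
  have hmem : ∀ d, d ∈ E ⊔ Subgroup.zpowers y ↔ ∃ e ∈ E, ∃ k : ℤ, e * y ^ k = d := by
    intro d
    rw [Subgroup.mem_sup_of_normal_left]
    constructor
    · rintro ⟨e, he, z, hz, rfl⟩
      obtain ⟨k, rfl⟩ := Subgroup.mem_zpowers_iff.mp hz
      exact ⟨e, he, k, rfl⟩
    · rintro ⟨e, he, k, rfl⟩
      exact ⟨e, he, y ^ k, Subgroup.zpow_mem_zpowers y k, rfl⟩
  have hyk : ∀ (k : ℤ) (e : G), e ∈ E → y ^ k * e = e * y ^ k := by
    intro k e he
    exact (Commute.zpow_left (show Commute y e from hy e he) k).eq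
  refine ⟨⟨fun d hd g => ?_⟩, ?_, fun d hd => (hmem d).mp hd⟩
  · obtain ⟨e, he, k, rfl⟩ := (hmem d).mp hd
    have h1 : g * (e * y ^ k) * g⁻¹ = (g * e * g⁻¹) * (g * y * g⁻¹) ^ k := by
      rw [conj_zpow]; group
    rw [h1]
    have h2 : g * y * g⁻¹ ∈ E ⊔ Subgroup.zpowers y := by
      have h3 : g * y * g⁻¹ = ⁅g, y⁆ * y := by rw [commutatorElement_def]; group
      rw [h3]
      exact mul_mem (Subgroup.mem_sup_left (hn g)) (Subgroup.mem_sup_right (Subgroup.mem_zpowers y))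
    exact mul_mem (Subgroup.mem_sup_left (hEn.conj_mem e he g)) (zpow_mem h2 k)
  · intro a ha b hb
    obtain ⟨e, he, k, rfl⟩ := (hmem a).mp ha
    obtain ⟨f, hf, l, rfl⟩ := (hmem b).mp hb
    calc e * y ^ k * (f * y ^ l) = e * (y ^ k * f) * y ^ l := by group
      _ = e * (f * y ^ k) * y ^ l := by rw [hyk k f hf]
      _ = (e * f) * (y ^ k * y ^ l) := by group
      _ = (f * e) * (y ^ l * y ^ k) := by
        rw [hE e he f hf, ← zpow_add, ← zpow_add, add_comm]
      _ = f * (e * y ^ l) * y ^ k := by group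
      _ = f * (y ^ l * e) * y ^ k := by rw [hyk l e he]
      _ = f * y ^ l * (e * y ^ k) := by group

theorem exists_x {R : Type*} [Group R] [Finite R] (p : ℕ) [Fact p.Prime] (hR : IsPGroup p R)
    (hr : ¬ Cfsg.PRankLE p 2 R) (E : Subgroup R) [hEn : E.Normal]
    (hEcomm : ∀ a ∈ E, ∀ b ∈ E, a * b = b * a) (hEexp : ∀ a ∈ E, a ^ p = 1)
    (hE2 : Nat.card E = p ^ 2) :
    ∃ x ∈ Subgroup.centralizer (E : Set R), x ∉ E ∧ x ^ p = 1 := by
  classical
  haveI : Group.IsNilpotent R := hR.isNilpotent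
  have hp' : p.Prime := Fact.out
  have hTmem : ∀ v, v ∈ Subgroup.centralizer (E : Set R) ↔ ∀ e ∈ E, e * v = v * e :=
    fun v => Subgroup.mem_centralizer_iff
  unfold Cfsg.PRankLE at hr
  push Not at hr
  obtain ⟨B, hBc, hBexp, hBcard⟩ := hr
  have hBcomm := (Cfsg.Agent.S3880.comm_iff_el B).mp hBc
  by_cases hEB : E ≤ B
  · have hBT : B ≤ Subgroup.centralizer (E : Set R) :=
      fun b hb => (hTmem b).mpr (fun e he => hBcomm e (hEB he) b hb)
    have hBE : ¬ B ≤ E := fun h => by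
      have := Subgroup.card_le_of_le h
      omega
    obtain ⟨x, hxB, hxE⟩ := SetLike.not_le_iff_exists.mp hBE
    exact ⟨x, hBT hxB, hxE, hBexp x hxB⟩
  · have hE1 : E ≠ ⊥ := by
      intro h
      rw [h, Subgroup.card_bot] at hE2
      have := hp'.two_le
      nlinarith
    obtain ⟨z, hzE, hzc, hz1⟩ := Cfsg.Agent.S4155.normal_inf_center E hE1
    have hZ₁E : Subgroup.zpowers z ≤ E := by
      rw [Subgroup.zpowers_le]; exact hzE
    haveI hZn : (Subgroup.zpowers z).Normal :=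
      ⟨fun n hn g => by
        obtain ⟨k, rfl⟩ := Subgroup.mem_zpowers_iff.mp hn
        have hc : Commute g (z ^ k) :=
          Commute.zpow_right (show Commute g z from Subgroup.mem_center_iff.mp hzc g) k
        have h3 : g * z ^ k * g⁻¹ = z ^ k := by rw [hc.eq]; group
        rw [h3]
        exact Subgroup.zpow_mem_zpowers z k⟩
    have hZ₁card : Nat.card (Subgroup.zpowers z) = p := by
      rw [Nat.card_zpowers]
      exact orderOf_eq_prime (hEexp z hzE) hz1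
    have hne : Subgroup.zpowers z ≠ E := by
      intro h
      rw [h, hE2] at hZ₁card
      have := hp'.two_le
      nlinarith
    obtain ⟨e, heE, heZ, hec⟩ := lemQ (Subgroup.zpowers z) E hZ₁E hne
    have hKle : Subgroup.zpowers z ⊔ Subgroup.zpowers e ≤ E :=
      sup_le hZ₁E (by rw [Subgroup.zpowers_le]; exact heE)
    have hK : Subgroup.zpowers z ⊔ Subgroup.zpowers e = E := by
      apply Subgroup.eq_of_le_of_card_ge hKle
      rw [hE2]
      have hd : Nat.card ↥(Subgroup.zpowers z ⊔ Subgroup.zpowers e) ∣ p ^ 2 :=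
        hE2 ▸ Subgroup.card_dvd_of_le hKle
      obtain ⟨i, hi, hi2⟩ := (Nat.dvd_prime_pow hp').mp hd
      rw [hi2]
      have h2i : 2 ≤ i := by
        by_contra hlt
        have hi1 : i ≤ 1 := by omega
        have h4 : p ^ i ≤ p ^ 1 := Nat.pow_le_pow_right hp'.pos hi1
        have h5 : Subgroup.zpowers z = Subgroup.zpowers z ⊔ Subgroup.zpowers e :=
          Subgroup.eq_of_le_of_card_ge le_sup_left (by rw [hi2, hZ₁card]; simpa using h4)
        apply heZ
        rw [h5]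
        exact Subgroup.mem_sup_right (Subgroup.mem_zpowers e)
      exact Nat.pow_le_pow_right hp'.pos h2i
    have h1 := Cfsg.Agent.S0112.card_le_of_comm_mem B (Subgroup.zpowers z) e (fun g _ => hec g)
    rw [hZ₁card] at h1
    have hCT : B ⊓ Subgroup.centralizer ({e} : Set R) ≤ Subgroup.centralizer (E : Set R) := by
      intro c hc
      rw [hTmem]
      have hle : E ≤ Subgroup.centralizer ({c} : Set R) := by
        rw [← hK]
        apply sup_le
        · rw [Subgroup.zpowers_le, Subgroup.mem_centralizer_singleton_iff]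
          exact (Subgroup.mem_center_iff.mp hzc c).symm
        · rw [Subgroup.zpowers_le, Subgroup.mem_centralizer_singleton_iff]
          have h6 := (Subgroup.mem_inf.mp hc).2
          rw [Subgroup.mem_centralizer_singleton_iff] at h6
          exact h6.symm
      intro f hf
      have h7 := hle hf
      rw [Subgroup.mem_centralizer_singleton_iff] at h7
      exact h7
    by_cases hCE : B ⊓ Subgroup.centralizer ({e} : Set R) ≤ E
    · exfalso
      apply hEB
      have hCeq : B ⊓ Subgroup.centralizer ({e} : Set R) = E := by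
        apply Subgroup.eq_of_le_of_card_ge hCE
        rw [hE2]
        have hd : Nat.card ↥(B ⊓ Subgroup.centralizer ({e} : Set R)) ∣ p ^ 2 :=
          hE2 ▸ Subgroup.card_dvd_of_le hCE
        obtain ⟨i, hi, hi2⟩ := (Nat.dvd_prime_pow hp').mp hd
        rw [hi2] at h1 ⊢
        have h2i : 2 ≤ i := by
          by_contra hlt
          have hi1 : i ≤ 1 := by omega
          have h4 : p ^ i ≤ p ^ 1 := Nat.pow_le_pow_right hp'.pos hi1
          have h5 : p * p ^ i ≤ p * p ^ 1 := Nat.mul_le_mul_left p h4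
          have h6 : p * p ^ 1 = p ^ 2 := by ring
          omega
        exact Nat.pow_le_pow_right hp'.pos h2i
      rw [← hCeq]
      exact inf_le_left
    · obtain ⟨x, hxC, hxE⟩ := SetLike.not_le_iff_exists.mp hCE
      exact ⟨x, hCT hxC, hxE, hBexp x (Subgroup.mem_inf.mp hxC).1⟩

theorem exists_y {R : Type*} [Group R] [Finite R] (p : ℕ) [Fact p.Prime] (hp : p ≠ 2)
    (hR : IsPGroup p R) (E : Subgroup R) [hEn : E.Normal]
    (hEcomm : ∀ a ∈ E, ∀ b ∈ E, a * b = b * a) (hEexp : ∀ a ∈ E, a ^ p = 1)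
    (x : R) (hxT : x ∈ Subgroup.centralizer (E : Set R)) (hxE : x ∉ E) (hxp : x ^ p = 1) :
    ∃ y ∈ Subgroup.centralizer (E : Set R), y ∉ E ∧ y ^ p = 1 ∧ ∀ s : R, ⁅s, y⁆ ∈ E := by
  classical
  haveI : Group.IsNilpotent R := hR.isNilpotent
  have hp' : p.Prime := Fact.out
  have hTmem : ∀ v, v ∈ Subgroup.centralizer (E : Set R) ↔ ∀ e ∈ E, e * v = v * e :=
    fun v => Subgroup.mem_centralizer_iff
  have hTn : ∀ v ∈ Subgroup.centralizer (E : Set R), ∀ g : R,
      g * v * g⁻¹ ∈ Subgroup.centralizer (E : Set R) := by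
    intro v hv g
    rw [hTmem] at hv ⊢
    intro e he
    have h0 : g⁻¹ * e * g ∈ E := by
      have := hEn.conj_mem e he g⁻¹
      rw [inv_inv] at this
      exact this
    have h1 := hv (g⁻¹ * e * g) h0
    calc e * (g * v * g⁻¹) = g * ((g⁻¹ * e * g) * v) * g⁻¹ := by group
      _ = g * (v * (g⁻¹ * e * g)) * g⁻¹ := by rw [h1]
      _ = g * v * g⁻¹ * e := by group
  have hET : E ≤ Subgroup.centralizer (E : Set R) :=
    fun e he => (hTmem e).mpr (fun f hf => hEcomm f hf e he)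
  let C : Subgroup R → Prop := fun S => E ≤ S ∧
    ∃ y ∈ S, y ∈ Subgroup.centralizer (E : Set R) ∧ y ∉ E ∧ y ^ p = 1 ∧ ∀ s ∈ S, ⁅s, y⁆ ∈ E
  have hbase : C (Subgroup.centralizer (E : Set R) ⊓ Subgroup.centralizer ({x} : Set R)) := by
    refine ⟨?_, x, ?_, hxT, hxE, hxp, ?_⟩
    · intro e he
      refine Subgroup.mem_inf.mpr ⟨hET he, ?_⟩
      rw [Subgroup.mem_centralizer_singleton_iff]
      exact (hTmem x).mp hxT e he
    · refine Subgroup.mem_inf.mpr ⟨hxT, ?_⟩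
      rw [Subgroup.mem_centralizer_singleton_iff]
    · intro s hs
      have h1 := (Subgroup.mem_inf.mp hs).2
      rw [Subgroup.mem_centralizer_singleton_iff] at h1
      have h2 : ⁅s, x⁆ = 1 := commutatorElement_eq_one_iff_commute.mpr h1
      rw [h2]
      exact E.one_mem
  have hstep : ∀ S : Subgroup R, C S → S ≠ ⊤ → ∃ S' : Subgroup R, S < S' ∧ C S' := by
    rintro S ⟨hES, y, hyS, hyT, hyE, hyp, hy⟩ hStop
    have hlt := Group.normalizerCondition_of_isNilpotent S (lt_top_iff_ne_top.2 hStop)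
    refine ⟨Subgroup.normalizer (S : Set R), hlt, hES.trans hlt.le, ?_⟩
    let V : Subgroup R :=
      { carrier := {v | v ∈ S ∧ v ∈ Subgroup.centralizer (E : Set R) ∧ ∀ s ∈ S, ⁅s, v⁆ ∈ E}
        one_mem' := ⟨S.one_mem, Subgroup.one_mem _, fun s _ => by
          rw [commutatorElement_one_right]; exact E.one_mem⟩
        mul_mem' := fun {a b} ha hb => ⟨S.mul_mem ha.1 hb.1, Subgroup.mul_mem _ ha.2.1 hb.2.1,
          fun s hs => by
            have h3 : ⁅s, a * b⁆ = ⁅s, a⁆ * (a * ⁅s, b⁆ * a⁻¹) := by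
              simp only [commutatorElement_def]; group
            rw [h3]
            exact E.mul_mem (ha.2.2 s hs) (hEn.conj_mem _ (hb.2.2 s hs) a)⟩
        inv_mem' := fun {a} ha => ⟨S.inv_mem ha.1, Subgroup.inv_mem _ ha.2.1, fun s hs => by
            have h3 : ⁅s, a⁻¹⁆ = a⁻¹ * (⁅s, a⁆)⁻¹ * a := by
              simp only [commutatorElement_def]; group
            rw [h3]
            have h4 := hEn.conj_mem _ (E.inv_mem (ha.2.2 s hs)) a⁻¹
            rw [inv_inv] at h4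
            exact h4⟩ }
    have hVmem : ∀ v, v ∈ V ↔
        (v ∈ S ∧ v ∈ Subgroup.centralizer (E : Set R) ∧ ∀ s ∈ S, ⁅s, v⁆ ∈ E) := fun v => Iff.rfl
    have hc : ∀ a b : ↥V, ⁅a, b⁆ ∈ Subgroup.center ↥V := by
      intro a b
      rw [Subgroup.mem_center_iff]
      intro g
      apply Subtype.ext
      have hE' : ⁅(a : R), (b : R)⁆ ∈ E := ((hVmem b).mp b.2).2.2 a ((hVmem a).mp a.2).1
      have hg := (hTmem g).mp ((hVmem g).mp g.2).2.1 _ hE'
      exact hg.symm
    have hexp : ∀ a b : ↥V, ⁅a, b⁆ ^ p = 1 := by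
      intro a b
      apply Subtype.ext
      exact hEexp _ (((hVmem b).mp b.2).2.2 a ((hVmem a).mp a.2).1)
    have hpow : ∀ a ∈ V, ∀ b ∈ V, (a * b) ^ p = a ^ p * b ^ p := by
      intro a ha b hb
      have h3 := Cfsg.Agent.S1447.pow_p_mul hc p hp' hp hexp ⟨a, ha⟩ ⟨b, hb⟩
      exact congrArg Subtype.val h3
    let Ω : Subgroup R :=
      { carrier := {v | v ∈ V ∧ v ^ p = 1}
        one_mem' := ⟨V.one_mem, one_pow p⟩
        mul_mem' := fun {a b} ha hb => ⟨V.mul_mem ha.1 hb.1, by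
          rw [hpow a ha.1 b hb.1, ha.2, hb.2, one_mul]⟩
        inv_mem' := fun {a} ha => ⟨V.inv_mem ha.1, by rw [inv_pow, ha.2, inv_one]⟩ }
    have hΩmem : ∀ v, v ∈ Ω ↔ (v ∈ V ∧ v ^ p = 1) := fun v => Iff.rfl
    have hEΩ : E ≤ Ω := by
      intro e he
      refine (hΩmem e).mpr ⟨(hVmem e).mpr ⟨hES he, hET he, fun s hs => ?_⟩, hEexp e he⟩
      have h3 : ⁅s, e⁆ = (s * e * s⁻¹) * e⁻¹ := by rw [commutatorElement_def]
      rw [h3]
      exact E.mul_mem (hEn.conj_mem e he s) (E.inv_mem he)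
    have hΩS : Ω ≤ Subgroup.normalizer (S : Set R) := by
      intro v hv
      exact hlt.le ((hVmem v).mp ((hΩmem v).mp hv).1).1
    have hyΩ : y ∈ Ω := (hΩmem y).mpr ⟨(hVmem y).mpr ⟨hyS, hyT, hy⟩, hyp⟩
    have hneΩ : E ≠ Ω := by
      intro h
      apply hyE
      rw [h]
      exact hyΩ
    have hSN : ∀ s ∈ Subgroup.normalizer (S : Set R), ∀ n ∈ Ω, s * n * s⁻¹ ∈ Ω := by
      intro s hs n hn
      obtain ⟨hnV, hnp⟩ := (hΩmem n).mp hn
      obtain ⟨hnS, hnT, hnc⟩ := (hVmem n).mp hnV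
      refine (hΩmem _).mpr ⟨(hVmem _).mpr ⟨?_, hTn n hnT s, ?_⟩, ?_⟩
      · exact (Subgroup.mem_normalizer_iff.mp hs n).mp hnS
      · intro t ht
        have hs' : s⁻¹ ∈ Subgroup.normalizer (S : Set R) := Subgroup.inv_mem _ hs
        have h3 : s⁻¹ * t * s ∈ S := by
          have := (Subgroup.mem_normalizer_iff.mp hs' t).mp ht
          rw [inv_inv] at this
          exact this
        have h4 : ⁅t, s * n * s⁻¹⁆ = s * ⁅s⁻¹ * t * s, n⁆ * s⁻¹ := by
          simp only [commutatorElement_def]; group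
        rw [h4]
        exact hEn.conj_mem _ (hnc _ h3) s
      · rw [conj_pow, hnp]; group
    obtain ⟨y', hy'Ω, hy'E, hy'c⟩ := lemQ' (Subgroup.normalizer (S : Set R)) Ω E hEΩ hΩS hneΩ hSN
      (fun s _ e he => hEn.conj_mem e he s)
    obtain ⟨hy'V, hy'p⟩ := (hΩmem y').mp hy'Ω
    exact ⟨y', hΩS hy'Ω, ((hVmem y').mp hy'V).2.1, hy'E, hy'p, hy'c⟩
  haveI : Nonempty {S : Subgroup R // C S} := ⟨⟨_, hbase⟩⟩
  obtain ⟨⟨S, hS⟩, hmax⟩ := Finite.exists_max (fun S : {S : Subgroup R // C S} => Nat.card S.1)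
  by_cases hStop : S = ⊤
  · subst hStop
    obtain ⟨-, y, -, hyT, hyE, hyp, hy⟩ := hS
    exact ⟨y, hyT, hyE, hyp, fun s => hy s (Subgroup.mem_top s)⟩
  · exfalso
    obtain ⟨S', hlt, hS'⟩ := hstep S hS hStop
    have h1 := hmax ⟨S', hS'⟩
    exact hlt.ne (Subgroup.eq_of_le_of_card_ge hlt.le h1)

theorem result {R : Type*} [Group R] [Finite R] (p : ℕ) [Fact p.Prime] (hp : p ≠ 2) (hR : IsPGroup p R) (hr : ¬ Cfsg.PRankLE p 2 R)
    (E : Subgroup R) [E.Normal] (hE : Cfsg.IsElementaryAbelian p E) (hE2 : Nat.card E = p ^ 2) :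
    ∃ A : Subgroup R, E ≤ A ∧ A.Normal ∧ Subgroup.centralizer (A : Set R) = A ∧ ¬ Cfsg.PRankLE p 2 A := by
  classical
  haveI : Group.IsNilpotent R := hR.isNilpotent
  have hp' : p.Prime := Fact.out
  obtain ⟨hEc, hEexp⟩ := hE
  have hEcomm := (Cfsg.Agent.S3880.comm_iff_el E).mp hEc
  obtain ⟨x, hxT, hxE, hxp⟩ := exists_x p hR hr E hEcomm hEexp hE2
  obtain ⟨y, hyT, hyE, hyp, hyc⟩ := exists_y p hp hR E hEcomm hEexp x hxT hxE hxp
  have hyE' : ∀ e ∈ E, y * e = e * y := fun e he =>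
    ((Subgroup.mem_centralizer_iff.mp hyT) e he).symm
  obtain ⟨hDn, hDc, hDmem⟩ := ext_lemma E hEcomm y hyE' hyc
  have hDexp : ∀ d ∈ E ⊔ Subgroup.zpowers y, d ^ p = 1 := by
    intro d hd
    obtain ⟨e, he, k, rfl⟩ := hDmem d hd
    have hcomm : Commute e (y ^ k) :=
      (Commute.zpow_left (show Commute y e from hyE' e he) k).symm
    have h1 : (y ^ k) ^ p = 1 := by
      rw [← zpow_natCast (y ^ k) p, ← zpow_mul, mul_comm, zpow_mul, zpow_natCast, hyp, one_zpow]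
    rw [hcomm.mul_pow, hEexp e he, h1, one_mul]
  have hDcard : p ^ 2 < Nat.card ↥(E ⊔ Subgroup.zpowers y) := by
    by_contra hle
    have h1 : E = E ⊔ Subgroup.zpowers y :=
      Subgroup.eq_of_le_of_card_ge le_sup_left (by rw [hE2]; omega)
    apply hyE
    rw [h1]
    exact Subgroup.mem_sup_right (Subgroup.mem_zpowers y)
  let P : Subgroup R → Prop := fun A => E ⊔ Subgroup.zpowers y ≤ A ∧ A.Normal ∧
    ∀ a ∈ A, ∀ b ∈ A, a * b = b * a
  haveI : Nonempty {A : Subgroup R // P A} := ⟨⟨_, le_rfl, hDn, hDc⟩⟩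
  obtain ⟨⟨A, hA⟩, hmax⟩ := Finite.exists_max (fun A : {A : Subgroup R // P A} => Nat.card A.1)
  obtain ⟨hDA, hAn, hAc⟩ := hA
  have hAC : A ≤ Subgroup.centralizer (A : Set R) :=
    fun a ha => Subgroup.mem_centralizer_iff.mpr (fun b hb => hAc b hb a ha)
  refine ⟨A, le_sup_left.trans hDA, hAn, ?_, ?_⟩
  · apply le_antisymm _ hAC
    by_contra hnot
    haveI := hAn
    have hne : A ≠ Subgroup.centralizer (A : Set R) := fun h => hnot h.ge
    obtain ⟨c, hcC, hcA, hcomm⟩ := lemQ A (Subgroup.centralizer (A : Set R)) hAC hne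
    have hcy : ∀ a ∈ A, c * a = a * c := fun a ha =>
      ((Subgroup.mem_centralizer_iff.mp hcC) a ha).symm
    obtain ⟨hn', hc', -⟩ := ext_lemma A hAc c hcy hcomm
    have h1 := hmax ⟨A ⊔ Subgroup.zpowers c, hDA.trans le_sup_left, hn', hc'⟩
    have h2 : A = A ⊔ Subgroup.zpowers c := Subgroup.eq_of_le_of_card_ge le_sup_left h1
    apply hcA
    rw [h2]
    exact Subgroup.mem_sup_right (Subgroup.mem_zpowers c)
  · intro hrank
    have h1 := hrank ((E ⊔ Subgroup.zpowers y).subgroupOf A)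
      ⟨⟨fun a b => Subtype.ext (Subtype.ext (hDc a.1.1 a.2 b.1.1 b.2))⟩⟩
      (fun a ha => Subtype.ext (hDexp a.1 ha))
    rw [Nat.card_congr (Subgroup.subgroupOfEquivOfLe hDA).toEquiv] at h1
    omega

end Cfsg.Agent.S1452
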