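import Cfsg.Statements.S1905

import Mathlib

set_option autoImplicit false
open Cfsg
open scoped Pointwise

namespace Cfsg.Agent.S1905

theorem ord_conj {S : Type*} [Group S] (b x : S) : orderOf (b * x * b⁻¹) = orderOf x :=
  (MulAut.conj b).orderOf_eq x

theorem ord_conj' {S : Type*} [Group S] (b x : S) : orderOf (b⁻¹ * x * b) = orderOf x := by
  have h := ord_conj b⁻¹ x
  rwa [inv_inv] at h

theorem inv_of_ord2 {S : Type*} [Group S] (i : S) (hi : orderOf i = 2) : i * i = 1 ∧ i⁻¹ = i := by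
  have hi2 : i * i = 1 := by rw [← pow_two, ← hi, pow_orderOf_eq_one]
  exact ⟨hi2, inv_eq_of_mul_eq_one_left hi2⟩

theorem ord2_of_half {S : Type*} [Group S] [Finite S] (r : S) (k : ℕ) (hk : orderOf r = 2 * k) :
    orderOf (r ^ k) = 2 := by
  have : Fact (Nat.Prime 2) := ⟨Nat.prime_two⟩
  have hpos : 0 < orderOf r := orderOf_pos r
  apply orderOf_eq_prime
  · rw [← pow_mul, mul_comm, ← hk, pow_orderOf_eq_one]
  · exact pow_ne_one_of_lt_orderOf (by omega) (by omega)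

theorem dih {S : Type*} [Group S] [Finite S] (i j : S) (hi : orderOf i = 2) (hj : orderOf j = 2) :
    (∃ g ∈ Subgroup.closure ({i, j} : Set S), g * i * g⁻¹ = j) ∨
    (∃ z ∈ Subgroup.closure ({i, j} : Set S), orderOf z = 2 ∧ Commute z i ∧ Commute z j) := by
  obtain ⟨hi2, hiinv⟩ := inv_of_ord2 i hi
  obtain ⟨hj2, hjinv⟩ := inv_of_ord2 j hj
  have hri : i * j ∈ Subgroup.closure ({i, j} : Set S) :=
    Subgroup.mul_mem _ (Subgroup.subset_closure (by simp)) (Subgroup.subset_closure (by simp))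
  have hrinv : (i * j)⁻¹ = j * i := by rw [mul_inv_rev, hiinv, hjinv]
  have hci : i * (i * j) * i⁻¹ = (i * j)⁻¹ := by
    rw [hrinv, hiinv, ← mul_assoc, hi2, one_mul]
  have hcj : j * (i * j) * j⁻¹ = (i * j)⁻¹ := by
    rw [hrinv, hjinv, mul_assoc, mul_assoc, hj2, mul_one]
  have hpi : ∀ m : ℕ, i * (i * j) ^ m * i⁻¹ = ((i * j) ^ m)⁻¹ := by
    intro m; rw [← conj_pow, hci, inv_pow]
  have hpj : ∀ m : ℕ, j * (i * j) ^ m * j⁻¹ = ((i * j) ^ m)⁻¹ := by
    intro m; rw [← conj_pow, hcj, inv_pow]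
  rcases Nat.even_or_odd (orderOf (i * j)) with he | ho
  · right
    obtain ⟨k, hk⟩ := he
    have hk' : orderOf (i * j) = 2 * k := by omega
    have hz := ord2_of_half (i * j) k hk'
    obtain ⟨hz2, hzinv⟩ := inv_of_ord2 _ hz
    refine ⟨(i * j) ^ k, Subgroup.pow_mem _ hri k, hz, ?_, ?_⟩
    · have h1 := hpi k
      rw [hzinv, hiinv] at h1
      show (i * j) ^ k * i = i * (i * j) ^ k
      calc (i * j) ^ k * i = (i * (i * j) ^ k * i) * i := by rw [h1]
        _ = i * (i * j) ^ k := by rw [mul_assoc, hi2, mul_one]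
    · have h1 := hpj k
      rw [hzinv, hjinv] at h1
      show (i * j) ^ k * j = j * (i * j) ^ k
      calc (i * j) ^ k * j = (j * (i * j) ^ k * j) * j := by rw [h1]
        _ = j * (i * j) ^ k := by rw [mul_assoc, hj2, mul_one]
  · left
    obtain ⟨k, hk⟩ := ho
    refine ⟨(i * j) ^ k, Subgroup.pow_mem _ hri k, ?_⟩
    have h1 : ((i * j) ^ k)⁻¹ = i * (i * j) ^ k * i := by
      have := hpi k
      rw [hiinv] at this
      exact this.symm
    have h2 : (i * j) ^ (2 * k) * (i * j) = 1 := by rw [← pow_succ, ← hk, pow_orderOf_eq_one]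
    have h3 : (i * j) ^ (2 * k) = j * i := by
      rw [← hrinv]; exact eq_inv_of_mul_eq_one_left h2
    rw [h1]
    calc (i * j) ^ k * i * (i * (i * j) ^ k * i) = (i * j) ^ k * (i * i) * (i * j) ^ k * i := by
          simp only [mul_assoc]
      _ = (i * j) ^ (2 * k) * i := by rw [hi2, mul_one, ← pow_add, two_mul]
      _ = j := by rw [h3, mul_assoc, hi2, mul_one]

theorem lemA {S : Type*} [Group S] [Finite S] (M : Subgroup S)
    (hC : ∀ i ∈ M, orderOf i = 2 → Subgroup.centralizer ({i} : Set S) ≤ M)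
    (i j : S) (hi : orderOf i = 2) (hj : orderOf j = 2) (hiM : i ∈ M) (hjM : j ∉ M) :
    ∃ g ∈ Subgroup.closure ({i, j} : Set S), g * i * g⁻¹ = j := by
  rcases dih i j hi hj with h | ⟨z, -, hz, hzi, hzj⟩
  · exact h
  · exfalso
    have hzM : z ∈ M :=
      hC i hiM hi (by rw [Subgroup.mem_centralizer_singleton_iff]; exact hzi.eq)
    exact hjM (hC z hzM hz (by rw [Subgroup.mem_centralizer_singleton_iff]; exact hzj.eq.symm))

theorem part1 {S : Type*} [Group S] [Finite S] (M : Subgroup S) (hM : Even (Nat.card M))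
    (hC : ∀ i ∈ M, orderOf i = 2 → Subgroup.centralizer ({i} : Set S) ≤ M)
    (hcore : Odd (Nat.card M.normalCore)) :
    (∃ j₀, j₀ ∉ M ∧ orderOf j₀ = 2) ∧
    (∀ x y : S, orderOf x = 2 → orderOf y = 2 → IsConj x y) := by
  have : Fact (Nat.Prime 2) := ⟨Nat.prime_two⟩
  obtain ⟨i₁, hi₁⟩ := exists_prime_orderOf_dvd_card' (G := M) 2 (even_iff_two_dvd.mp hM)
  have hi₀ : orderOf (i₁ : S) = 2 := by rw [Subgroup.orderOf_coe]; exact hi₁
  have hi₀M : (i₁ : S) ∈ M := i₁.2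
  have hB : ∃ j₀, j₀ ∉ M ∧ orderOf j₀ = 2 := by
    by_contra h
    push Not at h
    have hmem : (i₁ : S) ∈ M.normalCore := by
      intro b
      by_contra hb
      exact h _ hb (by rw [ord_conj]; exact hi₀)
    have h2 : orderOf (⟨(i₁ : S), hmem⟩ : M.normalCore) = 2 := by
      rw [Subgroup.orderOf_mk]; exact hi₀
    have h3 : 2 ∣ Nat.card M.normalCore := by rw [← h2]; exact orderOf_dvd_natCard _
    exact Nat.not_even_iff_odd.mpr hcore (even_iff_two_dvd.mpr h3)
  refine ⟨hB, ?_⟩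
  obtain ⟨j₀, hj₀M, hj₀⟩ := hB
  have hA : ∀ i ∈ M, orderOf i = 2 → ∀ j, j ∉ M → orderOf j = 2 → IsConj i j := by
    intro i hi hi2 j hj hj2
    obtain ⟨g, -, hg⟩ := lemA M hC i j hi2 hj2 hi hj
    exact isConj_iff.mpr ⟨g, hg⟩
  have hall : ∀ x, orderOf x = 2 → IsConj x (i₁ : S) := by
    intro x hx
    by_cases hxM : x ∈ M
    · exact (hA x hxM hx j₀ hj₀M hj₀).trans (hA _ hi₀M hi₀ j₀ hj₀M hj₀).symm
    · exact (hA _ hi₀M hi₀ x hxM hx).symm
  exact fun x y hx hy => (hall x hx).trans (hall y hy).symm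

theorem norm_of_conj_le {S : Type*} [Group S] [Finite S] (P : Subgroup S) (a : S)
    (h : ∀ p ∈ P, a * p * a⁻¹ ∈ P) : a ∈ Subgroup.normalizer (P : Set S) := by
  rw [Subgroup.mem_normalizer_iff]
  intro x
  refine ⟨h x, fun hx => ?_⟩
  let φ : P → P := fun p => ⟨a * p * a⁻¹, h p p.2⟩
  have hinj : Function.Injective φ := by
    intro p q hpq
    have : a * (p : S) * a⁻¹ = a * (q : S) * a⁻¹ := congrArg Subtype.val hpq
    exact Subtype.ext (mul_left_cancel (mul_right_cancel this))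
  obtain ⟨p, hp⟩ := (Finite.injective_iff_surjective.mp hinj) ⟨a * x * a⁻¹, hx⟩
  have : a * (p : S) * a⁻¹ = a * x * a⁻¹ := congrArg Subtype.val hp
  have hpx : (p : S) = x := mul_left_cancel (mul_right_cancel this)
  rw [← hpx]; exact p.2

/-- Lemma F. -/
theorem lemF {S : Type*} [Group S] [Finite S] (M : Subgroup S)
    (hC : ∀ i ∈ M, orderOf i = 2 → Subgroup.centralizer ({i} : Set S) ≤ M)
    (t : S) (ht : orderOf t = 2) (htM : t ∈ M) (v₁ v₂ : S) (hv₁ : orderOf v₁ = 2)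
    (hv₂ : orderOf v₂ = 2) (hv₁M : v₁ ∉ M) (hxM : v₂⁻¹ * v₁ ∈ M)
    (hcomm : Commute (v₂⁻¹ * v₁) t) : v₁ = v₂ := by
  obtain ⟨h12, h1inv⟩ := inv_of_ord2 v₁ hv₁
  obtain ⟨h22, h2inv⟩ := inv_of_ord2 v₂ hv₂
  set x := v₂⁻¹ * v₁ with hx
  have hxinv : x⁻¹ = v₁ * v₂ := by rw [hx, mul_inv_rev, inv_inv, h1inv]
  have hcx : v₁ * x * v₁⁻¹ = x⁻¹ := by
    rw [hxinv, hx, h2inv, h1inv, mul_assoc, mul_assoc, h12, mul_one]
  -- x has odd order
  have hodd : Odd (orderOf x) := by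
    rcases Nat.even_or_odd (orderOf x) with he | ho
    · exfalso
      obtain ⟨k, hk⟩ := he
      have hk' : orderOf x = 2 * k := by omega
      have hz := ord2_of_half x k hk'
      obtain ⟨hz2, hzinv⟩ := inv_of_ord2 _ hz
      have hzM : x ^ k ∈ M := Subgroup.pow_mem _ hxM k
      have h1 : v₁ * x ^ k * v₁⁻¹ = x ^ k := by
        rw [← conj_pow, hcx, inv_pow, hzinv]
      apply hv₁M
      apply hC _ hzM hz
      rw [Subgroup.mem_centralizer_singleton_iff]
      symm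
      calc x ^ k * v₁ = (v₁ * x ^ k * v₁⁻¹) * v₁ := by rw [h1]
        _ = v₁ * x ^ k := by rw [inv_mul_cancel_right]
    · exact ho
  obtain ⟨g, hg, hgt⟩ := lemA M hC t v₁ ht hv₁ htM hv₁M
  have hle : Subgroup.closure ({t, v₁} : Set S) ≤ Subgroup.normalizer ((Subgroup.zpowers x : Subgroup S) : Set S) := by
    rw [Subgroup.closure_le]
    intro y hy
    rcases hy with rfl | rfl
    · apply norm_of_conj_le
      intro p hp
      obtain ⟨n, rfl⟩ := Subgroup.mem_zpowers_iff.mp hp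
      have : y * x ^ n * y⁻¹ = x ^ n := by
        rw [← conj_zpow]
        have : y * x * y⁻¹ = x := by rw [← hcomm.eq, mul_inv_cancel_right]
        rw [this]
      rw [this]; exact hp
    · apply norm_of_conj_le
      intro p hp
      obtain ⟨n, rfl⟩ := Subgroup.mem_zpowers_iff.mp hp
      rw [← conj_zpow, hcx, inv_zpow]
      exact Subgroup.inv_mem _ hp
  have hgN := Subgroup.inv_mem _ (hle hg)
  have h1 : g⁻¹ * x * g ∈ Subgroup.zpowers x := by
    have := (Subgroup.mem_normalizer_iff.mp hgN x).mp (Subgroup.mem_zpowers x)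
    rwa [inv_inv] at this
  obtain ⟨n, hn⟩ := Subgroup.mem_zpowers_iff.mp h1
  have h2 : Commute (g⁻¹ * x * g) t := by
    rw [← hn]; exact hcomm.zpow_left n
  have h3 : Commute x v₁ := by
    have e : x * (g * t * g⁻¹) = (g * t * g⁻¹) * x := by
      have h2' : g⁻¹ * x * g * t = t * (g⁻¹ * x * g) := h2.eq
      calc x * (g * t * g⁻¹) = g * (g⁻¹ * x * g * t) * g⁻¹ := by group
        _ = g * (t * (g⁻¹ * x * g)) * g⁻¹ := by rw [h2']
        _ = (g * t * g⁻¹) * x := by group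
    rw [hgt] at e
    exact e
  have h4 : x = x⁻¹ := by
    rw [← hcx, ← h3.eq, mul_inv_cancel_right]
  have h5 : x ^ 2 = 1 := by
    rw [pow_two]
    nth_rewrite 2 [h4]
    exact mul_inv_cancel x
  have h6 : orderOf x ∣ 2 := orderOf_dvd_of_pow_eq_one h5
  have h7 : orderOf x = 1 := by
    have := Nat.le_of_dvd (by norm_num) h6
    obtain ⟨k, hk⟩ := hodd
    interval_cases h : orderOf x <;> omega
  have h8 : x = 1 := orderOf_eq_one_iff.mp h7
  have h9 : v₂⁻¹ * v₁ = 1 := h8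
  have := inv_mul_eq_one.mp h9
  exact this.symm

theorem sylM {S : Type*} [Group S] [Finite S] (M : Subgroup S) (X : Sylow 2 M)
    (Q : Subgroup S) (hQM : Q ≤ M) (hQ : IsPGroup 2 Q) :
    ∃ m ∈ M, ∀ q ∈ Q, m⁻¹ * q * m ∈ (X : Subgroup M).map M.subtype := by
  have : Fact (Nat.Prime 2) := ⟨Nat.prime_two⟩
  have hQ' : IsPGroup 2 (Q.subgroupOf M) := hQ.comap_subtype
  obtain ⟨Y, hY⟩ := hQ'.exists_le_sylow
  obtain ⟨m, hm⟩ := MulAction.exists_smul_eq M X Y
  refine ⟨m, m.2, fun q hq => ?_⟩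
  have hq' : (⟨q, hQM hq⟩ : M) ∈ (Y : Subgroup M) := hY (Subgroup.mem_subgroupOf.mpr hq)
  rw [← hm, Sylow.coe_subgroup_smul, Subgroup.mem_pointwise_smul_iff_inv_smul_mem] at hq'
  refine ⟨_, hq', ?_⟩
  simp [MulAut.smul_def]

theorem claimC {S : Type*} [Group S] [Finite S] (M : Subgroup S)
    (hC : ∀ i ∈ M, orderOf i = 2 → Subgroup.centralizer ({i} : Set S) ≤ M)
    (P : Subgroup S) (hP2 : IsPGroup 2 P)
    (hSyl : ∀ Q : Subgroup S, Q ≤ M → IsPGroup 2 Q → ∃ m ∈ M, ∀ q ∈ Q, m⁻¹ * q * m ∈ P)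
    (hN : Subgroup.normalizer (P : Set S) ≤ M)
    (I₀ : S) (hI2 : orderOf I₀ = 2) (hIc : ∀ p ∈ P, Commute p I₀)
    (g t : S) (htM : t ∈ M) (ht : orderOf t = 2) (hgt : g⁻¹ * t * g ∈ M) : g ∈ M := by
  have h0 : ∀ g t : S, t ∈ P → orderOf t = 2 → g⁻¹ * t * g ∈ M → g ∈ M := by
    intro g t htP ht hgt
    have hI' : g⁻¹ * I₀ * g ∈ M := by
      apply hC (g⁻¹ * t * g) hgt (by rw [ord_conj']; exact ht)
      rw [Subgroup.mem_centralizer_singleton_iff]
      have := (hIc t htP).eq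
      calc g⁻¹ * I₀ * g * (g⁻¹ * t * g) = g⁻¹ * (I₀ * t) * g := by group
        _ = g⁻¹ * (t * I₀) * g := by rw [this]
        _ = g⁻¹ * t * g * (g⁻¹ * I₀ * g) := by group
    have hI'2 : orderOf (g⁻¹ * I₀ * g) = 2 := by rw [ord_conj']; exact hI2
    have hPg : ∀ p ∈ P, g⁻¹ * p * g ∈ M := by
      intro p hp
      apply hC _ hI' hI'2
      rw [Subgroup.mem_centralizer_singleton_iff]
      have := (hIc p hp).eq
      calc g⁻¹ * p * g * (g⁻¹ * I₀ * g) = g⁻¹ * (p * I₀) * g := by group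
        _ = g⁻¹ * (I₀ * p) * g := by rw [this]
        _ = g⁻¹ * I₀ * g * (g⁻¹ * p * g) := by group
    obtain ⟨m, hm, hmQ⟩ := hSyl (P.map (MulAut.conj g⁻¹).toMonoidHom) (by
        rintro _ ⟨p, hp, rfl⟩
        have := hPg p hp
        simpa using this) (hP2.map _)
    have hnorm : (g * m)⁻¹ ∈ Subgroup.normalizer (P : Set S) := by
      apply norm_of_conj_le
      intro p hp
      have := hmQ (g⁻¹ * p * g) ⟨p, hp, by simp⟩
      rw [inv_inv]
      have e : (g * m)⁻¹ * p * (g * m) = m⁻¹ * (g⁻¹ * p * g) * m := by group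
      rw [e]; exact this
    have hgm : g * m ∈ M := by
      have := hN hnorm
      exact (Subgroup.inv_mem_iff _).mp this
    exact (Subgroup.mul_mem_cancel_right _ hm).mp hgm
  obtain ⟨m, hm, hmQ⟩ := hSyl (Subgroup.zpowers t) (by rw [Subgroup.zpowers_le]; exact htM)
    (IsPGroup.of_card (n := 1) (by rw [Nat.card_zpowers, ht, pow_one]))
  have ht₁ := hmQ t (Subgroup.mem_zpowers t)
  have h1 := h0 (m⁻¹ * g) (m⁻¹ * t * m) ht₁ (by rw [ord_conj']; exact ht) (by
    have e : (m⁻¹ * g)⁻¹ * (m⁻¹ * t * m) * (m⁻¹ * g) = g⁻¹ * t * g := by group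
    rw [e]; exact hgt)
  have := Subgroup.mul_mem _ hm h1
  rwa [mul_inv_cancel_left] at this

theorem count {S : Type*} [Group S] [Finite S] (M : Subgroup S)
    (hC : ∀ i ∈ M, orderOf i = 2 → Subgroup.centralizer ({i} : Set S) ≤ M)
    (hconj : ∀ x y : S, orderOf x = 2 → orderOf y = 2 → IsConj x y)
    (hCl : ∀ g t : S, t ∈ M → orderOf t = 2 → g⁻¹ * t * g ∈ M → g ∈ M)
    (I₀ : S) (hI₀ : orderOf I₀ = 2) (hIM : I₀ ∈ M) (j₀ : S) (hj₀M : j₀ ∉ M) :
    ∃ u : S, u ∉ M ∧ orderOf u = 2 ∧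
      ∀ w ∈ M, orderOf w = 2 → ∃ d ∈ M, orderOf (u * d) = 2 ∧ d * I₀ * d⁻¹ = w := by
  classical
  haveI : Fintype S := Fintype.ofFinite S
  set Inv : Finset S := Finset.univ.filter (fun v => orderOf v = 2) with hInv
  set InvM : Finset S := Inv.filter (fun v => v ∈ M) with hInvM
  set InvN : Finset S := Inv.filter (fun v => v ∉ M) with hInvN
  set FM : Finset S := Finset.univ.filter (fun g => g ∈ M) with hFM
  set FN : Finset S := Finset.univ.filter (fun g => g ∉ M) with hFN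
  have hsplit1 : InvM.card + InvN.card = Inv.card :=
    Finset.card_filter_add_card_filter_not _
  have hsplit2 : FM.card + FN.card = (Finset.univ : Finset S).card :=
    Finset.card_filter_add_card_filter_not _
  have hi_pos : 0 < InvM.card := Finset.card_pos.mpr ⟨I₀, by simp [hInvM, hInv, hI₀, hIM]⟩
  have hFN_pos : 0 < FN.card := Finset.card_pos.mpr ⟨j₀, by simp [hFN, hj₀M]⟩
  -- Count 1
  have hc1 : Inv.card * FM.card = (Finset.univ : Finset S).card * InvM.card := by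
    have e1 : ∑ v ∈ Inv, (Finset.univ.filter (fun g : S => g⁻¹ * v * g ∈ M)).card
        = ∑ g : S, (Inv.filter (fun v => g⁻¹ * v * g ∈ M)).card := by
      simp_rw [Finset.card_filter]
      exact Finset.sum_comm
    have e2 : ∀ v ∈ Inv, (Finset.univ.filter (fun g : S => g⁻¹ * v * g ∈ M)).card = FM.card := by
      intro v hv
      have hv2 : orderOf v = 2 := (Finset.mem_filter.mp hv).2
      obtain ⟨c, hc⟩ := isConj_iff.mp (hconj v I₀ hv2 hI₀)
      apply Finset.card_bij (fun g _ => c * g)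
      · intro g hg
        simp only [Finset.mem_filter, Finset.mem_univ, true_and, hFM] at hg ⊢
        apply hCl (c * g) I₀ hIM hI₀
        have e : (c * g)⁻¹ * I₀ * (c * g) = g⁻¹ * v * g := by rw [← hc]; group
        rw [e]; exact hg
      · intro a _ b _ hab; exact mul_left_cancel hab
      · intro m hm
        simp only [Finset.mem_filter, Finset.mem_univ, true_and, hFM] at hm
        refine ⟨c⁻¹ * m, ?_, by rw [mul_inv_cancel_left]⟩
        simp only [Finset.mem_filter, Finset.mem_univ, true_and]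
        have e : (c⁻¹ * m)⁻¹ * v * (c⁻¹ * m) = m⁻¹ * (c * v * c⁻¹) * m := by group
        rw [e, hc]
        exact Subgroup.mul_mem _ (Subgroup.mul_mem _ (Subgroup.inv_mem _ hm) hIM) hm
    have e3 : ∀ g : S, (Inv.filter (fun v => g⁻¹ * v * g ∈ M)).card = InvM.card := by
      intro g
      apply Finset.card_bij (fun v _ => g⁻¹ * v * g)
      · intro v hv
        simp only [Finset.mem_filter, Finset.mem_univ, true_and, hInvM, hInv] at hv ⊢
        exact ⟨by rw [ord_conj']; exact hv.1, hv.2⟩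
      · intro a _ b _ hab; exact mul_left_cancel (mul_right_cancel hab)
      · intro w hw
        simp only [Finset.mem_filter, Finset.mem_univ, true_and, hInvM, hInv] at hw
        refine ⟨g * w * g⁻¹, ?_, by group⟩
        simp only [Finset.mem_filter, Finset.mem_univ, true_and, hInv]
        refine ⟨by rw [ord_conj]; exact hw.1, ?_⟩
        have e : g⁻¹ * (g * w * g⁻¹) * g = w := by group
        rw [e]; exact hw.2
    have l1 : ∑ v ∈ Inv, (Finset.univ.filter (fun g : S => g⁻¹ * v * g ∈ M)).card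
        = Inv.card * FM.card := by
      rw [Finset.sum_congr rfl e2, Finset.sum_const, smul_eq_mul]
    have l2 : ∑ g : S, (Inv.filter (fun v => g⁻¹ * v * g ∈ M)).card
        = (Finset.univ : Finset S).card * InvM.card := by
      rw [Finset.sum_congr rfl (fun g _ => e3 g), Finset.sum_const, smul_eq_mul]
    rw [l1, l2] at e1
    exact e1
  -- Count 2
  have hc2 : InvN.card * FM.card = ∑ g : S, (InvN.filter (fun v => g⁻¹ * v ∈ M)).card := by
    have e1 : ∑ v ∈ InvN, (Finset.univ.filter (fun g : S => g⁻¹ * v ∈ M)).card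
        = ∑ g : S, (InvN.filter (fun v => g⁻¹ * v ∈ M)).card := by
      simp_rw [Finset.card_filter]
      exact Finset.sum_comm
    have e2 : ∀ v ∈ InvN, (Finset.univ.filter (fun g : S => g⁻¹ * v ∈ M)).card = FM.card := by
      intro v _
      apply Finset.card_bij (fun g _ => g⁻¹ * v)
      · intro g hg
        simp only [Finset.mem_filter, Finset.mem_univ, true_and, hFM] at hg ⊢
        exact hg
      · intro a _ b _ hab
        have := mul_right_cancel hab
        exact inv_injective this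
      · intro m hm
        simp only [Finset.mem_filter, Finset.mem_univ, true_and, hFM] at hm
        refine ⟨v * m⁻¹, ?_, by group⟩
        simp only [Finset.mem_filter, Finset.mem_univ, true_and]
        have e : (v * m⁻¹)⁻¹ * v = m := by group
        rw [e]; exact hm
    rw [← e1, Finset.sum_congr rfl e2, Finset.sum_const, smul_eq_mul]
  have hex : ∃ g : S, g ∉ M ∧ InvM.card ≤ (InvN.filter (fun v => g⁻¹ * v ∈ M)).card := by
    by_contra hcon
    push Not at hcon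
    have hz : ∀ g ∈ FM, (InvN.filter (fun v => g⁻¹ * v ∈ M)).card = 0 := by
      intro g hg
      simp only [Finset.mem_filter, Finset.mem_univ, true_and, hFM] at hg
      rw [Finset.card_eq_zero, Finset.filter_eq_empty_iff]
      intro v hv hgv
      simp only [Finset.mem_filter, hInvN] at hv
      apply hv.2
      have := Subgroup.mul_mem _ hg hgv
      rwa [mul_inv_cancel_left] at this
    have hb : ∀ g ∈ FN, (InvN.filter (fun v => g⁻¹ * v ∈ M)).card ≤ InvM.card - 1 := by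
      intro g hg
      simp only [Finset.mem_filter, Finset.mem_univ, true_and, hFN] at hg
      have := hcon g hg
      omega
    have hsum : ∑ g : S, (InvN.filter (fun v => g⁻¹ * v ∈ M)).card
        ≤ FN.card * (InvM.card - 1) := by
      rw [← Finset.sum_filter_add_sum_filter_not Finset.univ (fun g => g ∈ M)]
      rw [Finset.sum_eq_zero hz, zero_add]
      calc _ ≤ ∑ g ∈ FN, (InvM.card - 1) := Finset.sum_le_sum hb
        _ = FN.card * (InvM.card - 1) := by rw [Finset.sum_const, smul_eq_mul]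
    have h1 : InvN.card * FM.card ≤ FN.card * (InvM.card - 1) := hc2 ▸ hsum
    have h2 : (InvM.card + InvN.card) * FM.card = (FM.card + FN.card) * InvM.card := by
      rw [hsplit1, hsplit2]; exact hc1
    have h3 : InvN.card * FM.card = FN.card * InvM.card := by nlinarith
    have h4 : FN.card * InvM.card ≤ FN.card * (InvM.card - 1) := h3 ▸ h1
    have h5 : InvM.card ≤ InvM.card - 1 := Nat.le_of_mul_le_mul_left h4 hFN_pos
    omega
  obtain ⟨g, hgM, hgcard⟩ := hex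
  set J := InvN.filter (fun v => g⁻¹ * v ∈ M) with hJ
  have hJpos : 0 < J.card := lt_of_lt_of_le hi_pos hgcard
  obtain ⟨u, hu⟩ := Finset.card_pos.mp hJpos
  have hu' : (orderOf u = 2 ∧ u ∉ M) ∧ g⁻¹ * u ∈ M := by
    simpa [hJ, hInvN, hInv] using hu
  obtain ⟨⟨hu2, huM⟩, hgu⟩ := hu'
  have hJprop : ∀ v ∈ J, orderOf v = 2 ∧ v ∉ M ∧ u⁻¹ * v ∈ M := by
    intro v hv
    have hv' : (orderOf v = 2 ∧ v ∉ M) ∧ g⁻¹ * v ∈ M := by simpa [hJ, hInvN, hInv] using hv
    refine ⟨hv'.1.1, hv'.1.2, ?_⟩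
    have e : u⁻¹ * v = (g⁻¹ * u)⁻¹ * (g⁻¹ * v) := by group
    rw [e]; exact Subgroup.mul_mem _ (Subgroup.inv_mem _ hgu) hv'.2
  let φ : S → S := fun v => (u⁻¹ * v) * I₀ * (u⁻¹ * v)⁻¹
  have hφinj : Set.InjOn φ (J : Set S) := by
    intro v₁ h1 v₂ h2 h12
    obtain ⟨ho1, hM1, hd1⟩ := hJprop v₁ h1
    obtain ⟨ho2, hM2, hd2⟩ := hJprop v₂ h2
    apply lemF M hC I₀ hI₀ hIM v₁ v₂ ho1 ho2 hM1
    · have e : v₂⁻¹ * v₁ = (u⁻¹ * v₂)⁻¹ * (u⁻¹ * v₁) := by group
      rw [e]; exact Subgroup.mul_mem _ (Subgroup.inv_mem _ hd2) hd1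
    · show v₂⁻¹ * v₁ * I₀ = I₀ * (v₂⁻¹ * v₁)
      have h12' : (u⁻¹ * v₁) * I₀ * (u⁻¹ * v₁)⁻¹ = (u⁻¹ * v₂) * I₀ * (u⁻¹ * v₂)⁻¹ := h12
      calc v₂⁻¹ * v₁ * I₀
          = (u⁻¹ * v₂)⁻¹ * ((u⁻¹ * v₁) * I₀ * (u⁻¹ * v₁)⁻¹) * (u⁻¹ * v₁) := by group
        _ = (u⁻¹ * v₂)⁻¹ * ((u⁻¹ * v₂) * I₀ * (u⁻¹ * v₂)⁻¹) * (u⁻¹ * v₁) := by rw [h12']
        _ = I₀ * (v₂⁻¹ * v₁) := by group
  have himg : J.image φ = InvM := by
    apply Finset.eq_of_subset_of_card_le
    · intro w hw
      obtain ⟨v, hv, rfl⟩ := Finset.mem_image.mp hw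
      obtain ⟨ho, hMv, hd⟩ := hJprop v hv
      simp only [Finset.mem_filter, Finset.mem_univ, true_and, hInvM, hInv]
      exact ⟨by show orderOf ((u⁻¹ * v) * I₀ * (u⁻¹ * v)⁻¹) = 2; rw [ord_conj]; exact hI₀,
        Subgroup.mul_mem _ (Subgroup.mul_mem _ hd hIM) (Subgroup.inv_mem _ hd)⟩
    · rw [Finset.card_image_of_injOn hφinj]; exact hgcard
  refine ⟨u, huM, hu2, ?_⟩
  intro w hwM hw2
  have hw : w ∈ J.image φ := by
    rw [himg]; simp [hInvM, hInv, hwM, hw2]
  obtain ⟨v, hv, hvw⟩ := Finset.mem_image.mp hw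
  obtain ⟨ho, hMv, hd⟩ := hJprop v hv
  exact ⟨u⁻¹ * v, hd, by rw [mul_inv_cancel_left]; exact ho, hvw⟩

theorem result {S : Type*} [Group S] [Finite S] (M : Subgroup S) (hM : Even (Nat.card M))
    (hC : ∀ i ∈ M, orderOf i = 2 → Subgroup.centralizer ({i} : Set S) ≤ M) (hcore : Odd (Nat.card M.normalCore)) :
    (∀ x y : S, orderOf x = 2 → orderOf y = 2 → IsConj x y) ∧
      ∀ (X : Sylow 2 M) (I : M), I ∈ (Subgroup.center ↥(X : Subgroup ↥M)).map (X : Subgroup ↥M).subtype → orderOf I = 2 →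
        Subgroup.normalizer (((X : Subgroup M).map M.subtype : Subgroup S) : Set S) ≤ M →
        (∀ x y : M, orderOf x = 2 → orderOf y = 2 → IsConj x y) ∧
          ∃ M₀ : Subgroup M, Odd (Nat.card M₀) ∧
            ∀ m : M, ∃ a ∈ M₀, ∃ c ∈ Subgroup.centralizer ({I} : Set M), m = a * c := by
  have : Fact (Nat.Prime 2) := ⟨Nat.prime_two⟩
  obtain ⟨⟨j₀, hj₀M, hj₀⟩, hconj⟩ := part1 M hM hC hcore
  refine ⟨hconj, ?_⟩
  intro X I hI hI2 hN
  have hP2 : IsPGroup 2 ((X : Subgroup M).map M.subtype) := X.isPGroup'.map M.subtype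
  have hI₀ : orderOf (I : S) = 2 := by rw [Subgroup.orderOf_coe]; exact hI2
  obtain ⟨z, hz, hzI⟩ := hI
  have hIc : ∀ p ∈ (X : Subgroup M).map M.subtype, Commute p (I : S) := by
    rintro _ ⟨p', hp', rfl⟩
    have h1 := Subgroup.mem_center_iff.mp hz ⟨p', hp'⟩
    have h2 : p' * I = I * p' := by
      rw [← hzI]; exact congrArg Subtype.val h1
    exact congrArg Subtype.val h2
  have hSyl := sylM M X
  have hCl : ∀ g t : S, t ∈ M → orderOf t = 2 → g⁻¹ * t * g ∈ M → g ∈ M :=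
    fun g t htM ht hgt => claimC M hC _ hP2 hSyl hN (I : S) hI₀ hIc g t htM ht hgt
  have hconjM : ∀ x y : M, orderOf x = 2 → orderOf y = 2 → IsConj x y := by
    intro x y hx hy
    have hx' : orderOf (x : S) = 2 := by rw [Subgroup.orderOf_coe]; exact hx
    have hy' : orderOf (y : S) = 2 := by rw [Subgroup.orderOf_coe]; exact hy
    obtain ⟨g, hg⟩ := isConj_iff.mp (hconj x y hx' hy')
    have hgM : g ∈ M := hCl g y y.2 hy' (by
      have : g⁻¹ * (y : S) * g = x := by rw [← hg]; group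
      rw [this]; exact x.2)
    exact isConj_iff.mpr ⟨⟨g, hgM⟩, Subtype.ext (by simpa using hg)⟩
  refine ⟨hconjM, ?_⟩
  obtain ⟨u, huM, hu2, hu⟩ := count M hC hconj hCl (I : S) hI₀ I.2 j₀ hj₀M
  obtain ⟨huu, huinv⟩ := inv_of_ord2 u hu2
  let M₀ : Subgroup M :=
    { carrier := {m | u * (m : S) * u⁻¹ ∈ M}
      mul_mem' := by
        intro a b ha hb
        have e : u * ((a * b : M) : S) * u⁻¹ = (u * a * u⁻¹) * (u * b * u⁻¹) := by
          rw [Subgroup.coe_mul]; group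
        show u * ((a * b : M) : S) * u⁻¹ ∈ M
        rw [e]; exact Subgroup.mul_mem _ ha hb
      one_mem' := by
        show u * ((1 : M) : S) * u⁻¹ ∈ M
        rw [Subgroup.coe_one, mul_one, mul_inv_cancel]; exact Subgroup.one_mem _
      inv_mem' := by
        intro a ha
        have e : u * ((a⁻¹ : M) : S) * u⁻¹ = (u * a * u⁻¹)⁻¹ := by
          rw [Subgroup.coe_inv]; group
        show u * ((a⁻¹ : M) : S) * u⁻¹ ∈ M
        rw [e]; exact Subgroup.inv_mem _ ha }
  have hM₀mem : ∀ m : M, m ∈ M₀ ↔ u * (m : S) * u⁻¹ ∈ M := fun m => Iff.rfl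
  refine ⟨M₀, ?_, ?_⟩
  · rw [← Nat.not_even_iff_odd]
    intro he
    obtain ⟨z, hz⟩ := exists_prime_orderOf_dvd_card' (G := M₀) 2 (even_iff_two_dvd.mp he)
    have hz1 : orderOf ((z : M) : S) = 2 := by
      rw [Subgroup.orderOf_coe, Subgroup.orderOf_coe]; exact hz
    have hz2 : u * ((z : M) : S) * u⁻¹ ∈ M := (hM₀mem z).mp z.2
    have := hCl u⁻¹ ((z : M) : S) (z : M).2 hz1 (by rw [inv_inv]; exact hz2)
    exact huM ((Subgroup.inv_mem_iff _).mp this)
  · intro m
    have hw2 : orderOf ((m : S) * I * (m : S)⁻¹) = 2 := by rw [ord_conj]; exact hI₀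
    have hwM : (m : S) * I * (m : S)⁻¹ ∈ M :=
      Subgroup.mul_mem _ (Subgroup.mul_mem _ m.2 I.2) (Subgroup.inv_mem _ m.2)
    obtain ⟨d, hdM, hud, hdw⟩ := hu _ hwM hw2
    have hd0 : (⟨d, hdM⟩ : M) ∈ M₀ := by
      rw [hM₀mem]
      show u * d * u⁻¹ ∈ M
      obtain ⟨hud2, -⟩ := inv_of_ord2 _ hud
      have e : u * d * u⁻¹ = d⁻¹ := by
        rw [huinv]
        have : u * d * u * d = 1 := by rw [← hud2]; group
        exact eq_inv_of_mul_eq_one_left this
      rw [e]; exact Subgroup.inv_mem _ hdM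
    refine ⟨⟨d, hdM⟩, hd0, (⟨d, hdM⟩ : M)⁻¹ * m, ?_, by rw [mul_inv_cancel_left]⟩
    rw [Subgroup.mem_centralizer_singleton_iff]
    apply Subtype.ext
    show d⁻¹ * (m : S) * (I : S) = (I : S) * (d⁻¹ * (m : S))
    calc d⁻¹ * (m : S) * (I : S) = d⁻¹ * ((m : S) * I * (m : S)⁻¹) * m := by group
      _ = d⁻¹ * (d * I * d⁻¹) * m := by rw [hdw]
      _ = (I : S) * (d⁻¹ * (m : S)) := by group

end Cfsg.Agent.S1905
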