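import Cfsg.Statements.S0128

import Mathlib
import Cfsg.Agent.S0126
import Cfsg.Agent.S1452
import Cfsg.Agent.S1905

set_option autoImplicit false
open Cfsg
open scoped Pointwise

namespace Cfsg.Agent.S0128

universe u

theorem aux1 {S : Type*} [Group S] (x d w : S) (hxd : x * d = d * w * x)
    (hw : ∀ g : S, w * g = g * w) (i : ℕ) : x * d ^ i = d ^ i * w ^ i * x := by
  induction i with
  | zero => simp
  | succ i ih =>
    have hwi : w ^ i * d = d * w ^ i := (Commute.pow_left (show Commute w d from hw d) i).eq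
    calc x * d ^ (i + 1) = x * d ^ i * d := by rw [pow_succ, mul_assoc]
      _ = d ^ i * w ^ i * (x * d) := by rw [ih, mul_assoc]
      _ = d ^ i * w ^ i * (d * w * x) := by rw [hxd]
      _ = d ^ i * (w ^ i * d) * w * x := by simp only [mul_assoc]
      _ = d ^ i * (d * w ^ i) * w * x := by rw [hwi]
      _ = d ^ (i + 1) * w ^ (i + 1) * x := by rw [pow_succ, pow_succ]; simp only [mul_assoc]

theorem aux2 {S : Type*} [Group S] (x c d : S) (hxc : x * c = d * c * x)
    (hdc : d * c = c * d) (k : ℕ) : x * c ^ k = d ^ k * c ^ k * x := by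
  induction k with
  | zero => simp
  | succ k ih =>
    have hck : c ^ k * d = d * c ^ k :=
      (Commute.pow_left (show Commute c d from hdc.symm) k).eq
    calc x * c ^ (k + 1) = x * c ^ k * c := by rw [pow_succ, mul_assoc]
      _ = d ^ k * c ^ k * (x * c) := by rw [ih, mul_assoc]
      _ = d ^ k * c ^ k * (d * c * x) := by rw [hxc]
      _ = d ^ k * (c ^ k * d) * c * x := by simp only [mul_assoc]
      _ = d ^ k * (d * c ^ k) * c * x := by rw [hck]
      _ = d ^ (k + 1) * c ^ (k + 1) * x := by rw [pow_succ, pow_succ]; simp only [mul_assoc]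

theorem aux3 {S : Type*} [Group S] (x c d w : S) (hxc : x * c = d * c * x)
    (hxd : x * d = d * w * x) (hw : ∀ g : S, w * g = g * w) (hdc : d * c = c * d)
    (i j k : ℕ) : x * (d ^ i * w ^ j * c ^ k) = d ^ (i + k) * w ^ (i + j) * c ^ k * x := by
  have hwj : ∀ (m : ℕ) (g : S), w ^ m * g = g * w ^ m := fun m g =>
    (Commute.pow_left (show Commute w g from hw g) m).eq
  calc x * (d ^ i * w ^ j * c ^ k) = (x * d ^ i) * w ^ j * c ^ k := by simp only [mul_assoc]
    _ = d ^ i * w ^ i * x * w ^ j * c ^ k := by rw [aux1 x d w hxd hw i]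
    _ = d ^ i * w ^ i * w ^ j * (x * c ^ k) := by
        rw [mul_assoc (d ^ i * w ^ i) x, ← hwj j x]; simp only [mul_assoc]
    _ = d ^ i * w ^ i * w ^ j * (d ^ k * c ^ k * x) := by rw [aux2 x c d hxc hdc k]
    _ = d ^ i * (w ^ (i + j) * d ^ k) * c ^ k * x := by
        rw [pow_add w i j]; simp only [mul_assoc]
    _ = d ^ i * (d ^ k * w ^ (i + j)) * c ^ k * x := by rw [hwj (i + j) (d ^ k)]
    _ = d ^ (i + k) * w ^ (i + j) * c ^ k * x := by rw [pow_add d i k]; simp only [mul_assoc]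

theorem aux4 {S : Type*} [Group S] (x c d w : S) (hxc : x * c = d * c * x)
    (hxd : x * d = d * w * x) (hw : ∀ g : S, w * g = g * w) (hdc : d * c = c * d) (n : ℕ) :
    (x * c) ^ n = d ^ (Nat.choose (n + 1) 2) * w ^ (Nat.choose (n + 1) 3) * c ^ n * x ^ n := by
  induction n with
  | zero => simp [Nat.choose]
  | succ n ih =>
    have hwj : ∀ (m : ℕ) (g : S), w ^ m * g = g * w ^ m := fun m g =>
      (Commute.pow_left (show Commute w g from hw g) m).eq
    have hcd : ∀ m : ℕ, c * d ^ m = d ^ m * c := fun m =>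
      (Commute.pow_right (show Commute c d from hdc.symm) m).eq
    have e1 : Nat.choose (n + 1 + 1) 2 = Nat.choose (n + 1) 2 + (n + 1) := by
      rw [Nat.choose_succ_succ' (n + 1) 1, Nat.choose_one_right]; ring
    have e2 : Nat.choose (n + 1 + 1) 3 = Nat.choose (n + 1) 2 + Nat.choose (n + 1) 3 := by
      rw [Nat.choose_succ_succ' (n + 1) 2]
    have hcD : c * (d ^ (Nat.choose (n + 1) 2) * w ^ (Nat.choose (n + 1) 3)) =
        d ^ (Nat.choose (n + 1) 2) * w ^ (Nat.choose (n + 1) 3) * c := by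
      rw [← mul_assoc, hcd, mul_assoc, ← hwj (Nat.choose (n + 1) 3) c, ← mul_assoc]
    calc (x * c) ^ (n + 1) = x * c * (x * c) ^ n := by rw [pow_succ']
      _ = x * c * (d ^ (Nat.choose (n + 1) 2) * w ^ (Nat.choose (n + 1) 3) * c ^ n * x ^ n) := by
          rw [ih]
      _ = x * (c * (d ^ (Nat.choose (n + 1) 2) * w ^ (Nat.choose (n + 1) 3))) * c ^ n * x ^ n := by
          simp only [mul_assoc]
      _ = x * (d ^ (Nat.choose (n + 1) 2) * w ^ (Nat.choose (n + 1) 3) * c) * c ^ n * x ^ n := by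
          rw [hcD]
      _ = x * (d ^ (Nat.choose (n + 1) 2) * w ^ (Nat.choose (n + 1) 3) * c ^ (n + 1)) * x ^ n := by
          rw [pow_succ' c n]; simp only [mul_assoc]
      _ = d ^ (Nat.choose (n + 1) 2 + (n + 1)) *
            w ^ (Nat.choose (n + 1) 2 + Nat.choose (n + 1) 3) * c ^ (n + 1) * x * x ^ n := by
          rw [aux3 x c d w hxc hxd hw hdc]
      _ = d ^ (Nat.choose (n + 1 + 1) 2) * w ^ (Nat.choose (n + 1 + 1) 3) * c ^ (n + 1) *
            x ^ (n + 1) := by
          rw [e1, e2, pow_succ' x n]; simp only [mul_assoc]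

theorem aux5 {S : Type*} [Group S] {p : ℕ} [Fact p.Prime] (hp : 3 < p) (x c d w : S)
    (hxc : x * c = d * c * x) (hxd : x * d = d * w * x) (hw : ∀ g : S, w * g = g * w)
    (hdc : d * c = c * d) (hdp : d ^ p = 1) (hwp : w ^ p = 1) (hxp : x ^ p = 1) :
    (x * c) ^ p = c ^ p := by
  have hp' : p.Prime := Fact.out
  have h2 : p ∣ Nat.choose (p + 1) 2 := by
    rw [Nat.choose_succ_succ' p 1]
    exact dvd_add (hp'.dvd_choose_self (by norm_num) (by omega))
      (hp'.dvd_choose_self (by norm_num) (by omega))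
  have h3 : p ∣ Nat.choose (p + 1) 3 := by
    rw [Nat.choose_succ_succ' p 2]
    exact dvd_add (hp'.dvd_choose_self (by norm_num) (by omega))
      (hp'.dvd_choose_self (by norm_num) (by omega))
  obtain ⟨a, ha⟩ := h2
  obtain ⟨b, hb⟩ := h3
  rw [aux4 x c d w hxc hxd hw hdc p, ha, hb, pow_mul, pow_mul, hdp, hwp, one_pow, one_pow, hxp]
  simp

def RK (p : ℕ) (S : Type*) [Group S] : Prop :=
  ∀ E : Subgroup S, Cfsg.IsElementaryAbelian p E → Nat.card E ≤ p ^ 2

theorem RK_sub {p : ℕ} {S : Type*} [Group S] (h : RK p S) (T : Subgroup S) : RK p T := by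
  intro E hE
  have hc := (Cfsg.Agent.S3880.comm_iff_el E).mp hE.1
  have h1 : Cfsg.IsElementaryAbelian p (E.map T.subtype) := by
    refine ⟨(Cfsg.Agent.S3880.comm_iff_el _).mpr ?_, ?_⟩
    · rintro _ ⟨a, ha, rfl⟩ _ ⟨b, hb, rfl⟩
      rw [← map_mul, ← map_mul, hc a ha b hb]
    · rintro _ ⟨a, ha, rfl⟩
      rw [← map_pow, hE.2 a ha, map_one]
  have h2 := h _ h1
  rwa [Subgroup.card_map_of_injective (Subgroup.subtype_injective T)] at h2

theorem main {p : ℕ} [Fact p.Prime] (hp : 3 < p) : ∀ (n : ℕ) (S : Type u) [Group S] [Finite S],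
    Nat.card S = n → IsPGroup p S → RK p S →
      ∀ x y : S, x ^ p = 1 → y ^ p = 1 → (x * y) ^ p = 1 := by
  have hp' : p.Prime := Fact.out
  have hp2 : p ≠ 2 := by omega
  intro n
  induction n using Nat.strong_induction_on with
  | _ n ih =>
  intro S _ _ hn hS hrk x y hx hy
  haveI : Group.IsNilpotent S := hS.isNilpotent
  by_cases hcyc : IsCyclic S
  · have hc : x * y = y * x := by
      obtain ⟨g, hg⟩ := hcyc.exists_generator
      obtain ⟨i, rfl⟩ := Subgroup.mem_zpowers_iff.1 (hg x)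
      obtain ⟨j, rfl⟩ := Subgroup.mem_zpowers_iff.1 (hg y)
      exact zpow_mul_comm g i j
    rw [(show Commute x y from hc).mul_pow, hx, hy, one_mul]
  obtain ⟨A, hAn, hAe, hAc⟩ := Cfsg.Agent.S0126.result hp2 hS hcyc
  have hAcomm := (Cfsg.Agent.S3880.comm_iff_el A).mp hAe.1
  have hAexp := hAe.2
  haveI := hAn
  have hAbot : A ≠ ⊥ := by
    intro h
    rw [h, Subgroup.card_bot] at hAc
    have := hp'.two_le
    nlinarith
  obtain ⟨z, hzA, hzc, hz1⟩ := Cfsg.Agent.S4155.normal_inf_center A hAbot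
  have hzp : z ^ p = 1 := hAexp z hzA
  have hzord : orderOf z = p := orderOf_eq_prime hzp hz1
  have hZc : ∀ u ∈ Subgroup.zpowers z, ∀ g : S, u * g = g * u := by
    intro u hu g
    have h1 : u ∈ Subgroup.center S := (Subgroup.zpowers_le.2 hzc) hu
    exact (Subgroup.mem_center_iff.1 h1 g).symm
  haveI hZn : (Subgroup.zpowers z).Normal := ⟨fun u hu g => by
    have h1 := hZc u hu g⁻¹
    have h2 : g * u * g⁻¹ = u := by rw [mul_assoc, h1, ← mul_assoc, mul_inv_cancel, one_mul]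
    rw [h2]; exact hu⟩
  have hZA : Subgroup.zpowers z ≤ A := Subgroup.zpowers_le.2 hzA
  have hZcard : Nat.card (Subgroup.zpowers z) = p := by rw [Nat.card_zpowers, hzord]
  have hZne : Subgroup.zpowers z ≠ A := by
    intro h
    have h1 := hZcard
    rw [h, hAc] at h1
    have := hp'.two_le
    nlinarith
  obtain ⟨e, heA, heZ, hes⟩ := Cfsg.Agent.S1452.lemQ (Subgroup.zpowers z) A hZA hZne
  have hAle : A ≤ Subgroup.zpowers z ⊔ Subgroup.zpowers e := by
    have hJA : Subgroup.zpowers z ⊔ Subgroup.zpowers e ≤ A :=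
      sup_le hZA (Subgroup.zpowers_le.2 heA)
    have hZJ : Subgroup.zpowers z ≤ Subgroup.zpowers z ⊔ Subgroup.zpowers e := le_sup_left
    have hdvd : Nat.card ↥(Subgroup.zpowers z ⊔ Subgroup.zpowers e) ∣ p ^ 2 := by
      rw [← hAc]; exact Subgroup.card_dvd_of_le hJA
    obtain ⟨k, hk2, hk⟩ := (Nat.dvd_prime_pow hp').1 hdvd
    have hk1 : 2 ≤ k := by
      by_contra hlt
      have hk' : k ≤ 1 := by omega
      have h1 : Nat.card ↥(Subgroup.zpowers z ⊔ Subgroup.zpowers e) ≤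
          Nat.card (Subgroup.zpowers z) := by
        rw [hk, hZcard]
        calc p ^ k ≤ p ^ 1 := Nat.pow_le_pow_right hp'.pos hk'
          _ = p := pow_one p
      have h2 := Subgroup.eq_of_le_of_card_ge hZJ h1
      apply heZ
      rw [h2]
      exact (le_sup_right : Subgroup.zpowers e ≤ Subgroup.zpowers z ⊔ Subgroup.zpowers e)
        (Subgroup.mem_zpowers e)
    have hk3 : k = 2 := le_antisymm hk2 hk1
    have h3 : Nat.card A ≤ Nat.card ↥(Subgroup.zpowers z ⊔ Subgroup.zpowers e) := by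
      rw [hk, hk3, hAc]
    exact (Subgroup.eq_of_le_of_card_ge hJA h3).ge
  have hcent : ∀ g : S, g * e = e * g → g ∈ Subgroup.centralizer (A : Set S) := by
    intro g hge
    have h1 : A ≤ Subgroup.centralizer ({g} : Set S) := by
      refine hAle.trans (sup_le ?_ ?_)
      · intro u hu
        rw [Subgroup.mem_centralizer_iff]
        intro h hh
        rw [Set.mem_singleton_iff] at hh
        rw [hh]
        exact (hZc u hu g).symm
      · rw [Subgroup.zpowers_le, Subgroup.mem_centralizer_iff]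
        intro h hh
        rw [Set.mem_singleton_iff] at hh
        rw [hh]
        exact hge
    rw [Subgroup.mem_centralizer_iff]
    intro a ha
    exact ((Subgroup.mem_centralizer_iff.1 (h1 ha)) g (Set.mem_singleton g)).symm
  have hAC : A ≤ Subgroup.centralizer (A : Set S) := fun a ha =>
    Subgroup.mem_centralizer_iff.2 (fun b hb => hAcomm b hb a ha)
  -- F2
  have hF2 : ∀ w : S, w ^ p = 1 → w ∈ Subgroup.centralizer (A : Set S) → w ∈ A := by
    intro w hwp hwC
    by_contra hwA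
    have hwa : ∀ a ∈ A, a * w = w * a := fun a ha => Subgroup.mem_centralizer_iff.1 hwC a ha
    have hPK : A ⊔ Subgroup.zpowers w ≤
        Subgroup.centralizer (A : Set S) ⊓ Subgroup.centralizer ({w} : Set S) := by
      refine sup_le (le_inf hAC ?_) (le_inf ?_ ?_)
      · intro a ha
        rw [Subgroup.mem_centralizer_iff]
        intro h hh
        rw [Set.mem_singleton_iff] at hh
        rw [hh]
        exact (hwa a ha).symm
      · rw [Subgroup.zpowers_le]; exact hwC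
      · rw [Subgroup.zpowers_le, Subgroup.mem_centralizer_iff]
        intro h hh
        rw [Set.mem_singleton_iff] at hh
        rw [hh]
    have hPcomm : ∀ g ∈ A ⊔ Subgroup.zpowers w, ∀ h ∈ A ⊔ Subgroup.zpowers w,
        g * h = h * g := by
      intro g hg h hh
      have hgK := hPK hg
      have h1 : A ⊔ Subgroup.zpowers w ≤ Subgroup.centralizer ({g} : Set S) := by
        refine sup_le ?_ ?_
        · intro a ha
          rw [Subgroup.mem_centralizer_iff]
          intro k hk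
          rw [Set.mem_singleton_iff] at hk
          rw [hk]
          exact ((Subgroup.mem_centralizer_iff.1 hgK.1) a ha).symm
        · rw [Subgroup.zpowers_le, Subgroup.mem_centralizer_iff]
          intro k hk
          rw [Set.mem_singleton_iff] at hk
          rw [hk]
          exact ((Subgroup.mem_centralizer_iff.1 hgK.2) w (Set.mem_singleton w)).symm
      exact (Subgroup.mem_centralizer_iff.1 (h1 hh)) g (Set.mem_singleton g)
    have hPexp : ∀ g ∈ A ⊔ Subgroup.zpowers w, g ^ p = 1 := by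
      let E' : Subgroup S :=
        { carrier := {g | g ∈ A ⊔ Subgroup.zpowers w ∧ g ^ p = 1}
          mul_mem' := fun {a b} ha hb => ⟨mul_mem ha.1 hb.1, by
            rw [(show Commute a b from hPcomm a ha.1 b hb.1).mul_pow, ha.2, hb.2, one_mul]⟩
          one_mem' := ⟨one_mem _, one_pow p⟩
          inv_mem' := fun {a} ha => ⟨inv_mem ha.1, by rw [inv_pow, ha.2, inv_one]⟩ }
      have h1 : A ⊔ Subgroup.zpowers w ≤ E' := by
        refine sup_le ?_ ?_
        · intro a ha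
          exact ⟨(le_sup_left : A ≤ A ⊔ Subgroup.zpowers w) ha, hAexp a ha⟩
        · rw [Subgroup.zpowers_le]
          exact ⟨(le_sup_right : Subgroup.zpowers w ≤ A ⊔ Subgroup.zpowers w)
            (Subgroup.mem_zpowers w), hwp⟩
      intro g hg
      exact (h1 hg).2
    have hEA : Cfsg.IsElementaryAbelian p (A ⊔ Subgroup.zpowers w) :=
      ⟨(Cfsg.Agent.S3880.comm_iff_el _).mpr hPcomm, hPexp⟩
    have hle := hrk _ hEA
    have hlt : Nat.card A < Nat.card ↥(A ⊔ Subgroup.zpowers w) := by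
      by_contra hge
      push Not at hge
      have h2 := Subgroup.eq_of_le_of_card_ge (le_sup_left : A ≤ A ⊔ Subgroup.zpowers w) hge
      apply hwA
      rw [h2]
      exact (le_sup_right : Subgroup.zpowers w ≤ A ⊔ Subgroup.zpowers w)
        (Subgroup.mem_zpowers w)
    rw [hAc] at hlt
    omega
  -- the homomorphism κ
  have hκmul : ∀ s t : S, s * t * e * (s * t)⁻¹ * e⁻¹ =
      (s * e * s⁻¹ * e⁻¹) * (t * e * t⁻¹ * e⁻¹) := by
    intro s t
    have hk : t * e * t⁻¹ * e⁻¹ ∈ Subgroup.zpowers z := by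
      have := hes t
      rwa [commutatorElement_def] at this
    have hck := hZc _ hk
    calc s * t * e * (s * t)⁻¹ * e⁻¹ = s * (t * e * t⁻¹ * e⁻¹) * e * s⁻¹ * e⁻¹ := by group
      _ = (t * e * t⁻¹ * e⁻¹) * s * e * s⁻¹ * e⁻¹ := by rw [← hck s]
      _ = (t * e * t⁻¹ * e⁻¹) * (s * e * s⁻¹ * e⁻¹) := by simp only [mul_assoc]
      _ = (s * e * s⁻¹ * e⁻¹) * (t * e * t⁻¹ * e⁻¹) := hck _
  obtain ⟨κ, hκdef⟩ : ∃ κ : S →* S, ∀ s, κ s = s * e * s⁻¹ * e⁻¹ :=
    ⟨MonoidHom.mk' (fun s => s * e * s⁻¹ * e⁻¹) hκmul, fun s => rfl⟩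
  have hκZ : ∀ s, κ s ∈ Subgroup.zpowers z := by
    intro s
    have := hes s
    rw [commutatorElement_def] at this
    rw [hκdef]
    exact this
  have hκC : ∀ s, κ s = 1 → s ∈ Subgroup.centralizer (A : Set S) := by
    intro s hs
    rw [hκdef, mul_inv_eq_one, mul_inv_eq_iff_eq_mul] at hs
    exact hcent s hs
  have hL1 : ∀ x₀ : S, x₀ ∉ Subgroup.centralizer (A : Set S) → ∀ g : S,
      ∃ j : ℕ, (x₀ ^ j)⁻¹ * g ∈ Subgroup.centralizer (A : Set S) := by
    intro x₀ hx₀ g
    have h1 : κ x₀ ≠ 1 := fun h => hx₀ (hκC x₀ h)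
    have h2 : orderOf (κ x₀) = p := orderOf_eq_prime (hAexp _ (hZA (hκZ x₀))) h1
    have h3 : Subgroup.zpowers (κ x₀) = Subgroup.zpowers z := by
      apply Subgroup.eq_of_le_of_card_ge (Subgroup.zpowers_le.2 (hκZ x₀))
      rw [Nat.card_zpowers (κ x₀), h2, hZcard]
    have h4 : κ g ∈ Subgroup.zpowers (κ x₀) := by rw [h3]; exact hκZ g
    rw [← mem_powers_iff_mem_zpowers] at h4
    obtain ⟨j, hj⟩ := (Submonoid.mem_powers_iff _ _).1 h4
    refine ⟨j, hκC _ ?_⟩
    rw [map_mul, map_inv, map_pow, hj, inv_mul_cancel]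
  -- commutators with A lie in Z
  have hB : ∀ a ∈ A, ∀ s : S, s * a * s⁻¹ * a⁻¹ ∈ Subgroup.zpowers z := by
    let B : Subgroup S :=
      { carrier := {a | ∀ s : S, s * a * s⁻¹ * a⁻¹ ∈ Subgroup.zpowers z}
        mul_mem' := fun {a b} ha hb s => by
          have hc := hZc _ (hb s)
          have e1 : s * (a * b) * s⁻¹ * (a * b)⁻¹ =
              (s * a * s⁻¹) * (s * b * s⁻¹ * b⁻¹) * a⁻¹ := by group
          rw [e1, mul_assoc (s * a * s⁻¹), hc a⁻¹, ← mul_assoc]
          exact mul_mem (ha s) (hb s)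
        one_mem' := fun s => by simp
        inv_mem' := fun {a} ha s => by
          have hc := hZc _ (inv_mem (ha s))
          have e1 : s * a⁻¹ * s⁻¹ * a⁻¹⁻¹ = a⁻¹ * (s * a * s⁻¹ * a⁻¹)⁻¹ * a := by group
          rw [e1, mul_assoc, hc a, ← mul_assoc, inv_mul_cancel, one_mul]
          exact inv_mem (ha s) }
    have h1 : A ≤ B := by
      refine hAle.trans (sup_le ?_ ?_)
      · intro u hu s
        rw [← hZc u hu s, mul_assoc u, mul_inv_cancel, mul_one, mul_inv_cancel]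
        exact one_mem _
      · rw [Subgroup.zpowers_le]
        intro s
        have := hes s
        rwa [commutatorElement_def] at this
    intro a ha s
    exact h1 ha s
  by_cases hall : ∀ g : S, g ^ p = 1 → g ∈ Subgroup.centralizer (A : Set S)
  · exact hAexp _ (mul_mem (hF2 x hx (hall x hx)) (hF2 y hy (hall y hy)))
  push Not at hall
  obtain ⟨x₀, hx₀p, hx₀C⟩ := hall
  have hx₀H : x₀ ∈ A ⊔ Subgroup.zpowers x₀ :=
    (le_sup_right : Subgroup.zpowers x₀ ≤ A ⊔ Subgroup.zpowers x₀) (Subgroup.mem_zpowers x₀)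
  have hAH : A ≤ A ⊔ Subgroup.zpowers x₀ := le_sup_left
  have hHmem : ∀ g ∈ A ⊔ Subgroup.zpowers x₀, ∃ a ∈ A, ∃ i : ℕ, g = a * x₀ ^ i := by
    intro g hg
    have h1 : g ∈ ((A ⊔ Subgroup.zpowers x₀ : Subgroup S) : Set S) := hg
    rw [Subgroup.normal_mul] at h1
    obtain ⟨a, ha, b, hb, rfl⟩ := Set.mem_mul.1 h1
    have hb' : b ∈ Subgroup.zpowers x₀ := hb
    rw [← mem_powers_iff_mem_zpowers] at hb'
    obtain ⟨i, rfl⟩ := (Submonoid.mem_powers_iff _ _).1 hb'
    exact ⟨a, ha, i, rfl⟩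
  have hxpow : ∀ i : ℕ, (x₀ ^ i) ^ p = 1 := fun i => by
    rw [← pow_mul, mul_comm, pow_mul, hx₀p, one_pow]
  -- H has exponent p
  have hL2 : ∀ g ∈ A ⊔ Subgroup.zpowers x₀, g ^ p = 1 := by
    intro g hg
    obtain ⟨a, ha, i, rfl⟩ := hHmem g hg
    have ha' : (x₀ ^ i)⁻¹ * a * x₀ ^ i ∈ A := by
      have := hAn.conj_mem a ha (x₀ ^ i)⁻¹
      rwa [inv_inv] at this
    have hdZ := hB _ ha' (x₀ ^ i)
    have hg' : a * x₀ ^ i = x₀ ^ i * ((x₀ ^ i)⁻¹ * a * x₀ ^ i) := by group
    rw [hg']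
    have hpow := aux5 hp (x₀ ^ i) ((x₀ ^ i)⁻¹ * a * x₀ ^ i)
      (x₀ ^ i * ((x₀ ^ i)⁻¹ * a * x₀ ^ i) * (x₀ ^ i)⁻¹ * ((x₀ ^ i)⁻¹ * a * x₀ ^ i)⁻¹) 1
      (by group) (by rw [mul_one]; exact (hZc _ hdZ _).symm) (fun g => by simp)
      (hZc _ hdZ _) (hAexp _ (hZA hdZ)) (one_pow p) (hxpow i)
    rw [hpow]
    exact hAexp _ ha'
  have hL3 : ∀ g ∈ A ⊔ Subgroup.zpowers x₀, g ∈ Subgroup.centralizer (A : Set S) → g ∈ A := by
    intro g hg hgC
    obtain ⟨a, ha, i, rfl⟩ := hHmem g hg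
    have h1 : x₀ ^ i ∈ Subgroup.centralizer (A : Set S) := by
      have h2 := mul_mem (inv_mem (hAC ha)) hgC
      rwa [inv_mul_cancel_left] at h2
    exact mul_mem ha (hF2 _ (hxpow i) h1)
  -- H is normal
  have hHnorm : ∀ g : S, ∀ h ∈ A ⊔ Subgroup.zpowers x₀, g * h * g⁻¹ ∈ A ⊔ Subgroup.zpowers x₀ := by
    have hN : Subgroup.normalizer ((A ⊔ Subgroup.zpowers x₀ : Subgroup S) : Set S) = ⊤ := by
      by_contra hNtop
      have hcardN : Nat.card ↥(Subgroup.normalizer ((A ⊔ Subgroup.zpowers x₀ : Subgroup S) : Set S)) < n := by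
        rw [← hn]
        by_contra hge
        push Not at hge
        exact hNtop (Subgroup.eq_top_of_le_card _ hge)
      have ihN := ih _ hcardN
        ↥(Subgroup.normalizer ((A ⊔ Subgroup.zpowers x₀ : Subgroup S) : Set S)) rfl
        (hS.to_subgroup _) (RK_sub hrk _)
      have hHN : A ⊔ Subgroup.zpowers x₀ ≤
          Subgroup.normalizer ((A ⊔ Subgroup.zpowers x₀ : Subgroup S) : Set S) :=
        Subgroup.le_normalizer
      have claim : ∀ g ∈ Subgroup.normalizer ((A ⊔ Subgroup.zpowers x₀ : Subgroup S) : Set S),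
          g ^ p = 1 → g ∈ A ⊔ Subgroup.zpowers x₀ := by
        intro g hgN hgp
        by_cases hgC : g ∈ Subgroup.centralizer (A : Set S)
        · exact hAH (hF2 g hgp hgC)
        · obtain ⟨j, hj⟩ := hL1 x₀ hx₀C g
          have hxj : (x₀ ^ j)⁻¹ ∈
              Subgroup.normalizer ((A ⊔ Subgroup.zpowers x₀ : Subgroup S) : Set S) :=
            inv_mem (pow_mem (hHN hx₀H) j)
          have hq : ((x₀ ^ j)⁻¹) ^ p = 1 := by rw [inv_pow, hxpow j, inv_one]
          have hcp : ((x₀ ^ j)⁻¹ * g) ^ p = 1 := by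
            have h1 := ihN ⟨(x₀ ^ j)⁻¹, hxj⟩ ⟨g, hgN⟩ (Subtype.ext hq) (Subtype.ext hgp)
            exact congrArg Subtype.val h1
          have hcA := hF2 _ hcp hj
          have h2 : g = x₀ ^ j * ((x₀ ^ j)⁻¹ * g) := by group
          rw [h2]
          exact mul_mem (pow_mem hx₀H j) (hAH hcA)
      have hNC := Group.normalizerCondition_of_isNilpotent _ (lt_top_iff_ne_top.2 hNtop)
      obtain ⟨g, hgNN, hgN⟩ := SetLike.exists_of_lt hNC
      apply hgN
      apply Cfsg.Agent.S1905.norm_of_conj_le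
      intro h hh
      apply claim
      · exact (Subgroup.mem_normalizer_iff.1 hgNN h).1 (hHN hh)
      · rw [conj_pow, hL2 h hh, mul_one, mul_inv_cancel]
    intro g h hh
    have hg : g ∈ Subgroup.normalizer ((A ⊔ Subgroup.zpowers x₀ : Subgroup S) : Set S) := by
      rw [hN]; trivial
    exact (Subgroup.mem_normalizer_iff.1 hg h).1 hh
  -- all elements of order p lie in H
  have hHall : ∀ g : S, g ^ p = 1 → g ∈ A ⊔ Subgroup.zpowers x₀ := by
    intro g hgp
    by_cases hgC : g ∈ Subgroup.centralizer (A : Set S)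
    · exact hAH (hF2 g hgp hgC)
    obtain ⟨j, hj⟩ := hL1 x₀ hx₀C g
    obtain ⟨x', hx'def⟩ : ∃ x' : S, x' = x₀ ^ j := ⟨_, rfl⟩
    obtain ⟨c, hcdef⟩ : ∃ c : S, c = (x₀ ^ j)⁻¹ * g := ⟨_, rfl⟩
    have hcC : c ∈ Subgroup.centralizer (A : Set S) := by rw [hcdef]; exact hj
    have hx'H : x' ∈ A ⊔ Subgroup.zpowers x₀ := by rw [hx'def]; exact pow_mem hx₀H j
    have hx'p : x' ^ p = 1 := by rw [hx'def]; exact hxpow j
    have hg : g = x' * c := by rw [hx'def, hcdef]; group
    have hdH : x' * c * x'⁻¹ * c⁻¹ ∈ A ⊔ Subgroup.zpowers x₀ := by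
      have h1 : c * x'⁻¹ * c⁻¹ ∈ A ⊔ Subgroup.zpowers x₀ := hHnorm c x'⁻¹ (inv_mem hx'H)
      have h2 : x' * c * x'⁻¹ * c⁻¹ = x' * (c * x'⁻¹ * c⁻¹) := by group
      rw [h2]
      exact mul_mem hx'H h1
    have hdC : x' * c * x'⁻¹ * c⁻¹ ∈ Subgroup.centralizer (A : Set S) := by
      have hCn : (Subgroup.centralizer (A : Set S)).Normal := inferInstance
      exact mul_mem (hCn.conj_mem c hcC x') (inv_mem hcC)
    have hdA := hL3 _ hdH hdC
    have hwZ := hB _ hdA x'
    have hxd : x' * (x' * c * x'⁻¹ * c⁻¹) =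
        (x' * c * x'⁻¹ * c⁻¹) * (x' * (x' * c * x'⁻¹ * c⁻¹) * x'⁻¹ * (x' * c * x'⁻¹ * c⁻¹)⁻¹) * x' := by
      have e1 : x' * (x' * c * x'⁻¹ * c⁻¹) =
          (x' * (x' * c * x'⁻¹ * c⁻¹) * x'⁻¹ * (x' * c * x'⁻¹ * c⁻¹)⁻¹) * (x' * c * x'⁻¹ * c⁻¹) * x' := by
        group
      exact e1.trans (congrArg (fun t => t * x') (hZc _ hwZ (x' * c * x'⁻¹ * c⁻¹)))
    have hpow : (x' * c) ^ p = c ^ p := aux5 hp x' c (x' * c * x'⁻¹ * c⁻¹)
      (x' * (x' * c * x'⁻¹ * c⁻¹) * x'⁻¹ * (x' * c * x'⁻¹ * c⁻¹)⁻¹)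
      (by group) hxd (fun g => hZc _ hwZ g) (Subgroup.mem_centralizer_iff.1 hcC _ hdA)
      (hAexp _ hdA) (hAexp _ (hZA hwZ)) hx'p
    have hcp : c ^ p = 1 := by rw [← hpow, ← hg]; exact hgp
    have hcA := hF2 c hcp hcC
    rw [hg]
    exact mul_mem hx'H (hAH hcA)
  exact hL2 _ (mul_mem (hHall x hx) (hHall y hy))

theorem result {R : Type*} [Group R] [Finite R] {p : ℕ} [Fact p.Prime] (hp : 3 < p) (hR : IsPGroup p R) (hrk : ∀ E : Subgroup R, Cfsg.IsElementaryAbelian p E → Nat.card E ≤ p ^ 2) (g : R) (hg : g ∈ Subgroup.closure {x : R | x ^ p = 1}) : g ^ p = 1 := by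
  have key := main hp (Nat.card R) R rfl hR hrk
  induction hg using Subgroup.closure_induction with
  | mem x hx => exact hx
  | one => exact one_pow p
  | mul x y _ _ hx hy => exact key x y hx hy
  | inv x _ hx => rw [inv_pow, hx, inv_one]

end Cfsg.Agent.S0128
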