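import Cfsg.Statements.S0132
import Mathlib
import Cfsg.Agent.S0071
import Cfsg.Agent.Lib.Helper5.Coprime
import Cfsg.Agent.Lib.Helper3.Core

set_option autoImplicit false
open Cfsg

namespace Cfsg.Agent.S0132

open Cfsg.Agent.Lib.Helper5.Coprime
open scoped commutatorElement

theorem cent_of_pcomp {G : Type*} [Group G] [Finite G] {p : ℕ} [Fact p.Prime]
    (Q : Subgroup G) (g : G) (H : Subgroup G) (hQH : Q ≤ H) (hgH : g ∈ H) (hQp : IsPGroup p Q)
    (hgQ : g ∈ Subgroup.normalizer (Q : Set G)) (hcop : Nat.Coprime (orderOf g) p)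
    (hH : Cfsg.HasNormalPComplement p ↥H) : g ∈ Subgroup.centralizer (Q : Set G) := by
  obtain ⟨P', K, hK, hc⟩ := hH
  obtain ⟨k, hk⟩ := (IsPGroup.iff_card).1 P'.isPGroup'
  have hidx : K.index = p ^ k := by
    rw [hc.symm.index_eq_card]
    exact hk
  have hKcop : (Nat.card K).Coprime p := by
    rw [← hc.index_eq_card]
    exact ((Nat.Prime.coprime_iff_not_dvd Fact.out).2 P'.not_dvd_index).symm
  have hgK : (⟨g, hgH⟩ : ↥H) ∈ K := by
    rw [← QuotientGroup.eq_one_iff]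
    apply eq_one_of_pow_of_pow _ k (orderOf g) hcop
    · have h0 := pow_card_eq_one' (G := ↥H ⧸ K) (x := ((⟨g, hgH⟩ : ↥H) : ↥H ⧸ K))
      rw [← Subgroup.index_eq_card, hidx] at h0
      exact h0
    · rw [← QuotientGroup.mk_pow]
      have h0 : (⟨g, hgH⟩ : ↥H) ^ orderOf g = 1 := Subtype.ext (by simp [pow_orderOf_eq_one])
      rw [h0]
      rfl
  rw [Subgroup.mem_centralizer_iff]
  intro q hq
  have hcK : (⟨q, hQH hq⟩ : ↥H) * ⟨g, hgH⟩ * (⟨q, hQH hq⟩ : ↥H)⁻¹ * (⟨g, hgH⟩ : ↥H)⁻¹ ∈ K :=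
    K.mul_mem (hK.conj_mem _ hgK _) (K.inv_mem hgK)
  have hcQ : q * g * q⁻¹ * g⁻¹ ∈ Q := by
    have e : q * g * q⁻¹ * g⁻¹ = q * (g * q⁻¹ * g⁻¹) := by group
    rw [e]
    exact Q.mul_mem hq ((Subgroup.mem_normalizer_iff.1 hgQ _).1 (Q.inv_mem hq))
  have hc1 : q * g * q⁻¹ * g⁻¹ = 1 := by
    obtain ⟨j, hj⟩ := hQp ⟨_, hcQ⟩
    have hj' : (q * g * q⁻¹ * g⁻¹) ^ p ^ j = 1 := by simpa using congrArg Subtype.val hj
    have h3 := pow_card_eq_one' (G := ↥K) (x := ⟨_, hcK⟩)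
    have h4 : (q * g * q⁻¹ * g⁻¹) ^ Nat.card K = 1 := by
      have h5 := congrArg (fun z : ↥K => ((z : ↥H) : G)) h3
      simpa only [Subgroup.coe_pow, Subgroup.coe_one, Subgroup.coe_mul, Subgroup.coe_inv] using h5
    exact eq_one_of_pow_of_pow _ j (Nat.card K) hKcop hj' h4
  calc q * g = (q * g * q⁻¹ * g⁻¹) * (g * q) := by group
    _ = g * q := by rw [hc1, one_mul]

theorem core {G : Type*} [Group G] [Finite G] {p : ℕ} [Fact p.Prime]
    (h1 : ¬ Cfsg.HasNormalPComplement p G)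
    (h2 : ∀ H : Subgroup G, H ≠ ⊤ → Cfsg.HasNormalPComplement p H) :
    ∃ (Q : Subgroup G) (g : G), Q.Normal ∧ IsPGroup p Q ∧ Nat.Coprime (orderOf g) p ∧
      g ∉ Subgroup.centralizer (Q : Set G) ∧ Q ⊔ Subgroup.zpowers g = ⊤ := by
  obtain ⟨P₀⟩ : Nonempty (Sylow p G) := inferInstance
  have hn : ¬ ∀ Q : Subgroup G, Q ≤ (P₀ : Subgroup G) → ∀ g ∈ Subgroup.normalizer (Q : Set G),
      Nat.Coprime (orderOf g) p → g ∈ Subgroup.centralizer (Q : Set G) := by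
    intro hall
    obtain ⟨N, hN, hc⟩ := (Cfsg.Agent.S0071.result P₀).2 hall
    exact h1 ⟨P₀, N, hN, hc⟩
  push Not at hn
  obtain ⟨Q, hQP, g, hgQ, hcop, hgc⟩ := hn
  have hQp : IsPGroup p Q := P₀.isPGroup'.to_le hQP
  have hHN : Q ⊔ Subgroup.zpowers g ≤ Subgroup.normalizer (Q : Set G) :=
    sup_le Subgroup.le_normalizer ((Subgroup.zpowers_le).2 hgQ)
  have htop : Q ⊔ Subgroup.zpowers g = ⊤ := by
    by_contra hne
    exact hgc (cent_of_pcomp Q g _ le_sup_left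
      ((le_sup_right : Subgroup.zpowers g ≤ Q ⊔ Subgroup.zpowers g) (Subgroup.mem_zpowers g))
      hQp hgQ hcop (h2 _ hne))
  have hQn : Q.Normal := by
    rw [← Subgroup.normalizer_eq_top_iff]
    rw [htop] at hHN
    exact top_le_iff.1 hHN
  exact ⟨Q, g, hQn, hQp, hcop, hgc, htop⟩

theorem nil_of {G : Type*} [Group G] [Finite G] {p : ℕ} [Fact p.Prime]
    (Q : Subgroup G) (hQp : IsPGroup p Q)
    (hcommQ : ∀ y z : G, y * z * y⁻¹ * z⁻¹ ∈ Q) (H : Subgroup G)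
    (hH : Cfsg.HasNormalPComplement p ↥H) : Group.IsNilpotent ↥H := by
  obtain ⟨P', K, hK, hc⟩ := hH
  have hKcop : (Nat.card K).Coprime p := by
    rw [← hc.index_eq_card]
    exact ((Nat.Prime.coprime_iff_not_dvd Fact.out).2 P'.not_dvd_index).symm
  have hKcen : ∀ c ∈ K, ∀ h : ↥H, c * h = h * c := by
    intro c hcK h
    have hdK : c * h * c⁻¹ * h⁻¹ ∈ K := by
      have e : c * h * c⁻¹ * h⁻¹ = c * (h * c⁻¹ * h⁻¹) := by group
      rw [e]
      exact K.mul_mem hcK (hK.conj_mem _ (K.inv_mem hcK) _)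
    have hdQ : (c : G) * (h : G) * (c : G)⁻¹ * (h : G)⁻¹ ∈ Q := hcommQ _ _
    have hd1 : (c : G) * (h : G) * (c : G)⁻¹ * (h : G)⁻¹ = 1 := by
      obtain ⟨j, hj⟩ := hQp ⟨_, hdQ⟩
      have hj' : ((c : G) * (h : G) * (c : G)⁻¹ * (h : G)⁻¹) ^ p ^ j = 1 := by
        simpa using congrArg Subtype.val hj
      have h3 := pow_card_eq_one' (G := ↥K) (x := ⟨_, hdK⟩)
      have h4 : ((c : G) * (h : G) * (c : G)⁻¹ * (h : G)⁻¹) ^ Nat.card K = 1 := by
        have h5 := congrArg (fun z : ↥K => ((z : ↥H) : G)) h3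
        simpa only [Subgroup.coe_pow, Subgroup.coe_one, Subgroup.coe_mul, Subgroup.coe_inv] using h5
      exact eq_one_of_pow_of_pow _ j (Nat.card K) hKcop hj' h4
    apply Subtype.ext
    show (c : G) * (h : G) = (h : G) * (c : G)
    calc (c : G) * (h : G) = ((c : G) * (h : G) * (c : G)⁻¹ * (h : G)⁻¹) * ((h : G) * (c : G)) := by
          group
      _ = (h : G) * (c : G) := by rw [hd1, one_mul]
  have hP : IsPGroup p (↥H ⧸ Subgroup.center ↥H) := by
    intro xb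
    obtain ⟨h, rfl⟩ := QuotientGroup.mk_surjective xb
    have hh : h ∈ K ⊔ (P' : Subgroup ↥H) := by
      rw [hc.sup_eq_top]
      exact Subgroup.mem_top h
    obtain ⟨c, hcK, q, hq, rfl⟩ := (Subgroup.mem_sup_of_normal_left (hs := hK)).1 hh
    obtain ⟨j, hj⟩ := P'.isPGroup' ⟨q, hq⟩
    have hj' : q ^ p ^ j = 1 := by simpa using congrArg Subtype.val hj
    refine ⟨j, ?_⟩
    rw [← QuotientGroup.mk_pow, QuotientGroup.eq_one_iff]
    have hcq : Commute c q := hKcen c hcK q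
    rw [hcq.mul_pow, hj', mul_one, Subgroup.mem_center_iff]
    intro g
    exact (hKcen _ (K.pow_mem hcK _) g).symm
  exact Group.of_quotient_center_nilpotent hP.isNilpotent

theorem result {G : Type*} [Group G] [Finite G] {p : ℕ} [Fact p.Prime] (h1 : ¬ Cfsg.HasNormalPComplement p G) (h2 : ∀ H : Subgroup G, H ≠ ⊤ → Cfsg.HasNormalPComplement p H) : (∀ H : Subgroup G, H ≠ ⊤ → Group.IsNilpotent H) ∧ ¬ Group.IsNilpotent G ∧ ∀ P : Sylow p G, (P : Subgroup G).Normal := by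
  obtain ⟨Q, g, hQn, hQp, hcop, hgc, htop⟩ := core h1 h2
  have hgm : g ^ orderOf g = 1 := pow_orderOf_eq_one g
  have hdec : ∀ y : G, ∃ q ∈ Q, ∃ i : ℤ, q * g ^ i = y := by
    intro y
    have hy : y ∈ Q ⊔ Subgroup.zpowers g := by
      rw [htop]
      exact Subgroup.mem_top y
    obtain ⟨q, hq, z, hz, rfl⟩ := (Subgroup.mem_sup_of_normal_left (hs := hQn)).1 hy
    obtain ⟨i, rfl⟩ := Subgroup.mem_zpowers_iff.1 hz
    exact ⟨q, hq, i, rfl⟩
  have hmk : ∀ y : G, ∃ i : ℤ, (QuotientGroup.mk' Q) y = (QuotientGroup.mk' Q) g ^ i := by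
    intro y
    obtain ⟨q, hq, i, rfl⟩ := hdec y
    refine ⟨i, ?_⟩
    have hπq : (QuotientGroup.mk' Q) q = 1 := (QuotientGroup.eq_one_iff q).2 hq
    rw [map_mul, hπq, one_mul, map_zpow]
  have hpowQ : ∀ y : G, y ^ orderOf g ∈ Q := by
    intro y
    obtain ⟨i, hi⟩ := hmk y
    rw [← QuotientGroup.eq_one_iff (N := Q)]
    show (QuotientGroup.mk' Q) (y ^ orderOf g) = 1
    rw [map_pow, hi, ← zpow_natCast, ← zpow_mul, mul_comm, zpow_mul, zpow_natCast, ← map_pow, hgm,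
      map_one, one_zpow]
  have hcommQ : ∀ y z : G, y * z * y⁻¹ * z⁻¹ ∈ Q := by
    intro y z
    obtain ⟨i, hi⟩ := hmk y
    obtain ⟨j, hj⟩ := hmk z
    rw [← QuotientGroup.eq_one_iff (N := Q)]
    show (QuotientGroup.mk' Q) (y * z * y⁻¹ * z⁻¹) = 1
    rw [map_mul, map_mul, map_mul, map_inv, map_inv, hi, hj]
    have hcm : Commute ((QuotientGroup.mk' Q) g ^ i) ((QuotientGroup.mk' Q) g ^ j) :=
      (Commute.refl _).zpow_zpow i j
    rw [hcm.eq]
    group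
  have hpel : ∀ x : G, ∀ k : ℕ, x ^ p ^ k = 1 → x ∈ Q := by
    intro x k hx
    rw [← QuotientGroup.eq_one_iff (N := Q)]
    apply eq_one_of_pow_of_pow _ k (orderOf g) hcop
    · rw [← QuotientGroup.mk_pow, hx]
      rfl
    · rw [← QuotientGroup.mk_pow]
      exact (QuotientGroup.eq_one_iff _).2 (hpowQ x)
  refine ⟨?_, ?_, ?_⟩
  · intro H hH
    exact nil_of Q hQp hcommQ H (h2 H hH)
  · intro hnil
    obtain ⟨n, hn⟩ := Subgroup.nilpotent_iff_lowerCentralSeries.1 hnil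
    apply hgc
    rw [Subgroup.mem_centralizer_iff]
    intro q hq
    refine commute_of_chain g (orderOf g) hgm
      (fun i => Q ⊓ (⊤ : Subgroup G).lowerCentralSeries i) n (by simp [hn]) ?_ ?_ 0 (Nat.zero_le n) q
      (Subgroup.mem_inf.2 ⟨hq, by simp⟩)
    · intro i r hr
      obtain ⟨hr1, hr2⟩ := Subgroup.mem_inf.1 hr
      refine Subgroup.mem_inf.2 ⟨?_, ?_⟩
      · have e : ⁅r, g⁆ = r * (g * r⁻¹ * g⁻¹) := by
          rw [commutatorElement_def]
          group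
        rw [e]
        exact Q.mul_mem hr1 (hQn.conj_mem _ (Q.inv_mem hr1) g)
      · rw [Subgroup.lowerCentralSeries_succ]
        exact Subgroup.commutator_mem_commutator hr2 (Subgroup.mem_top g)
    · intro i c hc hcm
      obtain ⟨j, hj⟩ := hQp ⟨c, (Subgroup.mem_inf.1 hc).1⟩
      have hj' : c ^ p ^ j = 1 := by simpa using congrArg Subtype.val hj
      exact eq_one_of_pow_of_pow c j (orderOf g) hcop hj' hcm
  · intro P
    have hPQ : (P : Subgroup G) = Q := by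
      apply le_antisymm
      · intro x hx
        obtain ⟨k, hk⟩ := P.isPGroup' ⟨x, hx⟩
        exact hpel x k (by simpa using congrArg Subtype.val hk)
      · exact (Cfsg.Agent.Lib.Helper3.Core.le_pCore Q hQn hQp).trans
          (Cfsg.Agent.Lib.Helper3.Core.pCore_le_sylow P)
    rw [hPQ]
    exact hQn

end Cfsg.Agent.S0132
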