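import Mathlib
import Cfsg.Statements.S0143
import Cfsg.Agent.Lib.Helper3.CharGal
import Cfsg.Agent.Lib.Helper3.CharEig
import Cfsg.Agent.Lib.Helper3.CharArith
import Cfsg.Agent.Lib.Helper3.CharTable

set_option autoImplicit false
open Cfsg
open scoped ComplexConjugate
open Cfsg.Agent.Lib.Helper3.Char Cfsg.Agent.Lib.Helper3.CharCore Cfsg.Agent.Lib.Helper3.CharInt Cfsg.Agent.Lib.Helper3.CharGal Cfsg.Agent.Lib.Helper3.CharEig Cfsg.Agent.Lib.Helper3.CharArith Cfsg.Agent.Lib.Helper3.CharTable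

namespace Cfsg.Agent.S0143

theorem faithful_of_simple {G : Type*} [Group G] [Fintype G] [IsSimpleGroup G] {V : Type*}
    [AddCommGroup V] [Module ℂ V] [FiniteDimensional ℂ V] (ρ : Representation ℂ G V)
    (hirr : ρ.IsIrreducible) (hne : ρ.character ≠ fun _ => 1) : Function.Injective ρ := by
  have hK : (MonoidHom.ker ρ).Normal := MonoidHom.normal_ker ρ
  rcases hK.eq_bot_or_eq_top with h | h
  · exact (MonoidHom.ker_eq_bot_iff ρ).mp h
  · exfalso
    have hall : ∀ x : G, ρ x = 1 := by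
      intro x
      have : x ∈ MonoidHom.ker ρ := by rw [h]; exact Subgroup.mem_top x
      exact MonoidHom.mem_ker.mp this
    have hchar : ∀ x : G, ρ.character x = (Module.finrank ℂ V : ℂ) := by
      intro x
      change LinearMap.trace ℂ V (ρ x) = _
      rw [hall x]
      exact LinearMap.trace_one ℂ V
    have hcard : (Nat.card G : ℂ) ≠ 0 := by exact_mod_cast Nat.card_pos.ne'
    have h0 := irr_inner_ne (isIrr_of_rep ρ hirr) (isIrr_one G) hne
    unfold Cfsg.classInner at h0
    simp only [hchar, map_one, mul_one, Finset.sum_const, Finset.card_univ, nsmul_eq_mul] at h0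
    rw [Fintype.card_eq_nat_card, ← mul_assoc, inv_mul_cancel₀ hcard, one_mul] at h0
    have : ρ.IsIrreducible := hirr
    exact finrank_ne_zero_of_irr ρ h0

theorem not_scalar_of_simple {G : Type*} [Group G] [Fintype G] [IsSimpleGroup G] {V : Type*}
    [AddCommGroup V] [Module ℂ V] [FiniteDimensional ℂ V] (ρ : Representation ℂ G V)
    (hirr : ρ.IsIrreducible) (hne : ρ.character ≠ fun _ => 1)
    (hnc : ¬ ∀ a b : G, a * b = b * a) (g : G) (hg : g ≠ 1) :
    ¬ ∃ ω : ℂ, ρ g = ω • (LinearMap.id : V →ₗ[ℂ] V) := by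
  intro hsc
  have hinj := faithful_of_simple ρ hirr hne
  have : ρ.IsIrreducible := hirr
  have hnV := finrank_ne_zero_of_irr ρ
  have hone : (1 : V →ₗ[ℂ] V) ≠ 0 := by
    intro h
    have h1 := congrArg (LinearMap.trace ℂ V) h
    rw [LinearMap.trace_one, map_zero] at h1
    exact hnV h1
  let Z : Subgroup G :=
    { carrier := {x | ∃ ω : ℂ, ρ x = ω • (1 : V →ₗ[ℂ] V)}
      mul_mem' := by
        rintro a b ⟨ω, hω⟩ ⟨ω', hω'⟩
        refine ⟨ω * ω', ?_⟩
        rw [map_mul, hω, hω', smul_mul_smul_comm, mul_one]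
      one_mem' := ⟨1, by rw [map_one, one_smul]⟩
      inv_mem' := by
        rintro a ⟨ω, hω⟩
        have h1 : ρ a⁻¹ * ρ a = 1 := by rw [← map_mul, inv_mul_cancel, map_one]
        have hω0 : ω ≠ 0 := by
          intro h0
          rw [hω, h0, zero_smul, mul_zero] at h1
          exact hone h1.symm
        refine ⟨ω⁻¹, ?_⟩
        rw [hω, mul_smul_comm, mul_one] at h1
        rw [← h1, smul_smul, inv_mul_cancel₀ hω0, one_smul] }
  have hZn : Z.Normal := by
    constructor
    rintro a ⟨ω, hω⟩ y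
    refine ⟨ω, ?_⟩
    rw [map_mul, map_mul, hω, mul_smul_comm, mul_one, smul_mul_assoc, ← map_mul, mul_inv_cancel,
      map_one]
  have hgZ : g ∈ Z := hsc
  rcases hZn.eq_bot_or_eq_top with h | h
  · rw [h, Subgroup.mem_bot] at hgZ
    exact hg hgZ
  · apply hnc
    intro a b
    have ha : a ∈ Z := by rw [h]; exact Subgroup.mem_top a
    have hb : b ∈ Z := by rw [h]; exact Subgroup.mem_top b
    obtain ⟨ω, hω⟩ := ha
    obtain ⟨ω', hω'⟩ := hb
    apply hinj
    rw [map_mul, map_mul, hω, hω', smul_mul_smul_comm, smul_mul_smul_comm, mul_comm]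

theorem result {G : Type*} [Group G] [Finite G] [IsSimpleGroup G] (p k : ℕ) (hp : p.Prime) (g : G) (hg : g ≠ 1) (hclass : (Subgroup.centralizer ({g} : Set G)).index = p ^ k) : (Nat.card G).Prime := by
  classical
  by_cases hcomm : ∀ a b : G, a * b = b * a
  · let _i : CommGroup G := { ‹Group G› with mul_comm := hcomm }
    exact IsSimpleGroup.prime_card
  · exfalso
    have _i : Fintype G := Fintype.ofFinite G
    have _j : Fintype (Cfsg.IrrCharacter G) := Fintype.ofFinite _
    have hA : ∀ χ : Cfsg.IrrCharacter G, (χ : G → ℂ) ≠ (fun _ => 1) →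
        ∃ c : ℂ, IsIntegral ℤ c ∧ (χ : G → ℂ) g * conj ((χ : G → ℂ) 1) = (p : ℂ) * c := by
      intro χ hχ
      obtain ⟨d, ρ, hirr, hρ⟩ := χ.2
      have hirr' : ρ.IsIrreducible := hirr
      have hd : (χ : G → ℂ) 1 = (d : ℂ) := by
        rw [← hρ, Representation.char_one, Module.finrank_fin_fun]
      rw [hd, Complex.conj_natCast]
      by_cases hpd : p ∣ d
      · obtain ⟨t, rfl⟩ := hpd
        refine ⟨(χ : G → ℂ) g * (t : ℂ), ?_, by push_cast; ring⟩
        exact (char_isIntegral (isCharacter_of_irr χ.2) g).mul (isIntegral_algebraMap (R := ℤ) (A := ℂ) (x := (t : ℤ)))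
      · refine ⟨0, isIntegral_zero, ?_⟩
        have hcop : Nat.Coprime (Module.finrank ℂ (Fin d → ℂ))
            (Subgroup.centralizer ({g} : Set G)).index := by
          rw [hclass, Module.finrank_fin_fun]
          exact Nat.Coprime.pow_right k ((Nat.Prime.coprime_iff_not_dvd hp).mpr hpd).symm
        have hne : ρ.character ≠ fun _ => 1 := by rw [hρ]; exact hχ
        rcases zero_or_norm_eq ρ g hcop with h0 | h0
        · rw [← hρ, h0, zero_mul, mul_zero]
        · exfalso
          exact not_scalar_of_simple ρ hirr hne hcomm g hg (scalar_of_norm_eq ρ g h0)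
    have h1 := column_orth g (1 : G)
    have h2 : IsEmpty {y : G // y * g * y⁻¹ = 1} := by
      constructor
      rintro ⟨y, hy⟩
      apply hg
      have := congrArg (fun t => y⁻¹ * t * y) hy
      simpa [mul_assoc] using this
    rw [Nat.card_of_isEmpty, Nat.cast_zero,
      ← Finset.add_sum_erase Finset.univ _
        (Finset.mem_univ (⟨fun _ => 1, isIrr_one G⟩ : Cfsg.IrrCharacter G))] at h1
    choose! c hc1 hc2 using hA
    have h3 : ∑ χ ∈ Finset.univ.erase (⟨fun _ => 1, isIrr_one G⟩ : Cfsg.IrrCharacter G),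
        (χ : G → ℂ) g * conj ((χ : G → ℂ) 1) =
        (p : ℂ) * ∑ χ ∈ Finset.univ.erase (⟨fun _ => 1, isIrr_one G⟩ : Cfsg.IrrCharacter G),
          c χ := by
      rw [Finset.mul_sum]
      refine Finset.sum_congr rfl (fun χ hχ => ?_)
      apply hc2
      intro h
      exact (Finset.mem_erase.mp hχ).1 (Subtype.ext h)
    rw [h3] at h1
    simp only [map_one, mul_one] at h1
    have hp0 : (p : ℂ) ≠ 0 := by exact_mod_cast hp.ne_zero
    have h4 : IsIntegral ℤ (((1 : ℕ) : ℂ) / (p : ℂ)) := by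
      have h5 : ((1 : ℕ) : ℂ) / (p : ℂ) =
          - ∑ χ ∈ Finset.univ.erase (⟨fun _ => 1, isIrr_one G⟩ : Cfsg.IrrCharacter G), c χ := by
        have h6 : (1 : ℂ) = -((p : ℂ) *
            ∑ χ ∈ Finset.univ.erase (⟨fun _ => 1, isIrr_one G⟩ : Cfsg.IrrCharacter G), c χ) :=
          eq_neg_of_add_eq_zero_left h1
        rw [Nat.cast_one]
        field_simp
        exact h6
      rw [h5]
      exact (IsIntegral.sum _ (fun χ hχ => hc1 χ (fun h =>
        (Finset.mem_erase.mp hχ).1 (Subtype.ext h)))).neg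
    have h7 := nat_dvd_of_isIntegral_div 1 p hp.ne_zero h4
    exact hp.one_lt.ne' (Nat.dvd_one.mp h7)

end Cfsg.Agent.S0143
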