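import Mathlib
import Cfsg.Statements.S0144
import Cfsg.Agent.S0143

set_option autoImplicit false
open Cfsg

namespace Cfsg.Agent.S0144

universe u

theorem dvd_prime_pow_mul {p q a b d : ℕ} (hp : p.Prime) (hq : q.Prime)
    (h : d ∣ p ^ a * q ^ b) : ∃ a' b', d = p ^ a' * q ^ b' := by
  obtain ⟨d₁, d₂, h1, h2, rfl⟩ := (Nat.dvd_mul).mp h
  obtain ⟨a', -, rfl⟩ := (Nat.dvd_prime_pow hp).mp h1
  obtain ⟨b', -, rfl⟩ := (Nat.dvd_prime_pow hq).mp h2
  exact ⟨a', b', rfl⟩

theorem solvable_of_pgroup {G : Type u} [Group G] [Finite G] (p n : ℕ) (hp : p.Prime)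
    (h : Nat.card G = p ^ n) : Group.IsSolvable G := by
  have : Fact p.Prime := ⟨hp⟩
  have h1 : IsPGroup p G := IsPGroup.of_card h
  have h2 : Group.IsNilpotent G := h1.isNilpotent
  infer_instance

theorem burnside_aux (p q : ℕ) (hp : p.Prime) (hq : q.Prime) (hpq : p ≠ q) :
    ∀ N : ℕ, ∀ (G : Type u) [Group G] [Finite G], Nat.card G = N →
      (∃ a b, N = p ^ a * q ^ b) → Group.IsSolvable G := by
  intro N
  induction N using Nat.strong_induction_on with
  | _ N ih =>
    intro G _ _ hN ⟨a, b, hab⟩
    by_cases hex : ∃ K : Subgroup G, K.Normal ∧ K ≠ ⊥ ∧ K ≠ ⊤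
    · obtain ⟨K, hKn, hK0, hK1⟩ := hex
      have hcard := Subgroup.card_eq_card_quotient_mul_card_subgroup K
      have hK1' : 1 < Nat.card K := K.one_lt_card_iff_ne_bot.mpr hK0
      have hQpos : 0 < Nat.card (G ⧸ K) := Nat.card_pos
      have hKlt : Nat.card K < N := by
        rw [← hN]
        have h1 : Nat.card K ≤ Nat.card G := K.card_le_card_group
        rcases lt_or_eq_of_le h1 with h2 | h2
        · exact h2
        · exact absurd (K.card_eq_iff_eq_top.mp h2) hK1
      have hQlt : Nat.card (G ⧸ K) < N := by
        rw [← hN, hcard]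
        nlinarith
      have hKdvd : Nat.card K ∣ p ^ a * q ^ b := by
        rw [← hab, ← hN, hcard]
        exact dvd_mul_left _ _
      have hQdvd : Nat.card (G ⧸ K) ∣ p ^ a * q ^ b := by
        rw [← hab, ← hN, hcard]
        exact dvd_mul_right _ _
      have hKs : Group.IsSolvable K := ih _ hKlt K rfl (dvd_prime_pow_mul hp hq hKdvd)
      have hQs : Group.IsSolvable (G ⧸ K) :=
        ih _ hQlt (G ⧸ K) rfl (dvd_prime_pow_mul hp hq hQdvd)
      exact Group.isSolvable_of_ker_le_range K.subtype (QuotientGroup.mk' K) (by simp)
    · by_cases hsub : Subsingleton G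
      · infer_instance
      · rw [not_subsingleton_iff_nontrivial] at hsub
        have hsimple : IsSimpleGroup G := by
          refine { toNontrivial := hsub, eq_bot_or_eq_top_of_normal := ?_ }
          intro H hH
          by_contra hcon
          push Not at hcon
          exact hex ⟨H, hH, hcon.1, hcon.2⟩
        by_cases hb : b = 0
        · subst hb
          rw [pow_zero, mul_one] at hab
          exact solvable_of_pgroup p a hp (hN.trans hab)
        have hq' : Fact q.Prime := ⟨hq⟩
        let Q : Sylow q G := default
        have hQcard : Nat.card Q = q ^ b := by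
          rw [Sylow.card_eq_multiplicity, hN, hab,
            Nat.factorization_mul (pow_ne_zero _ hp.ne_zero) (pow_ne_zero _ hq.ne_zero),
            Nat.factorization_pow, Nat.factorization_pow, hp.factorization, hq.factorization]
          simp [hpq]
        have hQidx : (Q : Subgroup G).index = p ^ a := by
          have h1 := Subgroup.card_mul_index (Q : Subgroup G)
          rw [hN, hab] at h1
          have h2 : Nat.card (Q : Subgroup G) = q ^ b := hQcard
          rw [h2, mul_comm (p ^ a)] at h1
          exact Nat.eq_of_mul_eq_mul_left (pow_pos hq.pos b) h1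
        have hQnt : Nontrivial Q := by
          apply Finite.one_lt_card_iff_nontrivial.mp
          rw [hQcard]
          exact Nat.one_lt_pow hb hq.one_lt
        have hcnt : Nontrivial (Subgroup.center Q) := IsPGroup.center_nontrivial Q.isPGroup'
        obtain ⟨z, hz⟩ := exists_ne (1 : Subgroup.center Q)
        have hg : ((z : Q) : G) ≠ 1 := by
          intro h
          apply hz
          apply Subtype.ext
          apply Subtype.ext
          exact h
        have hle : (Q : Subgroup G) ≤ Subgroup.centralizer ({((z : Q) : G)} : Set G) := by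
          intro x hx
          rw [Subgroup.mem_centralizer_iff]
          intro y hy
          rw [Set.mem_singleton_iff] at hy
          subst hy
          have h1 := Subgroup.mem_center_iff.mp z.2 ⟨x, hx⟩
          have h2 := congrArg (fun t : Q => (t : G)) h1
          exact h2.symm
        have hidx : (Subgroup.centralizer ({((z : Q) : G)} : Set G)).index ∣ p ^ a := by
          rw [← hQidx]
          exact Subgroup.index_dvd_of_le hle
        obtain ⟨k, -, hk⟩ := (Nat.dvd_prime_pow hp).mp hidx
        have hprime := Cfsg.Agent.S0143.result p k hp ((z : Q) : G) hg hk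
        have hfact : Fact (Nat.card G).Prime := ⟨hprime⟩
        have hcyc : IsCyclic G := isCyclic_of_prime_card (p := Nat.card G) rfl
        obtain ⟨g0, hg0⟩ := IsCyclic.exists_generator (α := G)
        apply Group.isSolvable_of_comm
        intro x y
        obtain ⟨i, rfl⟩ := Subgroup.mem_zpowers_iff.mp (hg0 x)
        obtain ⟨j, rfl⟩ := Subgroup.mem_zpowers_iff.mp (hg0 y)
        exact zpow_mul_comm g0 i j

theorem result {G : Type*} [Group G] [Finite G] (p q a b : ℕ) (hp : p.Prime) (hq : q.Prime) (hcard : Nat.card G = p ^ a * q ^ b) : Group.IsSolvable G := by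
  by_cases hpq : p = q
  · subst hpq
    rw [← pow_add] at hcard
    exact solvable_of_pgroup p (a + b) hp hcard
  · exact burnside_aux p q hp hq hpq _ G rfl ⟨a, b, hcard⟩

end Cfsg.Agent.S0144
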