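import Mathlib
import Cfsg.Agent.Lib.Helper1.SE
import Cfsg.Statements.S0223

set_option autoImplicit false
open Cfsg

namespace Cfsg.Agent.S0223

/-- Let H be a proper subgroup of even order of the finite group G. Then H is strongly embedded if and only if (i) C_G(t) ≤ H for every involution t of H and (ii) H controls fusion of its involutions: involutions of H conjugate in G are conjugate in H. -/
theorem result {G : Type*} [Group G] [Finite G] (H : Subgroup G) (hH : H ≠ ⊤) (heven : Even (Nat.card H)) : Cfsg.IsStronglyEmbedded H ↔ ((∀ t ∈ H, orderOf t = 2 → Subgroup.centralizer ({t} : Set G) ≤ H) ∧ (∀ t ∈ H, ∀ s ∈ H, orderOf t = 2 → orderOf s = 2 → IsConj t s → ∃ h ∈ H, h * t * h⁻¹ = s)) := by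
  rw [Lib.Helper1.stronglyEmbedded_iff_conj H hH heven]
  constructor
  · intro hyp
    constructor
    · intro t ht ht2 c hc
      rw [Subgroup.mem_centralizer_singleton_iff] at hc
      by_contra hcH
      apply hyp c hcH t ht ht2
      have : c * t * c⁻¹ = t := by rw [hc, mul_inv_cancel_right]
      rw [this]
      exact ht
    · intro t ht s hs ht2 hs2 hconj
      obtain ⟨c, hc⟩ := isConj_iff.mp hconj
      by_cases hcH : c ∈ H
      · exact ⟨c, hcH, hc⟩
      · exfalso
        apply hyp c hcH t ht ht2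
        rw [hc]
        exact hs
  · rintro ⟨ha, hb⟩ g hg h hh hh2 hmem
    have hs2 : orderOf (g * h * g⁻¹) = 2 := Lib.Helper1.orderOf_conj_two hh2 g
    obtain ⟨k, hk, hkh⟩ := hb h hh (g * h * g⁻¹) hmem hh2 hs2 (isConj_iff.mpr ⟨g, rfl⟩)
    have hcen : g⁻¹ * k ∈ Subgroup.centralizer ({h} : Set G) := by
      rw [Subgroup.mem_centralizer_singleton_iff]
      calc g⁻¹ * k * h = g⁻¹ * (k * h * k⁻¹) * k := by group
        _ = g⁻¹ * (g * h * g⁻¹) * k := by rw [hkh]
        _ = h * (g⁻¹ * k) := by group
    have h1 := ha h hh hh2 hcen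
    apply hg
    have h2 : g = k * (g⁻¹ * k)⁻¹ := by group
    rw [h2]
    exact H.mul_mem hk (H.inv_mem h1)

end Cfsg.Agent.S0223
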