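import Mathlib
import Cfsg.Agent.Lib.Helper1.SE
import Cfsg.Statements.S0224

set_option autoImplicit false
open Cfsg

namespace Cfsg.Agent.S0224

/-- Let H be a proper subgroup of even order of the finite group G. Then H is strongly embedded if and only if each involution of H fixes exactly one point (namely the coset H) in the action of G on the cosets of H. -/
theorem result {G : Type*} [Group G] [Finite G] (H : Subgroup G) (hH : H ≠ ⊤) (heven : Even (Nat.card H)) : Cfsg.IsStronglyEmbedded H ↔ ∀ t ∈ H, orderOf t = 2 → Nat.card {c : G ⧸ H // t • c = c} = 1 := by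
  rw [Lib.Helper1.stronglyEmbedded_iff_conj H hH heven]
  constructor
  · intro hyp t ht ht2
    rw [Nat.card_eq_one_iff_exists]
    have hfix1 : t • ((1 : G) : G ⧸ H) = ((1 : G) : G ⧸ H) := by
      rw [MulAction.Quotient.smul_coe, QuotientGroup.eq]
      simpa using ht
    refine ⟨⟨((1 : G) : G ⧸ H), hfix1⟩, ?_⟩
    rintro ⟨c, hc⟩
    apply Subtype.ext
    show c = ((1 : G) : G ⧸ H)
    induction c using QuotientGroup.induction_on with
    | H g =>
      rw [MulAction.Quotient.smul_coe, QuotientGroup.eq] at hc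
      rw [QuotientGroup.eq]
      by_contra hg
      have hg' : g⁻¹ ∉ H := fun h => hg (by simpa using h)
      have hg'' : g⁻¹ ∉ H := hg'
      apply hyp g⁻¹ hg'' t ht ht2
      have h1 : g⁻¹ * t * g⁻¹⁻¹ = ((t • g)⁻¹ * g)⁻¹ := by
        rw [smul_eq_mul]; group
      rw [h1]
      exact H.inv_mem hc
  · intro hyp g hg h hh hh2 hmem
    have ht2 : orderOf (g * h * g⁻¹) = 2 := Lib.Helper1.orderOf_conj_two hh2 g
    have hcard := hyp (g * h * g⁻¹) hmem ht2
    rw [Nat.card_eq_one_iff_exists] at hcard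
    obtain ⟨x, hx⟩ := hcard
    have hfix1 : (g * h * g⁻¹) • ((1 : G) : G ⧸ H) = ((1 : G) : G ⧸ H) := by
      rw [MulAction.Quotient.smul_coe, QuotientGroup.eq]
      have h0 : ((g * h * g⁻¹) • (1 : G))⁻¹ * 1 = (g * h * g⁻¹)⁻¹ := by rw [smul_eq_mul]; group
      rw [h0]
      exact H.inv_mem hmem
    have hfixg : (g * h * g⁻¹) • ((g : G) : G ⧸ H) = ((g : G) : G ⧸ H) := by
      rw [MulAction.Quotient.smul_coe, QuotientGroup.eq]
      have h1 : ((g * h * g⁻¹) • g)⁻¹ * g = h⁻¹ := by rw [smul_eq_mul]; group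
      rw [h1]
      exact H.inv_mem hh
    have e1 := hx ⟨_, hfix1⟩
    have e2 := hx ⟨_, hfixg⟩
    have e3 : ((1 : G) : G ⧸ H) = ((g : G) : G ⧸ H) := by
      have := e1.trans e2.symm
      exact congrArg Subtype.val this
    rw [QuotientGroup.eq] at e3
    apply hg
    simpa using e3

end Cfsg.Agent.S0224
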