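import Mathlib
import Cfsg.Statements.S0326

set_option autoImplicit false
open Cfsg

namespace Cfsg.Agent.S0326

theorem ovVec_ne_zero {F : Type*} [Field F] (a b c : F) : (![a, b, c, 1] : Fin 4 → F) ≠ 0 := by
  intro h
  have := congrFun h 3
  simp at this

theorem infVec_ne_zero {F : Type*} [Field F] : (![1, 0, 0, 0] : Fin 4 → F) ≠ 0 := by
  intro h
  have := congrFun h 0
  simp at this

noncomputable def ovMap {F : Type*} [Field F] (m : ℕ) :
    Option (F × F) → Cfsg.suzukiOvoid F m
  | none => ⟨Projectivization.mk F ![1, 0, 0, 0] infVec_ne_zero,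
      ⟨![1, 0, 0, 0], infVec_ne_zero, rfl, Or.inl rfl⟩⟩
  | some (x, y) => ⟨Projectivization.mk F
      ![x * y + x ^ (2 ^ (m + 1) + 2) + y ^ (2 ^ (m + 1)), y, x, 1] (ovVec_ne_zero _ _ _),
      ⟨_, ovVec_ne_zero _ _ _, rfl, Or.inr ⟨x, y, rfl⟩⟩⟩

theorem ovMap_bijective {F : Type*} [Field F] (m : ℕ) : Function.Bijective (ovMap (F := F) m) := by
  constructor
  · intro a b hab
    have hab' := congrArg Subtype.val hab
    rcases a with _ | ⟨x, y⟩ <;> rcases b with _ | ⟨x', y'⟩
    · rfl
    · exfalso
      simp only [ovMap] at hab'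
      rw [Projectivization.mk_eq_mk_iff'] at hab'
      obtain ⟨c, hc⟩ := hab'
      have h0 := congrFun hc 0
      have h3 := congrFun hc 3
      simp at h0 h3
      rw [h3] at h0
      simp at h0
    · exfalso
      simp only [ovMap] at hab'
      rw [Projectivization.mk_eq_mk_iff'] at hab'
      obtain ⟨c, hc⟩ := hab'
      have h3 := congrFun hc 3
      simp at h3
    · simp only [ovMap] at hab'
      rw [Projectivization.mk_eq_mk_iff'] at hab'
      obtain ⟨c, hc⟩ := hab'
      have h1 := congrFun hc 1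
      have h2 := congrFun hc 2
      have h3 := congrFun hc 3
      simp at h1 h2 h3
      subst h3
      simp at h1 h2
      subst h1 h2
      rfl
  · rintro ⟨p, v, hv, rfl, hv' | ⟨x, y, hxy⟩⟩
    · subst hv'
      exact ⟨none, rfl⟩
    · subst hxy
      exact ⟨some (x, y), rfl⟩

/-- The Suzuki–Tits ovoid over a finite field with `q` elements has `q² + 1` points. -/
theorem result {F : Type*} [Field F] [Fintype F] (m : ℕ) :
    Nat.card (Cfsg.suzukiOvoid F m) = Fintype.card F ^ 2 + 1 := by
  rw [← Nat.card_congr (Equiv.ofBijective _ (ovMap_bijective (F := F) m))]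
  rw [Nat.card_eq_fintype_card, Fintype.card_option, Fintype.card_prod]
  ring

end Cfsg.Agent.S0326
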