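import Mathlib
import Cfsg.Agent.Lib.Helper1.Sz3
import Cfsg.Statements.S0329

set_option autoImplicit false
open Cfsg

namespace Cfsg.Agent.S0329

/-- The stabiliser in the Suzuki group of the ovoid point spanned by `(1,0,0,0)` has order `q² (q - 1)`. -/
theorem result {F : Type*} [Field F] [Fintype F] {m : ℕ} (hm : 1 ≤ m)
    (hF : Fintype.card F = 2 ^ (2 * m + 1)) :
    Nat.card (MulAction.stabilizer (Cfsg.Sz F m) (Cfsg.suzukiPointInfinity F)) =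
      (2 ^ (2 * m + 1)) ^ 2 * (2 ^ (2 * m + 1) - 1) := by
  obtain ⟨D⟩ := Cfsg.Agent.Lib.Helper1.Sz.exists_dat hm hF
  let f : (F × F) × Fˣ → MulAction.stabilizer (Cfsg.Sz F m) (Cfsg.suzukiPointInfinity F) :=
    fun x => ⟨⟨Cfsg.Agent.Lib.Helper1.Sz.Ts D x.1.1 x.1.2 * Cfsg.Agent.Lib.Helper1.Sz.Hs D x.2,
      Subgroup.mul_mem _ (Cfsg.Agent.Lib.Helper1.Sz.Ts_mem D _ _)
        (Cfsg.Agent.Lib.Helper1.Sz.Hs_mem D _)⟩, by
      rw [MulAction.mem_stabilizer_iff]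
      show (Cfsg.Agent.Lib.Helper1.Sz.Ts D x.1.1 x.1.2 * Cfsg.Agent.Lib.Helper1.Sz.Hs D x.2) •
        (Cfsg.Agent.Lib.Helper1.Sz.pI : Projectivization F (Fin 4 → F)) = Cfsg.Agent.Lib.Helper1.Sz.pI
      rw [mul_smul, Cfsg.Agent.Lib.Helper1.Sz.Hs_pI, Cfsg.Agent.Lib.Helper1.Sz.Ts_pI]⟩
  have hbij : Function.Bijective f := by
    constructor
    · rintro ⟨⟨a, b⟩, t⟩ ⟨⟨a', b'⟩, t'⟩ h
      have h' : Cfsg.Agent.Lib.Helper1.Sz.Ts D a b * Cfsg.Agent.Lib.Helper1.Sz.Hs D t =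
          Cfsg.Agent.Lib.Helper1.Sz.Ts D a' b' * Cfsg.Agent.Lib.Helper1.Sz.Hs D t' :=
        congrArg (fun x : MulAction.stabilizer (Cfsg.Sz F m) (Cfsg.suzukiPointInfinity F) =>
          ((x : Cfsg.Sz F m) : Matrix.SpecialLinearGroup (Fin 4) F)) h
      have h0 := congrArg (fun g => g • Cfsg.Agent.Lib.Helper1.Sz.pt D 0 0) h'
      simp only [mul_smul, Cfsg.Agent.Lib.Helper1.Sz.Hs_pt0, Cfsg.Agent.Lib.Helper1.Sz.Ts_pt] at h0
      obtain ⟨ha, hb⟩ := Cfsg.Agent.Lib.Helper1.Sz.pt_inj D h0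
      simp only [zero_add, mul_zero, add_zero] at ha hb
      subst ha hb
      have ht := Cfsg.Agent.Lib.Helper1.Sz.Hs_inj D (mul_left_cancel h')
      subst ht
      rfl
    · rintro ⟨⟨g, hg⟩, hstab⟩
      obtain ⟨a, b, t, h⟩ := Cfsg.Agent.Lib.Helper1.Sz.stab1 D hg
        (MulAction.mem_stabilizer_iff.mp hstab)
      exact ⟨((a, b), t), by apply Subtype.ext; apply Subtype.ext; exact h.symm⟩
  rw [← Nat.card_eq_of_bijective f hbij, Nat.card_prod, Nat.card_prod, Nat.card_units,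
    Nat.card_eq_fintype_card, hF]
  ring

end Cfsg.Agent.S0329
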