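import Mathlib
import Cfsg.Agent.S0329
import Cfsg.Agent.S0326
import Cfsg.Agent.Lib.Helper1.Sz3
import Cfsg.Statements.S0324

set_option autoImplicit false
open Cfsg

namespace Cfsg.Agent.S0324

/-- The Suzuki group over a field with `q = 2^(2m+1)` elements, `m ≥ 1`, has order `q² (q² + 1) (q - 1)`. -/
theorem result {F : Type*} [Field F] [Fintype F] {m : ℕ} (hm : 1 ≤ m)
    (hF : Fintype.card F = 2 ^ (2 * m + 1)) :
    Nat.card (Cfsg.Sz F m) = (2 ^ (2 * m + 1)) ^ 2 * ((2 ^ (2 * m + 1)) ^ 2 + 1) * (2 ^ (2 * m + 1) - 1) := by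
  obtain ⟨D⟩ := Cfsg.Agent.Lib.Helper1.Sz.exists_dat hm hF
  have horb : MulAction.orbit (Cfsg.Sz F m) (Cfsg.suzukiPointInfinity F) = Cfsg.suzukiOvoid F m := by
    ext p
    constructor
    · rintro ⟨⟨g, hg⟩, rfl⟩
      exact Cfsg.Agent.Lib.Helper1.Sz.smul_mem hg Cfsg.Agent.Lib.Helper1.Sz.pI_mem
    · intro hp
      rcases (Cfsg.Agent.Lib.Helper1.Sz.mem_ovoid D p).mp hp with rfl | ⟨x, y, rfl⟩
      · exact MulAction.mem_orbit_self _
      · refine ⟨⟨Cfsg.Agent.Lib.Helper1.Sz.Ts D x y * Cfsg.Agent.Lib.Helper1.Sz.Ws D,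
          Subgroup.mul_mem _ (Cfsg.Agent.Lib.Helper1.Sz.Ts_mem D _ _)
            (Cfsg.Agent.Lib.Helper1.Sz.Ws_mem D)⟩, ?_⟩
        show (Cfsg.Agent.Lib.Helper1.Sz.Ts D x y * Cfsg.Agent.Lib.Helper1.Sz.Ws D) •
          (Cfsg.Agent.Lib.Helper1.Sz.pI : Projectivization F (Fin 4 → F)) =
            Cfsg.Agent.Lib.Helper1.Sz.pt D x y
        rw [mul_smul, Cfsg.Agent.Lib.Helper1.Sz.Ws_pI, Cfsg.Agent.Lib.Helper1.Sz.Ts_pt]
        simp
  have h1 := MulAction.index_stabilizer (Cfsg.Sz F m) (Cfsg.suzukiPointInfinity F)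
  have h2 := Subgroup.card_mul_index
    (MulAction.stabilizer (Cfsg.Sz F m) (Cfsg.suzukiPointInfinity F))
  rw [h1, horb, ← Nat.card_coe_set_eq, Cfsg.Agent.S0326.result, Cfsg.Agent.S0329.result hm hF,
    hF] at h2
  rw [← h2]
  ring

end Cfsg.Agent.S0324
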