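import Cfsg.Statements.S4399

import Mathlib
import Cfsg.Agent.Lib.Helper1.MaxCl2
import Cfsg.Agent.Lib.Helper1.Quat

set_option autoImplicit false
open Cfsg
open scoped Pointwise

namespace Cfsg.Agent.S4399

open Cfsg.Agent.Lib.Helper1

theorem two_elems {X : Type*} [Group X] [Finite X] (hZ : Nat.card (Subgroup.center X) = 2)
    (z : X) (hz : z ∈ Subgroup.center X) (hz1 : z ≠ 1) (w : X) (hw : w ∈ Subgroup.center X) :
    w = 1 ∨ w = z := by
  by_cases hw1 : w = 1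
  · exact Or.inl hw1
  right
  obtain ⟨y, -, hy⟩ := (Nat.card_eq_two_iff' (1 : Subgroup.center X)).mp hZ
  have h1 : (⟨w, hw⟩ : Subgroup.center X) = y := hy _ (fun h => hw1 (congrArg Subtype.val h))
  have h2 : (⟨z, hz⟩ : Subgroup.center X) = y := hy _ (fun h => hz1 (congrArg Subtype.val h))
  exact congrArg Subtype.val (h1.trans h2.symm)

theorem sq_center {X : Type*} [Group X] [Finite X] (hZ : Nat.card (Subgroup.center X) = 2)
    (w : X) (hw : w ∈ Subgroup.center X) : w ^ 2 = 1 := by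
  have h := pow_card_eq_one' (G := Subgroup.center X) (x := ⟨w, hw⟩)
  rw [hZ] at h
  exact congrArg Subtype.val h

theorem pow_pred_eq {X : Type*} [Group X] (a : X) (N : ℕ) (hN : 0 < N) :
    a ^ (N - 1) = a⁻¹ * a ^ N := by
  obtain ⟨M, rfl⟩ : ∃ M, N = M + 1 := ⟨N - 1, by omega⟩
  rw [Nat.add_sub_cancel, pow_succ', inv_mul_cancel_left]

theorem core {S : Type*} [Group S] [Finite S] (h2 : IsPGroup 2 S)
    (hab : Nat.card (Abelianization S) = 4) :
    Nat.card S = 4 ∨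
    ((∃ k : ℕ, Nonempty (S ≃* DihedralGroup (2 ^ (k + 2)))) ∨
      (∃ k : ℕ, Nat.card S = 2 ^ (k + 4) ∧ ∃ a b : S, orderOf a = 2 ^ (k + 3) ∧ orderOf b = 2 ∧ b * a * b⁻¹ = a ^ (2 ^ (k + 2) - 1)) ∨
      (∃ k : ℕ, Nonempty (S ≃* QuaternionGroup (2 ^ (k + 1))))) := by
  haveI : Fact (Nat.Prime 2) := ⟨Nat.prime_two⟩
  have hidx : (commutator S).index = 4 := by
    rw [Subgroup.index_eq_card]; exact hab
  obtain ⟨n, hn⟩ := IsPGroup.iff_card.mp h2
  have hcm := Subgroup.card_mul_index (commutator S)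
  rw [hidx, hn] at hcm
  have hn2 : 2 ≤ n := by
    by_contra hlt
    push_neg at hlt
    interval_cases n
    · omega
    · omega
  by_cases hn3 : n = 2
  · left; rw [hn, hn3]; norm_num
  right
  have hn3' : 3 ≤ n := by omega
  have hc := MaxCl.maxclass_of_index n S hn2 hn hidx
  obtain ⟨a, hoa, hai, hall⟩ := MaxCl.maxclass_struct n hn3' hn hc
  obtain ⟨hZ2, -, -⟩ := MaxCl.card_center n hn3' hn hc
  obtain ⟨b, hb⟩ := MaxCl.exists_not_mem_of_index_two _ hai
  obtain ⟨hbb, hw, hcos, hcen⟩ := hall b hb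
  obtain ⟨m, rfl⟩ : ∃ m, n = m + 3 := ⟨n - 3, by omega⟩
  have hoa' : orderOf a = 2 ^ (m + 2) := hoa
  have ha1 : a ^ (2 ^ (m + 2)) = 1 := by rw [← hoa']; exact pow_orderOf_eq_one a
  have hz2 : (a ^ (2 ^ (m + 1))) ^ 2 = 1 := by
    rw [← pow_mul, ← pow_succ]; exact ha1
  have hz1 : a ^ (2 ^ (m + 1)) ≠ 1 := by
    intro h
    have h1 := orderOf_dvd_of_pow_eq_one h
    rw [hoa'] at h1
    have h2 := Nat.le_of_dvd (by positivity) h1
    have h3 : 2 ^ (m + 1) < 2 ^ (m + 2) := Nat.pow_lt_pow_right (by norm_num) (by omega)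
    omega
  have hzinv : (a ^ (2 ^ (m + 1)))⁻¹ = a ^ (2 ^ (m + 1)) := by
    rw [inv_eq_iff_mul_eq_one, ← pow_two]; exact hz2
  have hw2 := sq_center hZ2 _ hw
  have hbab : b * a * b⁻¹ = a⁻¹ * (a * (b * a * b⁻¹)) := by group
  have hwc : ∀ g : S, g * (a * (b * a * b⁻¹)) = (a * (b * a * b⁻¹)) * g :=
    fun g => Subgroup.mem_center_iff.mp hw g
  have hbz : b * a ^ (2 ^ (m + 1)) * b⁻¹ = a ^ (2 ^ (m + 1)) := by
    rw [← conj_pow, hbab, (show Commute a⁻¹ (a * (b * a * b⁻¹)) from hwc a⁻¹).mul_pow]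
    have h1 : (a * (b * a * b⁻¹)) ^ (2 ^ (m + 1)) = 1 := by
      rw [pow_succ', pow_mul, hw2, one_pow]
    rw [h1, mul_one, inv_pow, hzinv]
  have hzmem : a ^ (2 ^ (m + 1)) ∈ Subgroup.zpowers a := Subgroup.pow_mem _ (Subgroup.mem_zpowers a) _
  have hzc : a ^ (2 ^ (m + 1)) ∈ Subgroup.center S := by
    apply hcen _ hzmem
    calc b * a ^ (2 ^ (m + 1)) = (b * a ^ (2 ^ (m + 1)) * b⁻¹) * b := by
          rw [mul_assoc, inv_mul_cancel, mul_one]
      _ = a ^ (2 ^ (m + 1)) * b := by rw [hbz]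
  have hb1 : b ≠ 1 := fun h => hb (h ▸ Subgroup.one_mem _)
  have hcard : Nat.card S = 2 ^ (m + 3) := hn
  rcases two_elems hZ2 _ hzc hz1 _ hw with hw1 | hwz
  · -- b a b⁻¹ = a⁻¹
    have hinv : b * a * b⁻¹ = a⁻¹ := by rw [hbab, hw1, mul_one]
    rcases two_elems hZ2 _ hzc hz1 _ hbb with hb2 | hb2
    · left
      refine ⟨m, ?_⟩
      exact MaxCl.dih_recognize (2 ^ (m + 2)) a b ha1 hb2 hinv (by rw [hcard]; ring) hcos
    · right; right
      refine ⟨m, ?_⟩
      exact Quat.quat_recognize (2 ^ (m + 1)) a b (by rw [hcard]; ring) (by rw [hoa']; ring) hb2 hinv hb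
  · -- b a b⁻¹ = a⁻¹ z
    have hsd : b * a * b⁻¹ = a⁻¹ * a ^ (2 ^ (m + 1)) := by rw [hbab, hwz]
    rcases Nat.eq_zero_or_pos m with hm0 | hmpos
    · exfalso
      subst hm0
      have h1 : b * a * b⁻¹ = a := by
        rw [hsd]; norm_num; rw [pow_two]; group
      have h2 : b * a = a * b := by
        calc b * a = (b * a * b⁻¹) * b := by group
          _ = a * b := by rw [h1]
      have h3 := hcen a (Subgroup.mem_zpowers a) h2
      rcases two_elems hZ2 _ hzc hz1 _ h3 with h4 | h4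
      · rw [h4, orderOf_one] at hoa'
        norm_num at hoa'
      · apply hz1
        have h5 : a ^ (2 ^ (0 + 1)) = a * a := by norm_num; exact pow_two a
        rw [h5] at h4 ⊢
        have h6 : a = 1 := by
          have := congrArg (fun t => a⁻¹ * t) h4
          simpa using this.symm
        rw [h6, one_mul]
    · right; left
      obtain ⟨k, rfl⟩ : ∃ k, m = k + 1 := ⟨m - 1, by omega⟩
      have hpw : a ^ (2 ^ (k + 2) - 1) = a⁻¹ * a ^ (2 ^ (k + 1 + 1)) :=
        pow_pred_eq a (2 ^ (k + 2)) (by positivity)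
      refine ⟨k, hcard, a, ?_⟩
      rcases two_elems hZ2 _ hzc hz1 _ hbb with hb2 | hb2
      · refine ⟨b, hoa', ?_, ?_⟩
        · exact orderOf_eq_prime (by rw [pow_two]; exact hb2) hb1
        · rw [hpw]; exact hsd
      · refine ⟨b * a, hoa', ?_, ?_⟩
        · apply orderOf_eq_prime
          · rw [pow_two]
            calc b * a * (b * a) = (b * a * b⁻¹) * (b * b) * a := by group
              _ = a⁻¹ * a ^ (2 ^ (k + 1 + 1)) * a ^ (2 ^ (k + 1 + 1)) * a := by rw [hsd, hb2]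
              _ = a⁻¹ * (a ^ (2 ^ (k + 1 + 1))) ^ 2 * a := by rw [pow_two]; group
              _ = 1 := by rw [hz2]; group
          · intro h
            apply hb
            have h1 : b = a⁻¹ := eq_inv_of_mul_eq_one_left h
            rw [h1]; exact Subgroup.inv_mem _ (Subgroup.mem_zpowers a)
        · rw [hpw, ← hsd]; group

theorem result {S : Type*} [Group S] [Finite S] (h2 : IsPGroup 2 S) (hab : Nat.card (Abelianization S) = 4)
    (hexp : ∀ x : Abelianization S, x ^ 2 = 1) :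
    Nat.card S = 4 ∨
    ((∃ k : ℕ, Nonempty (S ≃* DihedralGroup (2 ^ (k + 2)))) ∨
      (∃ k : ℕ, Nat.card S = 2 ^ (k + 4) ∧ ∃ a b : S, orderOf a = 2 ^ (k + 3) ∧ orderOf b = 2 ∧ b * a * b⁻¹ = a ^ (2 ^ (k + 2) - 1)) ∨
      (∃ k : ℕ, Nonempty (S ≃* QuaternionGroup (2 ^ (k + 1))))) := by
  exact core h2 hab

end Cfsg.Agent.S4399
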