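import Cfsg.Statements.S4145

import Mathlib
import Cfsg.Agent.S0003

set_option autoImplicit false
open Cfsg
open scoped Pointwise

namespace Cfsg.Agent.S4145

theorem hnpc_of_card {X : Type*} [Group X] [Finite X] (p : ℕ) [Fact p.Prime] (N : Subgroup X)
    (hN : N.Normal) (hcop : (Nat.card N).Coprime p) (k : ℕ) (hidx : N.index = p ^ k) :
    Cfsg.HasNormalPComplement p X := by
  obtain ⟨P⟩ : Nonempty (Sylow p X) := inferInstance
  refine ⟨P, N, hN, ?_⟩
  have hp : p.Prime := Fact.out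
  have hcard := Subgroup.card_mul_index N
  rw [hidx] at hcard
  have hpN : ¬ p ∣ Nat.card N := (Nat.Prime.coprime_iff_not_dvd hp).mp hcop.symm
  have hPc : Nat.card (P : Subgroup X) = p ^ k := by
    rw [Sylow.card_eq_multiplicity, ← hcard,
      Nat.factorization_mul (Nat.card_pos.ne') (pow_ne_zero k hp.pos.ne'), hp.factorization_pow]
    simp [Nat.factorization_eq_zero_of_not_dvd hpN]
  apply Subgroup.isComplement'_of_coprime
  · rw [hPc]
    exact hcard
  · rw [hPc]
    exact Nat.Coprime.pow_right k hcop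

theorem comap_pcompl {X Y : Type*} [Group X] [Group Y] [Finite X] [Finite Y] (p : ℕ)
    [Fact p.Prime] (f : X →* Y) (hf : Function.Injective f) (M : Subgroup Y) (hM : M.Normal)
    (hcop : (Nat.card M).Coprime p) (k : ℕ) (hidx : M.index = p ^ k) :
    (Nat.card (M.comap f)).Coprime p ∧ ∃ j, (M.comap f).index = p ^ j := by
  have hp : p.Prime := Fact.out
  constructor
  · exact Nat.Coprime.coprime_dvd_left (Subgroup.card_comap_dvd_of_injective M f hf) hcop
  · have h1 : (M.comap f).index ∣ p ^ k := by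
      rw [Subgroup.index_comap, ← hidx]
      exact Subgroup.relIndex_dvd_index_of_normal M f.range
    obtain ⟨j, -, hj⟩ := (Nat.dvd_prime_pow hp).mp h1
    exact ⟨j, hj⟩

theorem exists_pcompl {X : Type*} [Group X] [Finite X] (p : ℕ) [Fact p.Prime] (P : Sylow p X)
    (hP : IsCyclic (P : Subgroup X)) (H : Subgroup X) [hHn : H.Normal]
    (hsup : ∀ x : X, ∃ h ∈ H, ∃ u ∈ (P : Subgroup X), x = h * u)
    (hPH : ¬ (P : Subgroup X) ≤ H) :
    ∃ M : Subgroup X, M.Normal ∧ (Nat.card M).Coprime p ∧ ∃ k, M.index = p ^ k := by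
  have hp : p.Prime := Fact.out
  have hsurj : Function.Surjective ((QuotientGroup.mk' H).comp (P : Subgroup X).subtype) := by
    intro q
    obtain ⟨x, rfl⟩ := QuotientGroup.mk'_surjective H q
    obtain ⟨h, hh, u, hu, rfl⟩ := hsup x
    refine ⟨⟨u, hu⟩, ?_⟩
    show ((u : X) : X ⧸ H) = ((h * u : X) : X ⧸ H)
    rw [QuotientGroup.eq]
    have e : u⁻¹ * (h * u) = u⁻¹ * h * u⁻¹⁻¹ := by group
    rw [e]
    exact hHn.conj_mem h hh u⁻¹
  have hcyc : IsCyclic (X ⧸ H) := isCyclic_of_surjective _ hsurj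
  have hcomm : commutator X ≤ H := by
    have h1 := @Abelianization.commutator_subset_ker X _ (X ⧸ H) (IsCyclic.commGroup)
      (QuotientGroup.mk' H)
    rwa [QuotientGroup.ker_mk'] at h1
  rcases Sylow.normalizer_le_centralizer_or_le_commutator P with h | h
  · have hc := MonoidHom.ker_transferSylow_isComplement' P h
    refine ⟨(MonoidHom.transferSylow P h).ker, MonoidHom.normal_ker _, ?_, ?_⟩
    · have h1 := hc.index_eq_card
      rw [← h1]
      exact ((Nat.Prime.coprime_iff_not_dvd hp).mpr P.not_dvd_index).symm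
    · have h1 := hc.symm.index_eq_card
      rw [h1]
      exact IsPGroup.iff_card.mp P.isPGroup'
  · exact absurd (h.trans hcomm) hPH

theorem mem_pcompl_iff {X : Type*} [Group X] [Finite X] (p : ℕ) [Fact p.Prime] (N : Subgroup X)
    [N.Normal] (hcop : (Nat.card N).Coprime p) (k : ℕ) (hidx : N.index = p ^ k) (x : X) :
    x ∈ N ↔ (orderOf x).Coprime p := by
  constructor
  · intro hx
    exact Nat.Coprime.coprime_dvd_left (Subgroup.orderOf_dvd_natCard N hx) hcop
  · intro hx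
    have h1 : x ^ N.index ∈ N := Subgroup.pow_index_mem N x
    rw [hidx] at h1
    obtain ⟨m, hm⟩ := exists_pow_eq_self_of_coprime (x := x) (n := p ^ k)
      (Nat.Coprime.pow_left k hx.symm)
    rw [← hm]
    exact N.pow_mem h1 m

theorem map_pcompl_normal {X : Type*} [Group X] [Finite X] (p : ℕ) [Fact p.Prime]
    (H : Subgroup X) [hHn : H.Normal] (N : Subgroup H) [N.Normal]
    (hcop : (Nat.card N).Coprime p) (k : ℕ) (hidx : N.index = p ^ k) :
    (N.map H.subtype).Normal := by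
  constructor
  intro x hx g
  obtain ⟨y, hy, rfl⟩ := hx
  have hgy : g * (y : X) * g⁻¹ ∈ H := hHn.conj_mem _ y.2 g
  refine ⟨⟨g * (y : X) * g⁻¹, hgy⟩, ?_, rfl⟩
  have hy' : y ∈ N := hy
  rw [mem_pcompl_iff p N hcop k hidx] at hy'
  show (⟨g * (y : X) * g⁻¹, hgy⟩ : H) ∈ N
  rw [mem_pcompl_iff p N hcop k hidx]
  have h6 := orderOf_injective (MulAut.conj g).toMonoidHom (MulEquiv.injective _) (y : X)
  have h7 : orderOf (⟨g * (y : X) * g⁻¹, hgy⟩ : H) = orderOf y := by
    rw [← Subgroup.orderOf_coe, ← Subgroup.orderOf_coe]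
    simpa using h6
  rwa [h7]

theorem cyclic_comm {X : Type*} [Group X] (Q : Subgroup X) (hQ : IsCyclic Q) (a b : X)
    (ha : a ∈ Q) (hb : b ∈ Q) : a * b = b * a := by
  obtain ⟨g, hg⟩ := hQ.exists_generator
  obtain ⟨i, hi⟩ := Subgroup.mem_zpowers_iff.mp (hg ⟨a, ha⟩)
  obtain ⟨j, hj⟩ := Subgroup.mem_zpowers_iff.mp (hg ⟨b, hb⟩)
  have ha' : a = ((g ^ i : Q) : X) := by rw [hi]
  have hb' : b = ((g ^ j : Q) : X) := by rw [hj]
  rw [ha', hb', ← Subgroup.coe_mul, ← Subgroup.coe_mul, ← zpow_add, ← zpow_add, add_comm]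

theorem part1 {G : Type*} [Group G] [Finite G] (p : ℕ) [Fact p.Prime]
    (P : Sylow p G) (hP : IsCyclic (P : Subgroup G)) (H : Subgroup G) [H.Normal]
    (h2 : p ∣ H.index) :
    ∃ N : Subgroup H, N.Normal ∧ (Nat.card N).Coprime p ∧ ∃ j, N.index = p ^ j := by
  have hPH : ¬ (P : Subgroup G) ≤ H := by
    intro hle
    exact P.not_dvd_index (h2.trans (Subgroup.index_dvd_of_le hle))
  have hHL : H ≤ H ⊔ (P : Subgroup G) := le_sup_left
  have hPL : (P : Subgroup G) ≤ H ⊔ (P : Subgroup G) := le_sup_right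
  have hcycL : IsCyclic ((P.subtype hPL : Sylow p (H ⊔ (P : Subgroup G) : Subgroup G)) :
      Subgroup (H ⊔ (P : Subgroup G) : Subgroup G)) := by
    rw [Sylow.coe_subtype]
    exact isCyclic_of_surjective _ (Subgroup.subgroupOfEquivOfLe hPL).symm.surjective
  have hsup : ∀ x : (H ⊔ (P : Subgroup G) : Subgroup G),
      ∃ h ∈ H.subgroupOf (H ⊔ (P : Subgroup G)),
        ∃ u ∈ ((P.subtype hPL : Sylow p (H ⊔ (P : Subgroup G) : Subgroup G)) :
          Subgroup (H ⊔ (P : Subgroup G) : Subgroup G)), x = h * u := by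
    intro x
    have hx : (x : G) ∈ ((H ⊔ (P : Subgroup G) : Subgroup G) : Set G) := x.2
    rw [Subgroup.normal_mul] at hx
    obtain ⟨h, hh, u, hu, hhu⟩ := hx
    refine ⟨⟨h, hHL hh⟩, ?_, ⟨u, hPL hu⟩, ?_, ?_⟩
    · exact Subgroup.mem_subgroupOf.mpr hh
    · rw [Sylow.coe_subtype]
      exact Subgroup.mem_subgroupOf.mpr hu
    · apply Subtype.ext
      exact hhu.symm
  have hnle : ¬ ((P.subtype hPL : Sylow p (H ⊔ (P : Subgroup G) : Subgroup G)) :
      Subgroup (H ⊔ (P : Subgroup G) : Subgroup G)) ≤ H.subgroupOf (H ⊔ (P : Subgroup G)) := by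
    intro hle
    apply hPH
    intro u hu
    have h1 : (⟨u, hPL hu⟩ : (H ⊔ (P : Subgroup G) : Subgroup G)) ∈
        ((P.subtype hPL : Sylow p (H ⊔ (P : Subgroup G) : Subgroup G)) :
          Subgroup (H ⊔ (P : Subgroup G) : Subgroup G)) := by
      rw [Sylow.coe_subtype]
      exact Subgroup.mem_subgroupOf.mpr hu
    exact Subgroup.mem_subgroupOf.mp (hle h1)
  obtain ⟨M, hMn, hMc, k, hMk⟩ := exists_pcompl p (P.subtype hPL) hcycL
    (H.subgroupOf (H ⊔ (P : Subgroup G))) hsup hnle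
  have h3 := comap_pcompl p (Subgroup.inclusion hHL) (Subgroup.inclusion_injective hHL)
    M hMn hMc k hMk
  exact ⟨M.comap (Subgroup.inclusion hHL), hMn.comap _, h3.1, h3.2⟩
theorem central_not_comm {X : Type*} [Group X] [Finite X] (p : ℕ) [Fact p.Prime] (Q : Sylow p X)
    (hQ : IsCyclic (Q : Subgroup X)) (z : X) (hzQ : z ∈ (Q : Subgroup X)) (hz1 : z ≠ 1)
    (hzc : ∀ c : X, c * z = z * c) : z ∉ commutator X := by
  intro hzcomm
  have key : ∀ (k : ℕ) (g₀ : X), g₀⁻¹ * z ^ k * g₀ ∈ (Q : Subgroup X) →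
      g₀⁻¹ * z ^ k * g₀ = z ^ k := by
    intro k g₀ _
    have h9 : Commute g₀ (z ^ k) := (show Commute g₀ z from hzc g₀).pow_right k
    rw [mul_assoc, ← h9.eq, inv_mul_cancel_left]
  have ht := @MonoidHom.transfer_eq_pow X _ (Q : Subgroup X) (Q : Subgroup X) (IsCyclic.commGroup)
    (MonoidHom.id (Q : Subgroup X)) _ z key
  have hker := @Abelianization.commutator_subset_ker X _ (Q : Subgroup X) (IsCyclic.commGroup)
    (@MonoidHom.transfer X _ (Q : Subgroup X) (Q : Subgroup X) (IsCyclic.commGroup)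
      (MonoidHom.id (Q : Subgroup X)) _) z hzcomm
  rw [MonoidHom.mem_ker, ht] at hker
  have hpowz : z ^ (Q : Subgroup X).index = 1 := congrArg Subtype.val hker
  have hdvd := orderOf_dvd_of_pow_eq_one hpowz
  obtain ⟨k, hk⟩ := (IsPGroup.iff_orderOf.mp Q.isPGroup') ⟨z, hzQ⟩
  rw [Subgroup.orderOf_mk] at hk
  have hk0 : k ≠ 0 := by
    rintro rfl
    rw [pow_zero, orderOf_eq_one_iff] at hk
    exact hz1 hk
  rw [hk] at hdvd
  exact Q.not_dvd_index ((dvd_pow_self p hk0).trans hdvd)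

theorem part2_core {G : Type*} [Group G] [Finite G] (p : ℕ) [Fact p.Prime]
    (P : Sylow p G) (hP : IsCyclic (P : Subgroup G)) (H : Subgroup G) [hHn : H.Normal]
    (K : Subgroup G) [hKn : K.Normal] (hKc : (Nat.card K).Coprime p) (j : ℕ)
    (hpow : ∀ h ∈ H, h ^ (p ^ j) ∈ K) (hne : ¬ H ≤ K) : Cfsg.IsPSolvable p G := by
  have hp : p.Prime := Fact.out
  have hπ : Function.Surjective (QuotientGroup.mk' K) := QuotientGroup.mk'_surjective K
  obtain ⟨Hb, hHb⟩ : ∃ Hb : Subgroup (G ⧸ K), Hb = H.map (QuotientGroup.mk' K) := ⟨_, rfl⟩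
  have hHbn : Hb.Normal := by
    rw [hHb]
    exact Subgroup.Normal.map hHn _ hπ
  have hHbp : IsPGroup p Hb := by
    rintro ⟨q, hq⟩
    rw [hHb] at hq
    obtain ⟨h, hh, rfl⟩ := hq
    refine ⟨j, ?_⟩
    apply Subtype.ext
    show (QuotientGroup.mk' K h) ^ (p ^ j) = 1
    rw [← map_pow]
    exact (QuotientGroup.eq_one_iff _).mpr (hpow h hh)
  have hHbne : ∃ z ∈ Hb, z ≠ 1 := by
    by_contra hcon
    push_neg at hcon
    apply hne
    intro h hh
    have h5 := hcon (QuotientGroup.mk' K h) (by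
      rw [hHb]
      exact Subgroup.mem_map_of_mem _ hh)
    exact (QuotientGroup.eq_one_iff h).mp h5
  obtain ⟨z, hzH, hz1⟩ := hHbne
  obtain ⟨Pb, hPb⟩ : ∃ Pb : Sylow p (G ⧸ K),
      (Pb : Subgroup (G ⧸ K)) = (P : Subgroup G).map (QuotientGroup.mk' K) :=
    ⟨Sylow.mapSurjective hπ P, Sylow.coe_mapSurjective hπ P⟩
  have hPbc : IsCyclic (Pb : Subgroup (G ⧸ K)) := by
    rw [hPb]
    exact isCyclic_of_surjective _
      (MonoidHom.subgroupMap_surjective (QuotientGroup.mk' K) (P : Subgroup G))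
  have hHP : Hb ≤ Pb := hHbp.le_sylow_of_normal Pb
  obtain ⟨C, hC⟩ : ∃ C : Subgroup (G ⧸ K), C = Subgroup.centralizer (Hb : Set (G ⧸ K)) :=
    ⟨_, rfl⟩
  have hCn : C.Normal := by
    rw [hC]
    exact Subgroup.normal_centralizer
  have hPC : (Pb : Subgroup (G ⧸ K)) ≤ C := by
    intro x hx
    rw [hC, Subgroup.mem_centralizer_iff]
    intro h hh
    exact cyclic_comm _ hPbc h x (hHP hh) hx
  have hPcc : IsCyclic ((Pb.subtype hPC : Sylow p C) : Subgroup C) := by
    rw [Sylow.coe_subtype]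
    exact isCyclic_of_surjective _ (Subgroup.subgroupOfEquivOfLe hPC).symm.surjective
  have hzC : z ∈ C := hPC (hHP hzH)
  have hzcent : ∀ c : C, c * ⟨z, hzC⟩ = ⟨z, hzC⟩ * c := by
    rintro ⟨c, hc⟩
    apply Subtype.ext
    have h8 : c ∈ Subgroup.centralizer (Hb : Set (G ⧸ K)) := by
      rw [← hC]
      exact hc
    rw [Subgroup.mem_centralizer_iff] at h8
    exact (h8 z hzH).symm
  have hzP : (⟨z, hzC⟩ : C) ∈ ((Pb.subtype hPC : Sylow p C) : Subgroup C) := by
    rw [Sylow.coe_subtype]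
    exact Subgroup.mem_subgroupOf.mpr (hHP hzH)
  have hz1' : (⟨z, hzC⟩ : C) ≠ 1 := by
    intro h
    exact hz1 (congrArg Subtype.val h)
  have hncomm := central_not_comm p (Pb.subtype hPC) hPcc ⟨z, hzC⟩ hzP hz1' hzcent
  have hNC : Subgroup.normalizer ((Pb.subtype hPC : Sylow p C) : Set C) ≤
      Subgroup.centralizer ((Pb.subtype hPC : Sylow p C) : Set C) := by
    rcases Sylow.normalizer_le_centralizer_or_le_commutator (Pb.subtype hPC) with h | h
    · exact h
    · exact absurd (h hzP) hncomm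
  have hcompl := MonoidHom.ker_transferSylow_isComplement' (Pb.subtype hPC) hNC
  obtain ⟨M₀, hM₀⟩ : ∃ M₀ : Subgroup C, M₀ = (MonoidHom.transferSylow (Pb.subtype hPC) hNC).ker :=
    ⟨_, rfl⟩
  rw [← hM₀] at hcompl
  have hM₀n : M₀.Normal := by
    rw [hM₀]
    exact MonoidHom.normal_ker _
  have hM₀c : (Nat.card M₀).Coprime p := by
    have h1 := hcompl.index_eq_card
    rw [← h1]
    exact ((Nat.Prime.coprime_iff_not_dvd hp).mpr (Pb.subtype hPC).not_dvd_index).symm
  obtain ⟨k, hk⟩ : ∃ k, M₀.index = p ^ k := by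
    have h1 := hcompl.symm.index_eq_card
    rw [h1]
    exact IsPGroup.iff_card.mp (Pb.subtype hPC).isPGroup'
  have hMn : (M₀.map C.subtype).Normal := map_pcompl_normal p C M₀ hM₀c k hk
  have hMC : M₀.map C.subtype ≤ C := Subgroup.map_subtype_le M₀
  refine ⟨3, ![⊥, (M₀.map C.subtype).comap (QuotientGroup.mk' K),
    C.comap (QuotientGroup.mk' K), ⊤], rfl, rfl, ?_, ?_, ?_⟩
  · rw [Fin.monotone_iff_le_succ]
    intro i
    fin_cases i
    · exact bot_le
    · exact Subgroup.comap_mono hMC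
    · exact le_top
  · intro i
    fin_cases i
    · exact Subgroup.normal_bot
    · exact hMn.comap _
    · exact hCn.comap _
    · exact Subgroup.normal_top
  · intro i
    fin_cases i
    · right
      show ((⊥ : Subgroup G).relIndex ((M₀.map C.subtype).comap (QuotientGroup.mk' K))).Coprime p
      rw [Subgroup.relIndex_bot_left, Cfsg.Agent.S0003.card_comap_mk',
        Subgroup.card_map_of_injective C.subtype_injective]
      exact Nat.Coprime.mul_left hKc hM₀c
    · left
      refine ⟨k, ?_⟩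
      show (((M₀.map C.subtype).comap (QuotientGroup.mk' K)).relIndex
        (C.comap (QuotientGroup.mk' K))) = p ^ k
      rw [Subgroup.relIndex_comap, Subgroup.map_comap_eq_self_of_surjective hπ, ← hk]
      show ((M₀.map C.subtype).comap C.subtype).index = M₀.index
      rw [Subgroup.comap_map_eq_self_of_injective C.subtype_injective]
    · right
      show ((C.comap (QuotientGroup.mk' K)).relIndex ⊤).Coprime p
      rw [Subgroup.relIndex_top_right, Subgroup.index_comap_of_surjective _ hπ]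
      have h3 : ¬ p ∣ C.index := fun h => Pb.not_dvd_index (h.trans (Subgroup.index_dvd_of_le hPC))
      exact ((Nat.Prime.coprime_iff_not_dvd hp).mpr h3).symm

theorem result {G : Type*} [Group G] [Finite G] (p : ℕ) [Fact p.Prime]
    (P : Sylow p G) (hP : IsCyclic (P : Subgroup G)) (H : Subgroup G) [H.Normal] (h1 : p ∣ Nat.card H) (h2 : p ∣ H.index) :
    Cfsg.HasNormalPComplement p H ∧ Cfsg.IsPSolvable p G := by
  have hp : p.Prime := Fact.out
  obtain ⟨N, hNn, hNc, j, hNj⟩ := part1 p P hP H h2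
  refine ⟨hnpc_of_card p N hNn hNc j hNj, ?_⟩
  have hKn : (N.map H.subtype).Normal := map_pcompl_normal p H N hNc j hNj
  have hKcard : Nat.card (N.map H.subtype) = Nat.card N :=
    Subgroup.card_map_of_injective H.subtype_injective
  apply part2_core p P hP H (N.map H.subtype) (by rw [hKcard]; exact hNc) j
  · intro h hh
    have h3 : (⟨h, hh⟩ : H) ^ N.index ∈ N := Subgroup.pow_index_mem N _
    rw [hNj] at h3
    exact ⟨⟨h, hh⟩ ^ (p ^ j), h3, by simp⟩
  · intro hHK
    have h6 := Subgroup.card_dvd_of_le hHK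
    rw [hKcard] at h6
    have h7 : p ∣ Nat.gcd (Nat.card N) p := Nat.dvd_gcd (h1.trans h6) dvd_rfl
    rw [hNc.gcd_eq_one] at h7
    exact hp.not_dvd_one h7

end Cfsg.Agent.S4145
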