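import Cfsg.Statements.S4403

import Mathlib
import Cfsg.Agent.S4145
import Cfsg.Agent.Lib.Helper2.Comp
import Cfsg.Agent.Lib.Helper2.PComp
import Cfsg.Agent.Lib.Helper5.PCore

set_option autoImplicit false
open Cfsg
open scoped Pointwise

namespace Cfsg.Agent.S4403

theorem cyc_unique {X : Type*} [Group X] [Finite X] (p : ℕ) [hp : Fact p.Prime] (Q : Subgroup X)
    (hQ : IsCyclic Q) (x y : X) (hx : x ∈ Q) (hy : y ∈ Q) (hox : orderOf x = p)
    (hoy : orderOf y = p) : y ∈ Subgroup.zpowers x := by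
  classical
  haveI : Fintype Q := Fintype.ofFinite _
  have h1 := IsCyclic.card_pow_eq_one_le (α := Q) (n := p) hp.out.pos
  have hxp : (⟨x, hx⟩ : Q) ^ p = 1 := by
    apply Subtype.ext
    simp [← hox, pow_orderOf_eq_one]
  have hyp : (⟨y, hy⟩ : Q) ^ p = 1 := by
    apply Subtype.ext
    simp [← hoy, pow_orderOf_eq_one]
  have hsub : (Finset.univ.filter (fun a : Q => a ∈ Subgroup.zpowers (⟨x, hx⟩ : Q))) ⊆
      Finset.univ.filter (fun a : Q => a ^ p = 1) := by
    intro a ha
    simp only [Finset.mem_filter, Finset.mem_univ, true_and] at ha ⊢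
    obtain ⟨k, rfl⟩ := Subgroup.mem_zpowers_iff.mp ha
    rw [← zpow_natCast, ← zpow_mul, mul_comm, zpow_mul, zpow_natCast, hxp, one_zpow]
  have hcard : (Finset.univ.filter (fun a : Q => a ∈ Subgroup.zpowers (⟨x, hx⟩ : Q))).card = p := by
    rw [← Fintype.card_subtype, ← Nat.card_eq_fintype_card]
    have h2 := Nat.card_zpowers (⟨x, hx⟩ : Q)
    rw [Subgroup.orderOf_mk, hox] at h2
    exact h2
  have heq := Finset.eq_of_subset_of_card_le hsub (by rw [hcard]; exact h1)
  have hymem : (⟨y, hy⟩ : Q) ∈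
      Finset.univ.filter (fun a : Q => a ∈ Subgroup.zpowers (⟨x, hx⟩ : Q)) := by
    rw [heq]
    simp [hyp]
  simp only [Finset.mem_filter, Finset.mem_univ, true_and] at hymem
  obtain ⟨k, hk⟩ := Subgroup.mem_zpowers_iff.mp hymem
  exact Subgroup.mem_zpowers_iff.mpr ⟨k, by simpa using congrArg Subtype.val hk⟩

theorem pcompl_of_central {X : Type*} [Group X] [Finite X] (p : ℕ) [Fact p.Prime] (Q : Sylow p X)
    (hQ : IsCyclic (Q : Subgroup X)) (z : X) (hzQ : z ∈ (Q : Subgroup X)) (hz1 : z ≠ 1)
    (hzc : ∀ c : X, c * z = z * c) :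
    ∃ M : Subgroup X, M.Normal ∧ (Nat.card M).Coprime p ∧ ∃ k, M.index = p ^ k := by
  have hp : p.Prime := Fact.out
  have hnc := S4145.central_not_comm p Q hQ z hzQ hz1 hzc
  rcases Sylow.normalizer_le_centralizer_or_le_commutator Q with h | h
  · have hc := MonoidHom.ker_transferSylow_isComplement' Q h
    refine ⟨(MonoidHom.transferSylow Q h).ker, MonoidHom.normal_ker _, ?_, ?_⟩
    · have h1 := hc.index_eq_card
      rw [← h1]
      exact ((Nat.Prime.coprime_iff_not_dvd hp).mpr Q.not_dvd_index).symm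
    · have h1 := hc.symm.index_eq_card
      rw [h1]
      exact IsPGroup.iff_card.mp Q.isPGroup'
  · exact absurd (h hzQ) hnc

theorem pgroup_of_pcompl {K : Type*} [Group K] [Finite K] (p : ℕ) [Fact p.Prime]
    (hO : Cfsg.pPrimeCore p K = ⊥) (H : Subgroup K) [H.Normal] (N : Subgroup H) [N.Normal]
    (hNc : (Nat.card N).Coprime p) (j : ℕ) (hNj : N.index = p ^ j) : IsPGroup p H := by
  have hKn : (N.map H.subtype).Normal := S4145.map_pcompl_normal p H N hNc j hNj
  have hKcard : Nat.card (N.map H.subtype) = Nat.card N :=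
    Subgroup.card_map_of_injective H.subtype_injective
  have hle : N.map H.subtype ≤ Cfsg.pPrimeCore p K := le_sSup ⟨hKn, by rw [hKcard]; exact hNc⟩
  rw [hO, le_bot_iff] at hle
  have hN : N = ⊥ := by
    rw [eq_bot_iff]
    intro x hx
    have h1 : (x : K) ∈ N.map H.subtype := ⟨x, hx, rfl⟩
    rw [hle, Subgroup.mem_bot] at h1
    exact Subgroup.mem_bot.mpr (Subtype.ext h1)
  rw [hN, Subgroup.index_bot] at hNj
  exact IsPGroup.of_card hNj

theorem pgroup_of_dvd_index {K : Type*} [Group K] [Finite K] (p : ℕ) [Fact p.Prime]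
    (hO : Cfsg.pPrimeCore p K = ⊥) (P : Sylow p K) (hP : IsCyclic ↥(P : Subgroup K))
    (H : Subgroup K) [H.Normal] (h2 : p ∣ H.index) : IsPGroup p H := by
  obtain ⟨N, hNn, hNc, j, hNj⟩ := S4145.part1 p P hP H h2
  haveI := hNn
  exact pgroup_of_pcompl p hO H N hNc j hNj

theorem caseA {K : Type*} [Group K] [Finite K] (p : ℕ) [Fact p.Prime]
    (hO : Cfsg.pPrimeCore p K = ⊥) (P : Sylow p K) (hP : IsCyclic ↥(P : Subgroup K))
    (hOp : Cfsg.pCore p K ≠ ⊥) :
    (P : Subgroup K).Normal ∧ Subgroup.centralizer ((P : Subgroup K) : Set K) = (P : Subgroup K) ∧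
      (∀ (_ : (P : Subgroup K).Normal), IsCyclic (K ⧸ (P : Subgroup K))) ∧
      (P : Subgroup K).index ∣ p - 1 := by
  have hp : p.Prime := Fact.out
  have hOP : Cfsg.pCore p K ≤ (P : Subgroup K) := Lib.Helper5.PCore.pCore_le_sylow P
  have hOpg : IsPGroup p (Cfsg.pCore p K) := Lib.Helper5.PCore.pCore_isPGroup p K
  haveI hOn : (Cfsg.pCore p K).Normal := Lib.Helper2.Fit.pCore_normal p
  obtain ⟨z, hzO, hzo⟩ : ∃ z ∈ Cfsg.pCore p K, orderOf z = p := by
    have hcard : p ∣ Nat.card (Cfsg.pCore p K) := by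
      rcases hOpg.card_eq_or_dvd with h1 | h1
      · exact absurd (Subgroup.eq_bot_of_card_eq _ h1) hOp
      · exact h1
    obtain ⟨z, hz⟩ := exists_prime_orderOf_dvd_card' p hcard
    exact ⟨z, z.2, (Subgroup.orderOf_coe z).trans hz⟩
  have hzP : z ∈ (P : Subgroup K) := hOP hzO
  have hz1 : z ≠ 1 := by
    rintro rfl
    rw [orderOf_one] at hzo
    exact hp.one_lt.ne hzo
  haveI hZn : (Subgroup.zpowers z).Normal := by
    constructor
    intro a ha g
    obtain ⟨k, rfl⟩ := Subgroup.mem_zpowers_iff.mp ha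
    have h1 : g * z * g⁻¹ ∈ Subgroup.zpowers z := by
      apply cyc_unique p (P : Subgroup K) hP z (g * z * g⁻¹) hzP (hOP (hOn.conj_mem z hzO g)) hzo
      have h6 := orderOf_injective (MulAut.conj g).toMonoidHom (MulEquiv.injective _) z
      rw [← hzo]
      simpa using h6
    have e : g * z ^ k * g⁻¹ = (g * z * g⁻¹) ^ k := by rw [conj_zpow]
    rw [e]
    exact Subgroup.zpow_mem _ h1 k
  obtain ⟨C, hC⟩ : ∃ C : Subgroup K,
      C = Subgroup.centralizer ((Subgroup.zpowers z : Subgroup K) : Set K) := ⟨_, rfl⟩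
  haveI hCn : C.Normal := by
    rw [hC]
    exact Subgroup.normal_centralizer
  have hPC : (P : Subgroup K) ≤ C := by
    intro u hu
    rw [hC, Subgroup.mem_centralizer_iff]
    intro a ha
    obtain ⟨k, rfl⟩ := Subgroup.mem_zpowers_iff.mp ha
    exact S4145.cyclic_comm (P : Subgroup K) hP _ _ (Subgroup.zpow_mem _ hzP k) hu
  have hcycC : IsCyclic ((P.subtype hPC : Sylow p C) : Subgroup C) := by
    rw [Sylow.coe_subtype]
    exact isCyclic_of_surjective _ (Subgroup.subgroupOfEquivOfLe hPC).symm.surjective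
  have hzC : z ∈ C := hPC hzP
  obtain ⟨M, hMn, hMc, k, hMk⟩ := pcompl_of_central p (P.subtype hPC) hcycC ⟨z, hzC⟩
      (by rw [Sylow.coe_subtype]; exact Subgroup.mem_subgroupOf.mpr hzP)
      (by intro h; exact hz1 (congrArg Subtype.val h))
      (by
        rintro ⟨c, hc⟩
        apply Subtype.ext
        show c * z = z * c
        rw [hC] at hc
        have h1 := (Subgroup.mem_centralizer_iff.mp hc) z (Subgroup.mem_zpowers z)
        exact h1.symm)
  haveI := hMn
  have hCp : IsPGroup p C := pgroup_of_pcompl p hO C M hMc k hMk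
  have hCP : C = (P : Subgroup K) := P.is_maximal' hCp hPC
  have hPn : (P : Subgroup K).Normal := hCP ▸ hCn
  have hker : (MulAut.conjNormal : K →* MulAut (Subgroup.zpowers z)).ker = (P : Subgroup K) := by
    rw [← hCP]
    ext g
    rw [MonoidHom.mem_ker, hC, Subgroup.mem_centralizer_iff]
    constructor
    · intro h a ha
      have h1 := congrArg
        (fun f : MulAut (Subgroup.zpowers z) => ((f ⟨a, ha⟩ : Subgroup.zpowers z) : K)) h
      simp only [MulAut.conjNormal_apply, MulAut.one_apply] at h1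
      calc a * g = (g * a * g⁻¹) * g := by rw [h1]
        _ = g * a := by group
    · intro h
      ext ⟨a, ha⟩
      simp only [MulAut.conjNormal_apply, MulAut.one_apply]
      rw [← h a ha, mul_inv_cancel_right]
  have hinj := QuotientGroup.kerLift_injective
    (MulAut.conjNormal : K →* MulAut (Subgroup.zpowers z))
  have hcardZ : Nat.card (Subgroup.zpowers z) = p := by rw [Nat.card_zpowers, hzo]
  have hcycAut : IsCyclic (MulAut (Subgroup.zpowers z)) := by
    have e := IsCyclic.mulAutMulEquiv (Subgroup.zpowers z)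
    haveI : Fact (Nat.card (Subgroup.zpowers z)).Prime := ⟨by rw [hcardZ]; exact hp⟩
    exact isCyclic_of_surjective e.symm.toMonoidHom e.symm.surjective
  refine ⟨hPn, ?_, ?_, ?_⟩
  · apply le_antisymm
    · calc Subgroup.centralizer ((P : Subgroup K) : Set K)
          ≤ Subgroup.centralizer ((Subgroup.zpowers z : Subgroup K) : Set K) :=
            Subgroup.centralizer_le (Subgroup.zpowers_le.mpr hzP)
        _ = C := hC.symm
        _ = (P : Subgroup K) := hCP
    · intro u hu
      rw [Subgroup.mem_centralizer_iff]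
      intro a ha
      exact S4145.cyclic_comm (P : Subgroup K) hP a u ha hu
  · intro hN'
    have e : K ⧸ (P : Subgroup K) ≃*
        K ⧸ (MulAut.conjNormal : K →* MulAut (Subgroup.zpowers z)).ker :=
      QuotientGroup.quotientMulEquivOfEq hker.symm
    exact isCyclic_of_injective ((QuotientGroup.kerLift _).comp e.toMonoidHom)
      (hinj.comp e.injective)
  · have h1 := Subgroup.card_dvd_of_injective _ hinj
    rw [IsCyclic.card_mulAut, Nat.card_zpowers, hzo, Nat.totient_prime hp, ← Subgroup.index,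
      hker] at h1
    exact h1

theorem caseB {K : Type*} [Group K] [Finite K] (p : ℕ) [Fact p.Prime] (hp : p ∣ Nat.card K)
    (hO : Cfsg.pPrimeCore p K = ⊥) (P : Sylow p K) (hP : IsCyclic ↥(P : Subgroup K))
    (hOp : Cfsg.pCore p K = ⊥) :
    IsSimpleGroup ↥(Cfsg.generalizedFittingSubgroup K) ∧
      ¬ IsMulCommutative ↥(Cfsg.generalizedFittingSubgroup K) ∧
      ¬ p ∣ (Cfsg.generalizedFittingSubgroup K).index := by
  have hpp : p.Prime := Fact.out
  have hF : Cfsg.fittingSubgroup K = ⊥ := by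
    rw [Lib.Helper2.Fit.fitting_eq_iSup_pCore, eq_bot_iff]
    apply iSup_le
    intro q
    by_cases hq : (q : ℕ) = p
    · rw [hq, hOp]
    · rw [← hO]
      apply le_sSup
      refine ⟨Lib.Helper2.Fit.pCore_normal _, ?_⟩
      have h1 : IsPGroup (q : ℕ) (Cfsg.pCore (q : ℕ) K) := Lib.Helper2.Fit.pCore_isPGroup _
      haveI : Fact (q : ℕ).Prime := ⟨q.2⟩
      obtain ⟨n, hn⟩ := IsPGroup.iff_card.mp h1
      rw [hn]
      exact Nat.Coprime.pow_left n ((Nat.coprime_primes q.2 hpp).mpr hq)
  have hE : Cfsg.layer K ≠ ⊥ := by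
    intro hE
    have h1 := Lib.Helper2.Comp.centralizer_genFitting_le (G := K)
    have h2 : Cfsg.generalizedFittingSubgroup K = ⊥ := by
      unfold Cfsg.generalizedFittingSubgroup
      rw [hE, hF, bot_sup_eq]
    rw [h2] at h1
    have h3 : (⊤ : Subgroup K) ≤ ⊥ := by
      refine le_trans ?_ h1
      intro x _
      rw [Subgroup.mem_centralizer_iff]
      intro y hy
      have hy1 : y = 1 := Subgroup.mem_bot.mp hy
      rw [hy1, one_mul, mul_one]
    have h4 : (⊤ : Subgroup K) = ⊥ := le_bot_iff.mp h3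
    have h5 : Nat.card K = 1 := by rw [← Subgroup.card_top, h4, Subgroup.card_bot]
    rw [h5] at hp
    exact hpp.one_lt.ne' (Nat.dvd_one.mp hp)
  obtain ⟨L, hL⟩ : ∃ L : Subgroup K, Cfsg.IsComponent L := by
    by_contra hcon
    push_neg at hcon
    apply hE
    unfold Cfsg.layer
    rw [sSup_eq_bot]
    intro L hL
    exact absurd hL (hcon L)
  have hcen : ∀ L : Subgroup K, Cfsg.IsComponent L → Subgroup.center L = ⊥ := by
    intro L hL
    have hsn : ((Subgroup.center L).map L.subtype).IsSubnormal :=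
      Subgroup.IsSubnormal.trans' (Subgroup.Normal.isSubnormal inferInstance) hL.1
    have hnil : Group.IsNilpotent ↥((Subgroup.center L).map L.subtype) := by
      apply Lib.Helper2.Comp.nilpotent_of_commutator_central
      have hab : ⁅(Subgroup.center L).map L.subtype, (Subgroup.center L).map L.subtype⁆ = ⊥ := by
        rw [Subgroup.commutator_eq_bot_iff_le_centralizer]
        rintro _ ⟨a, ha, rfl⟩
        rw [Subgroup.mem_centralizer_iff]
        rintro _ ⟨b, hb, rfl⟩
        have h1 := (Subgroup.mem_center_iff.mp ha) b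
        exact congrArg Subtype.val h1
      rw [hab]
      exact Subgroup.commutator_bot_left _
    have hle := Lib.Helper2.Fit.sn_nilpotent_le_fitting hsn hnil
    rw [hF, le_bot_iff] at hle
    rw [eq_bot_iff]
    intro x hx
    have h1 : (x : K) ∈ (Subgroup.center L).map L.subtype := ⟨x, hx, rfl⟩
    rw [hle, Subgroup.mem_bot] at h1
    exact Subgroup.mem_bot.mpr (Subtype.ext h1)
  have hdvd : ∀ L : Subgroup K, Cfsg.IsComponent L → ∃ x ∈ L, orderOf x = p := by
    intro L hL
    have h1 : p ∣ Nat.card L := by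
      by_contra hnd
      have hcop : (Nat.card L).Coprime p := ((Nat.Prime.coprime_iff_not_dvd hpp).mpr hnd).symm
      have hle := Lib.Helper2.PComp.sn_coprime_le_pPrimeCore p hL.1 hcop
      rw [hO, le_bot_iff] at hle
      exact Lib.Helper2.PComp.quasisimple_ne_bot hL.2 hle
    obtain ⟨x, hx⟩ := exists_prime_orderOf_dvd_card' p h1
    exact ⟨x, x.2, (Subgroup.orderOf_coe x).trans hx⟩
  have huniq : ∀ L' : Subgroup K, Cfsg.IsComponent L' → L' = L := by
    intro L' hL'
    by_contra hne
    have hcomm := Lib.Helper2.Comp.components_comm hL hL' (Ne.symm hne)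
    rw [Subgroup.commutator_eq_bot_iff_le_centralizer] at hcomm
    obtain ⟨x, hxL, hxo⟩ := hdvd L hL
    obtain ⟨y, hyL', hyo⟩ := hdvd L' hL'
    have hxy : Commute y x := (Subgroup.mem_centralizer_iff.mp (hcomm hxL)) y hyL'
    have hpg : IsPGroup p ↥(Subgroup.zpowers x ⊔ Subgroup.zpowers y) := by
      apply IsPGroup.to_sup_of_normal_right'
      · exact IsPGroup.of_card (n := 1) (by rw [Nat.card_zpowers, hxo, pow_one])
      · exact IsPGroup.of_card (n := 1) (by rw [Nat.card_zpowers, hyo, pow_one])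
      · refine le_trans ?_ (Subgroup.centralizer_le_normalizer _)
        rw [Subgroup.zpowers_le, Subgroup.mem_centralizer_iff]
        intro h hh
        obtain ⟨k, rfl⟩ := Subgroup.mem_zpowers_iff.mp hh
        exact (hxy.zpow_left k).eq
    obtain ⟨Q, hQ⟩ := hpg.exists_le_sylow
    have hQc : IsCyclic ↥(Q : Subgroup K) :=
      isCyclic_of_surjective (Sylow.equiv P Q).toMonoidHom (Sylow.equiv P Q).surjective
    have hyx := cyc_unique p (Q : Subgroup K) hQc x y
      (hQ (le_sup_left (a := Subgroup.zpowers x) (Subgroup.mem_zpowers x)))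
      (hQ (le_sup_right (b := Subgroup.zpowers y) (Subgroup.mem_zpowers y))) hxo hyo
    have hyL : y ∈ L := (Subgroup.zpowers_le.mpr hxL) hyx
    have hyc : (⟨y, hyL⟩ : L) ∈ Subgroup.center L := by
      rw [Subgroup.mem_center_iff]
      rintro ⟨a, ha⟩
      apply Subtype.ext
      show a * y = y * a
      have h1 := (Subgroup.mem_centralizer_iff.mp (hcomm ha)) y hyL'
      exact h1.symm
    rw [hcen L hL, Subgroup.mem_bot] at hyc
    have hy1 : y = 1 := congrArg Subtype.val hyc
    rw [hy1, orderOf_one] at hyo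
    exact hpp.one_lt.ne hyo
  have hlayer : Cfsg.layer K = L := by
    unfold Cfsg.layer
    apply le_antisymm
    · apply sSup_le
      intro L' hL'
      rw [huniq L' hL']
    · exact le_sSup hL
  have hFstar : Cfsg.generalizedFittingSubgroup K = L := by
    unfold Cfsg.generalizedFittingSubgroup
    rw [hlayer, hF, sup_bot_eq]
  rw [hFstar]
  haveI hLn : L.Normal := by
    rw [← hlayer]
    exact Lib.Helper2.Comp.layer_normal
  have hne := Lib.Helper2.PComp.quasisimple_ne_bot hL.2
  refine ⟨?_, ?_, ?_⟩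
  · haveI : Nontrivial L := (Subgroup.nontrivial_iff_ne_bot L).mpr hne
    exact
      { exists_pair_ne := exists_pair_ne L
        eq_bot_or_eq_top_of_normal := by
          intro H hH
          rcases Lib.Helper2.Quasi.normal_eq_top_or_le_center hL.2 H hH with h | h
          · right
            exact h
          · left
            rw [hcen L hL] at h
            exact le_bot_iff.mp h }
  · intro hcomm
    apply Lib.Helper2.Quasi.not_comm_of_quasisimple hL.2
    intro a b
    exact hcomm.is_comm.comm a b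
  · intro hdiv
    have hLp := pgroup_of_dvd_index p hO P hP L hdiv
    have hle := Lib.Helper2.Fit.le_pCore L hLn hLp
    rw [hOp, le_bot_iff] at hle
    exact hne hle

theorem result {K : Type*} [Group K] [Finite K] (p : ℕ) [Fact p.Prime] (hp : p ∣ Nat.card K) (hO : Cfsg.pPrimeCore p K = ⊥)
    (P : Sylow p K) (hP : IsCyclic ↥(P : Subgroup K)) :
    ((P : Subgroup K).Normal ∧ Subgroup.centralizer ((P : Subgroup K) : Set K) = (P : Subgroup K) ∧
      (∀ (_ : (P : Subgroup K).Normal), IsCyclic (K ⧸ (P : Subgroup K))) ∧ (P : Subgroup K).index ∣ p - 1) ∨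
    (IsSimpleGroup ↥(Cfsg.generalizedFittingSubgroup K) ∧ ¬ IsMulCommutative ↥(Cfsg.generalizedFittingSubgroup K) ∧
      ¬ p ∣ (Cfsg.generalizedFittingSubgroup K).index) := by
  by_cases hOp : Cfsg.pCore p K = ⊥
  · right
    exact caseB p hp hO P hP hOp
  · left
    exact caseA p hO P hP hOp

end Cfsg.Agent.S4403
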