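import Cfsg.Statements.S4477

import Mathlib
import Cfsg.Agent.S0112
import Cfsg.Agent.S4155
import Cfsg.Agent.Lib.Helper1.UniqP
import Cfsg.Agent.Lib.Helper1.MaxCl2

set_option autoImplicit false
open Cfsg
open scoped Pointwise

namespace Cfsg.Agent.S4477

open Cfsg.Agent.Lib.Helper1
open scoped commutatorElement

universe u

theorem odd_pow_eq_one {M : Type*} [Monoid M] (x : M) (q e : ℕ) (h1 : x ^ (2 * q + 1) = 1)
    (h2 : x ^ (2 ^ e) = 1) : x = 1 := by
  have h := pow_gcd_eq_one.mpr ⟨h1, h2⟩
  have hc : Nat.Coprime (2 * q + 1) (2 ^ e) :=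
    Nat.Coprime.pow_right e (Nat.coprime_two_right.mpr ⟨q, rfl⟩)
  rwa [hc.gcd_eq_one, pow_one] at h

theorem pow_comm_mem {G : Type*} [Group G] (A : Subgroup G) [A.Normal] (y : G)
    (h : ∀ x : G, y * x * y⁻¹ * x⁻¹ ∈ A) (k : ℕ) :
    ∀ x : G, y ^ k * x * (y ^ k)⁻¹ * x⁻¹ ∈ A := by
  induction k with
  | zero => intro x; simp
  | succ k ih =>
    intro x
    have h1 : y ^ (k + 1) * x * (y ^ (k + 1))⁻¹ * x⁻¹ =
        (y ^ k * (y * x * y⁻¹ * x⁻¹) * (y ^ k)⁻¹) * (y ^ k * x * (y ^ k)⁻¹ * x⁻¹) := by
      rw [pow_succ]; group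
    rw [h1]
    exact A.mul_mem (Subgroup.Normal.conj_mem inferInstance _ (h x) _) (ih x)

theorem index_le_of_cent {G : Type*} [Group G] [Finite G] (t : G)
    (h : Nat.card (Subgroup.centralizer ({t} : Set G)) ≤ 4) : (commutator G).index ≤ 4 := by
  have h1 := S0112.card_le_of_comm_mem (⊤ : Subgroup G) (commutator G) t (by
    intro g _
    rw [commutator_def]
    exact Subgroup.commutator_mem_commutator (Subgroup.mem_top g) (Subgroup.mem_top t))
  rw [top_inf_eq, Subgroup.card_top] at h1
  have h2 := Subgroup.card_mul_index (commutator G)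
  have hpos : 0 < Nat.card (commutator G) := Nat.card_pos
  by_contra hcon
  push_neg at hcon
  have h3 : Nat.card (commutator G) * 4 < Nat.card (commutator G) * (commutator G).index :=
    Nat.mul_lt_mul_of_pos_left hcon hpos
  have h4 : Nat.card (commutator G) * Nat.card (Subgroup.centralizer ({t} : Set G)) ≤
      Nat.card (commutator G) * 4 := Nat.mul_le_mul_left _ h
  linarith

theorem ncyc : ∀ (n : ℕ) (G : Type u) [Group G] [Finite G], Nat.card G = 2 ^ n →
    (commutator G).index ≤ 2 → IsCyclic G := by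
  intro n
  induction n using Nat.strong_induction_on with
  | _ n ih =>
    intro G _ _ hcard hidx
    haveI : Fact (Nat.Prime 2) := ⟨Nat.prime_two⟩
    have hGp : IsPGroup 2 G := IsPGroup.of_card hcard
    haveI : Group.IsNilpotent G := hGp.isNilpotent
    by_cases hbot : commutator G = ⊥
    · rw [hbot, Subgroup.index_bot, hcard] at hidx
      have hn : n ≤ 1 := by
        by_contra h; push_neg at h
        have : 2 ^ 2 ≤ 2 ^ n := Nat.pow_le_pow_right (by norm_num) h
        omega
      interval_cases n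
      · haveI : Subsingleton G := (Nat.card_eq_one_iff_unique.mp (by simpa using hcard)).1
        exact isCyclic_of_subsingleton
      · exact isCyclic_of_prime_card (p := 2) (by simpa using hcard)
    · exfalso
      obtain ⟨v, hv, hvc, hv1⟩ := S4155.normal_inf_center (commutator G) hbot
      obtain ⟨N, hN⟩ : ∃ N : Subgroup G, N = Subgroup.zpowers v := ⟨_, rfl⟩
      have hNc : N ≤ Subgroup.center G := by rw [hN]; exact (Subgroup.zpowers_le).2 hvc
      haveI : N.Normal := ⟨by
        intro x hx g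
        have := Subgroup.mem_center_iff.mp (hNc hx) g
        have h2 : g * x * g⁻¹ = x := by rw [this]; group
        rw [h2]; exact hx⟩
      have hNcomm : N ≤ commutator G := by rw [hN]; exact (Subgroup.zpowers_le).2 hv
      have h1 := MaxCl.index_commutator_quot N hNcomm
      have hcq : Nat.card (G ⧸ N) ∣ 2 ^ n := by
        rw [← hcard, ← Subgroup.index_eq_card]; exact Subgroup.index_dvd_card N
      obtain ⟨k, hk, hk2⟩ := (Nat.dvd_prime_pow Nat.prime_two).1 hcq
      have hNcard : 2 ≤ Nat.card N := by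
        rw [hN, Nat.card_zpowers]
        have h0 : 0 < orderOf v := orderOf_pos v
        have h1' : orderOf v ≠ 1 := fun h => hv1 (orderOf_eq_one_iff.mp h)
        omega
      have hmul := Subgroup.card_mul_index N
      rw [Subgroup.index_eq_card, hk2, hcard] at hmul
      have hklt : k < n := by
        by_contra h; push_neg at h
        have h2 : 2 ^ n ≤ 2 ^ k := Nat.pow_le_pow_right (by norm_num) h
        have h3 : 0 < 2 ^ n := by positivity
        nlinarith
      haveI := ih k hklt (G ⧸ N) hk2 (by rw [h1]; exact hidx)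
      have hab := MaxCl.comm_of_cyclic_quot N hNc
      exact hbot (MaxCl.commutator_eq_bot_of_comm hab)



theorem sq_mul' {G : Type*} [Group G] (c y : G) (h : c * y = y * c) :
    c * y * (c * y) = c * c * (y * y) := by
  calc c * y * (c * y) = c * (y * c) * y := by group
    _ = c * (c * y) * y := by rw [h]
    _ = c * c * (y * y) := by group

theorem lemmaA {G : Type u} [Group G] [Finite G] (hG : IsPGroup 2 G)
    (hNF : ¬ ∃ z u : G, (∀ g : G, g * z = z * g) ∧ z ≠ 1 ∧ z * z = 1 ∧ u * u = 1 ∧ u ≠ 1 ∧ u ≠ z ∧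
      ∀ x : G, x * u * x⁻¹ = u ∨ x * u * x⁻¹ = u * z) :
    IsCyclic G ∨ (commutator G).index = 4 := by
  classical
  haveI : Fact (Nat.Prime 2) := ⟨Nat.prime_two⟩
  haveI : Group.IsNilpotent G := hG.isNilpotent
  haveI : Nonempty {B : Subgroup G // B.Normal ∧ ∀ a ∈ B, ∀ b ∈ B, a * b = b * a} :=
    ⟨⟨⊥, inferInstance, by
      intro a ha b hb
      rw [Subgroup.mem_bot] at ha hb
      rw [ha, hb]⟩⟩
  obtain ⟨⟨A, hAn, hAc⟩, hmaxc⟩ := Finite.exists_max
    (fun B : {B : Subgroup G // B.Normal ∧ ∀ a ∈ B, ∀ b ∈ B, a * b = b * a} => Nat.card B.1)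
  have hmax : ∀ B : Subgroup G, B.Normal → (∀ a ∈ B, ∀ b ∈ B, a * b = b * a) → A ≤ B → B = A := by
    intro B hBn hBc hAB
    exact (Subgroup.eq_of_le_of_card_ge hAB (hmaxc ⟨B, hBn, hBc⟩)).symm
  haveI := hAn
  have hcent := UniqP.cent_le_of_max hG A hAc hmax
  -- unique involution in A
  have huniqA : ∀ x ∈ A, ∀ y ∈ A, x * x = 1 → y * y = 1 → x ≠ 1 → y ≠ 1 → x = y := by
    intro x hx y hy hx2 hy2 hx1 hy1
    by_contra hxy
    apply hNF
    let Ω : Subgroup G :=
      { carrier := {w | w ∈ A ∧ w * w = 1}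
        mul_mem' := by
          rintro a b ⟨ha, ha2⟩ ⟨hb, hb2⟩
          refine ⟨A.mul_mem ha hb, ?_⟩
          rw [sq_mul' a b (hAc a ha b hb), ha2, hb2, mul_one]
        one_mem' := ⟨A.one_mem, mul_one 1⟩
        inv_mem' := by
          rintro a ⟨ha, ha2⟩
          refine ⟨A.inv_mem ha, ?_⟩
          rw [← mul_inv_rev, ha2, inv_one] }
    have hΩmem : ∀ w, w ∈ Ω ↔ w ∈ A ∧ w * w = 1 := fun w => Iff.rfl
    haveI hΩn : Ω.Normal := ⟨by
      intro w hw g
      rw [hΩmem] at hw ⊢
      refine ⟨hAn.conj_mem w hw.1 g, ?_⟩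
      calc g * w * g⁻¹ * (g * w * g⁻¹) = g * (w * w) * g⁻¹ := by group
        _ = 1 := by rw [hw.2]; group⟩
    have hΩbot : Ω ≠ ⊥ := by
      intro h
      have : x ∈ Ω := (hΩmem x).2 ⟨hx, hx2⟩
      rw [h, Subgroup.mem_bot] at this
      exact hx1 this
    obtain ⟨z, hzΩ, hzc, hz1⟩ := S4155.normal_inf_center Ω hΩbot
    have hz2 : z * z = 1 := ((hΩmem z).1 hzΩ).2
    have hzc' : ∀ g : G, g * z = z * g := fun g => Subgroup.mem_center_iff.mp hzc g
    have hzp : ∀ w ∈ Subgroup.zpowers z, w = 1 ∨ w = z := by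
      intro w hw
      obtain ⟨k, rfl⟩ := Subgroup.mem_zpowers_iff.1 hw
      rcases Int.even_or_odd' k with ⟨j, rfl | rfl⟩
      · left; rw [zpow_mul, zpow_two, hz2, one_zpow]
      · right; rw [zpow_add, zpow_mul, zpow_two, hz2, one_zpow, one_mul, zpow_one]
    have hΩnot : ¬ Ω ≤ Subgroup.zpowers z := by
      intro hle
      have h1 := hzp x (hle ((hΩmem x).2 ⟨hx, hx2⟩))
      have h2 := hzp y (hle ((hΩmem y).2 ⟨hy, hy2⟩))
      rcases h1 with h1 | h1
      · exact hx1 h1
      rcases h2 with h2 | h2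
      · exact hy1 h2
      exact hxy (h1.trans h2.symm)
    obtain ⟨u, huΩ, huz, hucomm⟩ := UniqP.nil_step (Subgroup.zpowers z) Ω hΩnot
    have hu2 : u * u = 1 := ((hΩmem u).1 huΩ).2
    have huinv : u⁻¹ = u := inv_eq_of_mul_eq_one_right hu2
    refine ⟨z, u, hzc', hz1, hz2, hu2, ?_, ?_, ?_⟩
    · intro h; apply huz; rw [h]; exact Subgroup.one_mem _
    · intro h; apply huz; rw [h]; exact Subgroup.mem_zpowers z
    · intro g
      have h1 : g * u⁻¹ * g⁻¹ = u⁻¹ * (u * g * u⁻¹ * g⁻¹) := by group
      rw [huinv] at h1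
      rcases hzp _ (hucomm g) with h | h
      · left; rw [h1]; rw [huinv] at h; rw [h, mul_one]
      · right; rw [h1]; rw [huinv] at h; rw [h]
  -- A is cyclic
  obtain ⟨a, haA, hAa⟩ : ∃ a ∈ A, A = Subgroup.zpowers a := by
    have key : ∀ L : Subgroup A, Nat.card L = 2 →
        ∃ l : A, l ≠ 1 ∧ (l : G) * (l : G) = 1 ∧ L = Subgroup.zpowers l := by
      intro L hL
      haveI : Nontrivial L := by rw [← Finite.one_lt_card_iff_nontrivial, hL]; norm_num
      obtain ⟨l, hl⟩ := exists_ne (1 : L)
      have hl2 : l ^ 2 = 1 := by rw [← hL]; exact pow_card_eq_one'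
      have hl2' : (l : A) ^ 2 = 1 := by
        have := congrArg Subtype.val hl2
        simpa using this
      have hl1 : (l : A) ≠ 1 := fun h => hl (Subtype.ext h)
      refine ⟨l.1, hl1, ?_, ?_⟩
      · have := congrArg Subtype.val hl2'
        rw [pow_two] at this
        simpa using this
      · symm
        apply Subgroup.eq_of_le_of_card_ge ((Subgroup.zpowers_le).2 l.2)
        rw [hL, Nat.card_zpowers, orderOf_eq_prime hl2' hl1]
    have huniq' : ∀ H K : Subgroup A, Nat.card H = 2 → Nat.card K = 2 → H = K := by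
      intro H K hH hK
      obtain ⟨h, hh1, hh2, rfl⟩ := key H hH
      obtain ⟨k, hk1, hk2, rfl⟩ := key K hK
      have : (h : G) = (k : G) := huniqA h h.2 k k.2 hh2 hk2
        (fun e => hh1 (Subtype.ext e)) (fun e => hk1 (Subtype.ext e))
      rw [Subtype.ext this]
    obtain ⟨a', -, ha'⟩ := UniqP.exists_gen_of_comm (G := A) (p := 2) (hG.to_subgroup A) huniq' ⊤ (by
      intro x _ y _
      exact Subtype.ext (hAc x x.2 y y.2))
    refine ⟨a', a'.2, ?_⟩
    apply le_antisymm
    · intro x hx
      have : (⟨x, hx⟩ : A) ∈ Subgroup.zpowers a' := by rw [← ha']; exact Subgroup.mem_top _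
      obtain ⟨k, hk⟩ := Subgroup.mem_zpowers_iff.1 this
      rw [Subgroup.mem_zpowers_iff]
      exact ⟨k, by have := congrArg Subtype.val hk; simpa using this⟩
    · exact (Subgroup.zpowers_le).2 a'.2
  subst hAa
  by_cases htop : Subgroup.zpowers a = ⊤
  · left; exact isCyclic_iff_exists_zpowers_eq_top.mpr ⟨a, htop⟩
  right
  obtain ⟨b, hb⟩ : ∃ b, b ∉ Subgroup.zpowers a := by
    by_contra h; push_neg at h; exact htop (eq_top_iff.2 fun x _ => h x)
  obtain ⟨n, hn⟩ := UniqP.orderOf_eq_pow hG a
  have hpowA : ∀ y ∈ Subgroup.zpowers a, ∃ k : ℕ, y = a ^ k := by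
    intro y hy
    have := (mem_powers_iff_mem_zpowers).2 hy
    obtain ⟨k, hk⟩ := (Submonoid.mem_powers_iff _ _).mp this
    exact ⟨k, hk.symm⟩
  have hinvc : ∀ c ∈ Subgroup.zpowers a, c * c = 1 → c ≠ 1 → ∀ g : G, g * c = c * g := by
    intro c hc hc2 hc1 g
    have h1 : g * c * g⁻¹ = c := by
      apply huniqA _ (hAn.conj_mem c hc g) c hc
      · calc g * c * g⁻¹ * (g * c * g⁻¹) = g * (c * c) * g⁻¹ := by group
          _ = 1 := by rw [hc2]; group
      · exact hc2
      · intro h; apply hc1
        calc c = g⁻¹ * (g * c * g⁻¹) * g := by group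
          _ = 1 := by rw [h]; group
      · exact hc1
    calc g * c = (g * c * g⁻¹) * g := by group
      _ = c * g := by rw [h1]
  have hn2 : 2 ≤ n := by
    by_contra hlt; push_neg at hlt
    have ha2 : a * a = 1 := by
      rw [← pow_two]
      have : orderOf a ∣ 2 := by
        rw [hn]; interval_cases n <;> norm_num
      exact orderOf_dvd_iff_pow_eq_one.1 this
    have hac : ∀ g : G, g * a = a * g := by
      intro g
      by_cases ha1 : a = 1
      · rw [ha1, mul_one, one_mul]
      · exact hinvc a (Subgroup.mem_zpowers a) ha2 ha1 g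
    apply hb
    apply hcent
    rw [Subgroup.mem_centralizer_iff]
    intro y hy
    obtain ⟨k, rfl⟩ := hpowA y hy
    exact ((show Commute a b from (hac b).symm).pow_left k).eq
  obtain ⟨m, rfl⟩ : ∃ m, n = m + 2 := ⟨n - 2, by omega⟩
  have haN : a ^ (2 ^ (m + 2)) = 1 := by rw [← hn]; exact pow_orderOf_eq_one a
  obtain ⟨v, hv⟩ : ∃ v, v = a ^ (2 ^ m) := ⟨_, rfl⟩
  have hv4 : v ^ 4 = 1 := by
    rw [hv, ← pow_mul]
    have : 2 ^ m * 4 = 2 ^ (m + 2) := by ring
    rw [this]; exact haN
  have hv2 : v ^ 2 ≠ 1 := by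
    rw [hv, ← pow_mul]
    intro h
    have h1 := orderOf_dvd_of_pow_eq_one h
    rw [hn] at h1
    have h2 := Nat.le_of_dvd (by positivity) h1
    have h3 : 2 ^ (m + 2) = 2 ^ m * 4 := by ring
    have h4 : 0 < 2 ^ m := by positivity
    omega
  have hvA : v ∈ Subgroup.zpowers a := by rw [hv]; exact Subgroup.pow_mem _ (Subgroup.mem_zpowers a) _
  have hov : orderOf v = 4 := by
    have := orderOf_eq_prime_pow (p := 2) (n := 1) (x := v) (by simpa using hv2) (by simpa using hv4)
    simpa using this
  have hconj_pow : ∀ (x c : G), c ∈ Subgroup.zpowers a → x * a * x⁻¹ = a * c →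
      ∀ k : ℕ, x * a ^ k * x⁻¹ = a ^ k * c ^ k := by
    intro x c hc hx k
    rw [← conj_pow, hx]
    exact (show Commute a c from hAc a (Subgroup.mem_zpowers a) c hc).mul_pow k
  have hcx : ∀ x : G, a⁻¹ * (x * a * x⁻¹) ∈ Subgroup.zpowers a := fun x =>
    Subgroup.mul_mem _ (Subgroup.inv_mem _ (Subgroup.mem_zpowers a))
      (hAn.conj_mem a (Subgroup.mem_zpowers a) x)
  have hxa : ∀ x : G, x * a * x⁻¹ = a * (a⁻¹ * (x * a * x⁻¹)) := fun x =>
    (mul_inv_cancel_left a _).symm
  -- conjugates of v
  have hvconj : ∀ x : G, ∃ j : ℕ, a⁻¹ * (x * a * x⁻¹) = a ^ j ∧ x * v * x⁻¹ = v * v ^ j := by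
    intro x
    obtain ⟨j, hj⟩ := hpowA _ (hcx x)
    refine ⟨j, hj, ?_⟩
    have h1 := hconj_pow x _ (hcx x) (hxa x) (2 ^ m)
    rw [hj, ← pow_mul, mul_comm j, pow_mul, ← hv] at h1
    exact h1
  by_cases hR : ∃ g, g ∉ Subgroup.zpowers a ∧ g * v * g⁻¹ = v
  · exfalso
    apply hNF
    obtain ⟨g₀, hg₀A, hg₀v⟩ := hR
    haveI hVn : (Subgroup.zpowers v).Normal := ⟨by
      intro w hw x
      obtain ⟨i, rfl⟩ := Subgroup.mem_zpowers_iff.1 hw
      obtain ⟨j, -, hj⟩ := hvconj x
      rw [← conj_zpow, hj]
      exact Subgroup.zpow_mem _ (Subgroup.mul_mem _ (Subgroup.mem_zpowers v)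
        (Subgroup.pow_mem _ (Subgroup.mem_zpowers v) j)) i⟩
    have hRmem : ∀ g : G, g * v * g⁻¹ = v →
        g ∈ Subgroup.centralizer (Subgroup.zpowers v : Set G) := by
      intro g hg
      have hgv : g * v = v * g := by
        calc g * v = (g * v * g⁻¹) * g := by group
          _ = v * g := by rw [hg]
      rw [Subgroup.mem_centralizer_iff]
      intro w hw
      obtain ⟨i, rfl⟩ := Subgroup.mem_zpowers_iff.1 hw
      exact ((show Commute v g from hgv.symm).zpow_left i).eq
    have hRnot : ¬ Subgroup.centralizer (Subgroup.zpowers v : Set G) ≤ Subgroup.zpowers a :=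
      fun hle => hg₀A (hle (hRmem g₀ hg₀v))
    obtain ⟨g₁, hg₁R, hg₁A, hg₁c⟩ := UniqP.nil_step (Subgroup.zpowers a)
      (Subgroup.centralizer (Subgroup.zpowers v : Set G)) hRnot
    obtain ⟨j₀, hj₀, hj₀'⟩ := UniqP.exists_pow_mem hG (Subgroup.zpowers a) g₁ hg₁A
    obtain ⟨g, hg⟩ : ∃ g, g = g₁ ^ 2 ^ j₀ := ⟨_, rfl⟩
    have hgA : g ∉ Subgroup.zpowers a := by rw [hg]; exact hj₀
    have hgg : g * g ∈ Subgroup.zpowers a := by
      rw [hg, ← pow_add, ← two_mul, ← pow_succ']; exact hj₀'
    have hgR : g ∈ Subgroup.centralizer (Subgroup.zpowers v : Set G) := by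
      rw [hg]; exact Subgroup.pow_mem _ hg₁R _
    have hgv : g * v = v * g := by
      rw [Subgroup.mem_centralizer_iff] at hgR
      exact (hgR v (Subgroup.mem_zpowers v)).symm
    have hgP : ∀ x : G, g * x * g⁻¹ * x⁻¹ ∈ Subgroup.zpowers a := by
      intro x; rw [hg]; exact pow_comm_mem _ g₁ hg₁c _ x
    have hgQ : ∀ x : G, g⁻¹ * (x * g * x⁻¹) ∈ Subgroup.zpowers a := by
      intro x
      have h1 := Subgroup.inv_mem _ (hgP x)
      have h2 := hAn.conj_mem _ h1 g⁻¹
      have h3 : g⁻¹ * (g * x * g⁻¹ * x⁻¹)⁻¹ * g⁻¹⁻¹ = g⁻¹ * (x * g * x⁻¹) := by group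
      rw [h3] at h2; exact h2
    obtain ⟨c, hc⟩ : ∃ c, c = a⁻¹ * (g * a * g⁻¹) := ⟨_, rfl⟩
    have hcA : c ∈ Subgroup.zpowers a := by rw [hc]; exact hcx g
    have hga : g * a * g⁻¹ = a * c := by rw [hc]; exact hxa g
    have hact := hconj_pow g c hcA hga
    have hc1 : c ≠ 1 := by
      intro h
      rw [h, mul_one] at hga
      apply hgA
      apply hcent
      rw [Subgroup.mem_centralizer_iff]
      intro y hy
      obtain ⟨k, rfl⟩ := hpowA y hy
      have hag : a * g = g * a := by
        calc a * g = (g * a * g⁻¹) * g := by rw [hga]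
          _ = g * a := by group
      exact ((show Commute a g from hag).pow_left k).eq
    obtain ⟨mm, hmm⟩ := hpowA c hcA
    have h4mm : 4 ∣ mm := by
      have h1 := hact (2 ^ m)
      rw [← hv] at h1
      have h2 : g * v * g⁻¹ = v := by rw [hgv]; group
      rw [h2] at h1
      have h3 : c ^ 2 ^ m = 1 := mul_left_cancel (h1.symm.trans (mul_one v).symm)
      rw [hmm, ← pow_mul] at h3
      have h5 := orderOf_dvd_of_pow_eq_one h3
      rw [hn] at h5
      have h6 : 2 ^ (m + 2) = 4 * 2 ^ m := by ring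
      rw [h6] at h5
      exact Nat.dvd_of_mul_dvd_mul_right (by positivity) h5
    obtain ⟨j, hj⟩ := h4mm
    have hggc : (g * g) * a = a * (g * g) := hAc _ hgg a (Subgroup.mem_zpowers a)
    have hgc : g * c * g⁻¹ = c * c ^ mm := by
      have := hact mm
      rw [← hmm] at this
      exact this
    have hcpow : c ^ (mm + 2) = 1 := by
      have h1 : a = a * (c * (c * c ^ mm)) := by
        calc a = (g * g) * a * (g * g)⁻¹ := by rw [hggc]; group
          _ = g * (g * a * g⁻¹) * g⁻¹ := by group
          _ = g * (a * c) * g⁻¹ := by rw [hga]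
          _ = (g * a * g⁻¹) * (g * c * g⁻¹) := by group
          _ = a * c * (c * c ^ mm) := by rw [hga, hgc]
          _ = a * (c * (c * c ^ mm)) := mul_assoc _ _ _
      have h2 : c * (c * c ^ mm) = 1 := mul_left_cancel (h1.symm.trans (mul_one a).symm)
      have h2' : c ^ (mm + 2) = c * (c * c ^ mm) := by
        rw [add_comm, pow_add, pow_two, mul_assoc]
      rw [h2', h2]
    have hc2 : c * c = 1 := by
      obtain ⟨e, he⟩ := hG c
      have h1 : (c * c) ^ (2 * j + 1) = 1 := by
        rw [← pow_two, ← pow_mul]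
        have : 2 * (2 * j + 1) = mm + 2 := by rw [hj]; ring
        rw [this]; exact hcpow
      have h2 : (c * c) ^ (2 ^ e) = 1 := by
        rw [← pow_two, ← pow_mul, mul_comm, pow_mul, he, one_pow]
      exact odd_pow_eq_one (c * c) j e h1 h2
    have hcc := hinvc c hcA hc2 hc1
    have hcinv : c⁻¹ = c := inv_eq_of_mul_eq_one_right hc2
    have hceven : ∀ i : ℕ, c ^ (2 * i) = 1 := by
      intro i; rw [pow_mul, pow_two, hc2, one_pow]
    obtain ⟨w, hw⟩ : ∃ w, w = a ^ (2 * j) := ⟨_, rfl⟩
    have hwA : w ∈ Subgroup.zpowers a := by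
      rw [hw]; exact Subgroup.pow_mem _ (Subgroup.mem_zpowers a) _
    have hww : w * w = c := by
      rw [hw, ← pow_add, hmm, hj]; congr 1; ring
    have hgw : g * w = w * g := by
      have h1 := hact (2 * j)
      rw [hceven j, mul_one, ← hw] at h1
      calc g * w = (g * w * g⁻¹) * g := by group
        _ = w * g := by rw [h1]
    obtain ⟨e, he⟩ := hpowA _ hgg
    have heven : Even e := by
      by_contra hodd
      rw [Nat.not_even_iff_odd] at hodd
      obtain ⟨i, hi⟩ := hodd
      have h1 := hact e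
      rw [← he] at h1
      have h2 : g * (g * g) * g⁻¹ = g * g := by group
      rw [h2] at h1
      have h3 : c ^ e = 1 := mul_left_cancel (h1.symm.trans (mul_one _).symm)
      rw [hi, pow_succ, hceven i, one_mul] at h3
      exact hc1 h3
    obtain ⟨i, hi⟩ := heven
    obtain ⟨p, hp⟩ : ∃ p, p = a ^ i := ⟨_, rfl⟩
    have hpA : p ∈ Subgroup.zpowers a := by
      rw [hp]; exact Subgroup.pow_mem _ (Subgroup.mem_zpowers a) _
    have hgp : g * p * g⁻¹ = p * c ^ i := by rw [hp]; exact hact i
    have hggp : g * g = p * p := by rw [he, hi, pow_add, hp]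
    have hyy : (g * p⁻¹) * (g * p⁻¹) = (c ^ i)⁻¹ := by
      calc (g * p⁻¹) * (g * p⁻¹) = (g * p * g⁻¹)⁻¹ * (g * g) * p⁻¹ := by group
        _ = (p * c ^ i)⁻¹ * (p * p) * p⁻¹ := by rw [hgp, hggp]
        _ = (c ^ i)⁻¹ := by group
    have hex : ∃ s ∈ Subgroup.zpowers a, (g * s) * (g * s) = 1 := by
      rcases Nat.even_or_odd' i with ⟨l, rfl | rfl⟩
      · refine ⟨p⁻¹, Subgroup.inv_mem _ hpA, ?_⟩
        rw [hyy, hceven l, inv_one]
      · refine ⟨p⁻¹ * w, Subgroup.mul_mem _ (Subgroup.inv_mem _ hpA) hwA, ?_⟩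
        have hpw : p⁻¹ * w = w * p⁻¹ := hAc _ (Subgroup.inv_mem _ hpA) _ hwA
        have hcomm : (g * p⁻¹) * w = w * (g * p⁻¹) := by
          calc (g * p⁻¹) * w = g * (p⁻¹ * w) := mul_assoc _ _ _
            _ = g * (w * p⁻¹) := by rw [hpw]
            _ = (g * w) * p⁻¹ := (mul_assoc _ _ _).symm
            _ = (w * g) * p⁻¹ := by rw [hgw]
            _ = w * (g * p⁻¹) := mul_assoc _ _ _
        have h1 : g * (p⁻¹ * w) = (g * p⁻¹) * w := (mul_assoc _ _ _).symm
        rw [h1, sq_mul' _ _ hcomm, hyy, hww, pow_succ, hceven l, one_mul, hcinv, hc2]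
    obtain ⟨s, hsA, hts⟩ := hex
    obtain ⟨t, ht⟩ : ∃ t, t = g * s := ⟨_, rfl⟩
    rw [← ht] at hts
    have htA : t ∉ Subgroup.zpowers a := by
      intro h
      apply hgA
      have : g = t * s⁻¹ := by rw [ht]; group
      rw [this]; exact Subgroup.mul_mem _ h (Subgroup.inv_mem _ hsA)
    have htinv : t⁻¹ = t := inv_eq_of_mul_eq_one_right hts
    refine ⟨c, t, hcc, hc1, hc2, hts, ?_, ?_, ?_⟩
    · intro h; apply htA; rw [h]; exact Subgroup.one_mem _
    · intro h; apply htA; rw [h]; exact hcA
    · intro x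
      have hy'A : t⁻¹ * (x * t * x⁻¹) ∈ Subgroup.zpowers a := by
        have h1 : t⁻¹ * (x * t * x⁻¹) = s⁻¹ * (g⁻¹ * (x * g * x⁻¹)) * (x * s * x⁻¹) := by
          rw [ht]; group
        rw [h1]
        exact Subgroup.mul_mem _ (Subgroup.mul_mem _ (Subgroup.inv_mem _ hsA) (hgQ x))
          (hAn.conj_mem s hsA x)
      obtain ⟨k, hk⟩ := hpowA _ hy'A
      have hxt : x * t * x⁻¹ = t * a ^ k := by rw [← hk]; group
      have hsq : (t * a ^ k) * (t * a ^ k) = 1 := by
        rw [← hxt]
        calc x * t * x⁻¹ * (x * t * x⁻¹) = x * (t * t) * x⁻¹ := by group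
          _ = 1 := by rw [hts]; group
      have htk : t * a ^ k * t⁻¹ = a ^ k * c ^ k := by
        have hsk : s * a ^ k * s⁻¹ = a ^ k := by
          have := hAc s hsA (a ^ k) (Subgroup.pow_mem _ (Subgroup.mem_zpowers a) k)
          rw [this]; group
        calc t * a ^ k * t⁻¹ = g * (s * a ^ k * s⁻¹) * g⁻¹ := by rw [ht]; group
          _ = g * a ^ k * g⁻¹ := by rw [hsk]
          _ = a ^ k * c ^ k := hact k
      have hrel : a ^ k * c ^ k * a ^ k = 1 := by
        calc a ^ k * c ^ k * a ^ k = (t * a ^ k * t⁻¹) * a ^ k := by rw [htk]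
          _ = (t * a ^ k) * (t * a ^ k) := by rw [htinv]; group
          _ = 1 := hsq
      rcases Nat.even_or_odd' k with ⟨l, rfl | rfl⟩
      · rw [hceven l, mul_one] at hrel
        by_cases hk1 : a ^ (2 * l) = 1
        · left; rw [hxt, hk1, mul_one]
        · right
          rw [hxt]
          congr 1
          exact huniqA _ (Subgroup.pow_mem _ (Subgroup.mem_zpowers a) _) c hcA hrel hc2 hk1 hc1
      · exfalso
        rw [pow_succ c, hceven l, one_mul] at hrel
        have hck : c * a ^ (2 * l + 1) = a ^ (2 * l + 1) * c := (hcc _).symm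
        have h1 : a ^ (2 * l + 1) * a ^ (2 * l + 1) = c := by
          have h2 : a ^ (2 * l + 1) * a ^ (2 * l + 1) * c = 1 := by
            calc a ^ (2 * l + 1) * a ^ (2 * l + 1) * c
                = a ^ (2 * l + 1) * (a ^ (2 * l + 1) * c) := mul_assoc _ _ _
              _ = a ^ (2 * l + 1) * (c * a ^ (2 * l + 1)) := by rw [hck]
              _ = a ^ (2 * l + 1) * c * a ^ (2 * l + 1) := (mul_assoc _ _ _).symm
              _ = 1 := hrel
          have h3 := eq_inv_of_mul_eq_one_left h2
          rw [hcinv] at h3; exact h3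
        have h4 : (a ^ 4) ^ (2 * l + 1) = 1 := by
          have : (a ^ 4) ^ (2 * l + 1) =
              (a ^ (2 * l + 1) * a ^ (2 * l + 1)) * (a ^ (2 * l + 1) * a ^ (2 * l + 1)) := by
            rw [← pow_mul, ← pow_add, ← pow_add]; congr 1; ring
          rw [this, h1, hc2]
        have h5 : (a ^ 4) ^ (2 ^ m) = 1 := by
          rw [← pow_mul]
          have : 4 * 2 ^ m = 2 ^ (m + 2) := by ring
          rw [this]; exact haN
        have h6 : a ^ 4 = 1 := odd_pow_eq_one (a ^ 4) l m h4 h5
        apply hc1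
        rw [hmm, hj, pow_mul, h6, one_pow]
  · push_neg at hR
    have hvv : ∀ x : G, x * v * x⁻¹ = v ∨ x * v * x⁻¹ = v⁻¹ := by
      intro x
      obtain ⟨j, -, hj⟩ := hvconj x
      rw [← pow_succ', pow_eq_pow_mod (j + 1) hv4] at hj
      have hlt : (j + 1) % 4 < 4 := Nat.mod_lt _ (by norm_num)
      obtain ⟨r, hr⟩ : ∃ r, r = (j + 1) % 4 := ⟨_, rfl⟩
      rw [← hr] at hj hlt
      interval_cases r
      · exfalso
        rw [pow_zero] at hj
        have : v = 1 := by
          calc v = x⁻¹ * (x * v * x⁻¹) * x := by group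
            _ = 1 := by rw [hj]; group
        apply hv2; rw [this, one_pow]
      · left; rw [hj, pow_one]
      · exfalso
        apply hv2
        have h1 : x * v ^ 2 * x⁻¹ = 1 := by
          rw [← conj_pow, hj, ← pow_mul]; exact hv4
        calc v ^ 2 = x⁻¹ * (x * v ^ 2 * x⁻¹) * x := by group
          _ = 1 := by rw [h1]; group
      · right; rw [hj]
        apply eq_inv_of_mul_eq_one_left
        rw [← pow_succ]; exact hv4
    have hbv : b * v * b⁻¹ = v⁻¹ := by
      rcases hvv b with h | h
      · exact absurd h (hR b hb)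
      · exact h
    have hcos : ∀ h : G, h ∉ Subgroup.zpowers a → b⁻¹ * h ∈ Subgroup.zpowers a := by
      intro h hh
      by_contra hcon
      apply hR _ hcon
      have hhv : h * v * h⁻¹ = v⁻¹ := by
        rcases hvv h with h' | h'
        · exact absurd h' (hR h hh)
        · exact h'
      have hb' : b⁻¹ * v⁻¹ * b = v := by
        rw [← hbv]; group
      calc b⁻¹ * h * v * (b⁻¹ * h)⁻¹ = b⁻¹ * (h * v * h⁻¹) * b := by group
        _ = b⁻¹ * v⁻¹ * b := by rw [hhv]
        _ = v := hb'
    have hidx : (Subgroup.zpowers a).index = 2 := by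
      rw [Subgroup.index_eq_two_iff']
      refine ⟨b⁻¹, fun h => ?_⟩
      by_cases hh : h ∈ Subgroup.zpowers a
      · right
        refine ⟨hh, fun hc => hb ?_⟩
        have : b = h * (b⁻¹ * h)⁻¹ := by group
        rw [this]; exact Subgroup.mul_mem _ hh (Subgroup.inv_mem _ hc)
      · left; exact ⟨hcos h hh, hh⟩
    obtain ⟨mm, hmm, hmv⟩ := hvconj b
    have hcG : a⁻¹ * (b * a * b⁻¹) ∈ commutator G := by
      have : a⁻¹ * (b * a * b⁻¹) = ⁅a⁻¹, b⁆ := by rw [commutatorElement_def]; group
      rw [this, commutator_def]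
      exact Subgroup.commutator_mem_commutator (Subgroup.mem_top _) (Subgroup.mem_top _)
    rw [hmm] at hcG
    have hmm4 : ∃ q, mm = 4 * q + 2 := by
      rw [hbv] at hmv
      have h1 : v ^ (mm + 2) = 1 := by
        have e : v ^ (mm + 2) = v * (v * v ^ mm) := by
          rw [← mul_assoc, ← pow_two, ← pow_add, add_comm]
        rw [e, ← hmv]; exact mul_inv_cancel v
      have h2 := orderOf_dvd_of_pow_eq_one h1
      rw [hov] at h2
      obtain ⟨q, hq⟩ := h2
      refine ⟨q - 1, ?_⟩
      omega
    obtain ⟨q, hq⟩ := hmm4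
    have ha2 : a ^ 2 ∈ commutator G := by
      rw [← QuotientGroup.eq_one_iff]
      have h1 : ((a : G ⧸ commutator G)) ^ mm = 1 := by
        rw [← QuotientGroup.mk_pow]; exact (QuotientGroup.eq_one_iff _).mpr hcG
      have h2 : ((a : G ⧸ commutator G)) ^ (2 ^ (m + 2)) = 1 := by
        rw [← QuotientGroup.mk_pow, haN]; rfl
      rw [QuotientGroup.mk_pow]
      apply odd_pow_eq_one _ q (m + 1)
      · rw [← pow_mul]
        have : 2 * (2 * q + 1) = mm := by omega
        rw [this]; exact h1
      · rw [← pow_mul]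
        have : 2 * 2 ^ (m + 1) = 2 ^ (m + 2) := by ring
        rw [this]; exact h2
    have hle : Subgroup.zpowers (a ^ 2) ≤ commutator G := (Subgroup.zpowers_le).2 ha2
    have hdvd := Subgroup.index_dvd_of_le hle
    have hidx4 : (Subgroup.zpowers (a ^ 2)).index = 4 := by
      have h1 := Subgroup.card_mul_index (Subgroup.zpowers (a ^ 2))
      have h2 := Subgroup.card_mul_index (Subgroup.zpowers a)
      rw [hidx, Nat.card_zpowers, hn] at h2
      rw [Nat.card_zpowers, orderOf_pow_of_dvd (by norm_num)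
        (by rw [hn]; exact dvd_pow_self 2 (by omega)), hn, ← h2] at h1
      have h3 : 2 ^ (m + 2) / 2 = 2 ^ (m + 1) := by
        rw [pow_succ]; exact Nat.mul_div_cancel _ (by norm_num)
      rw [h3] at h1
      have h4 : 2 ^ (m + 2) * 2 = 2 ^ (m + 1) * 4 := by ring
      rw [h4] at h1
      exact Nat.eq_of_mul_eq_mul_left (by positivity) h1
    rw [hidx4] at hdvd
    have hle4 : (commutator G).index ≤ 4 := Nat.le_of_dvd (by norm_num) hdvd
    have hcases : (commutator G).index = 4 ∨ (commutator G).index ≤ 2 := by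
      have : (commutator G).index ≠ 3 := by intro h; rw [h] at hdvd; norm_num at hdvd
      omega
    rcases hcases with h | h
    · exact h
    · exfalso
      obtain ⟨N, hN⟩ := IsPGroup.iff_card.mp hG
      haveI := ncyc N G hN h
      apply hb
      apply hcent
      rw [Subgroup.mem_centralizer_iff]
      intro y _
      exact (inferInstance : IsMulCommutative G).is_comm.comm y b

theorem four_dvd {α : Type*} [DecidableEq α] (f g : α → α) (n : ℕ) :
    ∀ X : Finset α, X.card = n →
      (∀ x ∈ X, f x ∈ X ∧ g x ∈ X ∧ f (f x) = x ∧ g (g x) = x ∧ f (g x) = g (f x) ∧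
        f x ≠ x ∧ g x ≠ x ∧ f x ≠ g x) → 4 ∣ n := by
  induction n using Nat.strong_induction_on with
  | _ n ih =>
    intro X hX h
    rcases X.eq_empty_or_nonempty with rfl | ⟨x, hx⟩
    · rw [Finset.card_empty] at hX
      rw [← hX]; exact dvd_zero 4
    obtain ⟨hfx, hgx, hff, hgg, hfg, hf1, hg1, hfg1⟩ := h x hx
    obtain ⟨hfgx, -, hffg, -, hfgg, hfg2, -, -⟩ := h (g x) hgx
    have e1 : f (f (g x)) = g x := hffg
    have e2 : g (f (g x)) = f x := by rw [← hfgg, hgg]
    have e3 : g (f x) = f (g x) := hfg.symm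
    set O : Finset α := {x, f x, g x, f (g x)} with hO
    have hmemO : ∀ y, y ∈ O ↔ y = x ∨ y = f x ∨ y = g x ∨ y = f (g x) := by
      intro y; simp [hO]
    have hOX : O ⊆ X := by
      intro y hy
      rcases (hmemO y).1 hy with rfl | rfl | rfl | rfl <;> assumption
    have hOc : O.card = 4 := by
      rw [hO, Finset.card_insert_of_notMem, Finset.card_insert_of_notMem,
        Finset.card_insert_of_notMem, Finset.card_singleton]
      · simp only [Finset.mem_singleton]; exact fun h => hfg2 h.symm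
      · simp only [Finset.mem_insert, Finset.mem_singleton]
        rintro (h | h)
        · exact hfg1 h
        · apply hg1
          have := congrArg f h
          rw [hff, e1] at this
          exact this.symm
      · simp only [Finset.mem_insert, Finset.mem_singleton]
        rintro (h | h | h)
        · exact hf1 h.symm
        · exact hg1 h.symm
        · apply hfg1
          have := congrArg f h
          rw [e1] at this
          exact this
    have hfO : ∀ y ∈ O, f y ∈ O := by
      intro y hy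
      rw [hmemO]
      rcases (hmemO y).1 hy with rfl | rfl | rfl | rfl
      · right; left; rfl
      · left; exact hff
      · right; right; right; rfl
      · right; right; left; exact e1
    have hgO : ∀ y ∈ O, g y ∈ O := by
      intro y hy
      rw [hmemO]
      rcases (hmemO y).1 hy with rfl | rfl | rfl | rfl
      · right; right; left; rfl
      · right; right; right; exact e3
      · left; exact hgg
      · right; left; exact e2
    have hcard : (X \ O).card = n - 4 := by
      rw [Finset.card_sdiff_of_subset hOX, hX, hOc]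
    have hn4 : 4 ≤ n := by
      rw [← hX, ← hOc]; exact Finset.card_le_card hOX
    have h4 := ih (n - 4) (by omega) (X \ O) hcard (by
      intro y hy
      rw [Finset.mem_sdiff] at hy
      obtain ⟨a1, a2, a3, a4, a5, a6, a7, a8⟩ := h y hy.1
      refine ⟨?_, ?_, a3, a4, a5, a6, a7, a8⟩
      · rw [Finset.mem_sdiff]
        refine ⟨a1, fun hc => hy.2 ?_⟩
        have := hfO _ hc
        rwa [a3] at this
      · rw [Finset.mem_sdiff]
        refine ⟨a2, fun hc => hy.2 ?_⟩
        have := hgO _ hc
        rwa [a4] at this)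
    omega

theorem inv_count {G : Type*} [Group G] [DecidableEq G] (z : G) (hzc : ∀ g : G, g * z = z * g)
    (hz1 : z ≠ 1) (hz2 : z * z = 1) (X : Finset G) (hXz : ∀ c ∈ X, c * z ∈ X)
    (hXi : ∀ c ∈ X, c⁻¹ ∈ X) :
    X.card % 4 = ((X.filter (fun c => c * c = 1)).card +
      (X.filter (fun c => c * c = z)).card) % 4 := by
  have h1 := Finset.card_filter_add_card_filter_not (s := X) (fun c => c * c = 1)
  have h2 := Finset.card_filter_add_card_filter_not
    (s := X.filter (fun c => ¬ c * c = 1)) (fun c => c * c = z)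
  have h3 : (X.filter (fun c => ¬ c * c = 1)).filter (fun c => c * c = z) =
      X.filter (fun c => c * c = z) := by
    ext c; simp only [Finset.mem_filter]; constructor
    · rintro ⟨⟨h, -⟩, h'⟩; exact ⟨h, h'⟩
    · rintro ⟨h, h'⟩; exact ⟨⟨h, fun h'' => hz1 (h'.symm.trans h'')⟩, h'⟩
  have hzinv : z⁻¹ = z := inv_eq_of_mul_eq_one_right hz2
  have h4 : 4 ∣ ((X.filter (fun c => ¬ c * c = 1)).filter (fun c => ¬ c * c = z)).card := by
    apply four_dvd (fun c => c * z) (fun c => c⁻¹) _ _ rfl
    intro c hc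
    simp only [Finset.mem_filter] at hc ⊢
    obtain ⟨⟨hcX, hc1⟩, hcz⟩ := hc
    have hczz : c * z * (c * z) = c * c := by
      calc c * z * (c * z) = c * (z * c) * z := by group
        _ = c * (c * z) * z := by rw [← hzc c]
        _ = c * c * (z * z) := by group
        _ = c * c := by rw [hz2, mul_one]
    refine ⟨⟨⟨hXz c hcX, ?_⟩, ?_⟩, ⟨⟨hXi c hcX, ?_⟩, ?_⟩, ?_, inv_inv c, ?_, ?_, ?_, ?_⟩
    · rw [hczz]; exact hc1
    · rw [hczz]; exact hcz
    · intro h; apply hc1
      have : (c * c)⁻¹ = 1 := by rw [mul_inv_rev]; exact h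
      exact inv_eq_one.mp this
    · intro h; apply hcz
      have h' : (c * c)⁻¹ = z := by rw [mul_inv_rev]; exact h
      have : c * c = z⁻¹ := by rw [← h', inv_inv]
      rw [this]; exact hzinv
    · rw [mul_assoc, hz2, mul_one]
    · rw [mul_inv_rev, hzinv]; exact hzc c⁻¹
    · intro h; exact hz1 (mul_left_cancel (h.trans (mul_one c).symm))
    · intro h; apply hc1
      have : c⁻¹ * c = 1 := inv_mul_cancel c
      rw [h] at this; exact this
    · intro h; apply hcz
      have h' : c * c * z = 1 := by rw [mul_assoc, h, mul_inv_cancel]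
      have : c * c = z⁻¹ := eq_inv_of_mul_eq_one_left h'
      rw [this]; exact hzinv
  rw [h3] at h2
  omega



theorem comm_mul_z {G : Type*} [Group G] (z : G) (hzc : ∀ g : G, g * z = z * g) (c y : G)
    (h : c * y = y * c) : c * z * y = y * (c * z) := by
  calc c * z * y = c * (z * y) := mul_assoc _ _ _
    _ = c * (y * z) := by rw [hzc y]
    _ = c * y * z := (mul_assoc _ _ _).symm
    _ = y * c * z := by rw [h]
    _ = y * (c * z) := mul_assoc _ _ _

theorem comm_inv' {G : Type*} [Group G] (c y : G) (h : c * y = y * c) : c⁻¹ * y = y * c⁻¹ := by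
  calc c⁻¹ * y = c⁻¹ * (y * c) * c⁻¹ := by group
    _ = c⁻¹ * (c * y) * c⁻¹ := by rw [h]
    _ = y * c⁻¹ := by group

theorem sq_mul {G : Type*} [Group G] (c y : G) (h : c * y = y * c) :
    c * y * (c * y) = c * c * (y * y) := by
  calc c * y * (c * y) = c * (y * c) * y := by group
    _ = c * (c * y) * y := by rw [h]
    _ = c * c * (y * y) := by group

theorem count_nf {G : Type*} [Group G] [Finite G] (hG : IsPGroup 2 G) (z u : G)
    (hzc : ∀ g : G, g * z = z * g) (hz1 : z ≠ 1) (hz2 : z * z = 1) (hu2 : u * u = 1)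
    (hu1 : u ≠ 1) (huz : u ≠ z) (hconj : ∀ x : G, x * u * x⁻¹ = u ∨ x * u * x⁻¹ = u * z)
    (ht : Nat.card {x : G // orderOf x = 2} % 4 = 1) :
    ∃ t : G, Nat.card (Subgroup.centralizer ({t} : Set G)) ≤ 4 := by
  classical
  haveI : Fintype G := Fintype.ofFinite G
  haveI : Fact (Nat.Prime 2) := ⟨Nat.prime_two⟩
  have hzinv : z⁻¹ = z := inv_eq_of_mul_eq_one_right hz2
  have huinv : u⁻¹ = u := inv_eq_of_mul_eq_one_right hu2
  have hNC : ∀ s : G, ¬ s * u = u * s → s * u = u * z * s := by
    intro s hs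
    rcases hconj s with h | h
    · exfalso; apply hs
      calc s * u = (s * u * s⁻¹) * s := by group
        _ = u * s := by rw [h]
    · calc s * u = (s * u * s⁻¹) * s := by group
        _ = u * z * s := by rw [h]
  have hzyz : ∀ y : G, z * y * z = y := by
    intro y
    rw [← hzc y, mul_assoc, hz2, mul_one]
  -- Ω
  set Ω : Finset G := Finset.univ.filter (fun x => x * x = 1) with hΩ
  have hΩcard : Ω.card % 4 = 2 := by
    have h1 : Nat.card {x : G // orderOf x = 2} =
        (Finset.univ.filter (fun x : G => orderOf x = 2)).card := by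
      rw [← Fintype.card_subtype, Nat.card_eq_fintype_card]
    have h2 : Ω = insert 1 (Finset.univ.filter (fun x : G => orderOf x = 2)) := by
      ext x
      simp only [hΩ, Finset.mem_filter, Finset.mem_univ, true_and, Finset.mem_insert]
      constructor
      · intro h
        by_cases hx : x = 1
        · left; exact hx
        · right; exact orderOf_eq_prime (by rw [pow_two]; exact h) hx
      · rintro (rfl | h)
        · exact mul_one 1
        · rw [← pow_two, ← h]; exact pow_orderOf_eq_one x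
    have h3 : (1 : G) ∉ Finset.univ.filter (fun x : G => orderOf x = 2) := by
      simp
    rw [h2, Finset.card_insert_of_notMem h3, ← h1]
    omega
  have hsplit := Finset.card_filter_add_card_filter_not (s := Ω) (fun x => x * u = u * x)
  have hΩC : 4 ∣ (Ω.filter (fun x => x * u = u * x)).card := by
    apply four_dvd (fun c => c * z) (fun c => c * u) _ _ rfl
    intro x hx
    simp only [hΩ, Finset.mem_filter, Finset.mem_univ, true_and] at hx ⊢
    obtain ⟨hx2, hxu⟩ := hx
    refine ⟨⟨?_, ?_⟩, ⟨?_, ?_⟩, ?_, ?_, ?_, ?_, ?_, ?_⟩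
    · rw [sq_mul x z (hzc x), hx2, hz2, mul_one]
    · exact comm_mul_z z hzc x u hxu
    · rw [sq_mul x u hxu, hx2, hu2, mul_one]
    · calc x * u * u = u * x * u := by rw [hxu]
        _ = u * (x * u) := mul_assoc _ _ _
    · rw [mul_assoc, hz2, mul_one]
    · rw [mul_assoc, hu2, mul_one]
    · rw [mul_assoc, mul_assoc, hzc u]
    · intro h; exact hz1 (mul_left_cancel (h.trans (mul_one x).symm))
    · intro h; exact hu1 (mul_left_cancel (h.trans (mul_one x).symm))
    · intro h; exact huz (mul_left_cancel h).symm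
  rcases (Ω.filter (fun x => ¬ x * u = u * x)).eq_empty_or_nonempty with hJ | ⟨t, htJ⟩
  · exfalso
    rw [hJ, Finset.card_empty, add_zero] at hsplit
    omega
  simp only [hΩ, Finset.mem_filter, Finset.mem_univ, true_and] at htJ
  obtain ⟨ht2, htu⟩ := htJ
  have htinv : t⁻¹ = t := inv_eq_of_mul_eq_one_right ht2
  have K1 : t * u = u * z * t := hNC t htu
  have K2 : u * t = t * u * z := by
    calc u * t = t * t * (u * t) := by rw [ht2, one_mul]
      _ = t * (t * u) * t := by group
      _ = t * (u * z * t) * t := by rw [K1]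
      _ = t * u * z * (t * t) := by group
      _ = t * u * z := by rw [ht2, mul_one]
  refine ⟨t, ?_⟩
  -- S, T
  set S : Finset G := Finset.univ.filter (fun c => c * u = u * c ∧ t * c * t = c⁻¹) with hS
  set T : Finset G := Finset.univ.filter (fun c => c * u = u * c ∧ c * t = t * c) with hT
  have hJS : (Ω.filter (fun x => ¬ x * u = u * x)).card = S.card := by
    apply Finset.card_nbij' (fun s => t * s) (fun c => t * c)
    · intro s hs
      simp only [hΩ, hS, Finset.mem_filter, Finset.mem_univ, true_and, Finset.coe_filter,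
        Set.mem_setOf_eq] at hs ⊢
      obtain ⟨hs2, hsu⟩ := hs
      have NCs := hNC s hsu
      have hsinv : s⁻¹ = s := inv_eq_of_mul_eq_one_right hs2
      constructor
      · calc t * s * u = t * (s * u) := mul_assoc _ _ _
          _ = t * (u * z * s) := by rw [NCs]
          _ = (t * u) * z * s := by group
          _ = (u * z * t) * z * s := by rw [K1]
          _ = u * (z * t * z) * s := by group
          _ = u * t * s := by rw [hzyz t]
          _ = u * (t * s) := mul_assoc _ _ _
      · calc t * (t * s) * t = (t * t) * s * t := by group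
          _ = s * t := by rw [ht2, one_mul]
          _ = (t * s)⁻¹ := by rw [mul_inv_rev, hsinv, htinv]
    · intro c hc
      simp only [hΩ, hS, Finset.mem_filter, Finset.mem_univ, true_and, Finset.coe_filter,
        Set.mem_setOf_eq] at hc ⊢
      obtain ⟨hcu, hct⟩ := hc
      constructor
      · calc t * c * (t * c) = (t * c * t) * c := by group
          _ = 1 := by rw [hct, inv_mul_cancel]
      · intro h
        have e : t * c * u = u * z * (t * c) := by
          calc t * c * u = t * (c * u) := mul_assoc _ _ _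
            _ = t * (u * c) := by rw [hcu]
            _ = (t * u) * c := (mul_assoc _ _ _).symm
            _ = u * z * t * c := by rw [K1]
            _ = u * z * (t * c) := mul_assoc _ _ _
        rw [e] at h
        have h2 : u * z = u := mul_right_cancel h
        exact hz1 (mul_left_cancel (h2.trans (mul_one u).symm))
    · intro s _
      show t * (t * s) = s
      rw [← mul_assoc, ht2, one_mul]
    · intro c _
      show t * (t * c) = c
      rw [← mul_assoc, ht2, one_mul]
  have hS4 := inv_count z hzc hz1 hz2 S (by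
    intro c hc
    simp only [hS, Finset.mem_filter, Finset.mem_univ, true_and] at hc ⊢
    obtain ⟨hcu, hct⟩ := hc
    refine ⟨comm_mul_z z hzc c u hcu, ?_⟩
    calc t * (c * z) * t = (t * c * t) * (t⁻¹ * z * t) := by group
      _ = c⁻¹ * (t⁻¹ * z * t) := by rw [hct]
      _ = c⁻¹ * (t⁻¹ * (t * z)) := by rw [mul_assoc t⁻¹ z t, hzc t]
      _ = c⁻¹ * z := by rw [inv_mul_cancel_left]
      _ = z * c⁻¹ := hzc c⁻¹
      _ = (c * z)⁻¹ := by rw [mul_inv_rev, hzinv]) (by
    intro c hc
    simp only [hS, Finset.mem_filter, Finset.mem_univ, true_and] at hc ⊢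
    obtain ⟨hcu, hct⟩ := hc
    refine ⟨comm_inv' c u hcu, ?_⟩
    calc t * c⁻¹ * t = (t⁻¹ * c * t⁻¹)⁻¹ := by group
      _ = (t * c * t)⁻¹ := by rw [htinv]
      _ = c⁻¹⁻¹ := by rw [hct])
  have hT4 := inv_count z hzc hz1 hz2 T (by
    intro c hc
    simp only [hT, Finset.mem_filter, Finset.mem_univ, true_and] at hc ⊢
    exact ⟨comm_mul_z z hzc c u hc.1, comm_mul_z z hzc c t hc.2⟩) (by
    intro c hc
    simp only [hT, Finset.mem_filter, Finset.mem_univ, true_and] at hc ⊢
    exact ⟨comm_inv' c u hc.1, comm_inv' c t hc.2⟩)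
  have hST1 : S.filter (fun c => c * c = 1) = T.filter (fun c => c * c = 1) := by
    ext c
    simp only [hS, hT, Finset.mem_filter, Finset.mem_univ, true_and]
    constructor
    · rintro ⟨⟨hcu, hct⟩, hcc⟩
      refine ⟨⟨hcu, ?_⟩, hcc⟩
      have hcinv : c⁻¹ = c := inv_eq_of_mul_eq_one_right hcc
      rw [hcinv] at hct
      calc c * t = t * t * c * t := by rw [ht2, one_mul]
        _ = t * (t * c * t) := by group
        _ = t * c := by rw [hct]
    · rintro ⟨⟨hcu, hct⟩, hcc⟩
      refine ⟨⟨hcu, ?_⟩, hcc⟩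
      have hcinv : c⁻¹ = c := inv_eq_of_mul_eq_one_right hcc
      rw [hcinv]
      calc t * c * t = t * (c * t) := mul_assoc _ _ _
        _ = t * (t * c) := by rw [hct]
        _ = c := by rw [← mul_assoc, ht2, one_mul]
  have hST2 : (S.filter (fun c => c * c = z)).card = (T.filter (fun c => c * c = z)).card := by
    apply Finset.card_nbij' (fun c => c * u) (fun c => c * u)
    · intro c hc
      simp only [hS, hT, Finset.mem_filter, Finset.mem_univ, true_and, Finset.coe_filter,
        Set.mem_setOf_eq] at hc ⊢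
      obtain ⟨⟨hcu, hct⟩, hcc⟩ := hc
      have hcinv : c⁻¹ = c * z := by
        apply inv_eq_of_mul_eq_one_right
        rw [← mul_assoc, hcc, hz2]
      have hct' : c * t = t * c * z := by
        calc c * t = t * t * c * t := by rw [ht2, one_mul]
          _ = t * (t * c * t) := by group
          _ = t * (c * z) := by rw [hct, hcinv]
          _ = t * c * z := (mul_assoc _ _ _).symm
      refine ⟨⟨?_, ?_⟩, ?_⟩
      · calc c * u * u = u * c * u := by rw [hcu]
          _ = u * (c * u) := mul_assoc _ _ _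
      · calc c * u * t = c * (u * t) := mul_assoc _ _ _
          _ = c * (t * u * z) := by rw [K2]
          _ = (c * t) * u * z := by group
          _ = (t * c * z) * u * z := by rw [hct']
          _ = t * c * (z * u * z) := by group
          _ = t * c * u := by rw [hzyz u]
          _ = t * (c * u) := mul_assoc _ _ _
      · rw [sq_mul c u hcu, hcc, hu2, mul_one]
    · intro d hd
      simp only [hS, hT, Finset.mem_filter, Finset.mem_univ, true_and, Finset.coe_filter,
        Set.mem_setOf_eq] at hd ⊢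
      obtain ⟨⟨hdu, hdt⟩, hdd⟩ := hd
      have hdinv : d⁻¹ = d * z := by
        apply inv_eq_of_mul_eq_one_right
        rw [← mul_assoc, hdd, hz2]
      refine ⟨⟨?_, ?_⟩, ?_⟩
      · calc d * u * u = u * d * u := by rw [hdu]
          _ = u * (d * u) := mul_assoc _ _ _
      · calc t * (d * u) * t = t * d * (u * t) := by group
          _ = t * d * (t * u * z) := by rw [K2]
          _ = t * (d * t) * u * z := by group
          _ = t * (t * d) * u * z := by rw [hdt]
          _ = (t * t) * d * u * z := by group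
          _ = d * u * z := by rw [ht2, one_mul]
          _ = u * d * z := by rw [hdu]
          _ = u * (d * z) := mul_assoc _ _ _
          _ = (d * u)⁻¹ := by rw [mul_inv_rev, huinv, hdinv]
      · rw [sq_mul d u hdu, hdd, hu2, mul_one]
    · intro c _
      show c * u * u = c
      rw [mul_assoc, hu2, mul_one]
    · intro c _
      show c * u * u = c
      rw [mul_assoc, hu2, mul_one]
  have hTmod : T.card % 4 = 2 := by
    rw [hST1, hST2] at hS4
    rw [hJS] at hsplit
    omega
  -- T is a subgroup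
  set K : Subgroup G := Subgroup.centralizer ({u} : Set G) ⊓ Subgroup.centralizer ({t} : Set G)
    with hK
  have hKT : Nat.card K = T.card := by
    have h1 : T = Finset.univ.filter (fun x => x ∈ K) := by
      ext c
      simp only [hT, hK, Finset.mem_filter, Finset.mem_univ, true_and, Subgroup.mem_inf,
        Subgroup.mem_centralizer_singleton_iff]
    rw [h1, ← Fintype.card_subtype, Nat.card_eq_fintype_card]
  obtain ⟨k, hk⟩ := IsPGroup.iff_card.mp (hG.to_subgroup K)
  have hT2 : T.card = 2 := by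
    rw [← hKT, hk]
    rw [← hKT, hk] at hTmod
    rcases Nat.lt_or_ge k 2 with h | h
    · interval_cases k
      · norm_num at hTmod
      · norm_num
    · exfalso
      obtain ⟨j, rfl⟩ : ∃ j, k = j + 2 := ⟨k - 2, by omega⟩
      have : 2 ^ (j + 2) = 4 * 2 ^ j := by ring
      omega
  -- centralizer of t
  have hCt : Nat.card (Subgroup.centralizer ({t} : Set G)) =
      (Finset.univ.filter (fun x : G => x * t = t * x)).card := by
    have h1 : Finset.univ.filter (fun x : G => x * t = t * x) =
        Finset.univ.filter (fun x => x ∈ Subgroup.centralizer ({t} : Set G)) := by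
      ext c
      simp only [Finset.mem_filter, Finset.mem_univ, true_and,
        Subgroup.mem_centralizer_singleton_iff]
    rw [h1, ← Fintype.card_subtype, Nat.card_eq_fintype_card]
  rw [hCt]
  have hsp := Finset.card_filter_add_card_filter_not
    (s := Finset.univ.filter (fun x : G => x * t = t * x)) (fun x => x * u = u * x)
  have hA : ((Finset.univ.filter (fun x : G => x * t = t * x)).filter
      (fun x => x * u = u * x)).card ≤ T.card := by
    apply Finset.card_le_card
    intro c hc
    simp only [hT, Finset.mem_filter, Finset.mem_univ, true_and] at hc ⊢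
    exact ⟨hc.2, hc.1⟩
  have hB : ((Finset.univ.filter (fun x : G => x * t = t * x)).filter
      (fun x => ¬ x * u = u * x)).card ≤ T.card := by
    apply Finset.card_le_card_of_injOn (fun x => x * t)
    · intro c hc
      simp only [hT, Finset.mem_filter, Finset.mem_univ, true_and, Finset.coe_filter,
        Set.mem_setOf_eq] at hc ⊢
      obtain ⟨hct, hcu⟩ := hc
      have NCc := hNC c hcu
      constructor
      · calc c * t * u = c * (t * u) := mul_assoc _ _ _
          _ = c * (u * z * t) := by rw [K1]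
          _ = (c * u) * z * t := by group
          _ = (u * z * c) * z * t := by rw [NCc]
          _ = u * (z * c * z) * t := by group
          _ = u * c * t := by rw [hzyz c]
          _ = u * (c * t) := mul_assoc _ _ _
      · calc c * t * t = t * c * t := by rw [hct]
          _ = t * (c * t) := mul_assoc _ _ _
    · intro a _ b _ hab
      exact mul_right_cancel hab
  omega

theorem result {G : Type*} [Group G] [Finite G] (hG : IsPGroup 2 G) (ht : Nat.card {x : G // orderOf x = 2} % 4 = 1) : IsCyclic G ∨ (commutator G).index = 4 := by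
  haveI : Fact (Nat.Prime 2) := ⟨Nat.prime_two⟩
  by_cases hNF : ∃ z u : G, (∀ g : G, g * z = z * g) ∧ z ≠ 1 ∧ z * z = 1 ∧ u * u = 1 ∧ u ≠ 1 ∧
      u ≠ z ∧ ∀ x : G, x * u * x⁻¹ = u ∨ x * u * x⁻¹ = u * z
  · obtain ⟨z, u, hzc, hz1, hz2, hu2, hu1, huz, hconj⟩ := hNF
    obtain ⟨t, ht4⟩ := count_nf hG z u hzc hz1 hz2 hu2 hu1 huz hconj ht
    have h4 := index_le_of_cent t ht4
    obtain ⟨N, hN⟩ := IsPGroup.iff_card.mp hG
    have hdvd : (commutator G).index ∣ 2 ^ N := by
      rw [← hN]; exact Subgroup.index_dvd_card _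
    obtain ⟨k, -, hk⟩ := (Nat.dvd_prime_pow Nat.prime_two).1 hdvd
    rcases Nat.lt_or_ge k 2 with hk2 | hk2
    · left
      apply ncyc N G hN
      rw [hk]
      interval_cases k <;> norm_num
    · right
      rw [hk] at h4 ⊢
      have hk3 : k = 2 := by
        by_contra hne
        have : 2 ^ 3 ≤ 2 ^ k := Nat.pow_le_pow_right (by norm_num) (by omega)
        omega
      rw [hk3]; norm_num
  · exact lemmaA hG hNF

end Cfsg.Agent.S4477
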