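import Cfsg.Statements.S0519

import Mathlib
import Cfsg.Agent.S4477
import Cfsg.Agent.S4399
import Cfsg.Agent.S4126
import Cfsg.Agent.S4403
import Cfsg.Agent.Lib.Helper1.UniqP

set_option autoImplicit false
open Cfsg
open scoped Pointwise

namespace Cfsg.Agent.S0519

open Cfsg.Agent.Lib.Helper1

universe u

theorem lte_odd (p : ℕ) [hp : Fact p.Prime] (hodd : Odd p) (r m : ℕ) (hr : 2 ≤ r) (hm : 1 ≤ m)
    (h : p ^ m ∣ r ^ p - 1) : p ∣ r - 1 ∧ p ^ (m - 1) ∣ r - 1 := by
  have hpp := hp.out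
  have h1 : p ∣ r ^ p - 1 := dvd_trans (dvd_pow_self p (by omega)) h
  have hrp : 1 ≤ r ^ p := Nat.one_le_pow _ _ (by omega)
  have h2 : p ∣ r - 1 := by
    have h3 : ((r ^ p - 1 : ℕ) : ZMod p) = 0 := (ZMod.natCast_eq_zero_iff _ _).mpr h1
    rw [Nat.cast_sub hrp, Nat.cast_pow, ZMod.pow_card, Nat.cast_one] at h3
    rw [← ZMod.natCast_eq_zero_iff, Nat.cast_sub (by omega), Nat.cast_one]
    exact h3
  refine ⟨h2, ?_⟩
  have hnr : ¬ p ∣ r := by
    intro h3
    have h4 : p ∣ r ^ p := dvd_pow h3 hpp.ne_zero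
    have h5 : p ∣ 1 := by
      have := Nat.dvd_sub h4 h1
      rwa [Nat.sub_sub_self hrp] at this
    exact hpp.one_lt.ne' (Nat.dvd_one.mp h5)
  have hL := padicValNat.pow_sub_pow hodd (x := r) (y := 1) (by omega) h2 hnr (n := p) hpp.ne_zero
  rw [one_pow, padicValNat_self] at hL
  have hne : r ^ p - 1 ≠ 0 := by
    have h6 : 2 ^ 1 ≤ r ^ p := le_trans (Nat.pow_le_pow_right (by norm_num) hpp.pos)
      (Nat.pow_le_pow_left hr p)
    omega
  have h6 := (padicValNat_dvd_iff_le hne).mp h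
  rw [hL] at h6
  exact (padicValNat_dvd_iff_le (by omega)).mpr (by omega)

theorem odd_case {P : Type u} [Group P] [Finite P] (p : ℕ) [hp : Fact p.Prime] (hodd : Odd p)
    (hP : IsPGroup p P)
    (hn : ∀ A : Subgroup P, A.Normal → IsMulCommutative A → IsCyclic A) : IsCyclic P := by
  classical
  have hpp := hp.out
  haveI : Group.IsNilpotent P := hP.isNilpotent
  haveI : Nonempty {B : Subgroup P // B.Normal ∧ ∀ a ∈ B, ∀ b ∈ B, a * b = b * a} :=
    ⟨⟨⊥, inferInstance, by
      intro a ha b hb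
      rw [Subgroup.mem_bot] at ha hb
      rw [ha, hb]⟩⟩
  obtain ⟨⟨A, hAn, hAc⟩, hmaxc⟩ := Finite.exists_max
    (fun B : {B : Subgroup P // B.Normal ∧ ∀ a ∈ B, ∀ b ∈ B, a * b = b * a} => Nat.card B.1)
  have hmax : ∀ B : Subgroup P, B.Normal → (∀ a ∈ B, ∀ b ∈ B, a * b = b * a) → A ≤ B → B = A := by
    intro B hBn hBc hAB
    exact (Subgroup.eq_of_le_of_card_ge hAB (hmaxc ⟨B, hBn, hBc⟩)).symm
  haveI := hAn
  have hcent := UniqP.cent_le_of_max hP A hAc hmax
  have hAcyc : IsCyclic A := hn A hAn ⟨⟨fun x y => Subtype.ext (hAc x x.2 y y.2)⟩⟩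
  obtain ⟨a, haA, hAa⟩ : ∃ a ∈ A, A = Subgroup.zpowers a := by
    obtain ⟨g, hg⟩ := hAcyc.exists_generator
    refine ⟨g, g.2, le_antisymm ?_ ((Subgroup.zpowers_le).2 g.2)⟩
    intro x hx
    obtain ⟨k, hk⟩ := Subgroup.mem_zpowers_iff.1 (hg ⟨x, hx⟩)
    rw [Subgroup.mem_zpowers_iff]
    exact ⟨k, by have := congrArg Subtype.val hk; simpa using this⟩
  subst hAa
  by_contra hncyc
  have htop : Subgroup.zpowers a ≠ ⊤ :=
    fun h => hncyc (isCyclic_iff_exists_zpowers_eq_top.mpr ⟨a, h⟩)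
  have hnot : ¬ (⊤ : Subgroup P) ≤ Subgroup.zpowers a := fun h => htop (top_le_iff.mp h)
  obtain ⟨x₁, -, hx₁A, hx₁c⟩ := UniqP.nil_step (Subgroup.zpowers a) ⊤ hnot
  obtain ⟨j₀, hj₀, hj₀'⟩ := UniqP.exists_pow_mem hP (Subgroup.zpowers a) x₁ hx₁A
  obtain ⟨x, hx⟩ : ∃ x, x = x₁ ^ p ^ j₀ := ⟨_, rfl⟩
  have hxA : x ∉ Subgroup.zpowers a := by rw [hx]; exact hj₀
  have hxp : x ^ p ∈ Subgroup.zpowers a := by rw [hx, ← pow_mul, ← pow_succ]; exact hj₀'
  have hxP : ∀ g : P, x * g * x⁻¹ * g⁻¹ ∈ Subgroup.zpowers a := by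
    intro g; rw [hx]; exact S4477.pow_comm_mem _ x₁ hx₁c _ g
  have hxQ : ∀ g : P, (g * x * g⁻¹) * x⁻¹ ∈ Subgroup.zpowers a := by
    intro g
    have h1 := hAn.conj_mem _ (hxP g⁻¹) g
    have h2 : g * (x * g⁻¹ * x⁻¹ * g⁻¹⁻¹) * g⁻¹ = g * x * g⁻¹ * x⁻¹ := by group
    rw [h2] at h1; exact h1
  obtain ⟨m, hm⟩ := UniqP.orderOf_eq_pow hP a
  have hpowA : ∀ y ∈ Subgroup.zpowers a, ∃ k : ℕ, y = a ^ k := by
    intro y hy
    have := (mem_powers_iff_mem_zpowers).2 hy
    obtain ⟨k, hk⟩ := (Submonoid.mem_powers_iff _ _).mp this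
    exact ⟨k, hk.symm⟩
  obtain ⟨r, hr⟩ := hpowA _ (hAn.conj_mem a (Subgroup.mem_zpowers a) x)
  have hnc : x * a * x⁻¹ ≠ a := by
    intro h
    apply hxA; apply hcent
    rw [Subgroup.mem_centralizer_iff]
    intro y hy
    obtain ⟨k, rfl⟩ := hpowA y hy
    have hax : a * x = x * a := by
      calc a * x = (x * a * x⁻¹) * x := by rw [h]
        _ = x * a := by group
    exact ((show Commute a x from hax).pow_left k).eq
  have hr2 : 2 ≤ r := by
    by_contra hlt; push_neg at hlt
    interval_cases r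
    · rw [pow_zero] at hr
      apply hnc
      have : a = 1 := by
        calc a = x⁻¹ * (x * a * x⁻¹) * x := by group
          _ = 1 := by rw [hr]; group
      rw [this]; group
    · rw [pow_one] at hr; exact hnc hr
  have hiter : ∀ k : ℕ, x ^ k * a * (x ^ k)⁻¹ = a ^ (r ^ k) := by
    intro k
    induction k with
    | zero => simp
    | succ k ih =>
      calc x ^ (k + 1) * a * (x ^ (k + 1))⁻¹ = x * (x ^ k * a * (x ^ k)⁻¹) * x⁻¹ := by
            rw [pow_succ']; group
        _ = x * a ^ (r ^ k) * x⁻¹ := by rw [ih]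
        _ = (x * a * x⁻¹) ^ (r ^ k) := by rw [conj_pow]
        _ = a ^ (r ^ (k + 1)) := by rw [hr, ← pow_mul, pow_succ']
  have hrp : p ^ m ∣ r ^ p - 1 := by
    have h1 := hiter p
    have h2 : x ^ p * a * (x ^ p)⁻¹ = a := by
      have := hAc _ hxp a (Subgroup.mem_zpowers a)
      rw [this]; group
    rw [h2] at h1
    have hrp1 : 1 ≤ r ^ p := Nat.one_le_pow _ _ (by omega)
    have h3 : a ^ (r ^ p - 1) = 1 := by
      have h4 : a ^ (r ^ p) = a ^ (r ^ p - 1) * a := by
        rw [← pow_succ]; congr 1; omega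
      rw [h4] at h1
      exact mul_right_cancel (h1.symm.trans (one_mul a).symm)
    rw [← hm]; exact orderOf_dvd_of_pow_eq_one h3
  have hm1 : 1 ≤ m := by
    by_contra h0
    have : m = 0 := by omega
    rw [this, pow_zero, orderOf_eq_one_iff] at hm
    apply hnc; rw [hm]; group
  obtain ⟨hdvd1, hdvd2⟩ := lte_odd p hodd r m hr2 hm1 hrp
  obtain ⟨c, hc⟩ : ∃ c, c = a ^ (r - 1) := ⟨_, rfl⟩
  have hcA : c ∈ Subgroup.zpowers a := by
    rw [hc]; exact Subgroup.pow_mem _ (Subgroup.mem_zpowers a) _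
  have hxa : x * a * x⁻¹ = a * c := by
    rw [hr, hc, ← pow_succ']; congr 1; omega
  have hcp : c ^ p = 1 := by
    rw [hc, ← pow_mul]
    apply orderOf_dvd_iff_pow_eq_one.mp
    rw [hm]
    obtain ⟨t, ht⟩ := hdvd2
    rw [ht]
    have : p ^ m = p ^ (m - 1) * p := by rw [← pow_succ]; congr 1; omega
    rw [this]
    exact ⟨t, by ring⟩
  have hc1 : c ≠ 1 := by
    intro h; rw [h, mul_one] at hxa; exact hnc hxa
  have hac : Commute a c := hAc a (Subgroup.mem_zpowers a) c hcA
  have hact : ∀ k : ℕ, x * a ^ k * x⁻¹ = a ^ k * c ^ k := by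
    intro k
    rw [← conj_pow, hxa]
    exact hac.mul_pow k
  have hcr : c ^ (r - 1) = 1 := by
    obtain ⟨t, ht⟩ := hdvd1
    rw [ht, pow_mul, hcp, one_pow]
  have hxc : x * c = c * x := by
    have h1 := hact (r - 1)
    rw [← hc, hcr, mul_one] at h1
    calc x * c = (x * c * x⁻¹) * x := by group
      _ = c * x := by rw [h1]
  have hoc : orderOf c = p := orderOf_eq_prime hcp hc1
  have hp3 : 2 < p := by
    have := hpp.two_le
    rcases hodd with ⟨t, ht⟩
    omega
  have hpowf : ∀ a' ∈ Subgroup.zpowers a, (a' * x) ^ p = a' ^ p * x ^ p := by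
    intro a' ha'
    obtain ⟨i, rfl⟩ := hpowA a' ha'
    have h1 : x * a ^ i = c ^ i * a ^ i * x := by
      calc x * a ^ i = (x * a ^ i * x⁻¹) * x := by group
        _ = a ^ i * c ^ i * x := by rw [hact i]
        _ = c ^ i * a ^ i * x := by rw [(hac.pow_pow i i).eq]
    have h2 := S4126.mul_pow_c2 (a ^ i) x (c ^ i) h1 ((hac.pow_pow i i).symm)
      ((show Commute c x from hxc.symm).pow_left i) p
    rw [h2]
    have h3 : (c ^ i) ^ (p.choose 2) = 1 := by
      have hd : p ∣ p.choose 2 := hpp.dvd_choose_self (by norm_num) hp3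
      obtain ⟨t, ht⟩ := hd
      rw [← pow_mul, mul_comm, pow_mul, ht, pow_mul, hcp, one_pow, one_pow]
    rw [h3, one_mul]
  obtain ⟨k, hk⟩ := hpowA _ hxp
  have hpk : p ∣ k := by
    have h1 := hact k
    rw [← hk] at h1
    have h2 : x * x ^ p * x⁻¹ = x ^ p := by group
    rw [h2] at h1
    have h3 : c ^ k = 1 := mul_left_cancel (h1.symm.trans (mul_one _).symm)
    rw [← hoc]; exact orderOf_dvd_of_pow_eq_one h3
  obtain ⟨k', hk'⟩ := hpk
  obtain ⟨y, hy⟩ : ∃ y, y = (a ^ k')⁻¹ * x := ⟨_, rfl⟩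
  have hak' : (a ^ k')⁻¹ ∈ Subgroup.zpowers a :=
    Subgroup.inv_mem _ (Subgroup.pow_mem _ (Subgroup.mem_zpowers a) _)
  have hyp : y ^ p = 1 := by
    rw [hy, hpowf _ hak', hk, hk', inv_pow, ← pow_mul, mul_comm k' p, inv_mul_cancel]
  have hyA : y ∉ Subgroup.zpowers a := by
    intro h
    apply hxA
    have : x = a ^ k' * y := by rw [hy]; group
    rw [this]; exact Subgroup.mul_mem _ (Subgroup.pow_mem _ (Subgroup.mem_zpowers a) _) h
  have hy1 : y ≠ 1 := fun h => hyA (h ▸ Subgroup.one_mem _)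
  have hoy : orderOf y = p := orderOf_eq_prime hyp hy1
  obtain ⟨m', rfl⟩ : ∃ m', m = m' + 1 := ⟨m - 1, by omega⟩
  obtain ⟨z, hz⟩ : ∃ z, z = a ^ (p ^ m') := ⟨_, rfl⟩
  have hoz : orderOf z = p := by rw [hz]; exact UniqP.orderOf_pow_prime_pow_pred hm
  have hzA : z ∈ Subgroup.zpowers a := by
    rw [hz]; exact Subgroup.pow_mem _ (Subgroup.mem_zpowers a) _
  have hm'1 : 1 ≤ m' := by
    by_contra h0
    have hm0 : m' = 0 := by omega
    apply hc1
    rw [hc]
    apply orderOf_dvd_iff_pow_eq_one.mp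
    rw [hm, hm0]; simpa using hdvd1
  have hΩ : ∀ a' ∈ Subgroup.zpowers a, a' ^ p = 1 → a' ∈ Subgroup.zpowers z := by
    intro a' ha' h
    obtain ⟨i, rfl⟩ := hpowA a' ha'
    rw [← pow_mul] at h
    have h1 := orderOf_dvd_of_pow_eq_one h
    rw [hm, pow_succ] at h1
    have h2 : p ^ m' ∣ i := Nat.dvd_of_mul_dvd_mul_right hpp.pos h1
    obtain ⟨t, rfl⟩ := h2
    rw [pow_mul, ← hz]
    exact Subgroup.pow_mem _ (Subgroup.mem_zpowers z) t
  have hxz : x * z = z * x := by
    have h1 := hact (p ^ m')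
    rw [← hz] at h1
    have h2 : c ^ p ^ m' = 1 := by
      obtain ⟨m'', rfl⟩ : ∃ m'', m' = m'' + 1 := ⟨m' - 1, by omega⟩
      rw [pow_succ', pow_mul, hcp, one_pow]
    rw [h2, mul_one] at h1
    calc x * z = (x * z * x⁻¹) * x := by group
      _ = z * x := by rw [h1]
  have hyz : y * z = z * y := by
    rw [hy]
    have h1 : (a ^ k')⁻¹ * z = z * (a ^ k')⁻¹ := hAc _ hak' z hzA
    calc (a ^ k')⁻¹ * x * z = (a ^ k')⁻¹ * (x * z) := mul_assoc _ _ _
      _ = (a ^ k')⁻¹ * (z * x) := by rw [hxz]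
      _ = ((a ^ k')⁻¹ * z) * x := (mul_assoc _ _ _).symm
      _ = (z * (a ^ k')⁻¹) * x := by rw [h1]
      _ = z * ((a ^ k')⁻¹ * x) := mul_assoc _ _ _
  obtain ⟨E, hE⟩ : ∃ E : Subgroup P, E = Subgroup.zpowers z ⊔ Subgroup.zpowers y := ⟨_, rfl⟩
  have hzE : z ∈ E := by rw [hE]; exact Subgroup.mem_sup_left (Subgroup.mem_zpowers z)
  have hyE : y ∈ E := by rw [hE]; exact Subgroup.mem_sup_right (Subgroup.mem_zpowers y)
  have hEcomm : IsMulCommutative E := by
    rw [← Subgroup.le_centralizer_iff_isMulCommutative]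
    have h1 : E ≤ Subgroup.centralizer ({z} : Set P) := by
      rw [hE]; apply sup_le
      · rw [Subgroup.zpowers_le, Subgroup.mem_centralizer_singleton_iff]
      · rw [Subgroup.zpowers_le, Subgroup.mem_centralizer_singleton_iff]; exact hyz
    have h2 : E ≤ Subgroup.centralizer ({y} : Set P) := by
      rw [hE]; apply sup_le
      · rw [Subgroup.zpowers_le, Subgroup.mem_centralizer_singleton_iff]; exact hyz.symm
      · rw [Subgroup.zpowers_le, Subgroup.mem_centralizer_singleton_iff]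
    nth_rewrite 1 [hE]
    apply sup_le
    · rw [Subgroup.zpowers_le, Subgroup.mem_centralizer_iff]
      intro h hh
      have := h1 hh
      rw [Subgroup.mem_centralizer_singleton_iff] at this
      exact this
    · rw [Subgroup.zpowers_le, Subgroup.mem_centralizer_iff]
      intro h hh
      have := h2 hh
      rw [Subgroup.mem_centralizer_singleton_iff] at this
      exact this
  have hEn : E.Normal := ⟨by
    intro n hn' g
    have hmap : E.map (MulAut.conj g).toMonoidHom ≤ E := by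
      rw [hE, Subgroup.map_sup, MonoidHom.map_zpowers, MonoidHom.map_zpowers, ← hE]
      apply sup_le
      · rw [Subgroup.zpowers_le]
        show g * z * g⁻¹ ∈ E
        have h1 : g * z * g⁻¹ ∈ Subgroup.zpowers z := by
          apply hΩ _ (hAn.conj_mem z hzA g)
          have : z ^ p = 1 := by rw [← hoz]; exact pow_orderOf_eq_one z
          rw [conj_pow, this]; group
        rw [hE]; exact Subgroup.mem_sup_left h1
      · rw [Subgroup.zpowers_le]
        show g * y * g⁻¹ ∈ E
        have ha'' : (g * y * g⁻¹) * y⁻¹ ∈ Subgroup.zpowers a := by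
          have h1 : g * y * g⁻¹ * y⁻¹ =
              (g * (a ^ k')⁻¹ * g⁻¹) * ((g * x * g⁻¹) * x⁻¹) * (a ^ k') := by
            rw [hy]; group
          rw [h1]
          exact Subgroup.mul_mem _ (Subgroup.mul_mem _ (hAn.conj_mem _ hak' g) (hxQ g))
            (Subgroup.pow_mem _ (Subgroup.mem_zpowers a) _)
        have h2 : ((g * y * g⁻¹ * y⁻¹) * y) ^ p = (g * y * g⁻¹ * y⁻¹) ^ p := by
          have h3 : (g * y * g⁻¹ * y⁻¹) * y = ((g * y * g⁻¹ * y⁻¹) * (a ^ k')⁻¹) * x := by
            rw [hy]; group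
          have hcomm : Commute (g * y * g⁻¹ * y⁻¹) ((a ^ k')⁻¹) := hAc _ ha'' _ hak'
          rw [h3, hpowf _ (Subgroup.mul_mem _ ha'' hak'), hcomm.mul_pow, mul_assoc,
            ← hpowf _ hak', ← hy, hyp, mul_one]
        have h4 : (g * y * g⁻¹ * y⁻¹) ^ p = 1 := by
          rw [← h2]
          have h5 : g * y * g⁻¹ * y⁻¹ * y = g * y * g⁻¹ := by group
          rw [h5, conj_pow, hyp]; group
        have h6 := hΩ _ ha'' h4
        have h7 : g * y * g⁻¹ = (g * y * g⁻¹ * y⁻¹) * y := by group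
        rw [h7, hE]
        exact Subgroup.mul_mem _ (Subgroup.mem_sup_left h6)
          (Subgroup.mem_sup_right (Subgroup.mem_zpowers y))
    exact hmap (Subgroup.mem_map_of_mem _ hn')⟩
  have hEcyc := hn E hEn hEcomm
  exact hyA ((Subgroup.zpowers_le.2 hzA) (S4403.cyc_unique p E hEcyc z y hzE hyE hoz hoy))

theorem nf_contra {P : Type*} [Group P] [Finite P]
    (hn : ∀ A : Subgroup P, A.Normal → IsMulCommutative A → IsCyclic A)
    (z u : P) (hzc : ∀ g : P, g * z = z * g) (hz1 : z ≠ 1) (hz2 : z * z = 1) (hu2 : u * u = 1)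
    (hu1 : u ≠ 1) (huz : u ≠ z) (hconj : ∀ x : P, x * u * x⁻¹ = u ∨ x * u * x⁻¹ = u * z) :
    False := by
  haveI : Fact (Nat.Prime 2) := ⟨Nat.prime_two⟩
  obtain ⟨E, hE⟩ : ∃ E : Subgroup P, E = Subgroup.zpowers z ⊔ Subgroup.zpowers u := ⟨_, rfl⟩
  have hzE : z ∈ E := by rw [hE]; exact Subgroup.mem_sup_left (Subgroup.mem_zpowers z)
  have huE : u ∈ E := by rw [hE]; exact Subgroup.mem_sup_right (Subgroup.mem_zpowers u)
  have hEcomm : IsMulCommutative E := by
    rw [← Subgroup.le_centralizer_iff_isMulCommutative]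
    have h1 : E ≤ Subgroup.centralizer ({z} : Set P) := by
      intro h _
      rw [Subgroup.mem_centralizer_singleton_iff]
      exact hzc h
    have h2 : E ≤ Subgroup.centralizer ({u} : Set P) := by
      rw [hE]; apply sup_le
      · rw [Subgroup.zpowers_le, Subgroup.mem_centralizer_singleton_iff]; exact (hzc u).symm
      · rw [Subgroup.zpowers_le, Subgroup.mem_centralizer_singleton_iff]
    nth_rewrite 1 [hE]
    apply sup_le
    · rw [Subgroup.zpowers_le, Subgroup.mem_centralizer_iff]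
      intro h hh
      have := h1 hh
      rw [Subgroup.mem_centralizer_singleton_iff] at this
      exact this
    · rw [Subgroup.zpowers_le, Subgroup.mem_centralizer_iff]
      intro h hh
      have := h2 hh
      rw [Subgroup.mem_centralizer_singleton_iff] at this
      exact this
  have hEn : E.Normal := ⟨by
    intro n hn' g
    have hmap : E.map (MulAut.conj g).toMonoidHom ≤ E := by
      rw [hE, Subgroup.map_sup, MonoidHom.map_zpowers, MonoidHom.map_zpowers, ← hE]
      apply sup_le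
      · rw [Subgroup.zpowers_le]
        show g * z * g⁻¹ ∈ E
        have : g * z * g⁻¹ = z := by rw [hzc g]; group
        rw [this]; exact hzE
      · rw [Subgroup.zpowers_le]
        show g * u * g⁻¹ ∈ E
        rcases hconj g with h | h
        · rw [h]; exact huE
        · rw [h]; exact E.mul_mem huE hzE
    exact hmap (Subgroup.mem_map_of_mem _ hn')⟩
  have hEcyc := hn E hEn hEcomm
  have hoz : orderOf z = 2 := orderOf_eq_prime (by rw [pow_two]; exact hz2) hz1
  have hou : orderOf u = 2 := orderOf_eq_prime (by rw [pow_two]; exact hu2) hu1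
  have h1 := S4403.cyc_unique 2 E hEcyc z u hzE huE hoz hou
  obtain ⟨k, hk⟩ := Subgroup.mem_zpowers_iff.1 h1
  rcases Int.even_or_odd' k with ⟨j, rfl | rfl⟩
  · apply hu1; rw [← hk, zpow_mul, zpow_two, hz2, one_zpow]
  · apply huz; rw [← hk, zpow_add, zpow_mul, zpow_two, hz2, one_zpow, one_mul, zpow_one]

theorem result {P : Type*} [Group P] [Finite P] (p : ℕ) [Fact p.Prime]
    (hP : IsPGroup p P) (hn : ∀ A : Subgroup P, A.Normal → IsMulCommutative A → IsCyclic A)
    (hm : ∃ B : Subgroup P, IsMulCommutative B ∧ ¬ IsCyclic B) :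
    p = 2 ∧ ((∃ n : ℕ, Nonempty (P ≃* QuaternionGroup n)) ∨ (∃ n : ℕ, 8 ≤ n ∧ Nonempty (P ≃* DihedralGroup n)) ∨
      Cfsg.IsQuasiDihedral P) := by
  classical
  have hpp : p.Prime := Fact.out
  obtain ⟨B, hBc, hBn⟩ := hm
  have hPnc : ¬ IsCyclic P := by
    intro h
    exact hBn inferInstance
  rcases hpp.eq_two_or_odd' with h2 | hodd
  · subst h2
    refine ⟨rfl, ?_⟩
    have hNF : ¬ ∃ z u : P, (∀ g : P, g * z = z * g) ∧ z ≠ 1 ∧ z * z = 1 ∧ u * u = 1 ∧ u ≠ 1 ∧
        u ≠ z ∧ ∀ x : P, x * u * x⁻¹ = u ∨ x * u * x⁻¹ = u * z := by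
      rintro ⟨z, u, hzc, hz1, hz2, hu2, hu1, huz, hconj⟩
      exact nf_contra hn z u hzc hz1 hz2 hu2 hu1 huz hconj
    rcases S4477.lemmaA hP hNF with hc | hidx
    · exact absurd hc hPnc
    have hab : Nat.card (Abelianization P) = 4 := by
      have := Subgroup.index_eq_card (commutator P)
      rw [hidx] at this
      exact this.symm
    rcases S4399.core hP hab with h4 | ⟨k, ⟨e⟩⟩ | ⟨k, hk, a, b, hoa, hob, hba⟩ | ⟨k, he⟩
    · exfalso
      have hcomm : ∀ a b : P, a * b = b * a :=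
        IsPGroup.commutative_of_card_eq_prime_sq (p := 2) (by rw [h4]; norm_num)
      haveI := hn ⊤ inferInstance ⟨⟨fun x y => Subtype.ext (hcomm x y)⟩⟩
      exact hPnc (isCyclic_of_surjective (⊤ : Subgroup P).subtype (fun x => ⟨⟨x, trivial⟩, rfl⟩))
    · rcases Nat.eq_zero_or_pos k with rfl | hkpos
      · exfalso
        have e' : P ≃* DihedralGroup 4 := e
        have hD1 : ∀ x : DihedralGroup 4, x * DihedralGroup.r 2 = DihedralGroup.r 2 * x := by
          decide
        have hD2 : (DihedralGroup.r 2 : DihedralGroup 4) * DihedralGroup.r 2 = 1 := by decide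
        have hD3 : (DihedralGroup.sr 0 : DihedralGroup 4) * DihedralGroup.sr 0 = 1 := by decide
        have hD4 : (DihedralGroup.r 2 : DihedralGroup 4) ≠ 1 := by decide
        have hD5 : (DihedralGroup.sr 0 : DihedralGroup 4) ≠ 1 := by decide
        have hD6 : (DihedralGroup.sr 0 : DihedralGroup 4) ≠ DihedralGroup.r 2 := by decide
        have hD7 : ∀ x : DihedralGroup 4, x * DihedralGroup.sr 0 * x⁻¹ = DihedralGroup.sr 0 ∨
            x * DihedralGroup.sr 0 * x⁻¹ = DihedralGroup.sr 0 * DihedralGroup.r 2 := by decide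
        apply nf_contra hn (e'.symm (DihedralGroup.r 2)) (e'.symm (DihedralGroup.sr 0))
        · intro g
          apply e'.injective
          rw [map_mul, map_mul, e'.apply_symm_apply]
          exact hD1 (e' g)
        · intro h
          apply hD4
          have := congrArg e' h
          rwa [e'.apply_symm_apply, map_one] at this
        · apply e'.injective
          rw [map_mul, e'.apply_symm_apply, map_one]
          exact hD2
        · apply e'.injective
          rw [map_mul, e'.apply_symm_apply, map_one]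
          exact hD3
        · intro h
          apply hD5
          have := congrArg e' h
          rwa [e'.apply_symm_apply, map_one] at this
        · intro h
          apply hD6
          have := congrArg e' h
          rwa [e'.apply_symm_apply, e'.apply_symm_apply] at this
        · intro x
          rcases hD7 (e' x) with h | h
          · left
            apply e'.injective
            rw [map_mul, map_mul, map_inv, e'.apply_symm_apply]
            exact h
          · right
            apply e'.injective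
            rw [map_mul, map_mul, map_inv, map_mul, e'.apply_symm_apply, e'.apply_symm_apply]
            exact h
      · right; left
        refine ⟨2 ^ (k + 2), ?_, ⟨e⟩⟩
        calc 8 = 2 ^ 3 := by norm_num
          _ ≤ 2 ^ (k + 2) := Nat.pow_le_pow_right (by norm_num) (by omega)
    · right; right
      exact ⟨k + 3, by omega, hk, a, b, hoa, hob, hba⟩
    · left
      exact ⟨2 ^ (k + 1), he⟩
  · exfalso
    exact hPnc (odd_case p hodd hP hn)

end Cfsg.Agent.S0519
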