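import Cfsg.Statements.S0536
import Mathlib
import Cfsg.Agent.S0071
import Cfsg.Agent.S0132
import Cfsg.Agent.Lib.Helper5.Coprime

set_option autoImplicit false
open Cfsg

namespace Cfsg.Agent.S0536

open Cfsg.Agent.Lib.Helper5.Coprime
open scoped commutatorElement

theorem nilp_pcomp {K : Type*} [Group K] [Finite K] (q : ℕ) [Fact q.Prime]
    (hK : Group.IsNilpotent K) : Cfsg.HasNormalPComplement q K := by
  obtain ⟨P₀⟩ : Nonempty (Sylow q K) := inferInstance
  obtain ⟨N, hN, hc⟩ := (Cfsg.Agent.S0071.result P₀).2 (by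
    intro Q hQP g hgQ hcop
    have hQp : IsPGroup q Q := P₀.isPGroup'.to_le hQP
    obtain ⟨n, hn⟩ := Subgroup.nilpotent_iff_lowerCentralSeries.1 hK
    rw [Subgroup.mem_centralizer_iff]
    intro x hx
    refine commute_of_chain g (orderOf g) (pow_orderOf_eq_one g)
      (fun i => Q ⊓ (⊤ : Subgroup K).lowerCentralSeries i) n (by simp [hn]) ?_ ?_ 0 (Nat.zero_le n) x
      (Subgroup.mem_inf.2 ⟨hx, by simp⟩)
    · intro i r hr
      obtain ⟨hr1, hr2⟩ := Subgroup.mem_inf.1 hr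
      refine Subgroup.mem_inf.2 ⟨?_, ?_⟩
      · have e : ⁅r, g⁆ = r * (g * r⁻¹ * g⁻¹) := by
          rw [commutatorElement_def]
          group
        rw [e]
        exact Q.mul_mem hr1 ((Subgroup.mem_normalizer_iff.1 hgQ _).1 (Q.inv_mem hr1))
      · rw [Subgroup.lowerCentralSeries_succ]
        exact Subgroup.commutator_mem_commutator hr2 (Subgroup.mem_top g)
    · intro i c hc hcm
      obtain ⟨j, hj⟩ := hQp ⟨c, (Subgroup.mem_inf.1 hc).1⟩
      have hj' : c ^ q ^ j = 1 := by simpa using congrArg Subtype.val hj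
      exact eq_one_of_pow_of_pow c j (orderOf g) hcop hj' hcm)
  exact ⟨P₀, N, hN, hc⟩

theorem mem_of_pow {G : Type*} [Group G] [Finite G] (N : Subgroup G) [N.Normal] (q : ℕ)
    (hcop : Nat.Coprime N.index q) (x : G) (k : ℕ) (hx : x ^ q ^ k = 1) : x ∈ N := by
  rw [← QuotientGroup.eq_one_iff]
  apply eq_one_of_pow_of_pow _ k N.index hcop
  · rw [← QuotientGroup.mk_pow, hx]
    rfl
  · have h0 := pow_card_eq_one' (G := G ⧸ N) (x := (x : G ⧸ N))
    rw [← Subgroup.index_eq_card] at h0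
    exact h0

theorem mem_of_pow' {G : Type*} [Group G] [Finite G] (N : Subgroup G) [N.Normal] (q : ℕ) (k : ℕ)
    (hidx : N.index = q ^ k) (x : G) (m : ℕ) (hm : Nat.Coprime m q) (hx : x ^ m = 1) : x ∈ N := by
  rw [← QuotientGroup.eq_one_iff]
  apply eq_one_of_pow_of_pow _ k m hm
  · have h0 := pow_card_eq_one' (G := G ⧸ N) (x := (x : G ⧸ N))
    rw [← Subgroup.index_eq_card, hidx] at h0
    exact h0
  · rw [← QuotientGroup.mk_pow, hx]
    rfl

theorem nsyl {G : Type*} [Group G] [Finite G] (N : Subgroup G) [N.Normal]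
    (hN : Group.IsNilpotent N) (r : ℕ) [Fact r.Prime] (R : Sylow r G)
    (hRN : (R : Subgroup G) ≤ N) : (R : Subgroup G).Normal := by
  obtain ⟨R₁⟩ : Nonempty (Sylow r N) := inferInstance
  have hR₁ : (R₁ : Subgroup N).Normal := inferInstance
  haveI : (R₁ : Subgroup N).Characteristic := Sylow.characteristic_of_normal R₁ hR₁
  have hn : ((R₁ : Subgroup N).map N.subtype).Normal := inferInstance
  have hle : (R : Subgroup G) ≤ (R₁ : Subgroup N).map N.subtype := by
    intro x hx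
    have hp : IsPGroup r ((R : Subgroup G).subgroupOf N) := R.isPGroup'.comap_subtype
    obtain ⟨R₂, hR₂⟩ := hp.exists_le_sylow
    haveI := Sylow.unique_of_normal R₁ hR₁
    have h21 : R₂ = R₁ := Subsingleton.elim _ _
    refine ⟨⟨x, hRN hx⟩, ?_, rfl⟩
    rw [← h21]
    exact hR₂ (Subgroup.mem_subgroupOf.2 hx)
  have heq := R.is_maximal' (R₁.isPGroup'.map N.subtype) hle
  rw [← heq]
  exact hn

theorem inf_triv {G : Type*} [Group G] [Finite G] {q : ℕ} (Q : Subgroup G) (g : G)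
    (hQp : IsPGroup q Q) (hcop : Nat.Coprime (orderOf g) q) :
    ∀ y ∈ Q, ∀ i : ℤ, y = g ^ i → y = 1 := by
  intro y hy i hyi
  obtain ⟨j, hj⟩ := hQp ⟨y, hy⟩
  have hj' : y ^ q ^ j = 1 := by simpa using congrArg Subtype.val hj
  refine eq_one_of_pow_of_pow y j (orderOf g) hcop hj' ?_
  rw [hyi, ← zpow_natCast, ← zpow_mul, mul_comm, zpow_mul, zpow_natCast, pow_orderOf_eq_one,
    one_zpow]

theorem idx {G : Type*} [Group G] [Finite G] (Q : Subgroup G) (g : G) (hQn : Q.Normal)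
    (htop : Q ⊔ Subgroup.zpowers g = ⊤) (hinf : ∀ y ∈ Q, ∀ i : ℤ, y = g ^ i → y = 1) :
    Q.index = orderOf g := by
  have hbot : Q ⊓ Subgroup.zpowers g = ⊥ := by
    rw [eq_bot_iff]
    rintro y ⟨hy1, hy2⟩
    obtain ⟨i, hi⟩ := Subgroup.mem_zpowers_iff.1 hy2
    exact Subgroup.mem_bot.2 (hinf y hy1 i hi.symm)
  have h1 : Q.relIndex (Subgroup.zpowers g ⊔ Q) = Q.relIndex (Subgroup.zpowers g) :=
    Subgroup.relIndex_sup_right _ _
  rw [sup_comm, htop, Subgroup.relIndex_top_right] at h1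
  rw [h1, ← Subgroup.inf_relIndex_right, hbot, Subgroup.relIndex_bot_left, Nat.card_zpowers]

theorem schmidt {G : Type*} [Group G] [Finite G] (hG : Cfsg.IsMinimalNonNilpotent G) :
    ∃ (p q : ℕ) (Q : Subgroup G) (g : G) (e : ℕ), p.Prime ∧ q.Prime ∧ p ≠ q ∧ Q.Normal ∧
      IsPGroup q Q ∧ orderOf g = p ^ e ∧ g ∉ Subgroup.centralizer (Q : Set G) ∧
      Q ⊔ Subgroup.zpowers g = ⊤ := by
  obtain ⟨hnn, hprop⟩ := hG
  have ha : ∃ q : ℕ, q.Prime ∧ ¬ Cfsg.HasNormalPComplement q G := by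
    by_contra hcon
    push Not at hcon
    apply hnn
    apply (Group.isNilpotent_of_finite_tfae.out 0 3 rfl rfl).2
    intro r hr R
    by_cases hex : ∃ s : ℕ, s.Prime ∧ s ≠ r ∧ s ∣ Nat.card G
    · obtain ⟨s, hs, hsr, hsd⟩ := hex
      haveI : Fact s.Prime := ⟨hs⟩
      obtain ⟨P, N, hNn, hc⟩ := hcon s hs
      have hNt : N ≠ ⊤ := by
        rintro rfl
        have hPb : (P : Subgroup G) = ⊥ := Subgroup.isComplement'_top_left.1 hc
        have h1 := P.not_dvd_index
        rw [hPb, Subgroup.index_bot] at h1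
        exact h1 hsd
      obtain ⟨k, hk⟩ := (IsPGroup.iff_card).1 P.isPGroup'
      have hidx : N.index = s ^ k := by
        rw [hc.symm.index_eq_card]
        exact hk
      have hRN : (R : Subgroup G) ≤ N := by
        intro x hx
        obtain ⟨j, hj⟩ := R.isPGroup' ⟨x, hx⟩
        have hj' : x ^ r ^ j = 1 := by simpa using congrArg Subtype.val hj
        have hcop : Nat.Coprime N.index r := by
          rw [hidx]
          exact Nat.Coprime.pow_left k ((Nat.coprime_primes hs hr.out).2 hsr)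
        exact mem_of_pow N r hcop x j hj'
      exact nsyl N (hprop N hNt) r R hRN
    · push Not at hex
      exfalso
      apply hnn
      have hcard : Nat.card G = r ^ (Nat.card G).primeFactorsList.length :=
        Nat.eq_prime_pow_of_unique_prime_dvd Nat.card_pos.ne' (fun {d} hd hdd => by
          by_contra hne
          exact hex d hd hne hdd)
      exact (IsPGroup.of_card hcard).isNilpotent
  obtain ⟨q, hq, hqn⟩ := ha
  haveI : Fact q.Prime := ⟨hq⟩
  have h2 : ∀ H : Subgroup G, H ≠ ⊤ → Cfsg.HasNormalPComplement q H :=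
    fun H hH => nilp_pcomp q (hprop H hH)
  obtain ⟨Q, g, hQn, hQp, hcop, hgc, htop⟩ := Cfsg.Agent.S0132.core hqn h2
  have hn0 : orderOf g ≠ 0 := (orderOf_pos g).ne'
  have hinf := inf_triv Q g hQp hcop
  have hsub : ∀ a : ℕ, a ∣ orderOf g → a ≠ 1 → g ^ a ∈ Subgroup.centralizer (Q : Set G) := by
    intro a had ha1
    have hne : Q ⊔ Subgroup.zpowers (g ^ a) ≠ ⊤ := by
      intro htop'
      have hg : g ∈ Q ⊔ Subgroup.zpowers (g ^ a) := by
        rw [htop']
        exact Subgroup.mem_top g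
      obtain ⟨x, hx, z, hz, hxz⟩ := (Subgroup.mem_sup_of_normal_left (hs := hQn)).1 hg
      obtain ⟨i, rfl⟩ := Subgroup.mem_zpowers_iff.1 hz
      have hx1 : x = g ^ (1 - (a : ℤ) * i) := by
        rw [zpow_sub, zpow_one, zpow_mul, zpow_natCast]
        exact eq_mul_inv_of_mul_eq hxz
      have hx1' := hinf x hx _ hx1
      have h1 : g ^ (1 - (a : ℤ) * i) = 1 := by
        rw [← hx1]
        exact hx1'
      have hd : (orderOf g : ℤ) ∣ 1 - (a : ℤ) * i := orderOf_dvd_iff_zpow_eq_one.2 h1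
      have had' : (a : ℤ) ∣ 1 - (a : ℤ) * i := (Int.natCast_dvd_natCast.2 had).trans hd
      have h3 : (a : ℤ) ∣ (a : ℤ) * i := dvd_mul_right _ _
      have h4 : (a : ℤ) ∣ 1 := by
        have h5 := dvd_add had' h3
        simpa using h5
      have h6 : a ∣ 1 := Int.natCast_dvd_natCast.1 (by simpa using h4)
      exact ha1 (Nat.dvd_one.1 h6)
    exact Cfsg.Agent.S0132.cent_of_pcomp Q (g ^ a) _ le_sup_left
      ((le_sup_right : Subgroup.zpowers (g ^ a) ≤ Q ⊔ Subgroup.zpowers (g ^ a))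
        (Subgroup.mem_zpowers _))
      hQp (by
        rw [Subgroup.normalizer_eq_top_iff.2 hQn]
        exact Subgroup.mem_top _)
      (Nat.Coprime.coprime_dvd_left (orderOf_pow_dvd a) hcop) (h2 _ hne)
  have hn1 : orderOf g ≠ 1 := by
    intro h1
    apply hgc
    rw [orderOf_eq_one_iff.1 h1]
    exact Subgroup.one_mem _
  have hp : (orderOf g).minFac.Prime := Nat.minFac_prime hn1
  have hpd : (orderOf g).minFac ∣ orderOf g := Nat.minFac_dvd _
  obtain ⟨p, hpdef⟩ : ∃ p, p = (orderOf g).minFac := ⟨_, rfl⟩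
  rw [← hpdef] at hp hpd
  obtain ⟨e, n', hpn', hn⟩ := Nat.exists_eq_pow_mul_and_not_dvd hn0 p hp.ne_one
  have hn'1 : n' = 1 := by
    by_contra hn'
    have he : p ^ e ≠ 1 := by
      intro he1
      rw [he1, one_mul] at hn
      rw [hn] at hpd
      exact hpn' hpd
    have h1 := hsub (p ^ e) ⟨n', hn⟩ he
    have h2' := hsub n' ⟨p ^ e, by rw [hn, mul_comm]⟩ hn'
    have hcop' : Nat.Coprime (p ^ e) n' :=
      Nat.Coprime.pow_left e ((Nat.Prime.coprime_iff_not_dvd hp).2 hpn')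
    obtain ⟨u, v, huv⟩ : ∃ u v : ℤ, u * ((p ^ e : ℕ) : ℤ) + v * ((n' : ℕ) : ℤ) = 1 :=
      Nat.isCoprime_iff_coprime.2 hcop'
    apply hgc
    have hg : g = (g ^ (p ^ e)) ^ u * (g ^ n') ^ v := by
      rw [← zpow_natCast g (p ^ e), ← zpow_natCast g n', ← zpow_mul, ← zpow_mul, ← zpow_add,
        mul_comm _ u, mul_comm _ v, huv, zpow_one]
    rw [hg]
    exact Subgroup.mul_mem _ (Subgroup.zpow_mem _ h1 u) (Subgroup.zpow_mem _ h2' v)
  have hord : orderOf g = p ^ e := by rw [hn, hn'1, mul_one]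
  have hpq : p ≠ q := by
    intro hpq
    rw [hpq] at hpd
    exact hq.ne_one (Nat.Coprime.eq_one_of_dvd hcop.symm hpd)
  exact ⟨p, q, Q, g, e, hp, hq, hpq, hQn, hQp, hord, hgc, htop⟩

theorem sylows {G : Type*} [Group G] [Finite G] (p q : ℕ) [Fact p.Prime] [Fact q.Prime]
    (hpq : p ≠ q) (Q : Subgroup G) (g : G) (e : ℕ) (hQn : Q.Normal) (hQp : IsPGroup q Q)
    (hord : orderOf g = p ^ e) (htop : Q ⊔ Subgroup.zpowers g = ⊤) :
    ∃ (P' : Sylow p G) (Q' : Sylow q G), (P' : Subgroup G) = Subgroup.zpowers g ∧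
      (Q' : Subgroup G) = Q := by
  have hp : p.Prime := Fact.out
  have hq : q.Prime := Fact.out
  have hcop : Nat.Coprime (orderOf g) q := by
    rw [hord]
    exact Nat.Coprime.pow_left e ((Nat.coprime_primes hp hq).2 hpq)
  have hidxQ : Q.index = p ^ e := by
    rw [idx Q g hQn htop (inf_triv Q g hQp hcop), hord]
  have hPi : (Subgroup.zpowers g).index = Nat.card Q := by
    have h1 := Subgroup.card_mul_index (Subgroup.zpowers g)
    have h2 := Subgroup.card_mul_index Q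
    rw [Nat.card_zpowers, hord] at h1
    rw [hidxQ] at h2
    have h3 : p ^ e * (Subgroup.zpowers g).index = p ^ e * Nat.card Q := by
      rw [h1, ← h2, mul_comm]
    exact Nat.eq_of_mul_eq_mul_left (pow_pos hp.pos e) h3
  obtain ⟨j, hj⟩ := (IsPGroup.iff_card).1 hQp
  have hPp : IsPGroup p (Subgroup.zpowers g) := by
    apply IsPGroup.of_card (n := e)
    rw [Nat.card_zpowers, hord]
  have hQi' : ¬ q ∣ Q.index := by
    rw [hidxQ]
    intro h
    exact hpq ((Nat.prime_dvd_prime_iff_eq hq hp).1 (hq.dvd_of_dvd_pow h)).symm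
  have hPi' : ¬ p ∣ (Subgroup.zpowers g).index := by
    rw [hPi, hj]
    intro h
    exact hpq ((Nat.prime_dvd_prime_iff_eq hp hq).1 (hp.dvd_of_dvd_pow h))
  exact ⟨hPp.toSylow hPi', hQp.toSylow hQi', IsPGroup.toSylow_coe _ _, IsPGroup.toSylow_coe _ _⟩

theorem result {G : Type*} [Group G] [Finite G] (hG : Cfsg.IsMinimalNonNilpotent G) : ∃ p q : ℕ, p.Prime ∧ q.Prime ∧ p ≠ q ∧ ∃ (P : Sylow p G) (Q : Sylow q G), IsCyclic P ∧ (Q : Subgroup G).Normal ∧ (P : Subgroup G) ⊔ Q = ⊤ := by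
  obtain ⟨p, q, Q, g, e, hp, hq, hpq, hQn, hQp, hord, hgc, htop⟩ := schmidt hG
  haveI : Fact p.Prime := ⟨hp⟩
  haveI : Fact q.Prime := ⟨hq⟩
  obtain ⟨P', Q', hP', hQ'⟩ := sylows p q hpq Q g e hQn hQp hord htop
  refine ⟨p, q, hp, hq, hpq, P', Q', ?_, ?_, ?_⟩
  · rw [hP']
    infer_instance
  · rw [hQ']
    exact hQn
  · rw [hP', hQ', sup_comm]
    exact htop

end Cfsg.Agent.S0536
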