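import Mathlib
import Cfsg.Statements.S0647

set_option autoImplicit false
open Cfsg

namespace Cfsg.Agent.S0647

theorem cent_eq {S : Type*} [Group S] (A : Subgroup S) (hab : IsMulCommutative A)
    (hmax : ∀ B : Subgroup S, IsMulCommutative B → A ≤ B → B = A) :
    Subgroup.centralizer (A : Set S) = A := by
  apply le_antisymm
  · intro x hx
    have hcomm : ∀ y ∈ (A : Set S) ∪ {x}, ∀ z ∈ (A : Set S) ∪ {x}, y * z = z * y := by
      rintro y (hy | hy) z (hz | hz)
      · exact setLike_mul_comm hy hz
      · rw [Set.mem_singleton_iff] at hz; subst hz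
        exact (Subgroup.mem_centralizer_iff.mp hx y hy)
      · rw [Set.mem_singleton_iff] at hy; subst hy
        exact (Subgroup.mem_centralizer_iff.mp hx z hz).symm
      · rw [Set.mem_singleton_iff] at hy hz; subst hy; subst hz; rfl
    have hB : IsMulCommutative (Subgroup.closure ((A : Set S) ∪ {x})) := Subgroup.isMulCommutative_closure hcomm
    have hle : A ≤ Subgroup.closure ((A : Set S) ∪ {x}) := fun a ha => Subgroup.subset_closure (Or.inl ha)
    have := hmax _ hB hle
    rw [← this]
    exact Subgroup.subset_closure (Or.inr rfl)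
  · exact Subgroup.le_centralizer A

theorem result {S : Type*} [Group S] [Finite S] (𝒜 : Set (Subgroup S)) (hne : 𝒜.Nonempty) (hab : ∀ A ∈ 𝒜, IsMulCommutative A) (hmax : ∀ A ∈ 𝒜, ∀ B : Subgroup S, IsMulCommutative B → A ≤ B → B = A) : sInf 𝒜 = sSup 𝒜 ⊓ Subgroup.centralizer ((sSup 𝒜 : Subgroup S) : Set S) ∧ sInf 𝒜 = Subgroup.centralizer ((sSup 𝒜 : Subgroup S) : Set S) := by
  have h2 : sInf 𝒜 = Subgroup.centralizer ((sSup 𝒜 : Subgroup S) : Set S) := by
    apply le_antisymm
    · rw [Subgroup.le_centralizer_iff]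
      apply sSup_le
      intro A hA
      rw [Subgroup.le_centralizer_iff]
      calc sInf 𝒜 ≤ A := sInf_le hA
        _ = Subgroup.centralizer (A : Set S) := (cent_eq A (hab A hA) (hmax A hA)).symm
    · apply le_sInf
      intro A hA
      calc Subgroup.centralizer ((sSup 𝒜 : Subgroup S) : Set S) ≤ Subgroup.centralizer (A : Set S) :=
            Subgroup.centralizer_le (le_sSup hA)
        _ = A := cent_eq A (hab A hA) (hmax A hA)
  refine ⟨?_, h2⟩
  rw [← h2]
  obtain ⟨A, hA⟩ := hne
  exact (inf_eq_right.mpr ((sInf_le hA).trans (le_sSup hA))).symm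

end Cfsg.Agent.S0647
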