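import Mathlib
import Cfsg.Statements.S0649
import Cfsg.Agent.Lib.Helper2.SylowAux

set_option autoImplicit false
open Pointwise
open Cfsg

namespace Cfsg.Agent.S0649

theorem result {S : Type*} [Group S] [Finite S] {p : ℕ} [Fact p.Prime] (hS : IsPGroup p S) (B : Subgroup S) [B.Normal] (hB2 : p = 2 → IsMulCommutative B) (A : Subgroup S) (hA : IsMulCommutative A) (hBA : ⁅B, B⁆ ≤ A) (hnot : ¬ B ≤ Subgroup.normalizer (A : Set S)) : ∃ b ∈ B, b ∈ Subgroup.normalizer ((Subgroup.normalizer (A : Set S)) : Set S) ∧ b ∉ Subgroup.normalizer (A : Set S) := by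
  set N := Subgroup.normalizer (A : Set S) with hN
  have hP : IsPGroup p ↥(B ⊔ N) := hS.to_subgroup _
  have hne : N ≠ B ⊔ N := fun h => hnot (h ▸ le_sup_left)
  obtain ⟨x, hx, hxN, hxn⟩ :=
    Cfsg.Agent.Lib.Helper2.SylowAux.exists_normalizing_not_mem hP le_sup_right hne
  rw [← SetLike.mem_coe, Subgroup.normal_mul] at hx
  obtain ⟨b, hb, n, hn, rfl⟩ := hx
  refine ⟨b, hb, ?_, ?_⟩
  · rw [Subgroup.mem_normalizer_iff]
    intro h
    have h1 := hxn (n⁻¹ * h * n)
    have h2 : b * n * (n⁻¹ * h * n) * (b * n)⁻¹ = b * h * b⁻¹ := by group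
    rw [h2] at h1
    rw [← h1]
    constructor
    · intro hh; exact N.mul_mem (N.mul_mem (N.inv_mem hn) hh) hn
    · intro hh
      have h3 := N.mul_mem (N.mul_mem hn hh) (N.inv_mem hn)
      simpa [mul_assoc] using h3
  · intro hbN; exact hxN (N.mul_mem hbN hn)

end Cfsg.Agent.S0649
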