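import Mathlib
import Cfsg.Statements.S0652
import Cfsg.Agent.S0650
import Cfsg.Agent.S0651
import Cfsg.Agent.S0003
set_option autoImplicit false
open Pointwise
open Cfsg
open scoped commutatorElement

namespace Cfsg.Agent.S0652

theorem ea_map {S : Type*} [Group S] (p : ℕ) (D : Subgroup S) (A : Subgroup ↥D)
    (hA : IsElementaryAbelian p A) : IsElementaryAbelian p (A.map D.subtype) := by
  refine ⟨by haveI := hA.1; exact Subgroup.map_isMulCommutative A D.subtype, ?_⟩
  rintro _ ⟨a, ha, rfl⟩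
  have := hA.2 a ha
  rw [← map_pow, this, map_one]

theorem ea_subgroupOf {S : Type*} [Group S] (p : ℕ) (D : Subgroup S) (Y : Subgroup S)
    (hY : IsElementaryAbelian p Y) : IsElementaryAbelian p (Y.subgroupOf D) := by
  refine ⟨by haveI := hY.1; exact Subgroup.subgroupOf_isMulCommutative D Y, ?_⟩
  intro a ha
  rw [Subgroup.mem_subgroupOf] at ha
  apply Subtype.ext
  rw [Subgroup.coe_pow]
  exact hY.2 _ ha

theorem mem_fam {S : Type*} [Group S] [Finite S] (p : ℕ) (D : Subgroup S) (X : Subgroup S) :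
    X ∈ (Set.image (fun A : Subgroup ↥D => A.map D.subtype)
      (Cfsg.maxElementaryAbelianSubgroups p ↥D)) ↔
    X ≤ D ∧ IsElementaryAbelian p X ∧
      ∀ Y : Subgroup S, Y ≤ D → IsElementaryAbelian p Y → Nat.card Y ≤ Nat.card X := by
  constructor
  · rintro ⟨A, ⟨hA, hmax⟩, rfl⟩
    refine ⟨Subgroup.map_subtype_le A, ea_map p D A hA, ?_⟩
    · intro Y hY hYc
      have h1 : Nat.card (A.map D.subtype) = Nat.card A :=
        Subgroup.card_map_of_injective D.subtype_injective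
      show Nat.card Y ≤ Nat.card (A.map D.subtype)
      rw [h1]
      have h2 := hmax (Y.subgroupOf D) (ea_subgroupOf p D Y hYc)
      rwa [S0003.card_subgroupOf_eq', inf_eq_left.2 hY] at h2
  · rintro ⟨hXD, hXc, hmax⟩
    refine ⟨X.subgroupOf D, ⟨ea_subgroupOf p D X hXc, ?_⟩, ?_⟩
    · intro B hB
      have h1 : Nat.card (B.map D.subtype) = Nat.card B :=
        Subgroup.card_map_of_injective D.subtype_injective
      have h2 := hmax (B.map D.subtype) (Subgroup.map_subtype_le B) (ea_map p D B hB)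
      rw [S0003.card_subgroupOf_eq', inf_eq_left.2 hXD, ← h1]
      exact h2
    · exact Subgroup.map_subgroupOf_eq_of_le hXD

theorem result {S : Type*} [Group S] [Finite S] {p : ℕ} [Fact p.Prime] (hS : IsPGroup p S) (hp : p ≠ 2) (D : Subgroup S) [D.Normal] : ∀ (B : Subgroup S) [B.Normal], ⁅⁅B, B⁆, B⁆ = ⊥ → (∃ U ∈ (Set.image (fun A : Subgroup ↥D => A.map D.subtype) (Cfsg.maxElementaryAbelianSubgroups p ↥D)), ⁅B, B⁆ ≤ U ∧ ¬ B ≤ U) → ∃ A ∈ (Set.image (fun A : Subgroup ↥D => A.map D.subtype) (Cfsg.maxElementaryAbelianSubgroups p ↥D)), ⁅B, B⁆ ≤ A ∧ ¬ B ≤ A ∧ B ≤ Subgroup.normalizer (A : Set S) := by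
  intro B hBn hB2 ⟨U, hU, hBU, hnBU⟩
  have key := S0651.repl_induct B (fun A => A ∈ (Set.image (fun A : Subgroup ↥D => A.map D.subtype)
    (Cfsg.maxElementaryAbelianSubgroups p ↥D)) ∧ ⁅B, B⁆ ≤ A ∧ ¬ B ≤ A) ?_ U ⟨hU, hBU, hnBU⟩
  · obtain ⟨A, ⟨h1, h2, h3⟩, h4⟩ := key
    exact ⟨A, h1, h2, h3, h4⟩
  · rintro A ⟨hA, hBA, hnBA⟩ hnot
    obtain ⟨b, hb, hbN, hbA⟩ := S0651.exists_b hS B A hnot
    rw [mem_fam] at hA
    obtain ⟨hAD, hAc, hAmax⟩ := hA
    obtain ⟨c1, c2, c3, c4, c5, -, -, -, -, c10⟩ :=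
      S0650.result hS B (fun h => absurd h hp) A hAc.1 hBA hnot b hb hbN hbA
    refine ⟨_, ⟨?_, c3, ?_⟩, c4⟩
    · rw [mem_fam]
      refine ⟨S0651.astar_le D A hAD b, ⟨c2, ?_⟩, ?_⟩
      · intro x hx
        have h1 : Monoid.exponent ↥A ∣ p := by
          apply Monoid.exponent_dvd_of_forall_pow_eq_one
          rintro ⟨a, ha⟩
          apply Subtype.ext
          rw [Subgroup.coe_pow]
          exact hAc.2 a ha
        have h2 := (c10 hp).trans h1
        have h3 := (Monoid.exponent_dvd_iff_forall_pow_eq_one.1 h2) ⟨x, hx⟩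
        have h4 := congrArg Subtype.val h3
        rw [Subgroup.coe_pow] at h4
        exact h4
      · intro Y hY hYc
        rw [c1]
        exact hAmax Y hY hYc
    · intro hle
      exact c5.ne (inf_eq_right.2 hle)

end Cfsg.Agent.S0652
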