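import Mathlib
import Cfsg.Statements.S0655

set_option autoImplicit false
open Pointwise
open Cfsg

namespace Cfsg.Agent.S0655

theorem key {S : Type*} [Group S] [Finite S] {p : ℕ} (x : S)
    (hx : x ∈ Subgroup.centralizer (Cfsg.thompsonSubgroup p S : Set S)) (hxp : x ^ p = 1)
    (A : Subgroup S) (hA : A ∈ Cfsg.maxElementaryAbelianSubgroups p S) : x ∈ A := by
  obtain ⟨⟨hAc, hAp⟩, hAmax⟩ := hA
  have hAJ : A ≤ Cfsg.thompsonSubgroup p S := le_sSup ⟨⟨hAc, hAp⟩, hAmax⟩
  have hxA : ∀ a ∈ A, a * x = x * a := by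
    intro a ha
    exact (Subgroup.mem_centralizer_iff.1 hx a (hAJ ha))
  set B := A ⊔ Subgroup.zpowers x with hB
  have hAA : A ≤ Subgroup.centralizer (A : Set S) := by
    intro a ha
    rw [Subgroup.mem_centralizer_iff]
    intro b hb
    have := hAc.is_comm.comm ⟨b, hb⟩ ⟨a, ha⟩
    exact congrArg Subtype.val this
  have hxcA : Subgroup.zpowers x ≤ Subgroup.centralizer (A : Set S) := by
    rw [Subgroup.zpowers_le, Subgroup.mem_centralizer_iff]
    exact hxA
  have hAcx : A ≤ Subgroup.centralizer ((Subgroup.zpowers x : Subgroup S) : Set S) :=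
    Subgroup.le_centralizer_iff.1 hxcA
  have hxx : Subgroup.zpowers x ≤ Subgroup.centralizer ((Subgroup.zpowers x : Subgroup S) : Set S) := by
    rw [Subgroup.zpowers_le, Subgroup.mem_centralizer_iff]
    intro y hy
    obtain ⟨k, rfl⟩ := Subgroup.mem_zpowers_iff.1 hy
    exact ((Commute.refl x).zpow_left k).eq
  have hBB : B ≤ Subgroup.centralizer (B : Set S) := by
    apply sup_le
    · exact Subgroup.le_centralizer_iff.1 (sup_le hAA hxcA)
    · exact Subgroup.le_centralizer_iff.1 (sup_le hAcx hxx)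
  let T : Subgroup S :=
    { carrier := {w | w ∈ B ∧ w ^ p = 1}
      mul_mem' := by
        rintro a b ⟨ha, ha'⟩ ⟨hb, hb'⟩
        refine ⟨B.mul_mem ha hb, ?_⟩
        have hc : Commute a b := (Subgroup.mem_centralizer_iff.1 (hBB hb) a ha)
        rw [hc.mul_pow, ha', hb', one_mul]
      one_mem' := ⟨B.one_mem, one_pow _⟩
      inv_mem' := by
        rintro a ⟨ha, ha'⟩
        exact ⟨B.inv_mem ha, by rw [inv_pow, ha', inv_one]⟩ }
  have hBT : B ≤ T := by
    apply sup_le
    · intro a ha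
      exact ⟨Subgroup.mem_sup_left ha, hAp a ha⟩
    · rw [Subgroup.zpowers_le]
      exact ⟨Subgroup.mem_sup_right (Subgroup.mem_zpowers x), hxp⟩
  have hBel : Cfsg.IsElementaryAbelian p B := by
    refine ⟨⟨⟨?_⟩⟩, fun b hb => (hBT hb).2⟩
    intro a b
    apply Subtype.ext
    exact (Subgroup.mem_centralizer_iff.1 (hBB b.2) a a.2)
  have hcard := hAmax B hBel
  have hAB : A = B := Subgroup.eq_of_le_of_card_ge le_sup_left hcard
  rw [hAB]
  exact Subgroup.mem_sup_right (Subgroup.mem_zpowers x)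

theorem result {S : Type*} [Group S] [Finite S] {p : ℕ} [Fact p.Prime] (hS : IsPGroup p S) : sInf (Cfsg.maxElementaryAbelianSubgroups p S) = Cfsg.omegaCenterThompson p S ∧ Cfsg.omegaCenterThompson p S = Cfsg.omegaOne p (Subgroup.centralizer (Cfsg.thompsonSubgroup p S : Set S)) := by
  classical
  -- nonemptiness
  have hne : ∃ A₀ : Subgroup S, A₀ ∈ Cfsg.maxElementaryAbelianSubgroups p S := by
    have hfin : ({B : Subgroup S | Cfsg.IsElementaryAbelian p B}).Finite := Set.toFinite _
    have hnon : ({B : Subgroup S | Cfsg.IsElementaryAbelian p B}).Nonempty := by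
      refine ⟨⊥, ⟨⟨⟨?_⟩⟩, ?_⟩⟩
      · intro a b
        apply Subtype.ext
        have ha := Subgroup.mem_bot.1 a.2
        have hb := Subgroup.mem_bot.1 b.2
        simp [ha, hb]
      · intro a ha
        rw [Subgroup.mem_bot.1 ha, one_pow]
    obtain ⟨A₀, hA₀, hmax⟩ := Set.exists_max_image _ (fun B : Subgroup S => Nat.card B) hfin hnon
    exact ⟨A₀, hA₀, fun B hB => hmax B hB⟩
  obtain ⟨A₀, hA₀⟩ := hne
  have hA₀J : A₀ ≤ Cfsg.thompsonSubgroup p S := le_sSup hA₀
  constructor
  · apply le_antisymm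
    · intro x hx
      rw [Subgroup.mem_sInf] at hx
      apply Subgroup.subset_closure
      refine ⟨Subgroup.mem_inf.2 ⟨hA₀J (hx A₀ hA₀), ?_⟩, hA₀.1.2 x (hx A₀ hA₀)⟩
      have h1 : Cfsg.thompsonSubgroup p S ≤ Subgroup.centralizer ({x} : Set S) := by
        apply sSup_le
        intro A hA a ha
        rw [Subgroup.mem_centralizer_iff]
        intro y hy
        rw [Set.mem_singleton_iff] at hy
        rw [hy]
        have := hA.1.1.is_comm.comm ⟨x, hx A hA⟩ ⟨a, ha⟩
        exact congrArg Subtype.val this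
      rw [Subgroup.mem_centralizer_iff]
      intro j hj
      have h2 := h1 hj
      rw [Subgroup.mem_centralizer_iff] at h2
      exact (h2 x rfl).symm
    · unfold Cfsg.omegaCenterThompson Cfsg.omegaOne
      rw [Subgroup.closure_le]
      rintro x ⟨hx, hxp⟩
      rw [SetLike.mem_coe, Subgroup.mem_sInf]
      intro A hA
      exact key x (Subgroup.mem_inf.1 hx).2 hxp A hA
  · unfold Cfsg.omegaCenterThompson Cfsg.omegaOne
    apply le_antisymm
    · apply Subgroup.closure_mono
      rintro x ⟨hx, hxp⟩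
      exact ⟨(Subgroup.mem_inf.1 hx).2, hxp⟩
    · apply Subgroup.closure_mono
      rintro x ⟨hx, hxp⟩
      exact ⟨Subgroup.mem_inf.2 ⟨hA₀J (key x hx hxp A₀ hA₀), hx⟩, hxp⟩

end Cfsg.Agent.S0655
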