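import Mathlib
import Cfsg.Statements.S0654
import Cfsg.Agent.S0650
import Cfsg.Agent.S0651
import Cfsg.Agent.S0652
import Cfsg.Agent.S0653
import Cfsg.Agent.S0655
set_option autoImplicit false
open Pointwise
open Cfsg
open scoped commutatorElement

namespace Cfsg.Agent.S0654

open Cfsg.Agent.S0653

/-- Type-level replacement for elementary abelian subgroups of largest order. -/
theorem repl_ea {S : Type*} [Group S] [Finite S] {p : ℕ} [Fact p.Prime] (hS : IsPGroup p S)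
    (hp : p ≠ 2) (B : Subgroup S) [B.Normal] (hB2 : ⁅⁅B, B⁆, B⁆ = ⊥) (U : Subgroup S)
    (hU : U ∈ maxElementaryAbelianSubgroups p S) (hBU : ⁅B, B⁆ ≤ U) (hnBU : ¬ B ≤ U) :
    ∃ A ∈ maxElementaryAbelianSubgroups p S, ⁅B, B⁆ ≤ A ∧ ¬ B ≤ A ∧
      B ≤ Subgroup.normalizer (A : Set S) := by
  have key := S0651.repl_induct B
    (fun A => A ∈ maxElementaryAbelianSubgroups p S ∧ ⁅B, B⁆ ≤ A ∧ ¬ B ≤ A) ?_ U ⟨hU, hBU, hnBU⟩
  · obtain ⟨A, ⟨h1, h2, h3⟩, h4⟩ := key
    exact ⟨A, h1, h2, h3, h4⟩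
  · rintro A ⟨hA, hBA, hnBA⟩ hnot
    obtain ⟨b, hb, hbN, hbA⟩ := S0651.exists_b hS B A hnot
    obtain ⟨hAc, hAmax⟩ := hA
    obtain ⟨c1, c2, c3, c4, c5, -, -, -, -, c10⟩ :=
      S0650.result hS B (fun h => absurd h hp) A hAc.1 hBA hnot b hb hbN hbA
    refine ⟨_, ⟨⟨⟨c2, ?_⟩, ?_⟩, c3, ?_⟩, c4⟩
    · intro x hx
      have h1 : Monoid.exponent ↥A ∣ p := by
        apply Monoid.exponent_dvd_of_forall_pow_eq_one
        rintro ⟨a, ha⟩
        apply Subtype.ext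
        rw [Subgroup.coe_pow]
        exact hAc.2 a ha
      have h2 := (c10 hp).trans h1
      have h3 := (Monoid.exponent_dvd_iff_forall_pow_eq_one.1 h2) ⟨x, hx⟩
      have h4 := congrArg Subtype.val h3
      rw [Subgroup.coe_pow] at h4
      exact h4
    · intro Y hYc
      rw [c1]
      exact hAmax Y hYc
    · intro hle
      exact c5.ne (inf_eq_right.2 hle)

/-- `A` is an elementary abelian subgroup of `P` of largest order. -/
def IsMaxEA {G : Type*} [Group G] (p : ℕ) (P A : Subgroup G) : Prop :=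
  A ≤ P ∧ IsElementaryAbelian p A ∧
    ∀ Y : Subgroup G, Y ≤ P → IsElementaryAbelian p Y → Nat.card Y ≤ Nat.card A

theorem ea_map' {G : Type*} [Group G] (p : ℕ) (φ : G ≃* G) (A : Subgroup G)
    (hA : IsElementaryAbelian p A) : IsElementaryAbelian p (A.map φ.toMonoidHom) := by
  refine ⟨by haveI := hA.1; exact Subgroup.map_isMulCommutative A _, ?_⟩
  rintro _ ⟨a, ha, rfl⟩
  have := hA.2 a ha
  rw [← map_pow, this, map_one]

theorem fam_ea {G : Type*} [Group G] [Finite G] {p : ℕ} [Fact p.Prime] (hp : p ≠ 2) :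
    Fam p (IsMaxEA (G := G) p) where
  le := fun P A h => h.1
  comm := fun P A h => h.2.1.1
  ex := by
    intro P
    haveI : Nonempty {A : Subgroup G // A ≤ P ∧ IsElementaryAbelian p A} :=
      ⟨⟨⊥, bot_le, inferInstance, fun a ha => by rw [Subgroup.mem_bot.1 ha, one_pow]⟩⟩
    obtain ⟨A, hA⟩ := Finite.exists_max
      (fun A : {A : Subgroup G // A ≤ P ∧ IsElementaryAbelian p A} => Nat.card A.1)
    exact ⟨A.1, A.2.1, A.2.2, fun Y hY hYc => hA ⟨Y, hY, hYc⟩⟩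
  map := by
    rintro φ P A ⟨hAP, hAc, hmax⟩
    refine ⟨Subgroup.map_mono hAP, ea_map' p φ A hAc, ?_⟩
    intro Y hY hYc
    have h1 : Nat.card (A.map φ.toMonoidHom) = Nat.card A :=
      Subgroup.card_map_of_injective φ.injective
    have h2 : Nat.card (Y.map φ.symm.toMonoidHom) = Nat.card Y :=
      Subgroup.card_map_of_injective φ.symm.injective
    rw [h1, ← h2]
    apply hmax
    · rintro _ ⟨y, hy, rfl⟩
      obtain ⟨z, hz, rfl⟩ := hY hy
      simpa using hz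
    · exact ea_map' p φ.symm Y hYc
  up := fun S T A₀ A hTS hA₀ hA₀T hA =>
    ⟨hA.1.trans hTS, hA.2.1, fun Y hY hYc => (hA₀.2.2 Y hY hYc).trans (hA.2.2 A₀ hA₀T hA₀.2.1)⟩
  down := fun S T A hTS hA hAT => ⟨hAT, hA.2.1, fun Y hY hYc => hA.2.2 Y (hY.trans hTS) hYc⟩
  repl := by
    intro S B hS hBS hSB hB2 U hU hBU hnBU
    have h := transport S B hBS hSB hB2 (maxElementaryAbelianSubgroups p ↥S)
      (fun B' _ hB2' U' hU' h1 h2 => repl_ea hS hp B' hB2' U' hU' h1 h2) U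
      ((S0652.mem_fam p S U).2 hU) hBU hnBU
    obtain ⟨A, hA, h1, h2, h3⟩ := h
    exact ⟨A, (S0652.mem_fam p S A).1 hA, h1, h2, h3⟩

theorem omega_eq {G : Type*} [Group G] [Finite G] {p : ℕ} [Fact p.Prime] (hp : p ≠ 2)
    (P : Subgroup G) (hP : IsPGroup p P) :
    (omegaCenterThompson p ↥P).map P.subtype = W (IsMaxEA p) P := by
  rw [← (S0655.result hP).1]
  ext x
  rw [mem_W]
  constructor
  · rintro ⟨y, hy, rfl⟩ A hA
    obtain ⟨A', hA', rfl⟩ := (S0652.mem_fam p P A).2 hA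
    have hy' : y ∈ sInf (maxElementaryAbelianSubgroups p ↥P) := hy
    rw [Subgroup.mem_sInf] at hy'
    exact ⟨y, hy' A' hA', rfl⟩
  · intro hx
    obtain ⟨A₀, hA₀⟩ := (fam_ea (G := G) hp).ex P
    have hxP : x ∈ P := hA₀.1 (hx A₀ hA₀)
    refine ⟨⟨x, hxP⟩, ?_, rfl⟩
    show (⟨x, hxP⟩ : ↥P) ∈ sInf (maxElementaryAbelianSubgroups p ↥P)
    rw [Subgroup.mem_sInf]
    intro A' hA'
    have hA : IsMaxEA p P (A'.map P.subtype) := (S0652.mem_fam p P _).1 ⟨A', hA', rfl⟩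
    obtain ⟨a, ha, hax⟩ := hx _ hA
    have : a = ⟨x, hxP⟩ := Subtype.ext hax
    rw [← this]; exact ha

theorem result {G : Type*} [Group G] [Finite G] {p : ℕ} [Fact p.Prime] (hp : p ≠ 2) (hc : Subgroup.centralizer (Cfsg.pCore p G : Set G) ≤ Cfsg.pCore p G) (hst : ∀ (P : Subgroup G) [P.Normal], IsPGroup p P → Cfsg.IsPStableOn p P) (S : Sylow p G) : ((Cfsg.omegaCenterThompson p ↥(S : Subgroup G)).map (S : Subgroup G).subtype).Characteristic := by
  rw [omega_eq hp _ S.isPGroup']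
  exact main hc hst S (IsMaxEA p) (fam_ea hp)

end Cfsg.Agent.S0654
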