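import Mathlib
import Cfsg.Statements.S1477
import Cfsg.Agent.S0033
import Cfsg.Agent.S4040
import Cfsg.Agent.S4155
import Cfsg.Agent.S0658
import Cfsg.Agent.Lib.Helper1.Nil
import Cfsg.Agent.Lib.Helper1.Frob
set_option autoImplicit false
open Pointwise
open Cfsg
open scoped commutatorElement

namespace Cfsg.Agent.S1477

theorem nil_comm {M : Type*} [Group M] [Finite M] (hM : Group.IsNilpotent M) (p : ℕ) [Fact p.Prime]
    (a b : M) (k : ℕ) (ha : a ^ (p ^ k) = 1) (hb : (orderOf b).Coprime p) : a * b = b * a := by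
  have hp : p.Prime := Fact.out
  haveI := hM
  obtain ⟨N, hNn, hNc, j, hNi⟩ := Lib.Helper1.Frob.hasNPC_iff.1 (S4040.npc_of_nilpotent (M := M) p)
  haveI := hNn
  have hbN : b ∈ N := Lib.Helper1.Frob.mem_of_coprime_of_index N hNi b hb
  obtain ⟨S⟩ := (inferInstance : Nonempty (Sylow p M))
  have hSn : (S : Subgroup M).Normal := S0033.sylow_normal_of_nilpotent hM p S
  have haS : a ∈ (S : Subgroup M) := by
    apply Lib.Helper1.mem_sylow_of_pow_mem_normalizer p S a _ k ha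
    rw [Subgroup.normalizer_eq_top]; exact Subgroup.mem_top a
  have h1 : a * b * a⁻¹ * b⁻¹ ∈ (S : Subgroup M) := by
    have : a * b * a⁻¹ * b⁻¹ = a * (b * a⁻¹ * b⁻¹) := by group
    rw [this]
    exact mul_mem haS (hSn.conj_mem a⁻¹ (inv_mem haS) b)
  have h2 : a * b * a⁻¹ * b⁻¹ ∈ N := mul_mem (hNn.conj_mem b hbN a) (inv_mem hbN)
  have hbot : (S : Subgroup M) ⊓ N = ⊥ := by
    apply Subgroup.inf_eq_bot_of_coprime
    obtain ⟨n, hn⟩ := IsPGroup.iff_card.1 S.2
    rw [hn]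
    exact Nat.Coprime.pow_left n hNc.symm
  have h3 : a * b * a⁻¹ * b⁻¹ ∈ (S : Subgroup M) ⊓ N := Subgroup.mem_inf.mpr ⟨h1, h2⟩
  rw [hbot, Subgroup.mem_bot] at h3
  calc a * b = (a * b * a⁻¹ * b⁻¹) * (b * a) := by group
    _ = b * a := by rw [h3, one_mul]

theorem nil_comm_sub {G : Type*} [Group G] [Finite G] (L : Subgroup G) (hL : Group.IsNilpotent L)
    (p : ℕ) [Fact p.Prime] (a b : G) (haL : a ∈ L) (hbL : b ∈ L) (k : ℕ) (ha : a ^ (p ^ k) = 1)
    (hb : (orderOf b).Coprime p) : a * b = b * a := by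
  have h := nil_comm hL p (⟨a, haL⟩ : L) ⟨b, hbL⟩ k (Subtype.ext (by simpa using ha))
    (by rw [Subgroup.orderOf_mk]; exact hb)
  exact congrArg Subtype.val h

theorem cent_eq {G : Type*} [Group G] [Finite G] (hCN : IsCNGroup G) (H : Subgroup G)
    (hmax : ∀ L : Subgroup G, Group.IsNilpotent L → H ≤ L → L = H) (y : G) (hy1 : y ≠ 1)
    (hyc : ∀ h ∈ H, h * y = y * h) : Subgroup.centralizer ({y} : Set G) = H := by
  apply hmax _ (hCN y hy1)
  intro h hh
  rw [Subgroup.mem_centralizer_iff]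
  intro z hz
  rw [Set.mem_singleton_iff] at hz
  rw [hz]
  exact (hyc h hh).symm

theorem exists_prime_pow {G : Type*} [Group G] [Finite G] (x : G) (hx : x ≠ 1) :
    ∃ (p : ℕ) (m : ℕ), p.Prime ∧ x ^ m ≠ 1 ∧ (x ^ m) ^ p = 1 := by
  obtain ⟨p, hp, hpd⟩ := Nat.exists_prime_and_dvd (n := orderOf x)
    (by rw [Ne, orderOf_eq_one_iff]; exact hx)
  have ho : orderOf (x ^ (orderOf x / p)) = p := orderOf_pow_orderOf_div (orderOf_pos x).ne' hpd
  refine ⟨p, orderOf x / p, hp, ?_, ?_⟩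
  · intro h
    rw [h, orderOf_one] at ho
    exact hp.one_lt.ne ho
  · have := pow_orderOf_eq_one (x ^ (orderOf x / p))
    rw [ho] at this
    exact this

theorem pfacts {G : Type*} [Group G] [Finite G] (H : Subgroup G) (hH : Group.IsNilpotent H)
    (p : ℕ) [Fact p.Prime] :
    ∃ Pg : Subgroup G, (∀ w, w ∈ Pg ↔ w ∈ H ∧ ∃ k : ℕ, w ^ (p ^ k) = 1) ∧ IsPGroup p Pg := by
  obtain ⟨P⟩ := (inferInstance : Nonempty (Sylow p H))
  haveI hPn : (P : Subgroup H).Normal := S0033.sylow_normal_of_nilpotent hH p P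
  refine ⟨(P : Subgroup H).map H.subtype, ?_, P.2.map H.subtype⟩
  intro w
  constructor
  · rintro ⟨w', hw', rfl⟩
    refine ⟨w'.2, ?_⟩
    obtain ⟨k, hk⟩ := P.2 ⟨w', hw'⟩
    refine ⟨k, ?_⟩
    have h1 := congrArg Subtype.val hk
    have h2 : (w' : H) ^ (p ^ k) = 1 := by simpa using h1
    have h3 := congrArg Subtype.val h2
    simpa using h3
  · rintro ⟨hw, k, hk⟩
    refine ⟨⟨w, hw⟩, ?_, rfl⟩
    apply Lib.Helper1.mem_sylow_of_pow_mem_normalizer p P ⟨w, hw⟩ _ k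
      (Subtype.ext (by simpa using hk))
    rw [Subgroup.normalizer_eq_top]; exact Subgroup.mem_top _

theorem central_p {G : Type*} [Group G] [Finite G] (H : Subgroup G) (hH : Group.IsNilpotent H)
    (p : ℕ) [Fact p.Prime] (x0 : G) (hx0 : x0 ∈ H) (hx01 : x0 ≠ 1) (k0 : ℕ)
    (hx0p : x0 ^ (p ^ k0) = 1) :
    ∃ y ∈ H, y ≠ 1 ∧ (∃ k : ℕ, y ^ (p ^ k) = 1) ∧ ∀ h ∈ H, h * y = y * h := by
  obtain ⟨P⟩ := (inferInstance : Nonempty (Sylow p H))
  haveI hPn : (P : Subgroup H).Normal := S0033.sylow_normal_of_nilpotent hH p P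
  haveI := hH
  have hx0P : (⟨x0, hx0⟩ : H) ∈ (P : Subgroup H) := by
    apply Lib.Helper1.mem_sylow_of_pow_mem_normalizer p P ⟨x0, hx0⟩ _ k0
      (Subtype.ext (by simpa using hx0p))
    rw [Subgroup.normalizer_eq_top]; exact Subgroup.mem_top _
  have hPne : (P : Subgroup H) ≠ ⊥ := by
    intro hb
    rw [hb, Subgroup.mem_bot] at hx0P
    exact hx01 (congrArg Subtype.val hx0P)
  obtain ⟨v, hvP, hvZ, hv1⟩ := S4155.normal_inf_center (P : Subgroup H) hPne
  refine ⟨v.1, v.2, fun h => hv1 (Subtype.ext h), ?_, ?_⟩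
  · obtain ⟨k, hk⟩ := P.2 ⟨v, hvP⟩
    refine ⟨k, ?_⟩
    have h1 := congrArg Subtype.val hk
    have h2 : (v : H) ^ (p ^ k) = 1 := by simpa using h1
    have h3 := congrArg Subtype.val h2
    simpa using h3
  · intro h hh
    have := Subgroup.mem_center_iff.mp hvZ ⟨h, hh⟩
    exact congrArg Subtype.val this

theorem sylow_of_max {G : Type*} [Group G] [Finite G] (hCN : IsCNGroup G) (H : Subgroup G)
    (hH : Group.IsNilpotent H)
    (hmax : ∀ L : Subgroup G, Group.IsNilpotent L → H ≤ L → L = H) (p : ℕ) [Fact p.Prime]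
    (x0 : G) (hx0 : x0 ∈ H) (hx01 : x0 ≠ 1) (k0 : ℕ) (hx0p : x0 ^ (p ^ k0) = 1) :
    ∃ S : Sylow p G, ∀ w, w ∈ (S : Subgroup G) ↔ w ∈ H ∧ ∃ k : ℕ, w ^ (p ^ k) = 1 := by
  obtain ⟨Pg, hmem, hPg⟩ := pfacts H hH p
  obtain ⟨S, hPS⟩ := hPg.exists_le_sylow
  refine ⟨S, ?_⟩
  by_cases heq : Pg = (S : Subgroup G)
  · intro w; rw [← heq]; exact hmem w
  exfalso
  obtain ⟨t, htS, htN, htP⟩ := S0658.norm_grow (S : Subgroup G) Pg S.2 hPS heq
  have hzp : IsPGroup p (Subgroup.zpowers t) :=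
    S.2.to_le (by rw [Subgroup.zpowers_le]; exact htS)
  have hzle : Subgroup.zpowers t ≤ Subgroup.normalizer (Pg : Set G) := by
    rw [Subgroup.zpowers_le]; exact htN
  have hT : IsPGroup p (Pg ⊔ Subgroup.zpowers t : Subgroup G) :=
    IsPGroup.to_sup_of_normal_left' hPg hzp hzle
  haveI hTnil : Group.IsNilpotent ↥(Pg ⊔ Subgroup.zpowers t) := hT.isNilpotent
  have hTN : Pg ⊔ Subgroup.zpowers t ≤ Subgroup.normalizer (Pg : Set G) :=
    sup_le Subgroup.le_normalizer hzle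
  haveI hVn : (Pg.subgroupOf (Pg ⊔ Subgroup.zpowers t)).Normal :=
    (Subgroup.normal_subgroupOf_iff_le_normalizer le_sup_left).2 hTN
  have hx0P : x0 ∈ Pg := (hmem x0).2 ⟨hx0, k0, hx0p⟩
  have hVne : Pg.subgroupOf (Pg ⊔ Subgroup.zpowers t) ≠ ⊥ := by
    intro hb
    have h1 : (⟨x0, Subgroup.mem_sup_left hx0P⟩ : ↥(Pg ⊔ Subgroup.zpowers t)) ∈
        Pg.subgroupOf (Pg ⊔ Subgroup.zpowers t) := Subgroup.mem_subgroupOf.2 hx0P
    rw [hb, Subgroup.mem_bot] at h1
    exact hx01 (congrArg Subtype.val h1)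
  obtain ⟨v, hvV, hvZ, hv1⟩ :=
    S4155.normal_inf_center (Pg.subgroupOf (Pg ⊔ Subgroup.zpowers t)) hVne
  have hvP : (v : G) ∈ Pg := Subgroup.mem_subgroupOf.1 hvV
  have hvc : ∀ z ∈ Pg ⊔ Subgroup.zpowers t, z * (v : G) = (v : G) * z := by
    intro z hz
    exact congrArg Subtype.val (Subgroup.mem_center_iff.mp hvZ ⟨z, hz⟩)
  obtain ⟨hvH, kv, hkv⟩ := (hmem v).1 hvP
  have hcH : ∀ h ∈ H, h * (v : G) = (v : G) * h := by
    intro h hh
    obtain ⟨u, w, huw, _, hu, ⟨k, hk⟩, huz, hwz⟩ := Lib.Helper1.exists_p_decomp p h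
    have hzH : Subgroup.zpowers h ≤ H := by rw [Subgroup.zpowers_le]; exact hh
    have hwP : w ∈ Pg := (hmem w).2 ⟨hzH hwz, k, hk⟩
    have h1 : w * (v : G) = (v : G) * w := hvc w (Subgroup.mem_sup_left hwP)
    have h2 : (v : G) * u = u * (v : G) := nil_comm_sub H hH p v u hvH (hzH huz) kv hkv hu
    rw [huw, mul_assoc, h1, ← mul_assoc, ← h2, mul_assoc]
  have hcent := cent_eq hCN H hmax v (fun h => hv1 (Subtype.ext h)) hcH
  have htH : t ∈ H := by
    rw [← hcent, Subgroup.mem_centralizer_iff]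
    intro z hz
    rw [Set.mem_singleton_iff] at hz
    rw [hz]
    exact (hvc t (Subgroup.mem_sup_right (Subgroup.mem_zpowers t))).symm
  obtain ⟨kt, hkt⟩ := S.2 ⟨t, htS⟩
  have hkt' : t ^ (p ^ kt) = 1 := by simpa using congrArg Subtype.val hkt
  exact htP ((hmem t).2 ⟨htH, kt, hkt'⟩)

theorem conj_pow' {G : Type*} [Group G] (g c : G) (n : ℕ) :
    (g⁻¹ * c * g) ^ n = g⁻¹ * c ^ n * g := by
  have := conj_pow (a := g⁻¹) (b := c) (i := n)
  rw [inv_inv] at this
  exact this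

theorem cmem {G : Type*} [Group G] (x z : G) :
    z ∈ Subgroup.centralizer ({x} : Set G) ↔ x * z = z * x := by
  rw [Subgroup.mem_centralizer_iff]
  constructor
  · intro h; exact h x rfl
  · intro h w hw; rw [Set.mem_singleton_iff] at hw; rw [hw]; exact h

theorem result {G : Type*} [Group G] [Finite G] (hCN : Cfsg.IsCNGroup G) (H : Subgroup G) (hH : Group.IsNilpotent H)
    (hmax : ∀ L : Subgroup G, Group.IsNilpotent L → H ≤ L → L = H) :
    (Nat.card H).Coprime H.index ∧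
      (¬ IsPrimePow (Nat.card H) → Nat.card H ≠ 1 → ∀ g : G, H.map (MulAut.conj g).toMonoidHom ≠ H → H ⊓ H.map (MulAut.conj g).toMonoidHom = ⊥) ∧
      ((∀ g : G, H.map (MulAut.conj g).toMonoidHom ≠ H → H ⊓ H.map (MulAut.conj g).toMonoidHom = ⊥) → ∀ x ∈ H, x ≠ 1 → Subgroup.centralizer ({x} : Set G) ≤ H) := by
  refine ⟨?_, ?_, ?_⟩
  · by_contra hnc
    obtain ⟨p, hp, hd1, hd2⟩ := Nat.Prime.not_coprime_iff_dvd.mp hnc
    haveI : Fact p.Prime := ⟨hp⟩
    obtain ⟨x0', hx0'⟩ := exists_prime_orderOf_dvd_card' p hd1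
    have hx01 : (x0' : G) ≠ 1 := by
      intro h
      have : x0' = 1 := Subtype.ext h
      rw [this, orderOf_one] at hx0'
      exact hp.one_lt.ne hx0'
    have hx0p : (x0' : G) ^ (p ^ 1) = 1 := by
      have := pow_orderOf_eq_one x0'
      rw [hx0'] at this
      rw [pow_one]
      simpa using congrArg Subtype.val this
    obtain ⟨S, hS⟩ := sylow_of_max hCN H hH hmax p x0' x0'.2 hx01 1 hx0p
    have hSH : (S : Subgroup G) ≤ H := fun w hw => ((hS w).1 hw).1
    have h1 : H.index ∣ (S : Subgroup G).index := Subgroup.index_dvd_of_le hSH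
    exact S.not_dvd_index (dvd_trans hd2 h1)
  · intro hnpp hne1 g hg
    by_contra hne
    obtain ⟨⟨x, hx⟩, hx1⟩ := (Subgroup.ne_bot_iff_exists_ne_one).mp hne
    have hx1' : x ≠ 1 := fun h => hx1 (Subtype.ext h)
    obtain ⟨p, m, hp, hxm1, hxmp⟩ := exists_prime_pow x hx1'
    haveI : Fact p.Prime := ⟨hp⟩
    have hxH : x ^ m ∈ H := pow_mem (Subgroup.mem_inf.1 hx).1 m
    have hxHg : g⁻¹ * x ^ m * g ∈ H :=
      (Lib.Helper1.mem_map_conj_iff H g _).1 (pow_mem (Subgroup.mem_inf.1 hx).2 m)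
    obtain ⟨x1, hx1def⟩ : ∃ x1, x1 = x ^ m := ⟨_, rfl⟩
    rw [← hx1def] at hxm1 hxmp hxH hxHg
    have hx1p : x1 ^ (p ^ 1) = 1 := by rw [pow_one]; exact hxmp
    have hq : ∃ q : ℕ, q.Prime ∧ q ∣ Nat.card H ∧ q ≠ p := by
      by_contra hcon
      push_neg at hcon
      have h1 : Nat.card H = p ^ (Nat.card H).primeFactorsList.length :=
        Nat.eq_prime_pow_of_unique_prime_dvd Nat.card_pos.ne' (fun {d} hd hdd => hcon d hd hdd)
      apply hnpp
      refine ⟨p, (Nat.card H).primeFactorsList.length, hp.prime, ?_, h1.symm⟩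
      by_contra h0
      have h00 : (Nat.card H).primeFactorsList.length = 0 := by omega
      rw [h00, pow_zero] at h1
      exact hne1 h1
    obtain ⟨q, hq, hqd, hqp⟩ := hq
    haveI : Fact q.Prime := ⟨hq⟩
    obtain ⟨y, hyH, hy1, ⟨ky, hky⟩, hyc⟩ := central_p H hH p x1 hxH hxm1 1 hx1p
    obtain ⟨z0', hz0'⟩ := exists_prime_orderOf_dvd_card' q hqd
    have hz01 : (z0' : G) ≠ 1 := by
      intro h
      have : z0' = 1 := Subtype.ext h
      rw [this, orderOf_one] at hz0'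
      exact hq.one_lt.ne hz0'
    have hz0q : (z0' : G) ^ (q ^ 1) = 1 := by
      have := pow_orderOf_eq_one z0'
      rw [hz0'] at this
      rw [pow_one]
      simpa using congrArg Subtype.val this
    obtain ⟨c0, hc0H, hc01, ⟨kc, hkc⟩, hc0c⟩ := central_p H hH q z0' z0'.2 hz01 1 hz0q
    have hcy := cent_eq hCN H hmax y hy1 hyc
    have hcc := cent_eq hCN H hmax c0 hc01 hc0c
    have hL : Group.IsNilpotent (Subgroup.centralizer ({x1} : Set G)) := hCN x1 hxm1
    have hi : ∀ u ∈ H, (orderOf u).Coprime p → x1 * u = u * x1 :=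
      fun u hu huo => nil_comm_sub H hH p x1 u hxH hu 1 hx1p huo
    have hii : ∀ c : G, g⁻¹ * c * g ∈ H → (orderOf c).Coprime p → x1 * c = c * x1 := by
      intro c hc hco
      have ho : (orderOf (g⁻¹ * c * g)).Coprime p := by
        refine Nat.Coprime.coprime_dvd_left (orderOf_dvd_of_pow_eq_one ?_) hco
        rw [conj_pow', pow_orderOf_eq_one]; group
      have h1 := nil_comm_sub H hH p (g⁻¹ * x1 * g) (g⁻¹ * c * g) hxHg hc 1
        (by rw [conj_pow', hx1p]; group) ho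
      have h2 : x1 * c = g * (g⁻¹ * x1 * g * (g⁻¹ * c * g)) * g⁻¹ := by group
      rw [h2, h1]; group
    have hiii : ∀ c : G, x1 * c = c * x1 → (orderOf c).Coprime p → c ∈ H ∧ g⁻¹ * c * g ∈ H := by
      intro c hc hco
      have hcL : c ∈ Subgroup.centralizer ({x1} : Set G) := (cmem x1 c).2 hc
      have hyL : y ∈ Subgroup.centralizer ({x1} : Set G) := (cmem x1 y).2 (hyc x1 hxH)
      have hygL : g * y * g⁻¹ ∈ Subgroup.centralizer ({x1} : Set G) := by
        rw [cmem]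
        have h1 := hyc (g⁻¹ * x1 * g) hxHg
        have h2 : x1 * (g * y * g⁻¹) = g * (g⁻¹ * x1 * g * y) * g⁻¹ := by group
        rw [h2, h1]; group
      constructor
      · rw [← hcy, cmem]
        exact nil_comm_sub _ hL p y c hyL hcL ky hky hco
      · rw [← hcy, cmem]
        have h1 := nil_comm_sub _ hL p (g * y * g⁻¹) c hygL hcL ky (by rw [conj_pow, hky]; group) hco
        have h2 : y * (g⁻¹ * c * g) = g⁻¹ * (g * y * g⁻¹ * c) * g := by group
        rw [h2, h1]; group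
    have hcpow : (g * c0 * g⁻¹) ^ (q ^ kc) = 1 := by rw [conj_pow, hkc]; group
    have hqp' : (q ^ kc).Coprime p := Nat.Coprime.pow_left kc ((Nat.coprime_primes hq hp).2 hqp)
    have hcco : (orderOf (g * c0 * g⁻¹)).Coprime p :=
      Nat.Coprime.coprime_dvd_left (orderOf_dvd_of_pow_eq_one hcpow) hqp'
    have hcHg : g⁻¹ * (g * c0 * g⁻¹) * g ∈ H := by
      have : g⁻¹ * (g * c0 * g⁻¹) * g = c0 := by group
      rw [this]; exact hc0H
    have hcL := hii _ hcHg hcco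
    have hcH := (hiii _ hcL hcco).1
    have hccent : ∀ h ∈ H, h * (g * c0 * g⁻¹) = g * c0 * g⁻¹ * h := by
      intro h hh
      obtain ⟨u, w, huw, _, hu, ⟨k, hk⟩, huz, hwz⟩ := Lib.Helper1.exists_p_decomp p h
      have hzH : Subgroup.zpowers h ≤ H := by rw [Subgroup.zpowers_le]; exact hh
      have h1 : w * (g * c0 * g⁻¹) = g * c0 * g⁻¹ * w :=
        nil_comm_sub H hH p w _ (hzH hwz) hcH k hk hcco
      have huL := hi u (hzH huz) hu
      have huHg := (hiii u huL hu).2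
      have h3 := hc0c _ huHg
      have h2 : u * (g * c0 * g⁻¹) = g * c0 * g⁻¹ * u := by
        have e : u * (g * c0 * g⁻¹) = g * (g⁻¹ * u * g * c0) * g⁻¹ := by group
        rw [e, h3]; group
      rw [huw, mul_assoc, h1, ← mul_assoc, h2, mul_assoc]
    have hc1 : g * c0 * g⁻¹ ≠ 1 := by
      intro h
      apply hc01
      have : c0 = g⁻¹ * (g * c0 * g⁻¹) * g := by group
      rw [this, h]; group
    have hfin := cent_eq hCN H hmax (g * c0 * g⁻¹) hc1 hccent
    apply hg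
    ext z
    rw [Lib.Helper1.mem_map_conj_iff]
    constructor
    · intro hz
      rw [← hfin, cmem]
      have h3 := hc0c _ hz
      have e : z * (g * c0 * g⁻¹) = g * (g⁻¹ * z * g * c0) * g⁻¹ := by group
      rw [e, h3]; group
    · intro hz
      rw [← hcc, cmem]
      have h3 := hccent z hz
      have e : g⁻¹ * z * g * c0 = g⁻¹ * (z * (g * c0 * g⁻¹)) * g := by group
      rw [e, h3]; group
  · intro hTI x hx hx1 c hc
    obtain ⟨p, m, hp, hxm1, hxmp⟩ := exists_prime_pow x hx1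
    haveI : Fact p.Prime := ⟨hp⟩
    have hxH : x ^ m ∈ H := pow_mem hx m
    have hcx : x * c = c * x := (cmem x c).1 hc
    have hcxm : x ^ m * c = c * x ^ m := (Commute.pow_left (show Commute x c from hcx) m).eq
    obtain ⟨x1, hx1def⟩ : ∃ x1, x1 = x ^ m := ⟨_, rfl⟩
    rw [← hx1def] at hxm1 hxmp hxH hcxm
    have hx1p : x1 ^ (p ^ 1) = 1 := by rw [pow_one]; exact hxmp
    obtain ⟨y, hyH, hy1, ⟨ky, hky⟩, hyc⟩ := central_p H hH p x1 hxH hxm1 1 hx1p
    have hcy := cent_eq hCN H hmax y hy1 hyc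
    have hL : Group.IsNilpotent (Subgroup.centralizer ({x1} : Set G)) := hCN x1 hxm1
    obtain ⟨S, hS⟩ := sylow_of_max hCN H hH hmax p x1 hxH hxm1 1 hx1p
    have hLN : ∀ l : G, x1 * l = l * x1 → l ∈ Subgroup.normalizer (H : Set G) := by
      intro l hl
      apply Lib.Helper1.mem_normalizer_of_map_conj_eq
      by_contra hne
      have hbot := hTI l hne
      have hmem : x1 ∈ H ⊓ H.map (MulAut.conj l).toMonoidHom := by
        refine Subgroup.mem_inf.mpr ⟨hxH, ?_⟩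
        rw [Lib.Helper1.mem_map_conj_iff]
        have : l⁻¹ * x1 * l = x1 := by rw [mul_assoc, hl, ← mul_assoc, inv_mul_cancel, one_mul]
        rw [this]; exact hxH
      rw [hbot, Subgroup.mem_bot] at hmem
      exact hxm1 hmem
    obtain ⟨u, w, huw, _, hu, ⟨k, hk⟩, huz, hwz⟩ := Lib.Helper1.exists_p_decomp p c
    have hzc : ∀ z ∈ Subgroup.zpowers c, x1 * z = z * x1 := by
      intro z hz
      obtain ⟨i, rfl⟩ := Subgroup.mem_zpowers_iff.mp hz
      exact (Commute.zpow_right (show Commute x1 c from hcxm) i).eq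
    have huH : u ∈ H := by
      rw [← hcy, cmem]
      exact nil_comm_sub _ hL p y u ((cmem x1 y).2 (hyc x1 hxH)) ((cmem x1 u).2 (hzc u huz))
        ky hky hu
    have hwH : w ∈ H := by
      have hwN := hLN w (hzc w hwz)
      have hwNS : w ∈ Subgroup.normalizer ((S : Subgroup G) : Set G) := by
        rw [Subgroup.mem_normalizer_iff]
        intro z
        rw [hS, hS]
        have hwN' := Subgroup.mem_normalizer_iff.mp hwN z
        constructor
        · rintro ⟨hz, kz, hkz⟩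
          exact ⟨hwN'.1 hz, kz, by rw [conj_pow, hkz]; group⟩
        · rintro ⟨hz, kz, hkz⟩
          refine ⟨hwN'.2 hz, kz, ?_⟩
          rw [conj_pow] at hkz
          have : z ^ (p ^ kz) = w⁻¹ * (w * z ^ (p ^ kz) * w⁻¹) * w := by group
          rw [this, hkz]; group
      exact ((hS w).1 (Lib.Helper1.mem_sylow_of_pow_mem_normalizer p S w hwNS k hk)).1
    rw [huw]
    exact mul_mem huH hwH

end Cfsg.Agent.S1477
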