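import Mathlib
import Cfsg.Statements.S1473
import Cfsg.Agent.S1477
import Cfsg.Agent.S0003
import Cfsg.Agent.Lib.Helper2.CoprimeAct
set_option autoImplicit false
open Pointwise
open Cfsg
open scoped commutatorElement

namespace Cfsg.Agent.S1473

theorem nil_of_inj {A B : Type*} [Group A] [Group B] (f : A →* B) (hf : Function.Injective f)
    (hB : Group.IsNilpotent B) : Group.IsNilpotent A := by
  haveI := hB
  exact Group.nilpotent_of_mulEquiv (MonoidHom.ofInjective hf).symm

theorem nil_of_le {G : Type*} [Group G] {A B : Subgroup G} (h : A ≤ B)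
    (hB : Group.IsNilpotent B) : Group.IsNilpotent A :=
  nil_of_inj (Subgroup.inclusion h) (Subgroup.inclusion_injective h) hB

theorem cn_of_equiv {A B : Type*} [Group A] [Group B] (e : A ≃* B) (h : IsCNGroup A) :
    IsCNGroup B := by
  intro b hb
  have ha : e.symm b ≠ 1 := by
    intro h1
    apply hb
    have := congrArg e h1
    simpa using this
  have hnil := h (e.symm b) ha
  let f : Subgroup.centralizer ({b} : Set B) →* Subgroup.centralizer ({e.symm b} : Set A) :=
    (e.symm.toMonoidHom.comp (Subgroup.centralizer ({b} : Set B)).subtype).codRestrict _ (by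
      intro c
      rw [S1477.cmem]
      have hc := (S1477.cmem b c.1).1 c.2
      show e.symm b * e.symm c.1 = e.symm c.1 * e.symm b
      rw [← map_mul, ← map_mul, hc])
  refine nil_of_inj f ?_ hnil
  intro c1 c2 h12
  have h1 : e.symm c1.1 = e.symm c2.1 := congrArg Subtype.val h12
  exact Subtype.ext (e.symm.injective h1)

theorem eq_top_of_exists_sylow_le (S : Type*) [Group S] [Finite S] (T : Subgroup S)
    (hT : ∀ (p : ℕ) [Fact p.Prime], ∃ P : Sylow p S, (P : Subgroup S) ≤ T) : T = ⊤ := by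
  apply Subgroup.eq_top_of_le_card
  apply Nat.le_of_dvd Nat.card_pos
  rw [← Nat.factorization_prime_le_iff_dvd Nat.card_pos.ne' Nat.card_pos.ne']
  intro p hp
  haveI : Fact p.Prime := ⟨hp⟩
  obtain ⟨P, hP⟩ := hT p
  have h1 := Subgroup.card_dvd_of_le hP
  rw [Sylow.card_eq_multiplicity] at h1
  exact (hp.pow_dvd_iff_le_factorization Nat.card_pos.ne').1 h1

theorem zpow_isPGroup {G : Type*} [Group G] (q : ℕ) (x : G) (k : ℕ) (hx : x ^ (q ^ k) = 1) :
    IsPGroup q (Subgroup.zpowers x) := by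
  rintro ⟨y, hy⟩
  obtain ⟨i, rfl⟩ := Subgroup.mem_zpowers_iff.mp hy
  refine ⟨k, Subtype.ext ?_⟩
  show (x ^ i) ^ (q ^ k) = 1
  rw [← zpow_natCast, ← zpow_mul, mul_comm, zpow_mul, zpow_natCast, hx, one_zpow]

theorem step {G : Type*} [Group G] [Finite G] (hCN : IsCNGroup G) (N : Subgroup G)
    [hNn : N.Normal] (hab : ∀ a ∈ N, ∀ b ∈ N, a * b = b * a) (p : ℕ) [hp : Fact p.Prime]
    (hNp : IsPGroup p N) (hN1 : N ≠ ⊥) : IsCNGroup (G ⧸ N) := by
  have hpp : p.Prime := hp.out
  intro ξ hξ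
  obtain ⟨q, m, hq, hξm1, hξmq⟩ := S1477.exists_prime_pow ξ hξ
  haveI : Fact q.Prime := ⟨hq⟩
  have hle : Subgroup.centralizer ({ξ} : Set (G ⧸ N)) ≤
      Subgroup.centralizer ({ξ ^ m} : Set (G ⧸ N)) := by
    intro c hc
    rw [S1477.cmem] at hc ⊢
    exact (Commute.pow_left (show Commute ξ c from hc) m).eq
  suffices h : Group.IsNilpotent (Subgroup.centralizer ({ξ ^ m} : Set (G ⧸ N))) from
    nil_of_le hle h
  obtain ⟨η, hηdef⟩ : ∃ η, η = ξ ^ m := ⟨_, rfl⟩
  rw [← hηdef] at hξm1 hξmq ⊢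
  obtain ⟨x0, hx0η⟩ := QuotientGroup.mk_surjective η
  subst hx0η
  obtain ⟨b, hb⟩ := IsPGroup.iff_card.1 hNp
  have hNpow : ∀ n ∈ N, n ^ (p ^ b) = 1 := by
    intro n hn
    have := pow_card_eq_one' (G := N) (x := ⟨n, hn⟩)
    rw [hb] at this
    simpa using congrArg Subtype.val this
  have hx0q : x0 ^ q ∈ N := by
    have : ((x0 ^ q : G) : G ⧸ N) = 1 := by rw [QuotientGroup.mk_pow]; exact hξmq
    exact (QuotientGroup.eq_one_iff _).1 this
  by_cases hqp : q = p
  · subst hqp
    have hx0N : x0 ∉ N := fun h => hξm1 ((QuotientGroup.eq_one_iff x0).2 h)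
    have hx0pow : x0 ^ (q ^ (b + 1)) = 1 := by
      rw [pow_succ, mul_comm, pow_mul]; exact hNpow _ hx0q
    obtain ⟨C, hCdef⟩ : ∃ C : Subgroup G, C =
      (Subgroup.centralizer ({(x0 : G ⧸ N)} : Set (G ⧸ N))).comap (QuotientGroup.mk' N) :=
      ⟨_, rfl⟩
    have hCmem : ∀ g : G, g ∈ C ↔ x0⁻¹ * g⁻¹ * x0 * g ∈ N := by
      intro g
      rw [hCdef, Subgroup.mem_comap, S1477.cmem]
      show (x0 : G ⧸ N) * (g : G ⧸ N) = (g : G ⧸ N) * (x0 : G ⧸ N) ↔ _
      rw [← QuotientGroup.mk_mul, ← QuotientGroup.mk_mul, eq_comm, QuotientGroup.eq]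
      have : (g * x0)⁻¹ * (x0 * g) = x0⁻¹ * g⁻¹ * x0 * g := by group
      rw [this]
    obtain ⟨Z0, hZ0def⟩ : ∃ Z0 : Subgroup G, Z0 = N ⊓ Subgroup.centralizer ({x0} : Set G) :=
      ⟨_, rfl⟩
    have hZ0mem : ∀ n, n ∈ Z0 ↔ n ∈ N ∧ x0 * n = n * x0 := by
      intro n; rw [hZ0def, Subgroup.mem_inf, S1477.cmem]
    have hzp : IsPGroup q (Subgroup.zpowers x0) := zpow_isPGroup q x0 (b + 1) hx0pow
    have hT : IsPGroup q (N ⊔ Subgroup.zpowers x0 : Subgroup G) :=
      IsPGroup.to_sup_of_normal_left' hNp hzp (by rw [Subgroup.normalizer_eq_top]; exact le_top)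
    haveI hTnil : Group.IsNilpotent ↥(N ⊔ Subgroup.zpowers x0) := hT.isNilpotent
    haveI hVn : (N.subgroupOf (N ⊔ Subgroup.zpowers x0)).Normal := hNn.subgroupOf _
    have hVne : N.subgroupOf (N ⊔ Subgroup.zpowers x0) ≠ ⊥ := by
      intro hbot
      apply hN1
      rw [Subgroup.eq_bot_iff_forall]
      intro n hn
      have h1 : (⟨n, Subgroup.mem_sup_left hn⟩ : ↥(N ⊔ Subgroup.zpowers x0)) ∈
          N.subgroupOf (N ⊔ Subgroup.zpowers x0) := Subgroup.mem_subgroupOf.2 hn
      rw [hbot, Subgroup.mem_bot] at h1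
      exact congrArg Subtype.val h1
    obtain ⟨v, hvV, hvZ, hv1⟩ :=
      S4155.normal_inf_center (N.subgroupOf (N ⊔ Subgroup.zpowers x0)) hVne
    have hvN : (v : G) ∈ N := Subgroup.mem_subgroupOf.1 hvV
    have hvx : x0 * (v : G) = (v : G) * x0 :=
      congrArg Subtype.val (Subgroup.mem_center_iff.mp hvZ
        ⟨x0, Subgroup.mem_sup_right (Subgroup.mem_zpowers x0)⟩)
    have hvZ0 : (v : G) ∈ Z0 := (hZ0mem _).2 ⟨hvN, hvx⟩
    have hv1' : (v : G) ≠ 1 := fun h => hv1 (Subtype.ext h)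
    have hCZ : ∀ g ∈ C, ∀ n ∈ Z0, g * n * g⁻¹ ∈ Z0 := by
      intro g hg n hn
      obtain ⟨hnN, hnx⟩ := (hZ0mem n).1 hn
      refine (hZ0mem _).2 ⟨hNn.conj_mem n hnN g, ?_⟩
      have hn' := (hCmem g).1 hg
      have h1 : n * (x0⁻¹ * g⁻¹ * x0 * g) = (x0⁻¹ * g⁻¹ * x0 * g) * n := hab n hnN _ hn'
      have h2 : (g⁻¹ * x0 * g) * n = n * (g⁻¹ * x0 * g) := by
        have e : g⁻¹ * x0 * g = x0 * (x0⁻¹ * g⁻¹ * x0 * g) := by group
        rw [e, mul_assoc, ← h1, ← mul_assoc, hnx, mul_assoc]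
      have e2 : x0 * (g * n * g⁻¹) = g * ((g⁻¹ * x0 * g) * n) * g⁻¹ := by group
      rw [e2, h2]; group
    have hr : ∀ (r : ℕ), r.Prime → r ≠ q → ∀ g ∈ C, ∀ k : ℕ, g ^ (r ^ k) = 1 →
        ∀ n ∈ Z0, g * n = n * g := by
      intro r hr hrq g hg k hgk n hn
      haveI : Fact r.Prime := ⟨hr⟩
      obtain ⟨hnN, hnx⟩ := (hZ0mem n).1 hn
      have hzr : IsPGroup r (Subgroup.zpowers g) := zpow_isPGroup r g k hgk
      have hNr : (Nat.card N).Coprime r := by
        rw [hb]; exact Nat.Coprime.pow_left b ((Nat.coprime_primes hq hr).2 (Ne.symm hrq))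
      have hcomm : ∀ b' ∈ Subgroup.zpowers g, b' * x0 * b'⁻¹ * x0⁻¹ ∈ N := by
        intro b' hb'
        have hb'C : b' ∈ C := (Subgroup.zpowers_le.2 hg) hb'
        have h1 := (hCmem b'⁻¹).1 (inv_mem hb'C)
        rw [inv_inv] at h1
        have h2 := hNn.conj_mem _ h1 x0
        have e : x0 * (x0⁻¹ * b' * x0 * b'⁻¹) * x0⁻¹ = b' * x0 * b'⁻¹ * x0⁻¹ := by group
        rw [e] at h2; exact h2
      obtain ⟨m', hm'N, hm'⟩ := Lib.Helper2.CoprimeAct.coprime_fix N hNr (Subgroup.zpowers g) hzr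
        (by rw [Subgroup.normalizer_eq_top]; exact le_top) x0
        (by rw [Subgroup.normalizer_eq_top]; exact Subgroup.mem_top x0) hcomm
      have hgx' : g * (x0 * m') = (x0 * m') * g := hm' g (Subgroup.mem_zpowers g)
      have hx'1 : x0 * m' ≠ 1 := by
        intro h
        apply hx0N
        have : x0 = m'⁻¹ := eq_inv_of_mul_eq_one_left h
        rw [this]; exact inv_mem hm'N
      have hL' := hCN (x0 * m') hx'1
      have hgL : g ∈ Subgroup.centralizer ({x0 * m'} : Set G) := (S1477.cmem _ _).2 hgx'.symm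
      have hnL : n ∈ Subgroup.centralizer ({x0 * m'} : Set G) := by
        rw [S1477.cmem]
        rw [mul_assoc, hab m' hm'N n hnN, ← mul_assoc, hnx, mul_assoc]
      have hno : (orderOf n).Coprime r := by
        refine Nat.Coprime.coprime_dvd_left (orderOf_dvd_of_pow_eq_one (hNpow n hnN)) ?_
        exact Nat.Coprime.pow_left b ((Nat.coprime_primes hq hr).2 (Ne.symm hrq))
      exact S1477.nil_comm_sub _ hL' r g n hgL hnL k hgk hno
    obtain ⟨P⟩ := (inferInstance : Nonempty (Sylow q C))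
    obtain ⟨Pg, hPgdef⟩ : ∃ Pg : Subgroup G, Pg = (P : Subgroup C).map C.subtype := ⟨_, rfl⟩
    have hPgp : IsPGroup q Pg := by rw [hPgdef]; exact P.2.map C.subtype
    have hPgC : Pg ≤ C := by rw [hPgdef]; exact Subgroup.map_subtype_le _
    have hZ0p : IsPGroup q Z0 := hNp.to_le (by rw [hZ0def]; exact inf_le_left)
    have hCN' : C ≤ Subgroup.normalizer (Z0 : Set G) := by
      intro g hg
      rw [Subgroup.mem_normalizer_iff]
      intro n
      constructor
      · exact hCZ g hg n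
      · intro h
        have := hCZ g⁻¹ (inv_mem hg) _ h
        have e : g⁻¹ * (g * n * g⁻¹) * g⁻¹⁻¹ = n := by group
        rw [e] at this; exact this
    have hT2 : IsPGroup q (Pg ⊔ Z0 : Subgroup G) :=
      IsPGroup.to_sup_of_normal_right' hPgp hZ0p (hPgC.trans hCN')
    haveI : Group.IsNilpotent ↥(Pg ⊔ Z0) := hT2.isNilpotent
    haveI : (Z0.subgroupOf (Pg ⊔ Z0)).Normal :=
      (Subgroup.normal_subgroupOf_iff_le_normalizer le_sup_right).2
        (sup_le (hPgC.trans hCN') Subgroup.le_normalizer)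
    have hV2ne : Z0.subgroupOf (Pg ⊔ Z0) ≠ ⊥ := by
      intro hbot
      have h1 : (⟨(v : G), Subgroup.mem_sup_right hvZ0⟩ : ↥(Pg ⊔ Z0)) ∈
          Z0.subgroupOf (Pg ⊔ Z0) := Subgroup.mem_subgroupOf.2 hvZ0
      rw [hbot, Subgroup.mem_bot] at h1
      exact hv1' (congrArg Subtype.val h1)
    obtain ⟨z, hzV, hzZ, hz1⟩ := S4155.normal_inf_center (Z0.subgroupOf (Pg ⊔ Z0)) hV2ne
    have hzZ0 : (z : G) ∈ Z0 := Subgroup.mem_subgroupOf.1 hzV
    have hzc : ∀ w ∈ Pg, w * (z : G) = (z : G) * w := by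
      intro w hw
      exact congrArg Subtype.val (Subgroup.mem_center_iff.mp hzZ ⟨w, Subgroup.mem_sup_left hw⟩)
    have hz1' : (z : G) ≠ 1 := fun h => hz1 (Subtype.ext h)
    have hCle : C ≤ Subgroup.centralizer ({(z : G)} : Set G) := by
      have htop : (Subgroup.centralizer ({(z : G)} : Set G)).subgroupOf C = ⊤ := by
        apply eq_top_of_exists_sylow_le
        intro r hrF
        by_cases hrq : r = q
        · subst hrq
          refine ⟨P, ?_⟩
          intro c hc
          rw [Subgroup.mem_subgroupOf, S1477.cmem]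
          have hcPg : (c : G) ∈ Pg := by rw [hPgdef]; exact ⟨c, hc, rfl⟩
          exact (hzc _ hcPg).symm
        · obtain ⟨R⟩ := (inferInstance : Nonempty (Sylow r C))
          refine ⟨R, ?_⟩
          intro c hc
          rw [Subgroup.mem_subgroupOf, S1477.cmem]
          obtain ⟨k, hk⟩ := R.2 ⟨c, hc⟩
          have hk' : (c : G) ^ (r ^ k) = 1 := by
            have h1 := congrArg Subtype.val hk
            have h2 : (c : C) ^ (r ^ k) = 1 := by simpa using h1
            simpa using congrArg Subtype.val h2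
          exact (hr r hrF.out hrq c c.2 k hk' z hzZ0).symm
      intro g hg
      have : (⟨g, hg⟩ : C) ∈ (Subgroup.centralizer ({(z : G)} : Set G)).subgroupOf C := by
        rw [htop]; exact Subgroup.mem_top _
      exact Subgroup.mem_subgroupOf.1 this
    have hCnil : Group.IsNilpotent C := nil_of_le hCle (hCN z hz1')
    subst hCdef
    haveI := hCnil
    exact Group.nilpotent_of_surjective _
      (MonoidHom.subgroupComap_surjective_of_surjective (QuotientGroup.mk' N)
        (Subgroup.centralizer ({(x0 : G ⧸ N)} : Set (G ⧸ N))) (QuotientGroup.mk'_surjective N))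
  · have hcop : (p ^ b).Coprime q :=
      Nat.Coprime.pow_left b ((Nat.coprime_primes hpp hq).2 (Ne.symm hqp))
    obtain ⟨u, -, hu⟩ := Nat.exists_mul_mod_eq_one_of_coprime hcop hq.one_lt
    obtain ⟨e, hedef⟩ : ∃ e, e = p ^ b * u := ⟨_, rfl⟩
    rw [← hedef] at hu
    have he : e = q * (e / q) + 1 := by
      have := Nat.div_add_mod e q
      omega
    obtain ⟨x, hxdef⟩ : ∃ x, x = x0 ^ e := ⟨_, rfl⟩
    have hxq : x ^ q = 1 := by
      rw [hxdef, ← pow_mul, hedef, mul_comm (p ^ b * u) q, ← mul_assoc, pow_mul, pow_mul,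
        hNpow _ hx0q, one_pow]
    have hxmk : ((x : G) : G ⧸ N) = (x0 : G ⧸ N) := by
      rw [hxdef, QuotientGroup.mk_pow, he, pow_add, pow_mul, hξmq, one_pow, one_mul, pow_one]
    have hx1 : x ≠ 1 := by
      intro h
      apply hξm1
      rw [← hxmk, h]; rfl
    have hL := hCN x hx1
    let φ : Subgroup.centralizer ({x} : Set G) →*
        Subgroup.centralizer ({(x0 : G ⧸ N)} : Set (G ⧸ N)) :=
      ((QuotientGroup.mk' N).comp (Subgroup.centralizer ({x} : Set G)).subtype).codRestrict _ (by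
        intro c
        rw [S1477.cmem, ← hxmk]
        have hc := (S1477.cmem x c.1).1 c.2
        show ((x : G) : G ⧸ N) * ((c.1 : G) : G ⧸ N) = ((c.1 : G) : G ⧸ N) * ((x : G) : G ⧸ N)
        rw [← QuotientGroup.mk_mul, ← QuotientGroup.mk_mul, hc])
    haveI := hL
    refine Group.nilpotent_of_surjective φ ?_
    rintro ⟨c, hc⟩
    obtain ⟨g, rfl⟩ := QuotientGroup.mk_surjective c
    rw [S1477.cmem, ← hxmk] at hc
    have hzq : IsPGroup q (Subgroup.zpowers x) :=
      zpow_isPGroup q x 1 (by rw [pow_one]; exact hxq)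
    have hNq : (Nat.card N).Coprime q := by rw [hb]; exact hcop
    have hcomm : ∀ b' ∈ Subgroup.zpowers x, b' * g * b'⁻¹ * g⁻¹ ∈ N := by
      intro b' hb'
      obtain ⟨i, rfl⟩ := Subgroup.mem_zpowers_iff.mp hb'
      rw [← QuotientGroup.eq_one_iff]
      have hci : Commute ((x : G) : G ⧸ N) ((g : G) : G ⧸ N) := hc
      have := (hci.zpow_left i).eq
      rw [QuotientGroup.mk_mul, QuotientGroup.mk_mul, QuotientGroup.mk_mul, QuotientGroup.mk_inv,
        QuotientGroup.mk_inv, QuotientGroup.mk_zpow, this]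
      group
    obtain ⟨m', hm'N, hm'⟩ := Lib.Helper2.CoprimeAct.coprime_fix N hNq (Subgroup.zpowers x) hzq
      (by rw [Subgroup.normalizer_eq_top]; exact le_top) g
      (by rw [Subgroup.normalizer_eq_top]; exact Subgroup.mem_top g) hcomm
    refine ⟨⟨g * m', ?_⟩, ?_⟩
    · rw [S1477.cmem]
      exact hm' x (Subgroup.mem_zpowers x)
    · apply Subtype.ext
      show ((g * m' : G) : G ⧸ N) = (g : G ⧸ N)
      rw [QuotientGroup.mk_mul, (QuotientGroup.eq_one_iff m').2 hm'N, mul_one]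

def dser {G : Type*} [Group G] (H : Subgroup G) : ℕ → Subgroup G
  | 0 => H
  | (k + 1) => ⁅dser H k, dser H k⁆

theorem exists_sub {G : Type*} [Group G] [Finite G] (H : Subgroup G) [hHn : H.Normal]
    (hH : Group.IsSolvable H) (hH1 : H ≠ ⊥) :
    ∃ (p : ℕ) (N : Subgroup G), p.Prime ∧ N.Normal ∧ N ≤ H ∧
      (∀ a ∈ N, ∀ b ∈ N, a * b = b * a) ∧ IsPGroup p N ∧ N ≠ ⊥ := by
  have hD0 : dser H 0 = H := rfl
  have hDs : ∀ k, dser H (k + 1) = ⁅dser H k, dser H k⁆ := fun k => rfl
  have hDn : ∀ k, (dser H k).Normal := by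
    intro k
    induction k with
    | zero => exact hHn
    | succ k ih => rw [hDs]; haveI := ih; exact Subgroup.commutator_normal _ _
  have hDle : ∀ k, dser H k ≤ H := by
    intro k
    induction k with
    | zero => exact le_rfl
    | succ k ih =>
      rw [hDs]; haveI := hDn k
      exact (Subgroup.commutator_le_left (dser H k) (dser H k)).trans ih
  have hDmap : ∀ k, dser H k = (derivedSeries H k).map H.subtype := by
    intro k
    induction k with
    | zero => rw [hD0, derivedSeries_zero, ← MonoidHom.range_eq_map, Subgroup.range_subtype]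
    | succ k ih => rw [hDs, derivedSeries_succ, Subgroup.map_commutator, ← ih]
  obtain ⟨n, hn⟩ := hH.solvable
  have hex : ∃ k, dser H k = ⊥ := ⟨n, by rw [hDmap, hn, Subgroup.map_bot]⟩
  classical
  have hk0 : Nat.find hex ≠ 0 := by
    intro h0
    have := Nat.find_spec hex
    rw [h0] at this
    exact hH1 this
  obtain ⟨k, hk⟩ := Nat.exists_eq_succ_of_ne_zero hk0
  have hA : dser H k ≠ ⊥ := Nat.find_min hex (by omega)
  have hA' : ⁅dser H k, dser H k⁆ = ⊥ := by
    rw [← hDs, ← Nat.succ_eq_add_one, ← hk]; exact Nat.find_spec hex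
  have hAn := hDn k
  have hAle := hDle k
  obtain ⟨A, hAdef⟩ : ∃ A, A = dser H k := ⟨_, rfl⟩
  rw [← hAdef] at hA hA' hAn hAle
  have hcomm : ∀ x ∈ A, ∀ y ∈ A, x * y = y * x := by
    intro x hx y hy
    have h1 := Subgroup.commutator_eq_bot_iff_le_centralizer.mp hA'
    exact ((Subgroup.mem_centralizer_iff.mp (h1 hx)) y hy).symm
  have hcard : Nat.card A ≠ 1 := by rwa [Ne, Subgroup.card_eq_one]
  obtain ⟨p, hp, hpd⟩ := Nat.exists_prime_and_dvd hcard
  haveI : Fact p.Prime := ⟨hp⟩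
  obtain ⟨a0, ha0⟩ := exists_prime_orderOf_dvd_card' p hpd
  let N : Subgroup G :=
    { carrier := {a | a ∈ A ∧ a ^ p = 1}
      mul_mem' := by
        rintro a b ⟨ha, hap⟩ ⟨hb, hbp⟩
        refine ⟨mul_mem ha hb, ?_⟩
        rw [(show Commute a b from hcomm a ha b hb).mul_pow, hap, hbp, one_mul]
      one_mem' := ⟨one_mem A, one_pow p⟩
      inv_mem' := by
        rintro a ⟨ha, hap⟩
        exact ⟨inv_mem ha, by rw [inv_pow, hap, inv_one]⟩ }
  have hNmem : ∀ a, a ∈ N ↔ a ∈ A ∧ a ^ p = 1 := fun a => Iff.rfl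
  refine ⟨p, N, hp, ?_, ?_, ?_, ?_, ?_⟩
  · constructor
    intro n hn g
    obtain ⟨h1, h2⟩ := (hNmem n).1 hn
    exact (hNmem _).2 ⟨hAn.conj_mem n h1 g, by rw [conj_pow, h2]; group⟩
  · intro a ha; exact hAle ((hNmem a).1 ha).1
  · intro a ha b hb; exact hcomm a ((hNmem a).1 ha).1 b ((hNmem b).1 hb).1
  · rintro ⟨a, ha⟩
    refine ⟨1, Subtype.ext ?_⟩
    show a ^ (p ^ 1) = 1
    rw [pow_one]; exact ((hNmem a).1 ha).2
  · intro hbot
    have h1 : (a0 : G) ∈ N := by
      refine (hNmem _).2 ⟨a0.2, ?_⟩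
      have := pow_orderOf_eq_one a0
      rw [ha0] at this
      simpa using congrArg Subtype.val this
    rw [hbot, Subgroup.mem_bot] at h1
    have : a0 = 1 := Subtype.ext h1
    rw [this, orderOf_one] at ha0
    exact hp.one_lt.ne ha0

universe u

theorem aux : ∀ (n : ℕ) (G : Type u) [Group G] [Finite G], IsCNGroup G →
    ∀ (H : Subgroup G) [H.Normal], Group.IsSolvable H → Nat.card H = n → IsCNGroup (G ⧸ H) := by
  intro n
  induction n using Nat.strong_induction_on with
  | _ n ih =>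
    intro G _ _ hCN H hHn hH hn
    by_cases hH1 : H = ⊥
    · subst hH1
      exact cn_of_equiv (QuotientGroup.quotientBot (G := G)).symm hCN
    obtain ⟨p, N, hp, hNn, hNH, hab, hNp, hN1⟩ := exists_sub H hH hH1
    haveI := hNn
    haveI : Fact p.Prime := ⟨hp⟩
    have hstep := step hCN N hab p hNp hN1
    have hsol : Group.IsSolvable ↥(H.map (QuotientGroup.mk' N)) := by
      haveI := hH
      exact Group.isSolvable_of_surjective ((QuotientGroup.mk' N).subgroupMap_surjective H)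
    have hcard : Nat.card ↥(H.map (QuotientGroup.mk' N)) < n := by
      have hidx : (H.map (QuotientGroup.mk' N)).index = H.index :=
        Subgroup.index_map_eq H (QuotientGroup.mk'_surjective N)
          (by rw [QuotientGroup.ker_mk']; exact hNH)
      have e1 := Subgroup.card_mul_index (H.map (QuotientGroup.mk' N))
      have e2 := Subgroup.card_mul_index H
      have e3 := S0003.card_quot N
      rw [hidx] at e1
      have hN2 : 2 ≤ Nat.card N := by
        have h1 : Nat.card N ≠ 1 := by rwa [Ne, Subgroup.card_eq_one]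
        have h0 : 0 < Nat.card N := Nat.card_pos
        omega
      have hi0 : 0 < H.index := Nat.pos_of_ne_zero Subgroup.index_ne_zero_of_finite
      have e4 : Nat.card N * Nat.card ↥(H.map (QuotientGroup.mk' N)) * H.index =
          Nat.card H * H.index := by
        rw [mul_assoc, e1, e3, e2]
      have e5 := Nat.eq_of_mul_eq_mul_right hi0 e4
      rw [← hn, ← e5]
      have hpos : 0 < Nat.card ↥(H.map (QuotientGroup.mk' N)) := Nat.card_pos
      nlinarith
    have := ih _ hcard (G ⧸ N) hstep (H.map (QuotientGroup.mk' N)) hsol rfl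
    exact cn_of_equiv (QuotientGroup.quotientQuotientEquivQuotient N H hNH) this

theorem result {G : Type*} [Group G] [Finite G] (hCN : Cfsg.IsCNGroup G) (H : Subgroup G) [H.Normal] (hH : Group.IsSolvable H) :
    Cfsg.IsCNGroup (G ⧸ H) :=
  aux _ G hCN H hH rfl

end Cfsg.Agent.S1473
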