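import Mathlib
import Cfsg.Statements.S1474
import Cfsg.Agent.S1473
import Cfsg.Agent.S0039
import Cfsg.Agent.S0536
import Cfsg.Agent.S0651
import Cfsg.Agent.Lib.Helper1.FrobZ
import Cfsg.Agent.Lib.Helper2.Fit
set_option autoImplicit false
open Pointwise
open Cfsg
open scoped commutatorElement

namespace Cfsg.Agent.S1474

theorem fit_hall {G : Type*} [Group G] [Finite G] (hCN : IsCNGroup G) (p : ℕ) [Fact p.Prime]
    (P : Sylow p G) (hP1 : (P : Subgroup G) ≠ ⊥) (hPn : (P : Subgroup G).Normal) :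
    (Nat.card (fittingSubgroup G)).Coprime (fittingSubgroup G).index := by
  have hp : p.Prime := Fact.out
  obtain ⟨Fit, hFitdef⟩ : ∃ Fit, Fit = fittingSubgroup G := ⟨_, rfl⟩
  rw [← hFitdef]
  have hFn : Fit.Normal := by rw [hFitdef]; exact Lib.Helper2.Fit.fitting_normal
  have hFnil : Group.IsNilpotent Fit := by rw [hFitdef]; exact Lib.Helper2.Fit.fitting_nilpotent
  have hleF : ∀ N : Subgroup G, N.Normal → Group.IsNilpotent N → N ≤ Fit := by
    intro N hN hn; rw [hFitdef]; exact Lib.Helper2.Fit.le_fitting N hN hn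
  have hPF : (P : Subgroup G) ≤ Fit := hleF _ hPn P.2.isNilpotent
  by_contra hnc
  obtain ⟨q, hq, hd1, hd2⟩ := Nat.Prime.not_coprime_iff_dvd.mp hnc
  haveI : Fact q.Prime := ⟨hq⟩
  obtain ⟨Q⟩ := (inferInstance : Nonempty (Sylow q G))
  obtain ⟨Pg, hPgmem, hPgp⟩ := S1477.pfacts Fit hFnil q
  have hPgn : Pg.Normal := by
    constructor
    intro w hw g
    obtain ⟨h1, k, hk⟩ := (hPgmem w).1 hw
    exact (hPgmem _).2 ⟨hFn.conj_mem w h1 g, k, by rw [conj_pow, hk]; group⟩
  have hPgQ : Pg ≤ (Q : Subgroup G) := by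
    have hsup : IsPGroup q ((Q : Subgroup G) ⊔ Pg : Subgroup G) :=
      IsPGroup.to_sup_of_normal_right' Q.2 hPgp (by rw [Subgroup.normalizer_eq_top]; exact le_top)
    have := Q.3 hsup le_sup_left
    rw [← this]; exact le_sup_right
  obtain ⟨x0', hx0'⟩ := exists_prime_orderOf_dvd_card' q hd1
  have hx01 : (x0' : G) ≠ 1 := by
    intro h
    have : x0' = 1 := Subtype.ext h
    rw [this, orderOf_one] at hx0'
    exact hq.one_lt.ne hx0'
  have hx0q : (x0' : G) ^ (q ^ 1) = 1 := by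
    have := pow_orderOf_eq_one x0'
    rw [hx0'] at this
    rw [pow_one]
    simpa using congrArg Subtype.val this
  have hx0Pg : (x0' : G) ∈ Pg := (hPgmem _).2 ⟨x0'.2, 1, hx0q⟩
  haveI hQnil : Group.IsNilpotent ↥(Q : Subgroup G) := Q.2.isNilpotent
  haveI hVn : (Pg.subgroupOf (Q : Subgroup G)).Normal := hPgn.subgroupOf _
  have hVne : Pg.subgroupOf (Q : Subgroup G) ≠ ⊥ := by
    intro hbot
    have h1 : (⟨(x0' : G), hPgQ hx0Pg⟩ : ↥(Q : Subgroup G)) ∈ Pg.subgroupOf (Q : Subgroup G) :=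
      Subgroup.mem_subgroupOf.2 hx0Pg
    rw [hbot, Subgroup.mem_bot] at h1
    exact hx01 (congrArg Subtype.val h1)
  obtain ⟨v, hvV, hvZ, hv1⟩ := S4155.normal_inf_center (Pg.subgroupOf (Q : Subgroup G)) hVne
  have hvPg : (v : G) ∈ Pg := Subgroup.mem_subgroupOf.1 hvV
  have hvc : ∀ w ∈ (Q : Subgroup G), w * (v : G) = (v : G) * w := by
    intro w hw
    exact congrArg Subtype.val (Subgroup.mem_center_iff.mp hvZ ⟨w, hw⟩)
  have hv1' : (v : G) ≠ 1 := fun h => hv1 (Subtype.ext h)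
  obtain ⟨hvF, kv, hkv⟩ := (hPgmem _).1 hvPg
  have hL := hCN (v : G) hv1'
  have hQc : ∀ y ∈ Fit, (orderOf y).Coprime q → ∀ w ∈ (Q : Subgroup G), w * y = y * w := by
    intro y hy hyo w hw
    have h1 : (v : G) * y = y * (v : G) := S1477.nil_comm_sub Fit hFnil q v y hvF hy kv hkv hyo
    obtain ⟨kw, hkw⟩ := Q.2 ⟨w, hw⟩
    have hkw' : w ^ (q ^ kw) = 1 := by simpa using congrArg Subtype.val hkw
    exact S1477.nil_comm_sub _ hL q w y ((S1477.cmem _ _).2 (hvc w hw).symm)
      ((S1477.cmem _ _).2 h1) kw hkw' hyo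
  by_cases hex : ∃ y ∈ Fit, y ≠ 1 ∧ (orderOf y).Coprime q
  · obtain ⟨y0, hy0F, hy01, hy0o⟩ := hex
    obtain ⟨D, hDdef⟩ : ∃ D : Subgroup G,
      D = Subgroup.centralizer {y | y ∈ Fit ∧ (orderOf y).Coprime q} := ⟨_, rfl⟩
    have hDmem : ∀ g, g ∈ D ↔ ∀ y ∈ Fit, (orderOf y).Coprime q → y * g = g * y := by
      intro g
      rw [hDdef, Subgroup.mem_centralizer_iff]
      constructor
      · intro h y hy hyo; exact h y ⟨hy, hyo⟩
      · intro h y hy; exact h y hy.1 hy.2
    have hDn : D.Normal := by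
      constructor
      intro g hg x
      rw [hDmem] at hg ⊢
      intro y hy hyo
      have h1 : (orderOf (x⁻¹ * y * x)).Coprime q := by
        refine Nat.Coprime.coprime_dvd_left (orderOf_dvd_of_pow_eq_one ?_) hyo
        rw [S1477.conj_pow', pow_orderOf_eq_one]; group
      have h2 : x⁻¹ * y * x ∈ Fit := by
        have := hFn.conj_mem y hy x⁻¹
        rw [inv_inv] at this; exact this
      have h3 := hg _ h2 h1
      have e : y * (x * g * x⁻¹) = x * (x⁻¹ * y * x * g) * x⁻¹ := by group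
      rw [e, h3]; group
    have hDle : D ≤ Subgroup.centralizer ({y0} : Set G) := by
      intro g hg
      rw [S1477.cmem]
      exact (hDmem g).1 hg y0 hy0F hy0o
    have hDnil : Group.IsNilpotent D := S1473.nil_of_le hDle (hCN y0 hy01)
    have hDF : D ≤ Fit := hleF D hDn hDnil
    have hQD : (Q : Subgroup G) ≤ D := by
      intro w hw
      rw [hDmem]
      intro y hy hyo
      exact (hQc y hy hyo w hw).symm
    have hQF : (Q : Subgroup G) ≤ Fit := hQD.trans hDF
    exact Q.not_dvd_index (dvd_trans hd2 (Subgroup.index_dvd_of_le hQF))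
  · push_neg at hex
    have hFq : ∀ y ∈ Fit, ∃ k : ℕ, y ^ (q ^ k) = 1 := by
      intro y hy
      obtain ⟨u, w, huw, _, hu, ⟨k, hk⟩, huz, hwz⟩ := Lib.Helper1.exists_p_decomp q y
      have hzF : Subgroup.zpowers y ≤ Fit := by rw [Subgroup.zpowers_le]; exact hy
      have hu1 : u = 1 := by
        by_contra hu1
        exact hex u (hzF huz) hu1 hu
      refine ⟨k, ?_⟩
      rw [huw, hu1, one_mul]; exact hk
    obtain ⟨⟨x, hx⟩, hx1⟩ := (Subgroup.ne_bot_iff_exists_ne_one).mp hP1
    have hx1' : x ≠ 1 := fun h => hx1 (Subtype.ext h)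
    obtain ⟨k1, hk1⟩ := hFq x (hPF hx)
    obtain ⟨k2, hk2⟩ := P.2 ⟨x, hx⟩
    have hk2' : x ^ (p ^ k2) = 1 := by simpa using congrArg Subtype.val hk2
    have hpq : p = q := by
      by_contra hpq
      have hcop : (q ^ k1).Coprime (p ^ k2) :=
        Nat.Coprime.pow _ _ ((Nat.coprime_primes hq hp).2 (Ne.symm hpq))
      have h1 := orderOf_dvd_of_pow_eq_one hk1
      have h2 := orderOf_dvd_of_pow_eq_one hk2'
      have h3 : orderOf x = 1 := Nat.eq_one_of_dvd_coprimes hcop h1 h2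
      exact hx1' (orderOf_eq_one_iff.mp h3)
    subst hpq
    have hFp : IsPGroup p Fit := by
      rintro ⟨y, hy⟩
      obtain ⟨k, hk⟩ := hFq y hy
      exact ⟨k, Subtype.ext (by simpa using hk)⟩
    have hFP : Fit = (P : Subgroup G) := P.3 hFp hPF
    rw [hFP] at hd2
    exact P.not_dvd_index hd2

theorem main {G : Type*} [Group G] [Finite G] (hCN : IsCNGroup G) (hnn : ¬ Group.IsNilpotent G)
    (p : ℕ) [Fact p.Prime] (P : Sylow p G) (hP1 : (P : Subgroup G) ≠ ⊥)
    (hPn : (P : Subgroup G).Normal) (Fit : Subgroup G) [hFn : Fit.Normal]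
    (hFitdef : Fit = fittingSubgroup G) :
    Fit ≠ ⊥ ∧ Fit ≠ ⊤ ∧
      (∃ E : Subgroup G, Subgroup.IsComplement' Fit E ∧ IsFrobeniusComplement E ∧
        ∀ e ∈ E, e ≠ 1 → Fit ⊓ Subgroup.centralizer ({e} : Set G) = ⊥) ∧
      Group.IsNilpotent (G ⧸ Fit) := by
  have hp : p.Prime := Fact.out
  have hHall : (Nat.card Fit).Coprime Fit.index := by
    rw [hFitdef]; exact fit_hall hCN p P hP1 hPn
  have hFnil : Group.IsNilpotent Fit := by rw [hFitdef]; exact Lib.Helper2.Fit.fitting_nilpotent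
  have hleF : ∀ N : Subgroup G, N.Normal → Group.IsNilpotent N → N ≤ Fit := by
    intro N hN hn; rw [hFitdef]; exact Lib.Helper2.Fit.le_fitting N hN hn
  have hPF : (P : Subgroup G) ≤ Fit := hleF _ hPn P.2.isNilpotent
  have hF1 : Fit ≠ ⊥ := fun h => hP1 (le_bot_iff.mp (h ▸ hPF))
  have hFtop : Fit ≠ ⊤ := by
    intro h
    apply hnn
    rw [h] at hFnil
    haveI := hFnil
    exact Group.nilpotent_of_mulEquiv Subgroup.topEquiv
  obtain ⟨E, hc⟩ := Subgroup.exists_right_complement'_of_coprime hHall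
  have hcard := hc.card_mul_card
  have hE1 : E ≠ ⊥ := by
    intro h
    apply hFtop
    apply Subgroup.eq_top_of_card_eq
    rw [h, Subgroup.card_bot, mul_one] at hcard
    exact hcard
  have hEcard : Nat.card E = Fit.index := by
    have h1 := Subgroup.card_mul_index Fit
    have h0 : 0 < Nat.card Fit := Nat.card_pos
    exact Nat.eq_of_mul_eq_mul_left h0 (hcard.trans h1.symm)
  have hdisj : ∀ x, x ∈ Fit → x ∈ E → x = 1 := by
    intro x h1 h2
    have := hc.disjoint
    rw [Subgroup.disjoint_def] at this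
    exact this h1 h2
  have hfpf : ∀ e ∈ E, e ≠ 1 → ∀ f ∈ Fit, e * f = f * e → f = 1 := by
    intro e he he1 f hf hef
    by_contra hf1
    obtain ⟨s, m, hs, hem1, hems⟩ := S1477.exists_prime_pow e he1
    haveI : Fact s.Prime := ⟨hs⟩
    have hemE : e ^ m ∈ E := pow_mem he m
    have hemf : e ^ m * f = f * e ^ m := (Commute.pow_left (show Commute e f from hef) m).eq
    obtain ⟨e', he'def⟩ : ∃ e', e' = e ^ m := ⟨_, rfl⟩
    rw [← he'def] at hem1 hems hemE hemf
    have he's : e' ^ (s ^ 1) = 1 := by rw [pow_one]; exact hems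
    have hsE : s ∣ Nat.card E := by
      have h1 : orderOf e' = s := orderOf_eq_prime hems hem1
      rw [← h1]; exact Subgroup.orderOf_dvd_natCard E hemE
    have hcopF : ∀ y ∈ Fit, (orderOf y).Coprime s := by
      intro y hy
      have h1 := Subgroup.orderOf_dvd_natCard Fit hy
      have h2 : (Nat.card Fit).Coprime s := by
        have h3 : (Nat.card Fit).Coprime (Nat.card E) := by rw [hEcard]; exact hHall
        exact Nat.Coprime.coprime_dvd_right hsE h3
      exact Nat.Coprime.coprime_dvd_left h1 h2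
    have hL1 := hCN f hf1
    have hstep1 : ∀ y ∈ Fit, f * y = y * f → e' * y = y * e' := by
      intro y hy hfy
      exact S1477.nil_comm_sub _ hL1 s e' y ((S1477.cmem _ _).2 hemf.symm)
        ((S1477.cmem _ _).2 hfy) 1 he's (hcopF y hy)
    haveI := hFnil
    have htop : (⊤ : Subgroup Fit) ≠ ⊥ := by
      intro h
      have : (⟨f, hf⟩ : Fit) ∈ (⊤ : Subgroup Fit) := Subgroup.mem_top _
      rw [h, Subgroup.mem_bot] at this
      exact hf1 (congrArg Subtype.val this)
    obtain ⟨c, -, hcZ, hc1⟩ := S4155.normal_inf_center (⊤ : Subgroup Fit) htop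
    have hcc : ∀ y ∈ Fit, y * (c : G) = (c : G) * y := by
      intro y hy
      exact congrArg Subtype.val (Subgroup.mem_center_iff.mp hcZ ⟨y, hy⟩)
    have hc1' : (c : G) ≠ 1 := fun h => hc1 (Subtype.ext h)
    have hec : e' * (c : G) = (c : G) * e' := hstep1 c c.2 (hcc f hf)
    have hL2 := hCN (c : G) hc1'
    have hstep2 : ∀ y ∈ Fit, e' * y = y * e' := by
      intro y hy
      exact S1477.nil_comm_sub _ hL2 s e' y ((S1477.cmem _ _).2 hec.symm)
        ((S1477.cmem _ _).2 (hcc y hy).symm) 1 he's (hcopF y hy)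
    have hD2n : (Subgroup.centralizer (Fit : Set G)).Normal := Subgroup.normal_centralizer
    have hD2le : Subgroup.centralizer (Fit : Set G) ≤ Subgroup.centralizer ({(c : G)} : Set G) := by
      intro g hg
      rw [S1477.cmem]
      exact (Subgroup.mem_centralizer_iff.mp hg) c c.2
    have hD2F : Subgroup.centralizer (Fit : Set G) ≤ Fit :=
      hleF _ hD2n (S1473.nil_of_le hD2le hL2)
    have he'F : e' ∈ Fit := by
      apply hD2F
      rw [Subgroup.mem_centralizer_iff]
      intro y hy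
      exact (hstep2 y hy).symm
    exact hem1 (hdisj e' he'F hemE)
  have hcent : ∀ e ∈ E, e ≠ 1 → Fit ⊓ Subgroup.centralizer ({e} : Set G) = ⊥ := by
    intro e he he1
    rw [Subgroup.eq_bot_iff_forall]
    intro f hf
    obtain ⟨h1, h2⟩ := Subgroup.mem_inf.1 hf
    exact hfpf e he he1 f h1 ((S1477.cmem _ _).1 h2)
  have hFrob : IsFrobeniusComplement E := (S0039.result Fit E hc hF1 hE1).2 hcent
  have hEnil : Group.IsNilpotent E := by
    by_contra hEn
    have hex : ∃ n : ℕ, ∃ M : Subgroup G, M ≤ E ∧ ¬ Group.IsNilpotent M ∧ Nat.card M = n :=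
      ⟨_, E, le_rfl, hEn, rfl⟩
    classical
    obtain ⟨M, hME, hMn, hMcard⟩ := Nat.find_spec hex
    have hMmin : ∀ M' : Subgroup G, M' ≤ E → Nat.card M' < Nat.card M →
        Group.IsNilpotent M' := by
      intro M' hM'E hlt
      by_contra hM'n
      exact Nat.find_min hex (hMcard ▸ hlt) ⟨M', hM'E, hM'n, rfl⟩
    have hMNN : IsMinimalNonNilpotent M := by
      refine ⟨hMn, ?_⟩
      intro H' hH'
      have hlt : Nat.card ↥(H'.map M.subtype) < Nat.card M := by
        have h1 : Nat.card ↥(H'.map M.subtype) = Nat.card H' :=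
          (Nat.card_congr (H'.equivMapOfInjective M.subtype M.subtype_injective).toEquiv).symm
        rw [h1]
        have := S0651.card_lt_of_lt (lt_top_iff_ne_top.mpr hH')
        rw [Subgroup.card_top] at this
        exact this
      haveI := hMmin (H'.map M.subtype) ((Subgroup.map_subtype_le _).trans hME) hlt
      exact Group.nilpotent_of_mulEquiv
        (H'.equivMapOfInjective M.subtype M.subtype_injective).symm
    obtain ⟨r, q, Q', g', e, hr, hq, hrq, hQ'n, hQ'p, hord, hgc, htop⟩ := S0536.schmidt hMNN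
    haveI : Fact r.Prime := ⟨hr⟩
    haveI : Fact q.Prime := ⟨hq⟩
    have hQ'1 : Q' ≠ ⊥ := by
      intro h
      apply hgc
      rw [h, Subgroup.mem_centralizer_iff]
      intro y hy
      have hy' : y ∈ (⊥ : Subgroup M) := hy
      rw [Subgroup.mem_bot] at hy'
      rw [hy', one_mul, mul_one]
    haveI : Nontrivial Q' := (Subgroup.nontrivial_iff_ne_bot Q').mpr hQ'1
    have hcen : Subgroup.center Q' ≠ ⊥ :=
      (Subgroup.nontrivial_iff_ne_bot _).mp hQ'p.center_nontrivial
    have hqc : q ∣ Nat.card (Subgroup.center Q') := by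
      obtain ⟨n, hn⟩ := IsPGroup.iff_card.1 (hQ'p.to_subgroup (Subgroup.center Q'))
      have hn0 : n ≠ 0 := by
        rintro rfl
        rw [pow_zero] at hn
        exact hcen (Subgroup.card_eq_one.mp hn)
      rw [hn]; exact dvd_pow_self q hn0
    obtain ⟨z', hz'⟩ := exists_prime_orderOf_dvd_card' q hqc
    obtain ⟨z, hzdef⟩ : ∃ z : G, z = (((z' : Q') : M) : G) := ⟨_, rfl⟩
    have hzq : orderOf z = q := by
      rw [hzdef, Subgroup.orderOf_coe, Subgroup.orderOf_coe, Subgroup.orderOf_coe]; exact hz'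
    have hzM : z ∈ M := by rw [hzdef]; exact ((z' : Q') : M).2
    have hzQ' : (⟨z, hzM⟩ : M) ∈ Q' := by
      have : (⟨z, hzM⟩ : M) = ((z' : Q') : M) := Subtype.ext hzdef
      rw [this]; exact (z' : Q').2
    have hzc : ∀ w (hw : w ∈ M), (⟨w, hw⟩ : M) ∈ Q' → w * z = z * w := by
      intro w hw hwQ
      have h1 := Subgroup.mem_center_iff.mp z'.2 ⟨⟨w, hw⟩, hwQ⟩
      have h2 := congrArg (fun t : Q' => ((t : M) : G)) h1
      rw [hzdef]
      exact h2
    have hzqp : z ^ q = 1 := by rw [← hzq]; exact pow_orderOf_eq_one z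
    have hz1 : z ≠ 1 := by
      intro h
      rw [h, orderOf_one] at hzq
      exact hq.one_lt.ne hzq
    have hQp : IsPGroup q (Q'.map M.subtype) := hQ'p.map M.subtype
    have hQmem : ∀ w (hw : w ∈ M), (⟨w, hw⟩ : M) ∈ Q' → w ∈ Q'.map M.subtype :=
      fun w hw hwQ => ⟨⟨w, hw⟩, hwQ, rfl⟩
    have huniq : ∀ a (ha : a ∈ M), (⟨a, ha⟩ : M) ∈ Q' → a ^ q = 1 → a ∈ Subgroup.zpowers z := by
      intro a ha haQ haq
      by_contra hna
      refine Lib.Helper1.FrobC.no_rank_two Fit hF1 q (Q'.map M.subtype) hQp a z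
        (hQmem a ha haQ) (hQmem z hzM hzQ') (hzc a ha haQ) haq hzqp ?_
      intro i j hij k hk hcomm
      refine hfpf (a ^ i * z ^ j) (mul_mem (pow_mem (hME ha) i) (pow_mem (hME hzM) j)) ?_ k hk hcomm
      intro h1
      by_cases hqi : q ∣ i
      · obtain ⟨i', rfl⟩ := hqi
        rw [pow_mul, haq, one_pow, one_mul] at h1
        have h2 := orderOf_dvd_of_pow_eq_one h1
        rw [hzq] at h2
        exact hij ⟨dvd_mul_right q i', h2⟩
      · apply hna
        have hcop : Nat.Coprime i q := ((Nat.Prime.coprime_iff_not_dvd hq).2 hqi).symm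
        obtain ⟨u, -, hu⟩ := Nat.exists_mul_mod_eq_one_of_coprime hcop hq.one_lt
        have he : i * u = q * (i * u / q) + 1 := by
          have := Nat.div_add_mod (i * u) q
          omega
        have h2 : a ^ (i * u) = a := by
          rw [he, pow_add, pow_mul, haq, one_pow, one_mul, pow_one]
        have h3 : a ^ i = (z ^ j)⁻¹ := eq_inv_of_mul_eq_one_left h1
        rw [← h2, pow_mul, h3]
        exact pow_mem (inv_mem (pow_mem (Subgroup.mem_zpowers z) j)) u
    obtain ⟨g, hgdef⟩ : ∃ g : G, g = (g' : G) := ⟨_, rfl⟩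
    have hgM : g ∈ M := by rw [hgdef]; exact g'.2
    have hordg : orderOf g = r ^ e := by rw [hgdef, Subgroup.orderOf_coe]; exact hord
    have he0 : e ≠ 0 := by
      rintro rfl
      rw [pow_zero, orderOf_eq_one_iff] at hord
      apply hgc
      rw [hord]
      exact one_mem _
    have hrd : r ∣ orderOf g := by rw [hordg]; exact dvd_pow_self r he0
    have hg0r : orderOf (g ^ (orderOf g / r)) = r :=
      orderOf_pow_orderOf_div (orderOf_pos g).ne' hrd
    obtain ⟨g0, hg0def⟩ : ∃ g0 : G, g0 = g ^ (orderOf g / r) := ⟨_, rfl⟩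
    rw [← hg0def] at hg0r
    have hg0M : g0 ∈ M := by rw [hg0def]; exact pow_mem hgM _
    have hg01 : g0 ≠ 1 := by
      intro h
      rw [h, orderOf_one] at hg0r
      exact hr.one_lt.ne hg0r
    have hconjM : g0 * z * g0⁻¹ ∈ M := mul_mem (mul_mem hg0M hzM) (inv_mem hg0M)
    have hconjQ : (⟨g0 * z * g0⁻¹, hconjM⟩ : M) ∈ Q' :=
      hQ'n.conj_mem ⟨z, hzM⟩ hzQ' ⟨g0, hg0M⟩
    have hconj : g0 * z * g0⁻¹ ∈ Subgroup.zpowers z :=
      huniq _ hconjM hconjQ (by rw [conj_pow, hzqp]; group)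
    have hg0z : g0 * z = z * g0 :=
      Lib.Helper1.FrobZ.factA Fit E hF1 hfpf r q hrq z g0 (hME hzM) (hME hg0M) hzq hg0r hconj
    have hL3 := hCN g0 hg01
    have hg0g : g0 * g = g * g0 := by
      rw [hg0def, ← pow_succ, ← pow_succ']
    have hgo : (orderOf g).Coprime q := by
      rw [hordg]; exact Nat.Coprime.pow_left e ((Nat.coprime_primes hr hq).2 hrq)
    have hzg : z * g = g * z :=
      S1477.nil_comm_sub _ hL3 q z g ((S1477.cmem _ _).2 hg0z) ((S1477.cmem _ _).2 hg0g) 1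
        (by rw [pow_one]; exact hzqp) hgo
    have hMle : M ≤ Subgroup.centralizer ({z} : Set G) := by
      intro m hm
      rw [S1477.cmem]
      have hmem : (⟨m, hm⟩ : M) ∈ Q' ⊔ Subgroup.zpowers g' := by rw [htop]; exact Subgroup.mem_top _
      obtain ⟨y, hy, w, hw, hyw⟩ := Subgroup.mem_sup_of_normal_left.mp hmem
      obtain ⟨i, rfl⟩ := Subgroup.mem_zpowers_iff.mp hw
      have h1 : m = (y : G) * g ^ i := by
        have := congrArg Subtype.val hyw
        rw [hgdef]
        simpa using this.symm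
      have h2 : (y : G) * z = z * (y : G) := hzc y y.2 hy
      have h3 : z * g ^ i = g ^ i * z := (Commute.zpow_right (show Commute z g from hzg) i).eq
      rw [h1, ← mul_assoc, ← h2, mul_assoc, h3, mul_assoc]
    exact hMn (S1473.nil_of_le hMle (hCN z hz1))
  have hquot : Group.IsNilpotent (G ⧸ Fit) := by
    haveI := hEnil
    refine Group.nilpotent_of_surjective ((QuotientGroup.mk' Fit).comp E.subtype) ?_
    intro ξ
    obtain ⟨g, rfl⟩ := QuotientGroup.mk_surjective ξ
    obtain ⟨⟨f, e⟩, hfe⟩ := hc.2 g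
    refine ⟨e, ?_⟩
    show ((e : G) : G ⧸ Fit) = (g : G ⧸ Fit)
    have hfe' : (f : G) * (e : G) = g := hfe
    rw [← hfe', QuotientGroup.mk_mul, (QuotientGroup.eq_one_iff (f : G)).2 f.2, one_mul]
  exact ⟨hF1, hFtop, ⟨E, hc, hFrob, hcent⟩, hquot⟩

theorem result {G : Type*} [Group G] [Finite G] (hCN : Cfsg.IsCNGroup G) (hnn : ¬ Group.IsNilpotent G) (p : ℕ) [Fact p.Prime] (P : Sylow p G)
    (hP1 : (P : Subgroup G) ≠ ⊥) (hPn : (P : Subgroup G).Normal) :
    Cfsg.fittingHall G ≠ ⊥ ∧ Cfsg.fittingHall G ≠ ⊤ ∧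
      (∃ E : Subgroup G, Subgroup.IsComplement' (Cfsg.fittingHall G) E ∧ Cfsg.IsFrobeniusComplement E ∧
        ∀ e ∈ E, e ≠ 1 → Cfsg.fittingHall G ⊓ Subgroup.centralizer ({e} : Set G) = ⊥) ∧
      Group.IsNilpotent (G ⧸ Cfsg.fittingHall G) := by
  have hHall := fit_hall hCN p P hP1 hPn
  have hFeq : fittingHall G = fittingSubgroup G := by
    apply le_antisymm
    · apply sSup_le
      rintro N ⟨hN, hn, -⟩
      exact Lib.Helper2.Fit.le_fitting N hN hn
    · exact le_sSup ⟨Lib.Helper2.Fit.fitting_normal, Lib.Helper2.Fit.fitting_nilpotent, hHall⟩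
  exact main hCN hnn p P hP1 hPn (fittingHall G) hFeq

end Cfsg.Agent.S1474
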