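import Mathlib
import Cfsg.Statements.S1476
import Cfsg.Agent.S1474
import Cfsg.Agent.S0040
import Cfsg.Agent.S0044
import Cfsg.Agent.Lib.Helper1.FrobK
import Cfsg.Agent.Lib.Helper1.FrobZ
import Cfsg.Agent.Lib.Helper1.UniqP
set_option autoImplicit false
open Pointwise
open Cfsg
open scoped commutatorElement

namespace Cfsg.Agent.S1476

theorem mem_of_coprime_index {G : Type*} [Group G] [Finite G] (N : Subgroup G) [N.Normal] (g : G)
    (hg : (orderOf g).Coprime N.index) : g ∈ N := by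
  obtain ⟨t, ht⟩ := exists_pow_eq_self_of_coprime hg.symm
  rw [← ht]
  exact pow_mem (Subgroup.pow_index_mem N g) t

theorem uniq_zp {G : Type*} [Group G] [Finite G] (K H : Subgroup G) [K.Normal] (hK : K ≠ ⊥)
    (hfpf : ∀ h ∈ H, h ≠ 1 → ∀ k ∈ K, h * k = k * h → k = 1) (q : ℕ) [Fact q.Prime]
    (a z : G) (ha : a ∈ H) (hz : z ∈ H) (haz : a * z = z * a) (haq : a ^ q = 1)
    (hzq : orderOf z = q) : a ∈ Subgroup.zpowers z := by
  have hq : q.Prime := Fact.out
  have hzqp : z ^ q = 1 := by rw [← hzq]; exact pow_orderOf_eq_one z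
  have hS : IsPGroup q (Subgroup.zpowers a ⊔ Subgroup.zpowers z : Subgroup G) := by
    refine IsPGroup.to_sup_of_normal_right'
      (S1473.zpow_isPGroup q a 1 (by rw [pow_one]; exact haq))
      (S1473.zpow_isPGroup q z 1 (by rw [pow_one]; exact hzqp)) ?_
    rw [Subgroup.zpowers_le, Subgroup.mem_normalizer_iff]
    intro h
    have key : ∀ w ∈ Subgroup.zpowers z, a * w * a⁻¹ = w := by
      intro w hw
      obtain ⟨i, rfl⟩ := Subgroup.mem_zpowers_iff.mp hw
      have := (Commute.zpow_right (show Commute a z from haz) i).eq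
      rw [this, mul_inv_cancel_right]
    constructor
    · intro hh; rw [key h hh]; exact hh
    · intro hh
      have h2 := key _ hh
      have h3 : h = a * h * a⁻¹ := by
        calc h = a⁻¹ * (a * h * a⁻¹) * a := by group
          _ = a⁻¹ * (a * (a * h * a⁻¹) * a⁻¹) * a := by rw [h2]
          _ = a * h * a⁻¹ := by group
      rw [h3]; exact hh
  by_contra hna
  refine Lib.Helper1.FrobC.no_rank_two K hK q _ hS a z
    (Subgroup.mem_sup_left (Subgroup.mem_zpowers a))
    (Subgroup.mem_sup_right (Subgroup.mem_zpowers z)) haz haq hzqp ?_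
  intro i j hij k hk hcomm
  refine hfpf (a ^ i * z ^ j) (mul_mem (pow_mem ha i) (pow_mem hz j)) ?_ k hk hcomm
  intro h1
  by_cases hqi : q ∣ i
  · obtain ⟨i', rfl⟩ := hqi
    rw [pow_mul, haq, one_pow, one_mul] at h1
    have h2 := orderOf_dvd_of_pow_eq_one h1
    rw [hzq] at h2
    exact hij ⟨dvd_mul_right q i', h2⟩
  · apply hna
    have hcop : Nat.Coprime i q := ((Nat.Prime.coprime_iff_not_dvd hq).2 hqi).symm
    obtain ⟨u, -, hu⟩ := Nat.exists_mul_mod_eq_one_of_coprime hcop hq.one_lt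
    have he : i * u = q * (i * u / q) + 1 := by
      have := Nat.div_add_mod (i * u) q
      omega
    have h2 : a ^ (i * u) = a := by
      rw [he, pow_add, pow_mul, haq, one_pow, one_mul, pow_one]
    have h3 : a ^ i = (z ^ j)⁻¹ := eq_inv_of_mul_eq_one_left h1
    rw [← h2, pow_mul, h3]
    exact pow_mem (inv_mem (pow_mem (Subgroup.mem_zpowers z) j)) u

theorem syl_le_fit {G : Type*} [Group G] [Finite G] (hCN : IsCNGroup G) (q : ℕ) [Fact q.Prime]
    (Q : Sylow q G) (hd1 : q ∣ Nat.card (fittingSubgroup G))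
    (hex : ∃ y ∈ fittingSubgroup G, y ≠ 1 ∧ (orderOf y).Coprime q) :
    (Q : Subgroup G).Normal := by
  have hq : q.Prime := Fact.out
  obtain ⟨Fit, hFitdef⟩ : ∃ Fit, Fit = fittingSubgroup G := ⟨_, rfl⟩
  rw [← hFitdef] at hd1 hex
  have hFn : Fit.Normal := by rw [hFitdef]; exact Lib.Helper2.Fit.fitting_normal
  have hFnil : Group.IsNilpotent Fit := by rw [hFitdef]; exact Lib.Helper2.Fit.fitting_nilpotent
  have hleF : ∀ N : Subgroup G, N.Normal → Group.IsNilpotent N → N ≤ Fit := by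
    intro N hN hn; rw [hFitdef]; exact Lib.Helper2.Fit.le_fitting N hN hn
  obtain ⟨Pg, hPgmem, hPgp⟩ := S1477.pfacts Fit hFnil q
  have hPgn : Pg.Normal := by
    constructor
    intro w hw g
    obtain ⟨h1, k, hk⟩ := (hPgmem w).1 hw
    exact (hPgmem _).2 ⟨hFn.conj_mem w h1 g, k, by rw [conj_pow, hk]; group⟩
  have hPgQ : Pg ≤ (Q : Subgroup G) := by
    have hsup : IsPGroup q ((Q : Subgroup G) ⊔ Pg : Subgroup G) :=
      IsPGroup.to_sup_of_normal_right' Q.2 hPgp (by rw [Subgroup.normalizer_eq_top]; exact le_top)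
    have := Q.3 hsup le_sup_left
    rw [← this]; exact le_sup_right
  obtain ⟨x0', hx0'⟩ := exists_prime_orderOf_dvd_card' q hd1
  have hx01 : (x0' : G) ≠ 1 := by
    intro h
    have : x0' = 1 := Subtype.ext h
    rw [this, orderOf_one] at hx0'
    exact hq.one_lt.ne hx0'
  have hx0q : (x0' : G) ^ (q ^ 1) = 1 := by
    have := pow_orderOf_eq_one x0'
    rw [hx0'] at this
    rw [pow_one]
    simpa using congrArg Subtype.val this
  have hx0Pg : (x0' : G) ∈ Pg := (hPgmem _).2 ⟨x0'.2, 1, hx0q⟩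
  haveI hQnil : Group.IsNilpotent ↥(Q : Subgroup G) := Q.2.isNilpotent
  haveI hVn : (Pg.subgroupOf (Q : Subgroup G)).Normal := hPgn.subgroupOf _
  have hVne : Pg.subgroupOf (Q : Subgroup G) ≠ ⊥ := by
    intro hbot
    have h1 : (⟨(x0' : G), hPgQ hx0Pg⟩ : ↥(Q : Subgroup G)) ∈ Pg.subgroupOf (Q : Subgroup G) :=
      Subgroup.mem_subgroupOf.2 hx0Pg
    rw [hbot, Subgroup.mem_bot] at h1
    exact hx01 (congrArg Subtype.val h1)
  obtain ⟨v, hvV, hvZ, hv1⟩ := S4155.normal_inf_center (Pg.subgroupOf (Q : Subgroup G)) hVne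
  have hvPg : (v : G) ∈ Pg := Subgroup.mem_subgroupOf.1 hvV
  have hvc : ∀ w ∈ (Q : Subgroup G), w * (v : G) = (v : G) * w := by
    intro w hw
    exact congrArg Subtype.val (Subgroup.mem_center_iff.mp hvZ ⟨w, hw⟩)
  have hv1' : (v : G) ≠ 1 := fun h => hv1 (Subtype.ext h)
  obtain ⟨hvF, kv, hkv⟩ := (hPgmem _).1 hvPg
  have hL := hCN (v : G) hv1'
  have hQc : ∀ y ∈ Fit, (orderOf y).Coprime q → ∀ w ∈ (Q : Subgroup G), w * y = y * w := by
    intro y hy hyo w hw
    have h1 : (v : G) * y = y * (v : G) := S1477.nil_comm_sub Fit hFnil q v y hvF hy kv hkv hyo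
    obtain ⟨kw, hkw⟩ := Q.2 ⟨w, hw⟩
    have hkw' : w ^ (q ^ kw) = 1 := by simpa using congrArg Subtype.val hkw
    exact S1477.nil_comm_sub _ hL q w y ((S1477.cmem _ _).2 (hvc w hw).symm)
      ((S1477.cmem _ _).2 h1) kw hkw' hyo
  obtain ⟨y0, hy0F, hy01, hy0o⟩ := hex
  obtain ⟨D, hDdef⟩ : ∃ D : Subgroup G,
    D = Subgroup.centralizer {y | y ∈ Fit ∧ (orderOf y).Coprime q} := ⟨_, rfl⟩
  have hDmem : ∀ g, g ∈ D ↔ ∀ y ∈ Fit, (orderOf y).Coprime q → y * g = g * y := by
    intro g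
    rw [hDdef, Subgroup.mem_centralizer_iff]
    constructor
    · intro h y hy hyo; exact h y ⟨hy, hyo⟩
    · intro h y hy; exact h y hy.1 hy.2
  have hDn : D.Normal := by
    constructor
    intro g hg x
    rw [hDmem] at hg ⊢
    intro y hy hyo
    have h1 : (orderOf (x⁻¹ * y * x)).Coprime q := by
      refine Nat.Coprime.coprime_dvd_left (orderOf_dvd_of_pow_eq_one ?_) hyo
      rw [S1477.conj_pow', pow_orderOf_eq_one]; group
    have h2 : x⁻¹ * y * x ∈ Fit := by
      have := hFn.conj_mem y hy x⁻¹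
      rw [inv_inv] at this; exact this
    have h3 := hg _ h2 h1
    have e : y * (x * g * x⁻¹) = x * (x⁻¹ * y * x * g) * x⁻¹ := by group
    rw [e, h3]; group
  have hDle : D ≤ Subgroup.centralizer ({y0} : Set G) := by
    intro g hg
    rw [S1477.cmem]
    exact (hDmem g).1 hg y0 hy0F hy0o
  have hDnil : Group.IsNilpotent D := S1473.nil_of_le hDle (hCN y0 hy01)
  have hDF : D ≤ Fit := hleF D hDn hDnil
  have hQD : (Q : Subgroup G) ≤ D := by
    intro w hw
    rw [hDmem]
    intro y hy hyo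
    exact (hQc y hy hyo w hw).symm
  have hQF : (Q : Subgroup G) ≤ Fit := hQD.trans hDF
  have hQPg : (Q : Subgroup G) = Pg := by
    apply le_antisymm
    · intro w hw
      obtain ⟨kw, hkw⟩ := Q.2 ⟨w, hw⟩
      have hkw' : w ^ (q ^ kw) = 1 := by simpa using congrArg Subtype.val hkw
      exact (hPgmem w).2 ⟨hQF hw, kw, hkw'⟩
    · exact hPgQ
  rw [hQPg]; exact hPgn

theorem cyc_of_inj {A B : Type*} [Group A] [Group B] (f : A →* B) (hf : Function.Injective f)
    (hB : IsCyclic B) : IsCyclic A := by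
  haveI := hB
  haveI : IsCyclic f.range := inferInstance
  exact isCyclic_of_surjective (MonoidHom.ofInjective hf).symm.toMonoidHom
    (MonoidHom.ofInjective hf).symm.surjective

theorem nilp_struct {G : Type*} [Group G] [Finite G] (E : Subgroup G) (hE : Group.IsNilpotent E)
    (hs : ∀ (r : ℕ) [Fact r.Prime] (R : Sylow r E),
      IsCyclic R ∨ ∃ n : ℕ, Nonempty (R ≃* QuaternionGroup (2 ^ n))) :
    IsCyclic E ∨ ∃ C Q : Subgroup G, C ⊔ Q = E ∧ (∀ a ∈ C, ∀ b ∈ Q, a * b = b * a) ∧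
      IsCyclic C ∧ Odd (Nat.card C) ∧ ∃ n : ℕ, Nonempty (↥Q ≃* QuaternionGroup (2 ^ n)) := by
  haveI := hE
  haveI : Fact (Nat.Prime 2) := ⟨Nat.prime_two⟩
  have hodd : ∀ (r : ℕ) [Fact r.Prime] (R : Sylow r E), r ≠ 2 → IsCyclic R := by
    intro r hrF R hr2
    rcases hs r R with h | ⟨n, ⟨e⟩⟩
    · exact h
    · exfalso
      have hr : r.Prime := hrF.out
      obtain ⟨k, hk⟩ := IsPGroup.iff_card.1 R.2
      have hc : Nat.card R = 4 * 2 ^ n := by
        rw [Nat.card_congr e.toEquiv, Nat.card_eq_fintype_card, QuaternionGroup.card]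
      rw [hk] at hc
      have h2 : 2 ∣ r ^ k := by rw [hc]; exact Dvd.dvd.mul_right (by norm_num) _
      have h3 := Nat.Prime.dvd_of_dvd_pow Nat.prime_two h2
      exact hr2 ((Nat.prime_dvd_prime_iff_eq Nat.prime_two hr).1 h3).symm
  obtain ⟨P2⟩ := (inferInstance : Nonempty (Sylow 2 E))
  rcases hs 2 P2 with hcyc | ⟨n, ⟨e⟩⟩
  · left
    haveI : IsZGroup E := by
      refine ⟨fun r hr R => ?_⟩
      haveI : Fact r.Prime := ⟨hr⟩
      by_cases hr2 : r = 2
      · subst hr2
        have hPn : (P2 : Subgroup E).Normal := S0033.sylow_normal_of_nilpotent hE 2 P2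
        have : R = P2 := by
          haveI := Sylow.unique_of_normal P2 hPn
          exact Subsingleton.elim _ _
        rw [this]; exact hcyc
      · exact hodd r R hr2
    infer_instance
  · right
    obtain ⟨N, hNn, hNc, j, hNi⟩ :=
      Lib.Helper1.Frob.hasNPC_iff.1 (S4040.npc_of_nilpotent (M := E) 2)
    haveI := hNn
    refine ⟨N.map E.subtype, (P2 : Subgroup E).map E.subtype, ?_, ?_, ?_, ?_, n, ⟨?_⟩⟩
    · rw [← Subgroup.map_sup]
      have htop : N ⊔ (P2 : Subgroup E) = ⊤ := by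
        rw [← Subgroup.index_eq_one]
        have h1 : (N ⊔ (P2 : Subgroup E)).index ∣ N.index := Subgroup.index_dvd_of_le le_sup_left
        have h2 : (N ⊔ (P2 : Subgroup E)).index ∣ (P2 : Subgroup E).index :=
          Subgroup.index_dvd_of_le le_sup_right
        rw [hNi] at h1
        have h3 : ¬ 2 ∣ (P2 : Subgroup E).index := P2.not_dvd_index
        obtain ⟨i, -, hi⟩ := (Nat.dvd_prime_pow Nat.prime_two).1 h1
        rw [hi] at h2 ⊢
        cases i with
        | zero => rfl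
        | succ i => exact absurd (dvd_trans (dvd_pow_self 2 (Nat.succ_ne_zero i)) h2) h3
      rw [htop, ← MonoidHom.range_eq_map, Subgroup.range_subtype]
    · rintro _ ⟨a', ha', rfl⟩ _ ⟨b', hb', rfl⟩
      obtain ⟨k, hk⟩ := P2.2 ⟨b', hb'⟩
      have hk' : b' ^ (2 ^ k) = 1 := by simpa using congrArg Subtype.val hk
      have hao : (orderOf a').Coprime 2 :=
        Nat.Coprime.coprime_dvd_left (Subgroup.orderOf_dvd_natCard N ha') hNc
      have := S1477.nil_comm hE 2 b' a' k hk' hao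
      exact congrArg Subtype.val this.symm
    · haveI : IsZGroup N := by
        refine ⟨fun r hr R => ?_⟩
        haveI : Fact r.Prime := ⟨hr⟩
        by_cases hr2 : r = 2
        · subst hr2
          obtain ⟨k, hk⟩ := IsPGroup.iff_card.1 R.2
          have h1 : Nat.card R ∣ Nat.card N := Subgroup.card_subgroup_dvd_card _
          have hk0 : k = 0 := by
            by_contra hk0
            rw [hk] at h1
            have h2 : 2 ∣ Nat.card N := dvd_trans (dvd_pow_self 2 hk0) h1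
            exact (Nat.Prime.coprime_iff_not_dvd Nat.prime_two).1 hNc.symm h2
          rw [hk0, pow_zero] at hk
          haveI : Subsingleton R := (Nat.card_eq_one_iff_unique.mp hk).1
          exact isCyclic_of_subsingleton
        · obtain ⟨R1, hR1⟩ := (R.2.map N.subtype).exists_le_sylow
          have hR1c := hodd r R1 hr2
          let f : R →* R1 := (N.subtype.comp (R : Subgroup N).subtype).codRestrict
            (R1 : Subgroup E) (fun x => hR1 ⟨x.1, x.2, rfl⟩)
          exact cyc_of_inj f (by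
            intro x y hxy
            have h1 : ((f x : R1) : E) = ((f y : R1) : E) := congrArg Subtype.val hxy
            have h2 : N.subtype x.1 = N.subtype y.1 := h1
            exact Subtype.ext (N.subtype_injective h2)) hR1c
      haveI : IsCyclic N := inferInstance
      exact isCyclic_of_surjective (N.equivMapOfInjective E.subtype E.subtype_injective).toMonoidHom
        (N.equivMapOfInjective E.subtype E.subtype_injective).surjective
    · rw [← Nat.card_congr (N.equivMapOfInjective E.subtype E.subtype_injective).toEquiv]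
      rw [Nat.odd_iff]
      have h2 : ¬ 2 ∣ Nat.card N := (Nat.Prime.coprime_iff_not_dvd Nat.prime_two).1 hNc.symm
      omega
    · exact ((P2 : Subgroup E).equivMapOfInjective E.subtype E.subtype_injective).symm.trans e

theorem lift_comm {G : Type*} [Group G] [Finite G] (F : Subgroup G) [hFn : F.Normal] (p q : ℕ)
    [Fact p.Prime] [Fact q.Prime] (hpq : q ≠ p) (hFp : IsPGroup p F) (z : G) (hz : z ^ q = 1)
    (ξ : G ⧸ F) (hξ : ξ ^ q = 1) (hcomm : ξ * (z : G ⧸ F) = (z : G ⧸ F) * ξ) :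
    ∃ a : G, (a : G ⧸ F) = ξ ∧ a ^ q = 1 ∧ a * z = z * a := by
  have hp : p.Prime := Fact.out
  have hq : q.Prime := Fact.out
  obtain ⟨x, rfl⟩ := QuotientGroup.mk_surjective ξ
  obtain ⟨b, hb⟩ := IsPGroup.iff_card.1 hFp
  have hFpow : ∀ n ∈ F, n ^ (p ^ b) = 1 := by
    intro n hn
    have := pow_card_eq_one' (G := F) (x := ⟨n, hn⟩)
    rw [hb] at this
    simpa using congrArg Subtype.val this
  have hcop : (p ^ b).Coprime q :=
    Nat.Coprime.pow_left b ((Nat.coprime_primes hp hq).2 (Ne.symm hpq))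
  have hzq : IsPGroup q (Subgroup.zpowers z) :=
    S1473.zpow_isPGroup q z 1 (by rw [pow_one]; exact hz)
  have hFq : (Nat.card F).Coprime q := by rw [hb]; exact hcop
  have hc : ∀ b' ∈ Subgroup.zpowers z, b' * x * b'⁻¹ * x⁻¹ ∈ F := by
    intro b' hb'
    obtain ⟨i, rfl⟩ := Subgroup.mem_zpowers_iff.mp hb'
    rw [← QuotientGroup.eq_one_iff]
    have hci : Commute ((z : G) : G ⧸ F) ((x : G) : G ⧸ F) := hcomm.symm
    have := (hci.zpow_left i).eq
    rw [QuotientGroup.mk_mul, QuotientGroup.mk_mul, QuotientGroup.mk_mul, QuotientGroup.mk_inv,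
      QuotientGroup.mk_inv, QuotientGroup.mk_zpow, this]
    group
  obtain ⟨m', hm'F, hm'⟩ := Lib.Helper2.CoprimeAct.coprime_fix F hFq (Subgroup.zpowers z) hzq
    (by rw [Subgroup.normalizer_eq_top]; exact le_top) x
    (by rw [Subgroup.normalizer_eq_top]; exact Subgroup.mem_top x) hc
  have hzx : z * (x * m') = (x * m') * z := hm' z (Subgroup.mem_zpowers z)
  obtain ⟨u, -, hu⟩ := Nat.exists_mul_mod_eq_one_of_coprime hcop hq.one_lt
  obtain ⟨e, hedef⟩ : ∃ e, e = p ^ b * u := ⟨_, rfl⟩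
  rw [← hedef] at hu
  have he : e = q * (e / q) + 1 := by
    have := Nat.div_add_mod e q
    omega
  have hmk : ((x * m' : G) : G ⧸ F) = (x : G ⧸ F) := by
    rw [QuotientGroup.mk_mul, (QuotientGroup.eq_one_iff m').2 hm'F, mul_one]
  have hxq : (x * m') ^ q ∈ F := by
    rw [← QuotientGroup.eq_one_iff, QuotientGroup.mk_pow, hmk]; exact hξ
  refine ⟨(x * m') ^ e, ?_, ?_, ?_⟩
  · rw [QuotientGroup.mk_pow, hmk, he, pow_add, pow_mul, hξ, one_pow, one_mul, pow_one]
  · rw [← pow_mul, hedef, mul_comm (p ^ b * u) q, ← mul_assoc, pow_mul, pow_mul,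
      hFpow _ hxq, one_pow]
  · exact ((Commute.pow_right (show Commute z (x * m') from hzx) e).symm).eq

theorem lemU {G : Type*} [Group G] [Finite G] (F : Subgroup G) [hFn : F.Normal] (hF1 : F ≠ ⊥)
    (p q : ℕ) [Fact p.Prime] [Fact q.Prime] (hpq : q ≠ p) (hFp : IsPGroup p F)
    (hfpf0 : ∀ x : G, x ≠ 1 → (orderOf x).Coprime p → ∀ f ∈ F, x * f = f * x → f = 1)
    (α ζ : G ⧸ F) (hα : α ^ q = 1) (hζ : ζ ^ q = 1) (hζ1 : ζ ≠ 1) (hc : α * ζ = ζ * α) :
    α ∈ Subgroup.zpowers ζ := by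
  have hp : p.Prime := Fact.out
  have hq : q.Prime := Fact.out
  obtain ⟨z, hzζ, hzq, -⟩ := lift_comm F p q hpq hFp (1 : G) (one_pow q) ζ hζ (by
    rw [QuotientGroup.mk_one, mul_one, one_mul])
  obtain ⟨a, haα, haq, haz⟩ := lift_comm F p q hpq hFp z hzq α hα (by rw [hzζ]; exact hc)
  have hz1 : z ≠ 1 := by
    intro h
    apply hζ1
    rw [← hzζ, h]; rfl
  have hzo : orderOf z = q := orderOf_eq_prime hzq hz1
  obtain ⟨S, hSdef⟩ : ∃ S : Subgroup G, S = Subgroup.zpowers a ⊔ Subgroup.zpowers z := ⟨_, rfl⟩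
  have hS : IsPGroup q S := by
    rw [hSdef]
    refine IsPGroup.to_sup_of_normal_right'
      (S1473.zpow_isPGroup q a 1 (by rw [pow_one]; exact haq))
      (S1473.zpow_isPGroup q z 1 (by rw [pow_one]; exact hzq)) ?_
    rw [Subgroup.zpowers_le, Subgroup.mem_normalizer_iff]
    intro h
    have key : ∀ w ∈ Subgroup.zpowers z, a * w * a⁻¹ = w := by
      intro w hw
      obtain ⟨i, rfl⟩ := Subgroup.mem_zpowers_iff.mp hw
      have := (Commute.zpow_right (show Commute a z from haz) i).eq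
      rw [this, mul_inv_cancel_right]
    constructor
    · intro hh; rw [key h hh]; exact hh
    · intro hh
      have h2 := key _ hh
      have h3 : h = a * h * a⁻¹ := by
        calc h = a⁻¹ * (a * h * a⁻¹) * a := by group
          _ = a⁻¹ * (a * (a * h * a⁻¹) * a⁻¹) * a := by rw [h2]
          _ = a * h * a⁻¹ := by group
      rw [h3]; exact hh
  have hfpfS : ∀ h ∈ S, h ≠ 1 → ∀ k ∈ F, h * k = k * h → k = 1 := by
    intro h hh h1 k hk hhk
    obtain ⟨n, hn⟩ := hS ⟨h, hh⟩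
    have hn' : h ^ (q ^ n) = 1 := by simpa using congrArg Subtype.val hn
    have ho : (orderOf h).Coprime p :=
      Nat.Coprime.coprime_dvd_left (orderOf_dvd_of_pow_eq_one hn')
        (Nat.Coprime.pow_left n ((Nat.coprime_primes hq hp).2 hpq))
    exact hfpf0 h h1 ho k hk hhk
  have haS : a ∈ S := by rw [hSdef]; exact Subgroup.mem_sup_left (Subgroup.mem_zpowers a)
  have hzS : z ∈ S := by rw [hSdef]; exact Subgroup.mem_sup_right (Subgroup.mem_zpowers z)
  have hmem := uniq_zp F S hF1 hfpfS q a z haS hzS haz haq hzo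
  obtain ⟨i, hi⟩ := Subgroup.mem_zpowers_iff.mp hmem
  rw [Subgroup.mem_zpowers_iff]
  refine ⟨i, ?_⟩
  rw [← haα, ← hzζ, ← QuotientGroup.mk_zpow, hi]

theorem central_elt {G : Type*} [Group G] [Finite G] (A : Subgroup G) (hA : Group.IsNilpotent A)
    (s : ℕ) [Fact s.Prime] (hsA : s ∣ Nat.card A) :
    ∃ y ∈ A, orderOf y = s ∧ ∀ a ∈ A, a * y = y * a := by
  have hs : s.Prime := Fact.out
  obtain ⟨x0', hx0'⟩ := exists_prime_orderOf_dvd_card' s hsA
  have hx01 : (x0' : G) ≠ 1 := by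
    intro h
    have : x0' = 1 := Subtype.ext h
    rw [this, orderOf_one] at hx0'
    exact hs.one_lt.ne hx0'
  have hx0q : (x0' : G) ^ (s ^ 1) = 1 := by
    have := pow_orderOf_eq_one x0'
    rw [hx0'] at this
    rw [pow_one]
    simpa using congrArg Subtype.val this
  obtain ⟨y0, hy0A, hy01, ⟨k, hk⟩, hy0c⟩ := S1477.central_p A hA s x0' x0'.2 hx01 1 hx0q
  obtain ⟨p', m, hp', hm1, hmp⟩ := S1477.exists_prime_pow y0 hy01
  haveI : Fact p'.Prime := ⟨hp'⟩
  have ho : orderOf (y0 ^ m) = p' := orderOf_eq_prime hmp hm1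
  have hd : orderOf (y0 ^ m) ∣ s ^ k := by
    apply orderOf_dvd_of_pow_eq_one
    rw [← pow_mul, mul_comm, pow_mul, hk, one_pow]
  rw [ho] at hd
  have hps : p' = s := (Nat.prime_dvd_prime_iff_eq hp' hs).1 (Nat.Prime.dvd_of_dvd_pow hp' hd)
  refine ⟨y0 ^ m, pow_mem hy0A m, by rw [ho, hps], ?_⟩
  intro a ha
  exact (Commute.pow_right (show Commute a y0 from hy0c a ha) m).eq

theorem fit_ne_bot {X : Type*} [Group X] [Finite X] [Group.IsSolvable X]
    (hnn : ¬ Group.IsNilpotent X) : fittingSubgroup X ≠ ⊥ := by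
  have hnt : (⊤ : Subgroup X) ≠ ⊥ := by
    intro h
    apply hnn
    haveI : Subsingleton X := ⟨fun a b => by
      have ha : a ∈ (⊤ : Subgroup X) := Subgroup.mem_top a
      have hb : b ∈ (⊤ : Subgroup X) := Subgroup.mem_top b
      rw [h, Subgroup.mem_bot] at ha hb
      rw [ha, hb]⟩
    infer_instance
  obtain ⟨p0, N, hp0, hNn, -, -, hNp, hN1⟩ :=
    S1473.exists_sub (⊤ : Subgroup X) inferInstance hnt
  haveI : Fact p0.Prime := ⟨hp0⟩
  intro h
  have hle := Lib.Helper2.Fit.le_fitting N hNn hNp.isNilpotent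
  rw [h] at hle
  exact hN1 (le_bot_iff.mp hle)

theorem three_step {G : Type*} [Group G] [Finite G] [hsol : Group.IsSolvable G]
    (hCN : IsCNGroup G) (hnn : ¬ Group.IsNilpotent G)
    (hnoSyl : ∀ (q : ℕ) [Fact q.Prime] (Q : Sylow q G), (Q : Subgroup G).Normal →
      (Q : Subgroup G) = ⊥) :
    ∃ p : ℕ, p.Prime ∧ IsThreeStepGroup p G := by
  classical
  obtain ⟨F, hFdef⟩ : ∃ F, F = fittingSubgroup G := ⟨_, rfl⟩
  have hFn : F.Normal := by rw [hFdef]; exact Lib.Helper2.Fit.fitting_normal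
  haveI := hFn
  have hFnil : Group.IsNilpotent F := by rw [hFdef]; exact Lib.Helper2.Fit.fitting_nilpotent
  have hleF : ∀ N : Subgroup G, N.Normal → Group.IsNilpotent N → N ≤ F := by
    intro N hN hn; rw [hFdef]; exact Lib.Helper2.Fit.le_fitting N hN hn
  have hCF : Subgroup.centralizer (F : Set G) ≤ F := by rw [hFdef]; exact S0044.result
  have hF1 : F ≠ ⊥ := by rw [hFdef]; exact fit_ne_bot hnn
  have hcardF : Nat.card F ≠ 1 := by rwa [Ne, Subgroup.card_eq_one]
  obtain ⟨p, hp, hpF⟩ := Nat.exists_prime_and_dvd hcardF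
  haveI : Fact p.Prime := ⟨hp⟩
  have hpG : p ∣ Nat.card G := dvd_trans hpF (Subgroup.card_subgroup_dvd_card F)
  obtain ⟨P0⟩ := (inferInstance : Nonempty (Sylow p G))
  have hP01 : (P0 : Subgroup G) ≠ ⊥ := P0.ne_bot_of_dvd_card hpG
  have hFpow : ∀ y ∈ F, ∃ k : ℕ, y ^ (p ^ k) = 1 := by
    intro y hy
    obtain ⟨u, w, huw, _, hu, ⟨k, hk⟩, huz, hwz⟩ := Lib.Helper1.exists_p_decomp p y
    have hzF : Subgroup.zpowers y ≤ F := by rw [Subgroup.zpowers_le]; exact hy
    have hu1 : u = 1 := by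
      by_contra hu1
      have := syl_le_fit hCN p P0 (by rw [← hFdef]; exact hpF)
        ⟨u, by rw [← hFdef]; exact hzF huz, hu1, hu⟩
      exact hP01 (hnoSyl p P0 this)
    exact ⟨k, by rw [huw, hu1, one_mul]; exact hk⟩
  have hFp : IsPGroup p F := by
    rintro ⟨y, hy⟩
    obtain ⟨k, hk⟩ := hFpow y hy
    exact ⟨k, Subtype.ext (by simpa using hk)⟩
  have hpidx : p ∣ F.index := by
    by_contra hnd
    obtain ⟨Q, hFQ⟩ := hFp.exists_le_sylow
    have hQF : (Q : Subgroup G) ≤ F := by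
      intro w hw
      apply mem_of_coprime_index F w
      obtain ⟨k, hk⟩ := Q.2 ⟨w, hw⟩
      have hk' : w ^ (p ^ k) = 1 := by simpa using congrArg Subtype.val hk
      exact Nat.Coprime.coprime_dvd_left (orderOf_dvd_of_pow_eq_one hk')
        (Nat.Coprime.pow_left k ((Nat.Prime.coprime_iff_not_dvd hp).2 hnd))
    have hQeq : (Q : Subgroup G) = F := le_antisymm hQF hFQ
    have hQn : (Q : Subgroup G).Normal := by rw [hQeq]; exact hFn
    exact hF1 (by rw [← hQeq]; exact hnoSyl p Q hQn)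
  have hfpf0 : ∀ x : G, x ≠ 1 → (orderOf x).Coprime p → ∀ f ∈ F, x * f = f * x → f = 1 := by
    intro x hx1 hxo f hf hxf
    by_contra hf1
    have hL1 := hCN f hf1
    haveI := hFnil
    have htop : (⊤ : Subgroup F) ≠ ⊥ := by
      intro h
      have : (⟨f, hf⟩ : F) ∈ (⊤ : Subgroup F) := Subgroup.mem_top _
      rw [h, Subgroup.mem_bot] at this
      exact hf1 (congrArg Subtype.val this)
    obtain ⟨c, -, hcZ, hc1⟩ := S4155.normal_inf_center (⊤ : Subgroup F) htop
    have hcc : ∀ y ∈ F, y * (c : G) = (c : G) * y := by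
      intro y hy
      exact congrArg Subtype.val (Subgroup.mem_center_iff.mp hcZ ⟨y, hy⟩)
    have hc1' : (c : G) ≠ 1 := fun h => hc1 (Subtype.ext h)
    obtain ⟨kc, hkc⟩ := hFpow c c.2
    have hcx : (c : G) * x = x * (c : G) :=
      S1477.nil_comm_sub _ hL1 p c x ((S1477.cmem _ _).2 (hcc f hf))
        ((S1477.cmem _ _).2 hxf.symm) kc hkc hxo
    have hL2 := hCN (c : G) hc1'
    have hxC : x ∈ Subgroup.centralizer (F : Set G) := by
      rw [Subgroup.mem_centralizer_iff]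
      intro y hy
      obtain ⟨ky, hky⟩ := hFpow y hy
      exact S1477.nil_comm_sub _ hL2 p y x ((S1477.cmem _ _).2 (hcc y hy).symm)
        ((S1477.cmem _ _).2 hcx) ky hky hxo
    have hxF := hCF hxC
    obtain ⟨kx, hkx⟩ := hFpow x hxF
    have h1 := orderOf_dvd_of_pow_eq_one hkx
    have h2 : orderOf x = 1 := Nat.Coprime.eq_one_of_dvd (Nat.Coprime.pow_right kx hxo) h1
    exact hx1 (orderOf_eq_one_iff.mp h2)
  have hCNb : IsCNGroup (G ⧸ F) := S1473.result hCN F inferInstance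
  obtain ⟨Ab, hAbdef⟩ : ∃ Ab, Ab = fittingSubgroup (G ⧸ F) := ⟨_, rfl⟩
  have hAbn : Ab.Normal := by rw [hAbdef]; exact Lib.Helper2.Fit.fitting_normal
  haveI := hAbn
  have hAbnil : Group.IsNilpotent Ab := by rw [hAbdef]; exact Lib.Helper2.Fit.fitting_nilpotent
  have hleAb : ∀ N : Subgroup (G ⧸ F), N.Normal → Group.IsNilpotent N → N ≤ Ab := by
    intro N hN hn; rw [hAbdef]; exact Lib.Helper2.Fit.le_fitting N hN hn
  have hCAb : Subgroup.centralizer (Ab : Set (G ⧸ F)) ≤ Ab := by rw [hAbdef]; exact S0044.result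
  have hAbp : ∀ η ∈ Ab, ∀ k : ℕ, η ^ (p ^ k) = 1 → η = 1 := by
    obtain ⟨Pg, hPgmem, hPgp⟩ := S1477.pfacts Ab hAbnil p
    have hPgn : Pg.Normal := by
      constructor
      intro w hw g
      obtain ⟨h1, k, hk⟩ := (hPgmem w).1 hw
      exact (hPgmem _).2 ⟨hAbn.conj_mem w h1 g, k, by rw [conj_pow, hk]; group⟩
    have hMp : IsPGroup p (Pg.comap (QuotientGroup.mk' F)) := by
      rintro ⟨m, hm⟩
      have hm' : (QuotientGroup.mk' F) m ∈ Pg := hm
      obtain ⟨k, hk⟩ := hPgp ⟨_, hm'⟩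
      have hk' : ((m : G) : G ⧸ F) ^ (p ^ k) = 1 := by simpa using congrArg Subtype.val hk
      have hmF : m ^ (p ^ k) ∈ F := by
        rw [← QuotientGroup.eq_one_iff, QuotientGroup.mk_pow]; exact hk'
      obtain ⟨k2, hk2⟩ := hFpow _ hmF
      refine ⟨k + k2, Subtype.ext ?_⟩
      show m ^ (p ^ (k + k2)) = 1
      rw [pow_add, pow_mul]; exact hk2
    have hMn : (Pg.comap (QuotientGroup.mk' F)).Normal := hPgn.comap _
    have hMF : Pg.comap (QuotientGroup.mk' F) ≤ F := hleF _ hMn hMp.isNilpotent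
    intro η hη k hk
    obtain ⟨x, rfl⟩ := QuotientGroup.mk_surjective η
    have hx : x ∈ Pg.comap (QuotientGroup.mk' F) := by
      rw [Subgroup.mem_comap]
      exact (hPgmem _).2 ⟨hη, k, hk⟩
    exact (QuotientGroup.eq_one_iff x).2 (hMF hx)
  have hpAb : (Nat.card Ab).Coprime p := by
    rw [Nat.coprime_comm, Nat.Prime.coprime_iff_not_dvd hp]
    intro hd
    obtain ⟨η, hη⟩ := exists_prime_orderOf_dvd_card' p hd
    have h1 : (η : G ⧸ F) ^ (p ^ 1) = 1 := by
      have := pow_orderOf_eq_one η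
      rw [hη] at this
      rw [pow_one]
      simpa using congrArg Subtype.val this
    have h2 := hAbp η η.2 1 h1
    have : η = 1 := Subtype.ext h2
    rw [this, orderOf_one] at hη
    exact hp.one_lt.ne hη
  have hnnb : ¬ Group.IsNilpotent (G ⧸ F) := by
    intro hnil
    have htopAb : (⊤ : Subgroup (G ⧸ F)) ≤ Ab := by
      apply hleAb ⊤ inferInstance
      haveI := hnil
      exact Group.nilpotent_of_mulEquiv Subgroup.topEquiv.symm
    have hAbtop : Ab = ⊤ := top_le_iff.mp htopAb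
    have h1 : Nat.card Ab = F.index := by
      rw [hAbtop, Subgroup.card_top, Subgroup.index_eq_card]
    rw [h1] at hpAb
    exact (Nat.Prime.coprime_iff_not_dvd hp).1 hpAb.symm hpidx
  have hAb1 : Ab ≠ ⊥ := by rw [hAbdef]; exact fit_ne_bot hnnb
  have hSylb : ∃ (q : ℕ) (_ : Fact q.Prime) (Qb : Sylow q (G ⧸ F)),
      (Qb : Subgroup (G ⧸ F)) ≠ ⊥ ∧ (Qb : Subgroup (G ⧸ F)).Normal := by
    have hcardAb : Nat.card Ab ≠ 1 := by rwa [Ne, Subgroup.card_eq_one]
    obtain ⟨q, hq, hqAb⟩ := Nat.exists_prime_and_dvd hcardAb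
    haveI hqF : Fact q.Prime := ⟨hq⟩
    have hqp : q ≠ p := by
      rintro rfl
      exact (Nat.Prime.coprime_iff_not_dvd hp).1 hpAb.symm hqAb
    have hqGb : q ∣ Nat.card (G ⧸ F) := dvd_trans hqAb (Subgroup.card_subgroup_dvd_card Ab)
    by_cases hex : ∃ y ∈ Ab, y ≠ 1 ∧ (orderOf y).Coprime q
    · obtain ⟨Qb⟩ := (inferInstance : Nonempty (Sylow q (G ⧸ F)))
      refine ⟨q, hqF, Qb, Qb.ne_bot_of_dvd_card hqGb, ?_⟩
      exact syl_le_fit hCNb q Qb (by rw [← hAbdef]; exact hqAb) (by rw [← hAbdef]; exact hex)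
    · push_neg at hex
      have hAbq : IsPGroup q Ab := by
        rintro ⟨y, hy⟩
        obtain ⟨u, w, huw, _, hu, ⟨k, hk⟩, huz, hwz⟩ := Lib.Helper1.exists_p_decomp q y
        have hzA : Subgroup.zpowers y ≤ Ab := by rw [Subgroup.zpowers_le]; exact hy
        have hu1 : u = 1 := by
          by_contra hu1
          exact hex u (hzA huz) hu1 hu
        refine ⟨k, Subtype.ext ?_⟩
        show y ^ (q ^ k) = 1
        rw [huw, hu1, one_mul]; exact hk
      obtain ⟨Qb, hAbQ⟩ := hAbq.exists_le_sylow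
      refine ⟨q, hqF, Qb, Qb.ne_bot_of_dvd_card hqGb, ?_⟩
      suffices hQA : (Qb : Subgroup (G ⧸ F)) ≤ Ab by
        have : (Qb : Subgroup (G ⧸ F)) = Ab := le_antisymm hQA hAbQ
        rw [this]; exact hAbn
      have hU : ∀ a z : (Qb : Subgroup (G ⧸ F)), orderOf a = q → orderOf z = q →
          a * z = z * a → a ∈ Subgroup.zpowers z := by
        intro a z ha hz haz
        have h1 : (a : G ⧸ F) ∈ Subgroup.zpowers (z : G ⧸ F) := by
          apply lemU F hF1 p q hqp hFp hfpf0 a z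
          · have := pow_orderOf_eq_one a
            rw [ha] at this
            simpa using congrArg Subtype.val this
          · have := pow_orderOf_eq_one z
            rw [hz] at this
            simpa using congrArg Subtype.val this
          · intro h
            have : z = 1 := Subtype.ext h
            rw [this, orderOf_one] at hz
            exact hq.one_lt.ne hz
          · exact congrArg Subtype.val haz
        obtain ⟨i, hi⟩ := Subgroup.mem_zpowers_iff.mp h1
        rw [Subgroup.mem_zpowers_iff]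
        exact ⟨i, Subtype.ext (by simpa using hi)⟩
      have huniq := Lib.Helper1.FrobC.uniq_of_central Qb.2 hU
      by_cases hq2 : q = 2
      · exfalso
        subst hq2
        obtain ⟨τ, hτ⟩ := exists_prime_orderOf_dvd_card' 2 hqAb
        have hτQ : (τ : G ⧸ F) ∈ (Qb : Subgroup (G ⧸ F)) := hAbQ τ.2
        have hτo : orderOf (τ : G ⧸ F) = 2 := by rw [Subgroup.orderOf_coe]; exact hτ
        have hτ1 : (τ : G ⧸ F) ≠ 1 := by
          intro h; rw [h, orderOf_one] at hτo; omega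
        have hτ2 : (τ : G ⧸ F) ^ 2 = 1 := by rw [← hτo]; exact pow_orderOf_eq_one _
        apply hnnb
        have hcentral : ∀ g : G ⧸ F, (τ : G ⧸ F) * g = g * (τ : G ⧸ F) := by
          intro g
          have hconjA : g * (τ : G ⧸ F) * g⁻¹ ∈ Ab := hAbn.conj_mem _ τ.2 g
          have hconj1 : g * (τ : G ⧸ F) * g⁻¹ ≠ 1 := by
            intro h
            apply hτ1
            have e : (τ : G ⧸ F) = g⁻¹ * (g * (τ : G ⧸ F) * g⁻¹) * g := by group
            rw [e, h]; group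
          have hconjo : orderOf (g * (τ : G ⧸ F) * g⁻¹) = 2 := by
            apply orderOf_eq_prime
            · rw [conj_pow, hτ2]; group
            · exact hconj1
          have hmem := Lib.Helper1.UniqP.mem_zpowers_of_order_p huniq
            (x := (⟨(τ : G ⧸ F), hτQ⟩ : (Qb : Subgroup (G ⧸ F))))
            (y := ⟨g * (τ : G ⧸ F) * g⁻¹, hAbQ hconjA⟩)
            (by rw [Subgroup.orderOf_mk]; exact hτo) (by rw [Subgroup.orderOf_mk]; exact hconjo)
          obtain ⟨i, hi⟩ := Subgroup.mem_zpowers_iff.mp hmem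
          have hi' : (τ : G ⧸ F) ^ i = g * (τ : G ⧸ F) * g⁻¹ := by
            simpa using congrArg Subtype.val hi
          have h1 : (τ : G ⧸ F) ^ (i % 2) = (τ : G ⧸ F) ^ i := by
            have := zpow_mod_orderOf (τ : G ⧸ F) i
            rw [hτo] at this
            simpa using this
          have h3 : g * (τ : G ⧸ F) * g⁻¹ = (τ : G ⧸ F) := by
            rcases Int.emod_two_eq_zero_or_one i with h0 | h0
            · rw [h0, zpow_zero] at h1
              exact absurd (hi'.symm.trans h1.symm) hconj1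
            · rw [h0, zpow_one] at h1
              exact hi'.symm.trans h1.symm
          calc (τ : G ⧸ F) * g = (g * (τ : G ⧸ F) * g⁻¹) * g := by rw [h3]
            _ = g * (τ : G ⧸ F) := by group
        have hle : (⊤ : Subgroup (G ⧸ F)) ≤
            Subgroup.centralizer ({(τ : G ⧸ F)} : Set (G ⧸ F)) := by
          intro g _
          rw [S1477.cmem]; exact hcentral g
        haveI := S1473.nil_of_le hle (hCNb _ hτ1)
        exact Group.nilpotent_of_mulEquiv Subgroup.topEquiv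
      · rcases Lib.Helper1.UniqP.cyclic_or_quat Qb.2 huniq with hcyc | ⟨h2, -⟩
        · intro w hw
          apply hCAb
          rw [Subgroup.mem_centralizer_iff]
          intro y hy
          haveI := hcyc
          obtain ⟨g, hg⟩ := IsCyclic.exists_generator (α := (Qb : Subgroup (G ⧸ F)))
          obtain ⟨i, hi⟩ := Subgroup.mem_zpowers_iff.mp (hg ⟨w, hw⟩)
          obtain ⟨j, hj⟩ := Subgroup.mem_zpowers_iff.mp (hg ⟨y, hAbQ hy⟩)
          have hi' : (g : G ⧸ F) ^ i = w := by simpa using congrArg Subtype.val hi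
          have hj' : (g : G ⧸ F) ^ j = y := by simpa using congrArg Subtype.val hj
          rw [← hi', ← hj', ← zpow_add, ← zpow_add, add_comm]
        · exact absurd h2 hq2
  obtain ⟨q, hqF, Qb, hQb1, hQbn⟩ := hSylb
  haveI := hqF
  have hHallb : (Nat.card Ab).Coprime Ab.index := by
    rw [hAbdef]; exact S1474.fit_hall hCNb q Qb hQb1 hQbn
  obtain ⟨-, hAbtop, ⟨Eb, hcb, -, hcentb⟩, -⟩ := S1474.main hCNb hnnb q Qb hQb1 hQbn Ab hAbdef
  have hfpfb : ∀ h ∈ Eb, h ≠ 1 → ∀ k ∈ Ab, h * k = k * h → k = 1 := by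
    intro h hh h1 k hk hhk
    have := hcentb h hh h1
    have hmem : k ∈ Ab ⊓ Subgroup.centralizer ({h} : Set (G ⧸ F)) :=
      Subgroup.mem_inf.mpr ⟨hk, (S1477.cmem _ _).2 hhk⟩
    rw [this, Subgroup.mem_bot] at hmem
    exact hmem
  have hsupb : Ab ⊔ Eb = ⊤ := hcb.sup_eq_top
  have hkerb : ∀ k ∈ Ab, k ≠ 1 → ∀ b : G ⧸ F, k * b = b * k → b ∈ Ab := by
    intro k hk hk1 b hkb
    exact Lib.Helper1.FrobK.comm_mem_K Ab Eb hsupb hfpfb hk hk1 hkb
  obtain ⟨e, m, hpm, hGm⟩ :=
    Nat.exists_eq_pow_mul_and_not_dvd (Nat.card_pos (α := G)).ne' p hp.ne_one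
  have hcopm : m.Coprime (p ^ e) :=
    Nat.Coprime.pow_right e ((Nat.Prime.coprime_iff_not_dvd hp).2 hpm).symm
  obtain ⟨H0, hH0⟩ := S0003.result m (p ^ e) (by rw [hGm, mul_comm]) hcopm
  have hmp : m.Coprime p := ((Nat.Prime.coprime_iff_not_dvd hp).2 hpm).symm
  have hH0p : (Nat.card H0).Coprime p := by rw [hH0]; exact hmp
  have hH0o : ∀ h ∈ H0, (orderOf h).Coprime p := fun h hh =>
    Nat.Coprime.coprime_dvd_left (Subgroup.orderOf_dvd_natCard H0 hh) hH0p
  have hfpfH : ∀ h ∈ H0, h ≠ 1 → ∀ k ∈ F, h * k = k * h → k = 1 :=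
    fun h hh h1 k hk hhk => hfpf0 h h1 (hH0o h hh) k hk hhk
  have hH0F : ∀ x, x ∈ H0 → x ∈ F → x = 1 := by
    intro x hx hxF
    obtain ⟨k, hk⟩ := hFpow x hxF
    have h1 := orderOf_dvd_of_pow_eq_one hk
    have h2 : orderOf x = 1 := Nat.Coprime.eq_one_of_dvd (Nat.Coprime.pow_right k (hH0o x hx)) h1
    exact orderOf_eq_one_iff.mp h2
  obtain ⟨Hb, hHbdef⟩ : ∃ Hb, Hb = H0.map (QuotientGroup.mk' F) := ⟨_, rfl⟩
  have hHbcard : Nat.card Hb = m := by
    rw [hHbdef, ← hH0]
    have hinj : Function.Injective ((QuotientGroup.mk' F).subgroupMap H0) := by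
      rw [injective_iff_map_eq_one]
      intro x hx
      have h1 : ((QuotientGroup.mk' F) (x : G)) = 1 := congrArg Subtype.val hx
      have h2 : (x : G) ∈ F := (QuotientGroup.eq_one_iff _).1 h1
      exact Subtype.ext (hH0F x x.2 h2)
    exact (Nat.card_congr (Equiv.ofBijective _
      ⟨hinj, (QuotientGroup.mk' F).subgroupMap_surjective H0⟩)).symm
  have hGbdvd : Nat.card (G ⧸ F) ∣ p ^ e * m := by
    rw [← hGm, ← Subgroup.index_eq_card]; exact Subgroup.index_dvd_card F
  have hm0 : 0 < m := Nat.pos_of_ne_zero (by rintro rfl; exact hpm (dvd_zero p))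
  have hAbHb : Ab ≤ Hb := by
    have h1 := S0003.card_sup_mul_card_inf Hb Ab
    have hd1 : Nat.card ↥(Hb ⊔ Ab) ∣ Nat.card Hb * Nat.card Ab := Dvd.intro _ h1
    have hcop1 : (Nat.card ↥(Hb ⊔ Ab)).Coprime p := by
      refine Nat.Coprime.coprime_dvd_left hd1 (Nat.Coprime.mul_left ?_ hpAb)
      rw [hHbcard]; exact hmp
    have hd2 : Nat.card ↥(Hb ⊔ Ab) ∣ Nat.card (G ⧸ F) := Subgroup.card_subgroup_dvd_card _
    have hd4 : Nat.card ↥(Hb ⊔ Ab) ∣ m :=
      (Nat.Coprime.pow_right e hcop1).dvd_of_dvd_mul_left (dvd_trans hd2 hGbdvd)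
    have hle : Nat.card ↥(Hb ⊔ Ab) ≤ Nat.card Hb := by
      rw [hHbcard]; exact Nat.le_of_dvd hm0 hd4
    have heq : Hb = Hb ⊔ Ab := Subgroup.eq_of_le_of_card_ge le_sup_left hle
    rw [heq]; exact le_sup_right
  obtain ⟨F2, hF2def⟩ : ∃ F2, F2 = Ab.comap (QuotientGroup.mk' F) := ⟨_, rfl⟩
  have hF2mem : ∀ x : G, x ∈ F2 ↔ (x : G ⧸ F) ∈ Ab := by
    intro x; rw [hF2def]; exact Subgroup.mem_comap
  have hF2n : F2.Normal := by rw [hF2def]; exact hAbn.comap _
  have hFF2 : F ≤ F2 := by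
    intro x hx
    rw [hF2mem, (QuotientGroup.eq_one_iff x).2 hx]; exact one_mem _
  obtain ⟨A, hAdef⟩ : ∃ A, A = H0 ⊓ F2 := ⟨_, rfl⟩
  have hAmem : ∀ x, x ∈ A ↔ x ∈ H0 ∧ x ∈ F2 := by intro x; rw [hAdef]; exact Subgroup.mem_inf
  have hAH0 : A ≤ H0 := by rw [hAdef]; exact inf_le_left
  have hlift : ∀ η ∈ Ab, ∃ a ∈ A, (a : G ⧸ F) = η := by
    intro η hη
    have h1 : η ∈ Hb := hAbHb hη
    rw [hHbdef] at h1
    obtain ⟨h, hh, hhη⟩ := h1
    have hhη' : ((h : G) : G ⧸ F) = η := hhη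
    refine ⟨h, (hAmem h).2 ⟨hh, (hF2mem h).2 ?_⟩, hhη'⟩
    rw [hhη']; exact hη
  have hAinj : ∀ a ∈ A, (a : G ⧸ F) = 1 → a = 1 := by
    intro a ha h1
    exact hH0F a (hAH0 ha) ((QuotientGroup.eq_one_iff a).1 h1)
  have hsupA : F ⊔ A = F2 := by
    apply le_antisymm
    · exact sup_le hFF2 (by rw [hAdef]; exact inf_le_right)
    · intro x hx
      obtain ⟨a, ha, hax⟩ := hlift _ ((hF2mem x).1 hx)
      have h1 : a⁻¹ * x ∈ F := by
        rw [← QuotientGroup.eq_one_iff, QuotientGroup.mk_mul, QuotientGroup.mk_inv, hax,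
          inv_mul_cancel]
      have h2 : x = a * (a⁻¹ * x) := by group
      rw [h2]
      exact mul_mem (Subgroup.mem_sup_right ha) (Subgroup.mem_sup_left h1)
  have hAnil : Group.IsNilpotent A := by
    let f : A →* Ab := ((QuotientGroup.mk' F).comp A.subtype).codRestrict Ab
      (fun a => (hF2mem a.1).1 ((hAmem a.1).1 a.2).2)
    refine S1473.nil_of_inj f ?_ hAbnil
    rw [injective_iff_map_eq_one]
    intro a ha
    have h1 : ((a : G) : G ⧸ F) = 1 := congrArg Subtype.val ha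
    exact Subtype.ext (hAinj a a.2 h1)
  have hpc : pCore p G = F := by
    apply le_antisymm
    · exact hleF _ (Lib.Helper2.Fit.pCore_normal p) (Lib.Helper2.Fit.pCore_isPGroup p).isNilpotent
    · exact Lib.Helper2.Fit.le_pCore F hFn hFp
  have hA1 : A ≠ ⊥ := by
    intro h
    obtain ⟨⟨η, hη⟩, hη1⟩ := (Subgroup.ne_bot_iff_exists_ne_one).mp hAb1
    obtain ⟨a, ha, haη⟩ := hlift η hη
    rw [h, Subgroup.mem_bot] at ha
    apply hη1
    apply Subtype.ext
    show η = 1
    rw [← haη, ha]; rfl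
  have hAcop : (Nat.card A).Coprime p :=
    Nat.Coprime.coprime_dvd_left (Subgroup.card_dvd_of_le hAH0) hH0p
  have hAo : ∀ a ∈ A, (orderOf a).Coprime p := fun a ha => hH0o a (hAH0 ha)
  have hsupne : F ⊔ A ≠ ⊤ := by
    rw [hsupA]
    intro h
    apply hAbtop
    rw [eq_top_iff]
    intro η _
    obtain ⟨x, rfl⟩ := QuotientGroup.mk_surjective η
    have hx : x ∈ F2 := by rw [h]; exact Subgroup.mem_top x
    exact (hF2mem x).1 hx
  have hd : ∀ a ∈ A, a ≠ 1 → F ⊓ Subgroup.centralizer ({a} : Set G) = ⊥ := by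
    intro a ha ha1
    rw [Subgroup.eq_bot_iff_forall]
    intro f hf
    obtain ⟨h1, h2⟩ := Subgroup.mem_inf.1 hf
    exact hfpf0 a ha1 (hAo a ha) f h1 ((S1477.cmem _ _).1 h2)
  have he : ∀ x : G, x ∉ F ⊔ A → ∀ a ∈ A, a ≠ 1 → x * a * x⁻¹ * a⁻¹ ∉ F := by
    intro x hx a ha ha1 hcomm
    apply hx
    rw [hsupA, hF2mem]
    have haAb : (a : G ⧸ F) ∈ Ab := (hF2mem a).1 ((hAmem a).1 ha).2
    have ha1b : (a : G ⧸ F) ≠ 1 := fun h => ha1 (hAinj a ha h)
    apply hkerb _ haAb ha1b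
    have h1 : ((x * a * x⁻¹ * a⁻¹ : G) : G ⧸ F) = 1 := (QuotientGroup.eq_one_iff _).2 hcomm
    rw [QuotientGroup.mk_mul, QuotientGroup.mk_mul, QuotientGroup.mk_mul, QuotientGroup.mk_inv,
      QuotientGroup.mk_inv] at h1
    have h2 := mul_inv_eq_one.1 h1
    have h3 := mul_inv_eq_iff_eq_mul.1 h2
    exact h3.symm
  have hidx : ∃ n : ℕ, (F ⊔ A).index = p ^ n := by
    rw [hsupA]
    have hi1 : F2.index = Ab.index := by
      rw [hF2def]; exact Subgroup.index_comap_of_surjective Ab (QuotientGroup.mk'_surjective F)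
    rw [hi1]
    refine ⟨Ab.index.primeFactorsList.length,
      Nat.eq_prime_pow_of_unique_prime_dvd Subgroup.index_ne_zero_of_finite ?_⟩
    intro t ht htd
    by_contra htp
    haveI : Fact t.Prime := ⟨ht⟩
    have htAb : ¬ t ∣ Nat.card Ab := fun h =>
      Nat.Prime.not_coprime_iff_dvd.mpr ⟨t, ht, h, htd⟩ hHallb
    have htH0 : t ∣ Nat.card H0 := by
      have h1 : t ∣ p ^ e * m := dvd_trans htd (dvd_trans (Subgroup.index_dvd_card Ab) hGbdvd)
      rcases (Nat.Prime.dvd_mul ht).1 h1 with h2 | h2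
      · exact absurd ((Nat.prime_dvd_prime_iff_eq ht hp).1 (Nat.Prime.dvd_of_dvd_pow ht h2)) htp
      · rw [hH0]; exact h2
    obtain ⟨z', hz'⟩ := exists_prime_orderOf_dvd_card' t htH0
    obtain ⟨z, hzdef⟩ : ∃ z : G, z = (z' : G) := ⟨_, rfl⟩
    have hzH0 : z ∈ H0 := by rw [hzdef]; exact z'.2
    have hzo : orderOf z = t := by rw [hzdef, Subgroup.orderOf_coe]; exact hz'
    have hz1 : z ≠ 1 := by intro h; rw [h, orderOf_one] at hzo; exact ht.one_lt.ne hzo
    have hzF2 : z ∉ F2 := by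
      intro h
      have hzb : (z : G ⧸ F) ∈ Ab := (hF2mem z).1 h
      have h1 : orderOf (z : G ⧸ F) ∣ t := by
        apply orderOf_dvd_of_pow_eq_one
        rw [← QuotientGroup.mk_pow, ← hzo, pow_orderOf_eq_one]; rfl
      have h2 : orderOf (z : G ⧸ F) ∣ Nat.card Ab := Subgroup.orderOf_dvd_natCard Ab hzb
      have h3 : orderOf (z : G ⧸ F) = 1 := by
        rcases (Nat.dvd_prime ht).1 h1 with h | h
        · exact h
        · exact absurd (h ▸ h2) htAb
      have h4 : (z : G ⧸ F) = 1 := orderOf_eq_one_iff.mp h3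
      exact hz1 (hH0F z hzH0 ((QuotientGroup.eq_one_iff z).1 h4))
    have hcardA : Nat.card A ≠ 1 := by rwa [Ne, Subgroup.card_eq_one]
    obtain ⟨s, hs, hsA⟩ := Nat.exists_prime_and_dvd hcardA
    haveI : Fact s.Prime := ⟨hs⟩
    obtain ⟨y, hyA, hyo, hyc⟩ := central_elt A hAnil s hsA
    have hyAb : (y : G ⧸ F) ∈ Ab := (hF2mem y).1 ((hAmem y).1 hyA).2
    have hy1 : y ≠ 1 := by intro h; rw [h, orderOf_one] at hyo; exact hs.one_lt.ne hyo
    have hy1b : (y : G ⧸ F) ≠ 1 := fun h => hy1 (hAinj y hyA h)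
    have hts : t ≠ s := by
      intro hts
      apply htAb
      rw [hts]
      have h1 : orderOf (y : G ⧸ F) = s := by
        apply orderOf_eq_prime
        · rw [← QuotientGroup.mk_pow, ← hyo, pow_orderOf_eq_one]; rfl
        · exact hy1b
      rw [← h1]; exact Subgroup.orderOf_dvd_natCard Ab hyAb
    have hzyA : z * y * z⁻¹ ∈ A := by
      rw [hAmem]
      exact ⟨mul_mem (mul_mem hzH0 (hAH0 hyA)) (inv_mem hzH0),
        hF2n.conj_mem y ((hAmem y).1 hyA).2 z⟩
    have hzy : z * y * z⁻¹ ∈ Subgroup.zpowers y := by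
      apply uniq_zp F H0 hF1 hfpfH s (z * y * z⁻¹) y (hAH0 hzyA) (hAH0 hyA) (hyc _ hzyA)
      · rw [conj_pow, ← hyo, pow_orderOf_eq_one]; group
      · exact hyo
    have hcomm : z * y = y * z :=
      Lib.Helper1.FrobZ.factA F H0 hF1 hfpfH t s hts y z (hAH0 hyA) hzH0 hyo hzo hzy
    apply hzF2
    rw [hF2mem]
    apply hkerb _ hyAb hy1b
    rw [← QuotientGroup.mk_mul, ← QuotientGroup.mk_mul, hcomm]
  have hAodd : Odd (Nat.card A) := by
    rw [Nat.odd_iff]
    by_contra hne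
    have h2A : 2 ∣ Nat.card A := by omega
    haveI : Fact (Nat.Prime 2) := ⟨Nat.prime_two⟩
    obtain ⟨τ, hτA, hτo, hτc⟩ := central_elt A hAnil 2 h2A
    have hτ1 : τ ≠ 1 := by intro h; rw [h, orderOf_one] at hτo; omega
    have hτb1 : (τ : G ⧸ F) ≠ 1 := fun h => hτ1 (hAinj τ hτA h)
    have hτ2 : τ ^ 2 = 1 := by rw [← hτo]; exact pow_orderOf_eq_one τ
    apply hnnb
    have hcentral : ∀ g : G ⧸ F, (τ : G ⧸ F) * g = g * (τ : G ⧸ F) := by
      intro g
      obtain ⟨x, rfl⟩ := QuotientGroup.mk_surjective g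
      have hconj : ((x * τ * x⁻¹ : G) : G ⧸ F) ∈ Ab := by
        rw [← hF2mem]; exact hF2n.conj_mem τ ((hAmem τ).1 hτA).2 x
      obtain ⟨a, ha, hax⟩ := hlift _ hconj
      have ha2 : a ^ 2 = 1 := by
        apply hAinj _ (pow_mem ha 2)
        rw [QuotientGroup.mk_pow, hax, ← QuotientGroup.mk_pow, conj_pow, hτ2]
        have : x * 1 * x⁻¹ = 1 := by group
        rw [this]; rfl
      have ha1 : a ≠ 1 := by
        intro h
        rw [h] at hax
        apply hτb1
        have h1 : ((x * τ * x⁻¹ : G) : G ⧸ F) = 1 := hax.symm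
        have h2 : x * τ * x⁻¹ ∈ F := (QuotientGroup.eq_one_iff _).1 h1
        have h3 : τ ∈ F := by
          have := hFn.conj_mem _ h2 x⁻¹
          have e : x⁻¹ * (x * τ * x⁻¹) * x⁻¹⁻¹ = τ := by group
          rw [e] at this; exact this
        exact (QuotientGroup.eq_one_iff τ).2 h3
      have hmem : a ∈ Subgroup.zpowers τ :=
        uniq_zp F H0 hF1 hfpfH 2 a τ (hAH0 ha) (hAH0 hτA) (hτc a ha) ha2 hτo
      obtain ⟨i, hi⟩ := Subgroup.mem_zpowers_iff.mp hmem
      have h1 : τ ^ (i % 2) = τ ^ i := by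
        have := zpow_mod_orderOf τ i
        rw [hτo] at this
        simpa using this
      have haτ : a = τ := by
        rcases Int.emod_two_eq_zero_or_one i with h0 | h0
        · rw [h0, zpow_zero] at h1
          exact absurd (hi.symm.trans h1.symm) ha1
        · rw [h0, zpow_one] at h1
          exact hi.symm.trans h1.symm
      rw [haτ] at hax
      rw [QuotientGroup.mk_mul, QuotientGroup.mk_mul, QuotientGroup.mk_inv] at hax
      calc (τ : G ⧸ F) * (x : G ⧸ F)
          = ((x : G ⧸ F) * (τ : G ⧸ F) * (x : G ⧸ F)⁻¹) * (x : G ⧸ F) := by rw [← hax]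
        _ = (x : G ⧸ F) * (τ : G ⧸ F) := by group
    have hle : (⊤ : Subgroup (G ⧸ F)) ≤
        Subgroup.centralizer ({(τ : G ⧸ F)} : Set (G ⧸ F)) := by
      intro g _
      rw [S1477.cmem]; exact hcentral g
    haveI := S1473.nil_of_le hle (hCNb _ hτb1)
    exact Group.nilpotent_of_mulEquiv Subgroup.topEquiv
  have hAcyc : IsCyclic A := by
    haveI := hAnil
    haveI : IsZGroup A := by
      refine ⟨fun r hr R => ?_⟩
      haveI : Fact r.Prime := ⟨hr⟩
      have hU : ∀ a z : (R : Subgroup A), orderOf a = r → orderOf z = r → a * z = z * a →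
          a ∈ Subgroup.zpowers z := by
        intro a z ha hz haz
        have h1 : ((a : A) : G) ∈ Subgroup.zpowers ((z : A) : G) := by
          apply uniq_zp F H0 hF1 hfpfH r _ _ (hAH0 (a : A).2) (hAH0 (z : A).2)
          · exact congrArg (fun t : (R : Subgroup A) => ((t : A) : G)) haz
          · have := pow_orderOf_eq_one a
            rw [ha] at this
            exact congrArg (fun t : (R : Subgroup A) => ((t : A) : G)) this
          · rw [Subgroup.orderOf_coe, Subgroup.orderOf_coe]; exact hz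
        obtain ⟨i, hi⟩ := Subgroup.mem_zpowers_iff.mp h1
        rw [Subgroup.mem_zpowers_iff]
        refine ⟨i, Subtype.ext (Subtype.ext ?_)⟩
        simpa using hi
      have huniq := Lib.Helper1.FrobC.uniq_of_central R.2 hU
      rcases Lib.Helper1.UniqP.cyclic_or_quat R.2 huniq with hcyc | ⟨h2, n, ⟨e'⟩⟩
      · exact hcyc
      · exfalso
        have hc : Nat.card R = 4 * 2 ^ n := by
          rw [Nat.card_congr e'.toEquiv, Nat.card_eq_fintype_card, QuaternionGroup.card]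
        have h1 : Nat.card R ∣ Nat.card A := Subgroup.card_subgroup_dvd_card _
        rw [hc] at h1
        have h3 : 2 ∣ Nat.card A := dvd_trans (Dvd.dvd.mul_right (by norm_num) _) h1
        rw [Nat.odd_iff] at hAodd
        omega
    infer_instance
  refine ⟨p, hp, ?_⟩
  unfold IsThreeStepGroup
  rw [hpc]
  exact ⟨hF1, A, hA1, hAcyc, hAodd, hAcop, by rw [hsupA]; exact hF2n, hsupne, hidx, hd, he⟩

theorem result {G : Type*} [Group G] [Finite G] [Group.IsSolvable G] (hCN : Cfsg.IsCNGroup G) :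
    Group.IsNilpotent G ∨
      (∃ K E : Subgroup G, K.Normal ∧ Subgroup.IsComplement' K E ∧ Cfsg.IsFrobeniusComplement E ∧
        (IsCyclic E ∨ ∃ C Q : Subgroup G, C ⊔ Q = E ∧ (∀ a ∈ C, ∀ b ∈ Q, a * b = b * a) ∧ IsCyclic C ∧ Odd (Nat.card C) ∧
          ∃ n : ℕ, Nonempty (↥Q ≃* QuaternionGroup (2 ^ n)))) ∨
      ∃ p : ℕ, p.Prime ∧ Cfsg.IsThreeStepGroup p G := by
  by_cases hnil : Group.IsNilpotent G
  · exact Or.inl hnil
  by_cases hSyl : ∃ (q : ℕ) (_ : Fact q.Prime) (Q : Sylow q G),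
      (Q : Subgroup G) ≠ ⊥ ∧ (Q : Subgroup G).Normal
  · right; left
    obtain ⟨q, hqF, Q, hQ1, hQn⟩ := hSyl
    haveI := hqF
    haveI : (fittingSubgroup G).Normal := Lib.Helper2.Fit.fitting_normal
    obtain ⟨hF1, -, ⟨E, hc, hFrob, hcent⟩, hquot⟩ :=
      S1474.main hCN hnil q Q hQ1 hQn (fittingSubgroup G) rfl
    have hEnil : Group.IsNilpotent E := by
      refine S1473.nil_of_inj ((QuotientGroup.mk' (fittingSubgroup G)).comp E.subtype) ?_ hquot
      rw [injective_iff_map_eq_one]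
      intro x hx
      have h1 : (x : G) ∈ fittingSubgroup G := (QuotientGroup.eq_one_iff _).1 hx
      have := hc.disjoint
      rw [Subgroup.disjoint_def] at this
      exact Subtype.ext (this h1 x.2)
    refine ⟨fittingSubgroup G, E, inferInstance, hc, hFrob, ?_⟩
    apply nilp_struct E hEnil
    intro r hrF R
    exact S0040.result (fittingSubgroup G) E hc hF1 hcent r R
  · right; right
    push_neg at hSyl
    apply three_step hCN hnil
    intro q hqF Q hQn
    by_contra hQ1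
    exact hSyl q hqF Q hQ1 hQn

end Cfsg.Agent.S1476
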