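import Mathlib
import Cfsg.Statements.S1459
import Cfsg.Agent.S4040
import Cfsg.Agent.S1476
import Cfsg.Agent.Lib.Helper1.Coprime

set_option autoImplicit false
open Pointwise
open Cfsg
open scoped commutatorElement

namespace Cfsg.Agent.S1459

theorem conj_mem_comm {G : Type*} [Group G] (H K L : Subgroup G) (x : G)
    (hx : ∀ a ∈ H, ∀ b ∈ K, x * ⁅a, b⁆ * x⁻¹ ∈ L) :
    ∀ n ∈ ⁅H, K⁆, x * n * x⁻¹ ∈ L := by
  have h : ⁅H, K⁆ ≤ L.comap (MulAut.conj x).toMonoidHom := by
    rw [Subgroup.commutator_le]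
    intro a ha b hb
    rw [Subgroup.mem_comap]
    show x * ⁅a, b⁆ * x⁻¹ ∈ L
    exact hx a ha b hb
  intro n hn
  have h2 := h hn
  rw [Subgroup.mem_comap] at h2
  exact h2

theorem comm_normal {G : Type*} [Group G] (H K : Subgroup G)
    (hHK : ∀ g : G, ∃ h ∈ H, ∃ k ∈ K, g = h * k) : (⁅H, K⁆).Normal := by
  have hH : ∀ h ∈ H, ∀ n ∈ ⁅H, K⁆, h * n * h⁻¹ ∈ ⁅H, K⁆ := by
    intro h hh
    apply conj_mem_comm
    intro a ha b hb
    have e : h * ⁅a, b⁆ * h⁻¹ = ⁅h * a, b⁆ * ⁅h, b⁆⁻¹ := by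
      simp only [commutatorElement_def]; group
    rw [e]
    exact Subgroup.mul_mem _ (Subgroup.commutator_mem_commutator (H.mul_mem hh ha) hb)
      (Subgroup.inv_mem _ (Subgroup.commutator_mem_commutator hh hb))
  have hK : ∀ k ∈ K, ∀ n ∈ ⁅H, K⁆, k * n * k⁻¹ ∈ ⁅H, K⁆ := by
    intro k hk
    apply conj_mem_comm
    intro a ha b hb
    have e : k * ⁅a, b⁆ * k⁻¹ = ⁅a, k⁆⁻¹ * ⁅a, k * b⁆ := by
      simp only [commutatorElement_def]; group
    rw [e]
    exact Subgroup.mul_mem _ (Subgroup.inv_mem _ (Subgroup.commutator_mem_commutator ha hk))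
      (Subgroup.commutator_mem_commutator ha (K.mul_mem hk hb))
  refine ⟨fun n hn g => ?_⟩
  obtain ⟨h, hh, k, hk, rfl⟩ := hHK g
  have e : h * k * n * (h * k)⁻¹ = h * (k * n * k⁻¹) * h⁻¹ := by group
  rw [e]
  exact hH h hh _ (hK k hk n hn)

theorem comm_sup_le {G : Type*} [Group G] (N D : Subgroup G) [N.Normal] :
    ⁅N ⊔ D, N ⊔ D⁆ ≤ N ⊔ ⁅D, D⁆ := by
  have h0 : N.map (QuotientGroup.mk' N) = ⊥ :=
    (Subgroup.map_eq_bot_iff _).2 (le_of_eq (QuotientGroup.ker_mk' N).symm)
  have h1 : (N ⊔ D).map (QuotientGroup.mk' N) = D.map (QuotientGroup.mk' N) := by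
    rw [Subgroup.map_sup, h0, bot_sup_eq]
  have h2 : (⁅N ⊔ D, N ⊔ D⁆).map (QuotientGroup.mk' N) = (⁅D, D⁆).map (QuotientGroup.mk' N) := by
    rw [Subgroup.map_commutator, Subgroup.map_commutator, h1]
  calc ⁅N ⊔ D, N ⊔ D⁆
      ≤ ((⁅N ⊔ D, N ⊔ D⁆).map (QuotientGroup.mk' N)).comap (QuotientGroup.mk' N) :=
        Subgroup.le_comap_map _ _
    _ = ((⁅D, D⁆).map (QuotientGroup.mk' N)).comap (QuotientGroup.mk' N) := by rw [h2]
    _ = ⁅D, D⁆ ⊔ N := by rw [Subgroup.comap_map_eq, QuotientGroup.ker_mk']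
    _ = N ⊔ ⁅D, D⁆ := sup_comm _ _

theorem le_of_le_sup_comm {G : Type*} [Group G] [hs : Group.IsSolvable G] (H N : Subgroup G)
    [N.Normal] (h : H ≤ N ⊔ ⁅H, H⁆) : H ≤ N := by
  have key : ∀ n : ℕ, H ≤ N ⊔ derivedSeries G n := by
    intro n
    induction n with
    | zero => rw [derivedSeries_zero, sup_top_eq]; exact le_top
    | succ n ih =>
      refine h.trans (sup_le le_sup_left ?_)
      refine (Subgroup.commutator_mono ih ih).trans ?_
      rw [derivedSeries_succ]
      exact comm_sup_le N (derivedSeries G n)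
  obtain ⟨n, hn⟩ := hs.solvable
  have h2 := key n
  rw [hn, sup_bot_eq] at h2
  exact h2

theorem comm_central {Q : Type*} [Group Q] (z w a b : Q) (hz : ∀ g, z * g = g * z)
    (hw : ∀ g, w * g = g * w) : ⁅z * a, w * b⁆ = ⁅a, b⁆ := by
  rw [commutatorElement_def, commutatorElement_def]
  calc z * a * (w * b) * (z * a)⁻¹ * (w * b)⁻¹
      = z * (a * (w * b) * a⁻¹) * z⁻¹ * (b⁻¹ * w⁻¹) := by group
    _ = (a * (w * b) * a⁻¹) * z * z⁻¹ * (b⁻¹ * w⁻¹) := by rw [hz]
    _ = a * (w * (b * a⁻¹ * b⁻¹)) * w⁻¹ := by group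
    _ = a * ((b * a⁻¹ * b⁻¹) * w) * w⁻¹ := by rw [hw]
    _ = a * b * a⁻¹ * b⁻¹ := by group

theorem comm_self_le {G : Type*} [Group G] (K : Subgroup G) : ⁅K, K⁆ ≤ K :=
  Subgroup.commutator_le.2 (fun a ha b hb => by
    rw [commutatorElement_def]
    exact K.mul_mem (K.mul_mem (K.mul_mem ha hb) (K.inv_mem ha)) (K.inv_mem hb))

theorem part1 {G : Type*} [Group G] [Finite G] [Group.IsSolvable G] (H K : Subgroup G)
    (hHn : H.Normal) (hcop : (Nat.card H).Coprime H.index)
    (hc : Subgroup.IsComplement' H K) (hle : H ≤ commutator G) :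
    H = ⁅H, K⁆ ∧ H ⊓ Subgroup.centralizer (K : Set G) ≤ ⁅H, H⁆ := by
  have hHK : ∀ g : G, ∃ h ∈ H, ∃ k ∈ K, g = h * k := by
    intro g
    obtain ⟨⟨⟨h, hh⟩, ⟨k, hk⟩⟩, hhk, -⟩ := Subgroup.IsComplement.existsUnique hc g
    exact ⟨h, hh, k, hk, hhk.symm⟩
  have hdisj : H ⊓ K = ⊥ := hc.disjoint.eq_bot
  haveI hNn : (⁅H, K⁆).Normal := comm_normal H K hHK
  have hNH : ⁅H, K⁆ ≤ H := Subgroup.commutator_le_left H K
  have hHH : ⁅H, H⁆ ≤ H := comm_self_le H
  have hfirst : H = ⁅H, K⁆ := by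
    obtain ⟨M, hMdef⟩ : ∃ M : Subgroup G, M = ⁅H, K⁆ ⊔ ⁅H, H⁆ := ⟨_, rfl⟩
    haveI hMn : M.Normal := by rw [hMdef]; infer_instance
    have hMH : M ≤ H := by rw [hMdef]; exact sup_le hNH hHH
    have hcomm_of : ∀ a b : G, ⁅a, b⁆ ∈ M →
        Commute (QuotientGroup.mk' M a) (QuotientGroup.mk' M b) := by
      intro a b hab
      rw [← commutatorElement_eq_one_iff_commute, ← map_commutatorElement]
      exact (QuotientGroup.eq_one_iff _).2 hab
    have hcent : ∀ h ∈ H, ∀ q : G ⧸ M, QuotientGroup.mk' M h * q = q * QuotientGroup.mk' M h := by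
      intro h hh q
      obtain ⟨g, rfl⟩ := QuotientGroup.mk'_surjective M q
      obtain ⟨h', hh', k', hk', rfl⟩ := hHK g
      have c1 : Commute (QuotientGroup.mk' M h) (QuotientGroup.mk' M h') :=
        hcomm_of h h' (by
          rw [hMdef]
          exact Subgroup.mem_sup_right (Subgroup.commutator_mem_commutator hh hh'))
      have c2 : Commute (QuotientGroup.mk' M h) (QuotientGroup.mk' M k') :=
        hcomm_of h k' (by
          rw [hMdef]
          exact Subgroup.mem_sup_left (Subgroup.commutator_mem_commutator hh hk'))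
      rw [map_mul]
      exact (c1.mul_right c2).eq
    have hG' : commutator G ≤ M ⊔ ⁅K, K⁆ := by
      rw [commutator_def, Subgroup.commutator_le]
      intro g₁ _ g₂ _
      obtain ⟨h₁, hh₁, k₁, hk₁, rfl⟩ := hHK g₁
      obtain ⟨h₂, hh₂, k₂, hk₂, rfl⟩ := hHK g₂
      have e : QuotientGroup.mk' M ⁅k₁, k₂⁆ = QuotientGroup.mk' M ⁅h₁ * k₁, h₂ * k₂⁆ := by
        rw [map_commutatorElement, map_commutatorElement, map_mul, map_mul]
        exact (comm_central _ _ _ _ (hcent h₁ hh₁) (hcent h₂ hh₂)).symm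
      obtain ⟨z, hz, hze⟩ := (QuotientGroup.mk'_eq_mk' M).1 e
      rw [← hze]
      exact Subgroup.mul_mem _ (Subgroup.mem_sup_right (Subgroup.commutator_mem_commutator hk₁ hk₂))
        (Subgroup.mem_sup_left hz)
    have hHM : H ≤ ⁅H, K⁆ ⊔ ⁅H, H⁆ := by
      intro h hh
      have h1 : h ∈ M ⊔ ⁅K, K⁆ := hG' (hle hh)
      have h2 : h ∈ ((M ⊔ ⁅K, K⁆ : Subgroup G) : Set G) := h1
      rw [Subgroup.normal_mul] at h2
      obtain ⟨m, hm, k, hk, hmk⟩ := Set.mem_mul.1 h2
      have hkK : k ∈ K := comm_self_le K hk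
      have hkH : k ∈ H := by
        have : k = m⁻¹ * h := by rw [← hmk]; group
        rw [this]
        exact H.mul_mem (H.inv_mem (hMH hm)) hh
      have hk1 : k = 1 := by
        have : k ∈ H ⊓ K := ⟨hkH, hkK⟩
        rw [hdisj] at this
        exact this
      rw [hk1, mul_one] at hmk
      rw [← hmk, ← hMdef]
      exact hm
    exact le_antisymm (le_of_le_sup_comm H (⁅H, K⁆) hHM) hNH
  refine ⟨hfirst, ?_⟩
  -- second claim
  obtain ⟨D, hDdef⟩ : ∃ D : Subgroup G, D = ⁅H, H⁆ := ⟨_, rfl⟩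
  haveI hDn : D.Normal := by rw [hDdef]; infer_instance
  rw [← hDdef]
  have hπs : Function.Surjective (QuotientGroup.mk' D) := QuotientGroup.mk'_surjective D
  haveI hVn : (H.map (QuotientGroup.mk' D)).Normal := hHn.map _ hπs
  haveI hVc : IsMulCommutative (H.map (QuotientGroup.mk' D)) := by
    refine ⟨⟨fun a b => ?_⟩⟩
    obtain ⟨a, ha⟩ := a
    obtain ⟨b, hb⟩ := b
    obtain ⟨h₁, hh₁, rfl⟩ := Subgroup.mem_map.1 ha
    obtain ⟨h₂, hh₂, rfl⟩ := Subgroup.mem_map.1 hb
    apply Subtype.ext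
    show QuotientGroup.mk' D h₁ * QuotientGroup.mk' D h₂ =
      QuotientGroup.mk' D h₂ * QuotientGroup.mk' D h₁
    have : Commute (QuotientGroup.mk' D h₁) (QuotientGroup.mk' D h₂) := by
      rw [← commutatorElement_eq_one_iff_commute, ← map_commutatorElement]
      exact (QuotientGroup.eq_one_iff _).2
        (by rw [hDdef]; exact Subgroup.commutator_mem_commutator hh₁ hh₂)
    exact this.eq
  have hAV : K.map (QuotientGroup.mk' D) ≤
      Subgroup.normalizer ((H.map (QuotientGroup.mk' D) : Subgroup (G ⧸ D)) : Set (G ⧸ D)) := by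
    rw [Subgroup.normalizer_eq_top]
    exact le_top
  have hKcard : Nat.card K = H.index := by
    have h1 := hc.card_mul_card
    have h2 := H.card_mul_index
    have h3 : 0 < Nat.card H := Nat.card_pos
    exact Nat.eq_of_mul_eq_mul_left h3 (h1.trans h2.symm)
  have hcop' : (Nat.card (K.map (QuotientGroup.mk' D))).Coprime
      (Nat.card (H.map (QuotientGroup.mk' D))) := by
    refine Nat.Coprime.coprime_dvd_left (Subgroup.card_map_dvd K _) ?_
    refine Nat.Coprime.coprime_dvd_right (Subgroup.card_map_dvd H _) ?_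
    rw [hKcard]
    exact hcop.symm
  have hdec := (Lib.Helper1.coprime_abelian_decomp (K.map (QuotientGroup.mk' D))
    (H.map (QuotientGroup.mk' D)) hAV hcop').1
  have hVA : ⁅H.map (QuotientGroup.mk' D), K.map (QuotientGroup.mk' D)⁆ =
      H.map (QuotientGroup.mk' D) := by
    rw [← Subgroup.map_commutator, ← hfirst]
  intro c hc'
  obtain ⟨hcH, hcC⟩ := hc'
  have hmem : QuotientGroup.mk' D c ∈ (H.map (QuotientGroup.mk' D) ⊓
      Subgroup.centralizer ((K.map (QuotientGroup.mk' D) : Subgroup (G ⧸ D)) : Set (G ⧸ D))) ⊓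
      ⁅H.map (QuotientGroup.mk' D), K.map (QuotientGroup.mk' D)⁆ := by
    refine ⟨⟨Subgroup.mem_map_of_mem _ hcH, ?_⟩, ?_⟩
    · refine Subgroup.mem_centralizer_iff.2 (fun a ha => ?_)
      obtain ⟨k, hk, rfl⟩ := Subgroup.mem_map.1 ha
      rw [← map_mul, ← map_mul]
      have := (Subgroup.mem_centralizer_iff.1 hcC) k hk
      rw [this]
    · rw [hVA]
      exact Subgroup.mem_map_of_mem _ hcH
  rw [hdec] at hmem
  exact (QuotientGroup.eq_one_iff c).1 (Subgroup.mem_bot.1 hmem)

theorem nil_prime_index {T : Type*} [Group T] [Finite T] [hn : Group.IsNilpotent T] (p : ℕ)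
    (hp : p.Prime) (hidx : (commutator T).index = p) : Nat.card T = p := by
  have hne : commutator T ≠ ⊤ := by
    intro h
    rw [h, Subgroup.index_top] at hidx
    exact hp.ne_one hidx.symm
  obtain ⟨x, hx⟩ : ∃ x, x ∉ commutator T := by
    by_contra hcon
    exact hne (eq_top_iff.2 (fun x _ => by_contra (fun hx => hcon ⟨x, hx⟩)))
  have hzp : Subgroup.zpowers x = ⊤ := by
    by_contra hzne
    obtain ⟨M, hM, hxM⟩ := (eq_top_or_exists_le_coatom (Subgroup.zpowers x)).resolve_left hzne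
    haveI hMn : M.Normal :=
      Subgroup.NormalizerCondition.normal_of_coatom M Group.normalizerCondition_of_isNilpotent hM
    have hTM : commutator T ≤ M := by
      by_contra hcon
      have hlt : M < M ⊔ commutator T :=
        lt_of_le_of_ne le_sup_left (fun h => hcon (h ▸ le_sup_right))
      have htop := hM.2 _ hlt
      have h1 : (⊤ : Subgroup T) ≤ M :=
        le_of_le_sup_comm ⊤ M (by rw [← commutator_def, htop])
      exact hM.1 (eq_top_iff.2 h1)
    have hMidx : M.index = p := by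
      have hd : M.index ∣ p := hidx ▸ Subgroup.index_dvd_of_le hTM
      rcases (Nat.dvd_prime hp).1 hd with h1 | h1
      · exact absurd (Subgroup.index_eq_one.1 h1) hM.1
      · exact h1
    have hMT : M ≤ commutator T := by
      have h1 := Subgroup.relIndex_mul_index hTM
      rw [hMidx, hidx] at h1
      have h2 : (commutator T).relIndex M = 1 := by
        have := hp.pos
        exact Nat.eq_of_mul_eq_mul_right this (by rw [h1, one_mul])
      exact Subgroup.relIndex_eq_one.1 h2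
    exact hx (hMT (hxM (Subgroup.mem_zpowers x)))
  have hcomm : ∀ a b : T, a * b = b * a := by
    intro a b
    have ha : a ∈ Subgroup.zpowers x := hzp ▸ Subgroup.mem_top a
    have hb : b ∈ Subgroup.zpowers x := hzp ▸ Subgroup.mem_top b
    obtain ⟨i, rfl⟩ := ha
    obtain ⟨j, rfl⟩ := hb
    rw [← zpow_add, ← zpow_add, add_comm]
  have hbot : commutator T = ⊥ := by
    rw [commutator_def, eq_bot_iff, Subgroup.commutator_le]
    intro a _ b _
    rw [Subgroup.mem_bot, commutatorElement_eq_one_iff_commute]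
    exact hcomm a b
  rw [hbot, Subgroup.index_bot] at hidx
  exact hidx

theorem part2 {G : Type*} [Group G] [Finite G] [Group.IsSolvable G]
    (hnil : Group.IsNilpotent ↥(commutator G)) (hidx : (commutator G).index.Prime) :
    (Nat.card ↥(commutator G)).Coprime (commutator G).index := by
  obtain ⟨p, hpdef⟩ : ∃ p : ℕ, p = (commutator G).index := ⟨_, rfl⟩
  rw [← hpdef] at hidx ⊢
  haveI : Fact p.Prime := ⟨hidx⟩
  obtain ⟨N, hNn, hNcop, j, hNj⟩ :=
    Lib.Helper1.Frob.hasNPC_iff.1 (S4040.npc_of_nilpotent (M := ↥(commutator G)) p)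
  obtain ⟨Q, hQdef⟩ : ∃ Q : Subgroup G, Q = N.map (commutator G).subtype := ⟨_, rfl⟩
  have hQle : Q ≤ commutator G := by
    rw [hQdef]
    rintro _ ⟨y, _, rfl⟩
    exact y.2
  have hQcard : Nat.card Q = Nat.card N := by
    rw [hQdef]
    exact Subgroup.card_map_of_injective (Subgroup.subtype_injective _)
  haveI hQn : Q.Normal := by
    refine ⟨fun x hx g => ?_⟩
    rw [hQdef] at hx ⊢
    obtain ⟨y, hy, rfl⟩ := hx
    have hmem : g * (y : G) * g⁻¹ ∈ commutator G :=
      (inferInstance : (commutator G).Normal).conj_mem _ y.2 g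
    refine ⟨⟨g * (y : G) * g⁻¹, hmem⟩, ?_, rfl⟩
    haveI := hNn
    apply S1476.mem_of_coprime_index N
    rw [hNj]
    apply Nat.Coprime.pow_right
    have ho1 : orderOf (⟨g * (y : G) * g⁻¹, hmem⟩ : ↥(commutator G)) = orderOf y := by
      rw [← Subgroup.orderOf_coe, ← Subgroup.orderOf_coe]
      show orderOf (g * (y : G) * g⁻¹) = orderOf (y : G)
      have hs : SemiconjBy g (y : G) (g * (y : G) * g⁻¹) := by
        unfold SemiconjBy; group
      exact (SemiconjBy.orderOf_eq g hs).symm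
    rw [ho1]
    have ho2 : orderOf y ∣ Nat.card N := by
      have := orderOf_dvd_natCard (⟨y, hy⟩ : N)
      rwa [Subgroup.orderOf_mk] at this
    exact Nat.Coprime.coprime_dvd_left ho2 hNcop
  have hc1 : Nat.card Q * Q.index = Nat.card G := Q.card_mul_index
  have hc2 : Nat.card ↥(commutator G) * p = Nat.card G := by
    rw [hpdef]; exact (commutator G).card_mul_index
  have hc3 : Nat.card N * p ^ j = Nat.card ↥(commutator G) := by
    rw [← hNj]; exact N.card_mul_index
  have hNpos : 0 < Nat.card N := Nat.card_pos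
  have hQidx : Q.index = p ^ (j + 1) := by
    have : Nat.card N * Q.index = Nat.card N * p ^ (j + 1) := by
      rw [← hQcard, hc1, ← hc2, ← hc3, hQcard, pow_succ, mul_assoc]
    exact Nat.eq_of_mul_eq_mul_left hNpos this
  have hTcard : Nat.card (G ⧸ Q) = p ^ (j + 1) := by
    rw [← hQidx]; rfl
  have hTp : IsPGroup p (G ⧸ Q) := IsPGroup.of_card hTcard
  haveI hTnil : Group.IsNilpotent (G ⧸ Q) := hTp.isNilpotent
  have hπs : Function.Surjective (QuotientGroup.mk' Q) := QuotientGroup.mk'_surjective Q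
  have hcomT : commutator (G ⧸ Q) = (commutator G).map (QuotientGroup.mk' Q) := by
    rw [commutator_def, commutator_def, Subgroup.map_commutator,
      Subgroup.map_top_of_surjective _ hπs]
  have hTidx : (commutator (G ⧸ Q)).index = p := by
    rw [hcomT, Subgroup.index_map_eq (commutator G) hπs (by rw [QuotientGroup.ker_mk']; exact hQle), hpdef]
  have hT := nil_prime_index p hidx hTidx
  rw [hTcard] at hT
  have hj : j = 0 := by
    by_contra hj
    have h1 : p ^ 2 ∣ p ^ (j + 1) := pow_dvd_pow p (by omega)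
    rw [hT] at h1
    have h2 : p ^ 2 ≤ p := Nat.le_of_dvd hidx.pos h1
    have h3 := hidx.one_lt
    nlinarith
  rw [hj, pow_zero, mul_one] at hc3
  rw [← hc3]
  exact hNcop

theorem result {G : Type*} [Group G] [Finite G] [Group.IsSolvable G] :
    (∀ (H K : Subgroup G), H.Normal → (Nat.card H).Coprime H.index → Subgroup.IsComplement' H K → H ≤ commutator G →
        H = ⁅H, K⁆ ∧ H ⊓ Subgroup.centralizer (K : Set G) ≤ ⁅H, H⁆) ∧
      (Group.IsNilpotent ↥(commutator G) → (commutator G).index.Prime →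
        (Nat.card ↥(commutator G)).Coprime (commutator G).index ∧
        ∀ K : Subgroup G, Subgroup.IsComplement' (commutator G) K → commutator G = ⁅(⊤ : Subgroup G), K⁆) := by
  refine ⟨fun H K hHn hcop hc hle => part1 H K hHn hcop hc hle, fun hnil hidx => ?_⟩
  have hcop := part2 hnil hidx
  refine ⟨hcop, fun K hK => ?_⟩
  have h1 := (part1 (commutator G) K inferInstance hcop hK le_rfl).1
  refine le_antisymm ?_ ?_
  · calc commutator G = ⁅commutator G, K⁆ := h1
      _ ≤ ⁅(⊤ : Subgroup G), K⁆ := Subgroup.commutator_mono le_top le_rfl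
  · rw [commutator_def]
    exact Subgroup.commutator_mono le_rfl le_top

end Cfsg.Agent.S1459
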