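import Mathlib
import Cfsg.Statements.S0662
import Cfsg.Agent.S1459
import Cfsg.Agent.S0651

set_option autoImplicit false
open Pointwise
open Cfsg
open scoped commutatorElement

namespace Cfsg.Agent.S0662

theorem lcs_stable {G : Type*} [Group G] (k : ℕ)
    (h : (⊤ : Subgroup G).lowerCentralSeries (k + 1) = (⊤ : Subgroup G).lowerCentralSeries k) :
    ∀ j, k ≤ j →
      (⊤ : Subgroup G).lowerCentralSeries j = (⊤ : Subgroup G).lowerCentralSeries k := by
  intro j hj
  induction j, hj using Nat.le_induction with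
  | base => rfl
  | succ j hj ih =>
    rw [Subgroup.lowerCentralSeries_succ, ih, ← Subgroup.lowerCentralSeries_succ, h]

theorem lcs_strict {G : Type*} [Group G] [hn : Group.IsNilpotent G] (k : ℕ)
    (hk : k < Group.nilpotencyClass G) :
    (⊤ : Subgroup G).lowerCentralSeries (k + 1) < (⊤ : Subgroup G).lowerCentralSeries k := by
  refine lt_of_le_of_ne ((⊤ : Subgroup G).lowerCentralSeries_antitone (Nat.le_succ k)) ?_
  intro h
  have h1 := lcs_stable k h (Group.nilpotencyClass G) hk.le
  rw [Subgroup.lowerCentralSeries_nilpotencyClass] at h1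
  have h2 : Group.nilpotencyClass G ≤ k :=
    Subgroup.lowerCentralSeries_eq_bot_iff_nilpotencyClass_le.1 h1.symm
  omega

theorem dec_lower (a : ℕ → ℕ) (c : ℕ) (h : ∀ k < c, a (k + 1) < a k) :
    ∀ d, d ≤ c → a c + d ≤ a (c - d) := by
  intro d
  induction d with
  | zero => intro _; simp
  | succ d ih =>
    intro hd
    have h1 := ih (by omega)
    have h2 := h (c - (d + 1)) (by omega)
    have e : c - (d + 1) + 1 = c - d := by omega
    rw [e] at h2
    omega

theorem dec_upper (a : ℕ → ℕ) (c : ℕ) (h : ∀ k < c, a (k + 1) < a k) :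
    ∀ k, 1 ≤ k → k ≤ c → a k + (k - 1) ≤ a 1 := by
  intro k hk1
  induction k, hk1 using Nat.le_induction with
  | base => intro _; simp
  | succ k hk ih =>
    intro hkc
    have h1 := ih (by omega)
    have h2 := h k (by omega)
    omega

/-- The numerical data of the lower central series of a finite `p`-group. -/
theorem chain {Q : Type*} [Group Q] [Finite Q] (p : ℕ) [Fact p.Prime] (r : ℕ)
    (hQ : Nat.card Q = p ^ r) :
    ∃ a : ℕ → ℕ, (∀ k, Nat.card ((⊤ : Subgroup Q).lowerCentralSeries k) = p ^ a k) ∧ a 0 = r ∧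
      (∀ k < Group.nilpotencyClass Q, a (k + 1) < a k) ∧ a (Group.nilpotencyClass Q) = 0 ∧
      (2 ≤ Group.nilpotencyClass Q → a 1 + 2 ≤ a 0) := by
  have hp : p.Prime := Fact.out
  have hQp : IsPGroup p Q := IsPGroup.of_card hQ
  haveI hnil : Group.IsNilpotent Q := hQp.isNilpotent
  have hex : ∀ k, ∃ j, Nat.card ((⊤ : Subgroup Q).lowerCentralSeries k) = p ^ j := by
    intro k
    exact IsPGroup.iff_card.1 (hQp.to_subgroup _)
  choose a ha using hex
  have ha0 : a 0 = r := by
    have h1 := ha 0
    rw [Subgroup.lowerCentralSeries_zero, Subgroup.card_top, hQ] at h1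
    exact (Nat.pow_right_injective hp.two_le h1).symm
  have hstrict : ∀ k < Group.nilpotencyClass Q, a (k + 1) < a k := by
    intro k hk
    have h1 := S0651.card_lt_of_lt (lcs_strict k hk)
    rw [ha, ha] at h1
    exact (Nat.pow_lt_pow_iff_right hp.one_lt).1 h1
  have hac : a (Group.nilpotencyClass Q) = 0 := by
    have h1 := ha (Group.nilpotencyClass Q)
    rw [Subgroup.lowerCentralSeries_nilpotencyClass, Subgroup.card_bot] at h1
    by_contra hne
    have h2 : 1 < p ^ a (Group.nilpotencyClass Q) := Nat.one_lt_pow hne hp.one_lt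
    omega
  refine ⟨a, ha, ha0, hstrict, hac, ?_⟩
  intro hc2
  have h01 : a 1 < a 0 := hstrict 0 (by omega)
  have h12 : a 2 < a 1 := hstrict 1 (by omega)
  by_contra hlt
  have he : a 0 = a 1 + 1 := by omega
  -- index of commutator is p
  have h1 := ha 1
  rw [Subgroup.top_lowerCentralSeries_one] at h1
  have h2 := Subgroup.card_mul_index (commutator Q)
  rw [h1, hQ, ← ha0, he, pow_succ] at h2
  have h3 : (commutator Q).index = p :=
    Nat.eq_of_mul_eq_mul_left (pow_pos hp.pos _) h2
  have h4 := S1459.nil_prime_index p hp h3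
  rw [hQ, ← ha0] at h4
  have h5 : a 0 = 1 := by
    have h6 : p ^ a 0 = p ^ 1 := by rw [h4, pow_one]
    exact Nat.pow_right_injective hp.two_le h6
  omega

theorem class_le {Q : Type*} [Group Q] [Finite Q] (p : ℕ) [Fact p.Prime] (r : ℕ) (hr : 2 ≤ r)
    (hQ : Nat.card Q = p ^ r) : (⊤ : Subgroup Q).lowerCentralSeries (r - 1) = ⊥ := by
  have hQp : IsPGroup p Q := IsPGroup.of_card hQ
  haveI hnil : Group.IsNilpotent Q := hQp.isNilpotent
  rw [Subgroup.lowerCentralSeries_eq_bot_iff_nilpotencyClass_le]
  obtain ⟨a, -, ha0, hstrict, hac, h2⟩ := chain p r hQ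
  by_contra hcon
  have hc2 : 2 ≤ Group.nilpotencyClass Q := by omega
  have h3 := h2 hc2
  have h4 := dec_lower a _ hstrict (Group.nilpotencyClass Q - 1) (by omega)
  have e : Group.nilpotencyClass Q - (Group.nilpotencyClass Q - 1) = 1 := by omega
  rw [e, hac] at h4
  omega

theorem cyc_of_sup {T : Type*} [Group T] [Finite T] [hn : Group.IsNilpotent T] (x : T)
    (h : Subgroup.zpowers x ⊔ commutator T = ⊤) : Subgroup.zpowers x = ⊤ := by
  by_contra hzne
  obtain ⟨M, hM, hxM⟩ := (eq_top_or_exists_le_coatom (Subgroup.zpowers x)).resolve_left hzne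
  haveI hMn : M.Normal :=
    Subgroup.NormalizerCondition.normal_of_coatom M Group.normalizerCondition_of_isNilpotent hM
  have hTM : commutator T ≤ M := by
    by_contra hcon
    have hlt : M < M ⊔ commutator T :=
      lt_of_le_of_ne le_sup_left (fun h => hcon (h ▸ le_sup_right))
    have htop := hM.2 _ hlt
    have h1 : (⊤ : Subgroup T) ≤ M :=
      S1459.le_of_le_sup_comm ⊤ M (by rw [← commutator_def, htop])
    exact hM.1 (eq_top_iff.2 h1)
  have h2 : Subgroup.zpowers x ⊔ commutator T ≤ M := sup_le hxM hTM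
  rw [h] at h2
  exact hM.1 (eq_top_iff.2 h2)

/-- A group of order `p²` that is not cyclic has exactly `p + 1` subgroups of order `p`. -/
theorem count_sub {Q : Type*} [Group Q] [Finite Q] (p : ℕ) [Fact p.Prime]
    (hQ : Nat.card Q = p ^ 2) (hnc : ∀ x : Q, Subgroup.zpowers x ≠ ⊤) :
    Nat.card {H : Subgroup Q // Nat.card H = p} = p + 1 := by
  classical
  have hp : p.Prime := Fact.out
  have hord : ∀ x : Q, x ≠ 1 → orderOf x = p := by
    intro x hx
    have h1 : orderOf x ∣ p ^ 2 := hQ ▸ orderOf_dvd_natCard x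
    obtain ⟨j, hj, hje⟩ := (Nat.dvd_prime_pow hp).1 h1
    interval_cases j
    · rw [pow_zero, orderOf_eq_one_iff] at hje
      exact absurd hje hx
    · rw [hje, pow_one]
    · exfalso
      apply hnc x
      apply Subgroup.eq_top_of_card_eq
      rw [Nat.card_zpowers, hje, hQ]
  have hfinS : Finite {H : Subgroup Q // Nat.card H = p} := inferInstance
  haveI : Fintype {H : Subgroup Q // Nat.card H = p} := Fintype.ofFinite _
  -- the map from nonidentity elements
  let φ : {x : Q // x ≠ 1} → {H : Subgroup Q // Nat.card H = p} :=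
    fun x => ⟨Subgroup.zpowers x.1, by rw [Nat.card_zpowers]; exact hord x.1 x.2⟩
  have hfib : ∀ H : {H : Subgroup Q // Nat.card H = p},
      Nat.card {x : {x : Q // x ≠ 1} // φ x = H} = p - 1 := by
    intro H
    have e : {x : {x : Q // x ≠ 1} // φ x = H} ≃ {y : H.1 // y ≠ 1} :=
      { toFun := fun x => ⟨⟨x.1.1, by
            have h1 : Subgroup.zpowers x.1.1 = H.1 := congrArg Subtype.val x.2
            rw [← h1]; exact Subgroup.mem_zpowers _⟩, fun h => x.1.2 (congrArg Subtype.val h)⟩
        invFun := fun y => ⟨⟨y.1.1, fun h => y.2 (Subtype.ext h)⟩, by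
            apply Subtype.ext
            show Subgroup.zpowers (y.1.1 : Q) = H.1
            apply Subgroup.eq_of_le_of_card_ge
            · rw [Subgroup.zpowers_le]; exact y.1.2
            · rw [Nat.card_zpowers, hord _ (fun h => y.2 (Subtype.ext h)), H.2]⟩
        left_inv := fun x => rfl
        right_inv := fun y => rfl }
    rw [Nat.card_congr e]
    have h2 : Nat.card {y : H.1 // y ≠ 1} = Nat.card H.1 - 1 := by
      have h3 := Nat.card_congr (Equiv.sumCompl (fun y : H.1 => y = 1))
      rw [Nat.card_sum] at h3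
      have h4 : Nat.card {y : H.1 // y = 1} = 1 := by
        rw [Nat.card_eq_one_iff_unique]
        exact ⟨⟨fun a b => Subtype.ext (a.2.trans b.2.symm)⟩, ⟨⟨1, rfl⟩⟩⟩
      have h5 : Nat.card {y : H.1 // ¬ y = 1} = Nat.card {y : H.1 // y ≠ 1} := rfl
      omega
    rw [h2, H.2]
  have hX : Nat.card {x : Q // x ≠ 1} = p ^ 2 - 1 := by
    have h3 := Nat.card_congr (Equiv.sumCompl (fun y : Q => y = 1))
    rw [Nat.card_sum] at h3
    have h4 : Nat.card {y : Q // y = 1} = 1 := by
      rw [Nat.card_eq_one_iff_unique]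
      exact ⟨⟨fun a b => Subtype.ext (a.2.trans b.2.symm)⟩, ⟨⟨1, rfl⟩⟩⟩
    have h5 : Nat.card {y : Q // ¬ y = 1} = Nat.card {y : Q // y ≠ 1} := rfl
    omega
  have hsum : Nat.card {x : Q // x ≠ 1} =
      ∑ H : {H : Subgroup Q // Nat.card H = p}, Nat.card {x : {x : Q // x ≠ 1} // φ x = H} := by
    rw [← Nat.card_sigma]
    exact Nat.card_congr (Equiv.sigmaFiberEquiv φ).symm
  rw [hX, Finset.sum_congr rfl (fun H _ => hfib H), Finset.sum_const, Finset.card_univ,
    smul_eq_mul, ← Nat.card_eq_fintype_card] at hsum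
  -- p^2 - 1 = card * (p - 1)
  have hp2 : 2 ≤ p := hp.two_le
  have h6 : (p + 1) * (p - 1) = p ^ 2 - 1 := by
    obtain ⟨q, rfl⟩ : ∃ q, p = q + 1 := ⟨p - 1, by omega⟩
    simp only [Nat.add_sub_cancel]
    have : (q + 1) ^ 2 = (q + 1 + 1) * q + 1 := by ring
    omega
  rw [← h6] at hsum
  exact (Nat.eq_of_mul_eq_mul_right (by omega) hsum).symm

theorem result {G : Type*} [Group G] [Finite G] {p : ℕ} [Fact p.Prime] (n : ℕ) (hG : Nat.card G = p ^ n) (hcl : Group.nilpotencyClass G = n - 1) (hn : 3 ≤ n) : (∀ (N : Subgroup G) [N.Normal] (r : ℕ), 2 ≤ r → N.index = p ^ r → N = (⊤ : Subgroup G).lowerCentralSeries (r - 1)) ∧ Nat.card {N : Subgroup G // N.Normal ∧ N.index = p} = p + 1 := by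
  have hp : p.Prime := Fact.out
  have hGp : IsPGroup p G := IsPGroup.of_card hG
  haveI hnil : Group.IsNilpotent G := hGp.isNilpotent
  obtain ⟨a, ha, ha0, hstrict, hac, h2⟩ := chain p n hG
  rw [hcl] at hstrict hac h2
  have h3 := h2 (by omega)
  have hlow := dec_lower a (n - 1) hstrict
  have hup := dec_upper a (n - 1) hstrict
  have ha1 : a 1 = n - 2 := by
    have h4 := hlow (n - 2) (by omega)
    have e : n - 1 - (n - 2) = 1 := by omega
    rw [e, hac] at h4
    omega
  have hak : ∀ k, 1 ≤ k → k ≤ n - 1 → a k = n - 1 - k := by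
    intro k hk1 hk2
    have h4 := hlow (n - 1 - k) (by omega)
    have e : n - 1 - (n - 1 - k) = k := by omega
    rw [e, hac] at h4
    have h5 := hup k hk1 hk2
    omega
  have hidx : ∀ k, 1 ≤ k → k ≤ n - 1 →
      ((⊤ : Subgroup G).lowerCentralSeries k).index = p ^ (k + 1) := by
    intro k hk1 hk2
    have h4 := Subgroup.card_mul_index ((⊤ : Subgroup G).lowerCentralSeries k)
    rw [ha, hak k hk1 hk2, hG] at h4
    have e : n = (n - 1 - k) + (k + 1) := by omega
    rw [e, pow_add] at h4
    have e2 : n - 1 - k + (k + 1) - 1 - k = n - 1 - k := by omega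
    rw [e2] at h4
    exact Nat.eq_of_mul_eq_mul_left (pow_pos hp.pos _) h4
  constructor
  · intro N _ r hr hNr
    have hrn : r ≤ n := by
      have h4 : p ^ r ∣ p ^ n := by
        rw [← hNr, ← hG]; exact Subgroup.index_dvd_card N
      exact (Nat.pow_dvd_pow_iff_le_right hp.one_lt).1 h4
    have hQ : Nat.card (G ⧸ N) = p ^ r := by rw [← hNr]; rfl
    have h4 := class_le p r hr hQ
    have hle : (⊤ : Subgroup G).lowerCentralSeries (r - 1) ≤ N := by
      have h5 := Subgroup.map_lowerCentralSeries (⊤ : Subgroup G) (QuotientGroup.mk' N) (r - 1)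
      rw [Subgroup.map_top_of_surjective _ (QuotientGroup.mk'_surjective N), h4,
        Subgroup.map_eq_bot_iff, QuotientGroup.ker_mk'] at h5
      exact h5
    have h6 := hidx (r - 1) (by omega) (by omega)
    have e : r - 1 + 1 = r := by omega
    rw [e] at h6
    have h7 := Subgroup.relIndex_mul_index hle
    rw [hNr, h6] at h7
    have h8 : ((⊤ : Subgroup G).lowerCentralSeries (r - 1)).relIndex N = 1 := by
      have hpos : 0 < p ^ r := pow_pos hp.pos _
      exact Nat.eq_of_mul_eq_mul_right hpos (by rw [h7, one_mul])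
    exact le_antisymm (Subgroup.relIndex_eq_one.1 h8) hle
  · -- count
    have hcomidx : (commutator G).index = p ^ 2 := by
      have h4 := hidx 1 (by omega) (by omega)
      rw [Subgroup.top_lowerCentralSeries_one] at h4
      exact h4
    have hQ : Nat.card (G ⧸ commutator G) = p ^ 2 := by rw [← hcomidx]; rfl
    have hnc : ∀ x : G ⧸ commutator G, Subgroup.zpowers x ≠ ⊤ := by
      intro x hx
      obtain ⟨g, rfl⟩ := QuotientGroup.mk'_surjective (commutator G) x
      have h5 : Subgroup.zpowers g ⊔ commutator G = ⊤ := by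
        have h6 : (Subgroup.zpowers g).map (QuotientGroup.mk' (commutator G)) = ⊤ := by
          rw [MonoidHom.map_zpowers]; exact hx
        have h7 := Subgroup.comap_map_eq (QuotientGroup.mk' (commutator G)) (Subgroup.zpowers g)
        rw [h6, Subgroup.comap_top, QuotientGroup.ker_mk'] at h7
        exact h7.symm
      have h8 := cyc_of_sup g h5
      -- G cyclic → abelian → commutator = ⊥ → index = card = p^n ≠ p^2
      have hcomm : ∀ x y : G, x * y = y * x := by
        intro x y
        have hx' : x ∈ Subgroup.zpowers g := h8 ▸ Subgroup.mem_top x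
        have hy' : y ∈ Subgroup.zpowers g := h8 ▸ Subgroup.mem_top y
        obtain ⟨i, rfl⟩ := hx'
        obtain ⟨j, rfl⟩ := hy'
        rw [← zpow_add, ← zpow_add, add_comm]
      have hbot : commutator G = ⊥ := by
        rw [commutator_def, eq_bot_iff, Subgroup.commutator_le]
        intro x _ y _
        rw [Subgroup.mem_bot, commutatorElement_eq_one_iff_commute]
        exact hcomm x y
      rw [hbot, Subgroup.index_bot, hG] at hcomidx
      have h9 := Nat.pow_right_injective hp.two_le hcomidx
      omega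
    have hcount := count_sub p hQ hnc
    rw [← hcount]
    apply Nat.card_congr
    refine
      { toFun := fun N => ⟨N.1.map (QuotientGroup.mk' (commutator G)), ?_⟩
        invFun := fun H => ⟨H.1.comap (QuotientGroup.mk' (commutator G)), ?_, ?_⟩
        left_inv := ?_
        right_inv := ?_ }
    · -- card of image = p
      obtain ⟨N, hNn, hNi⟩ := N
      haveI := hNn
      have hle : commutator G ≤ N := by
        rw [← Subgroup.Normal.quotient_commutative_iff_commutator_le]
        have hc : Nat.card (G ⧸ N) = p := by rw [← hNi]; rfl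
        haveI : IsCyclic (G ⧸ N) := isCyclic_of_prime_card hc
        exact ⟨⟨fun a b => (IsCyclic.commGroup.mul_comm a b)⟩⟩
      show Nat.card (N.map (QuotientGroup.mk' (commutator G))) = p
      have h5 := Subgroup.index_map_eq N (QuotientGroup.mk'_surjective (commutator G))
        (by rw [QuotientGroup.ker_mk']; exact hle)
      have h6 := Subgroup.card_mul_index (N.map (QuotientGroup.mk' (commutator G)))
      rw [h5, hNi] at h6
      have h7 : Nat.card (G ⧸ commutator G) = p ^ 2 := hQ
      rw [h7, pow_two] at h6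
      exact Nat.eq_of_mul_eq_mul_right hp.pos h6
    · refine ⟨fun x hx g => ?_⟩
      have hker : commutator G ≤ H.1.comap (QuotientGroup.mk' (commutator G)) := by
        have h5 := Subgroup.ker_le_comap (QuotientGroup.mk' (commutator G)) H.1
        rwa [QuotientGroup.ker_mk'] at h5
      have e : g * x * g⁻¹ = ⁅g, x⁆ * x := by rw [commutatorElement_def]; group
      rw [e]
      refine Subgroup.mul_mem _ (hker ?_) hx
      rw [commutator_def]
      exact Subgroup.commutator_mem_commutator (Subgroup.mem_top g) (Subgroup.mem_top x)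
    · obtain ⟨H, hH⟩ := H
      show (H.comap (QuotientGroup.mk' (commutator G))).index = p
      rw [Subgroup.index_comap_of_surjective _ (QuotientGroup.mk'_surjective (commutator G))]
      have h6 := Subgroup.card_mul_index H
      have h7 : Nat.card (G ⧸ commutator G) = p ^ 2 := hQ
      rw [hH, h7, pow_two] at h6
      exact Nat.eq_of_mul_eq_mul_left hp.pos h6
    · rintro ⟨N, hNn, hNi⟩
      apply Subtype.ext
      haveI := hNn
      have hle : commutator G ≤ N := by
        rw [← Subgroup.Normal.quotient_commutative_iff_commutator_le]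
        have hc : Nat.card (G ⧸ N) = p := by rw [← hNi]; rfl
        haveI : IsCyclic (G ⧸ N) := isCyclic_of_prime_card hc
        exact ⟨⟨fun a b => (IsCyclic.commGroup.mul_comm a b)⟩⟩
      show (N.map (QuotientGroup.mk' (commutator G))).comap (QuotientGroup.mk' (commutator G)) = N
      rw [Subgroup.comap_map_eq, QuotientGroup.ker_mk', sup_of_le_left hle]
    · rintro ⟨H, hH⟩
      apply Subtype.ext
      show (H.comap (QuotientGroup.mk' (commutator G))).map (QuotientGroup.mk' (commutator G)) = H
      exact Subgroup.map_comap_eq_self_of_surjective (QuotientGroup.mk'_surjective _) H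

end Cfsg.Agent.S0662
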