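import Mathlib
import Cfsg.Statements.S1249

set_option autoImplicit false
open Cfsg

namespace Cfsg.Agent.S1249

/-- Let P and Q be Sylow p-subgroups of the finite group G both containing the subgroup A. If A is strongly closed in P, then A is strongly closed in Q. -/
theorem result {G : Type*} [Group G] [Finite G] {p : ℕ} [Fact p.Prime] (P Q : Sylow p G) (A : Subgroup G) (hAQ : A ≤ Q) (hA : Cfsg.IsStronglyClosed A (P : Subgroup G)) : Cfsg.IsStronglyClosed A (Q : Subgroup G) := by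
  obtain ⟨h, rfl⟩ := MulAction.exists_smul_eq G P Q
  have memQ : ∀ y, y ∈ ((h • P : Sylow p G) : Subgroup G) ↔ h⁻¹ * y * h ∈ (P : Subgroup G) := by
    intro y
    rw [Sylow.coe_subgroup_smul, Subgroup.mem_pointwise_smul_iff_inv_smul_mem]
    simp [MulAut.smul_def]
  obtain ⟨hAP, hcl⟩ := hA
  have hφ : ∀ a ∈ A, h⁻¹ * a * h ∈ A := by
    intro a ha
    have h1 : h⁻¹ * a * h ∈ (P : Subgroup G) := (memQ a).1 (hAQ ha)
    have h2 := hcl a ha h⁻¹
    rw [inv_inv] at h2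
    exact h2 h1
  let φ : A → A := fun a => ⟨h⁻¹ * a.1 * h, hφ a.1 a.2⟩
  have hinj : Function.Injective φ := by
    intro a b hab
    have : h⁻¹ * a.1 * h = h⁻¹ * b.1 * h := congrArg Subtype.val hab
    apply Subtype.ext
    have h3 : a.1 = h * (h⁻¹ * a.1 * h) * h⁻¹ := by group
    have h4 : b.1 = h * (h⁻¹ * b.1 * h) * h⁻¹ := by group
    rw [h3, h4, this]
  have hsurj : Function.Surjective φ := Finite.injective_iff_surjective.1 hinj
  refine ⟨hAQ, ?_⟩
  intro x hx g hg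
  have h1 : h⁻¹ * (g * x * g⁻¹) * h ∈ (P : Subgroup G) := (memQ _).1 hg
  have h2 := hcl x hx (h⁻¹ * g)
  have h3 : h⁻¹ * g * x * (h⁻¹ * g)⁻¹ = h⁻¹ * (g * x * g⁻¹) * h := by group
  rw [h3] at h2
  have h4 := h2 h1
  obtain ⟨b, hb⟩ := hsurj ⟨_, h4⟩
  have h5 : h⁻¹ * b.1 * h = h⁻¹ * (g * x * g⁻¹) * h := congrArg Subtype.val hb
  have h6 : g * x * g⁻¹ = b.1 := by
    have e1 : g * x * g⁻¹ = h * (h⁻¹ * (g * x * g⁻¹) * h) * h⁻¹ := by group
    rw [e1, ← h5]; group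
  rw [h6]; exact b.2

end Cfsg.Agent.S1249
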