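import Mathlib
import Cfsg.Statements.S1250
import Cfsg.Agent.Lib.Helper2.SylowAux

set_option autoImplicit false
open Cfsg
open scoped Pointwise
open Cfsg.Agent.Lib.Helper2.SylowAux

namespace Cfsg.Agent.S1250

/-- Let S be a Sylow p-subgroup of the finite group G, A ≤ S strongly closed in S, and N a normal subgroup. Then the image of A in G ⧸ N is strongly closed in the image of S (which is a Sylow p-subgroup of G ⧸ N). -/
theorem result {G : Type*} [Group G] [Finite G] {p : ℕ} [Fact p.Prime] (S : Sylow p G) (A : Subgroup G) (hA : Cfsg.IsStronglyClosed A (S : Subgroup G)) (N : Subgroup G) [N.Normal] : Cfsg.IsStronglyClosed (A.map (QuotientGroup.mk' N)) ((S : Subgroup G).map (QuotientGroup.mk' N)) := by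
  obtain ⟨hAS, hcl⟩ := hA
  refine ⟨Subgroup.map_mono hAS, ?_⟩
  rintro _ ⟨x, hx, rfl⟩ q hq
  induction q using QuotientGroup.induction_on with
  | _ g =>
  have hq' : (QuotientGroup.mk' N) (g * x * g⁻¹) ∈ (S : Subgroup G).map (QuotientGroup.mk' N) := by
    have e : (QuotientGroup.mk' N) (g * x * g⁻¹) =
        (QuotientGroup.mk g : G ⧸ N) * (QuotientGroup.mk' N) x * (QuotientGroup.mk g : G ⧸ N)⁻¹ := by
      simp
    rw [e]
    exact hq
  have hy : g * x * g⁻¹ ∈ N ⊔ (S : Subgroup G) := by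
    rw [← QuotientGroup.comap_map_mk', Subgroup.mem_comap]
    exact hq'
  have hB : IsPGroup p (Subgroup.zpowers (g * x * g⁻¹)) := by
    apply (S.isPGroup'.map (MulAut.conj g).toMonoidHom).to_le
    rw [Subgroup.zpowers_le]
    exact ⟨x, hAS hx, rfl⟩
  obtain ⟨h, hhH, hh⟩ := exists_conj_le_sylow_of_le S (H := N ⊔ (S : Subgroup G)) le_sup_right
    (Subgroup.zpowers_le.2 hy) hB
  have h3 : h⁻¹ * (g * x * g⁻¹) * h ∈ (S : Subgroup G) := hh _ (Subgroup.mem_zpowers _)
  have hmem : h ∈ (N : Set G) * ((S : Subgroup G) : Set G) := by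
    rw [← Subgroup.normal_mul]
    exact hhH
  obtain ⟨n, hn, s, hs, rfl⟩ := Set.mem_mul.1 hmem
  have h4 : (n⁻¹ * g) * x * (n⁻¹ * g)⁻¹ ∈ (S : Subgroup G) := by
    have e : (n⁻¹ * g) * x * (n⁻¹ * g)⁻¹ = s * ((n * s)⁻¹ * (g * x * g⁻¹) * (n * s)) * s⁻¹ := by group
    rw [e]
    exact mul_mem (mul_mem hs h3) (inv_mem hs)
  have h5 := hcl x hx (n⁻¹ * g) h4
  refine ⟨_, h5, ?_⟩
  have hn1 : (QuotientGroup.mk n : G ⧸ N) = 1 := (QuotientGroup.eq_one_iff n).2 hn
  simp [hn1]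

end Cfsg.Agent.S1250
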