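import Mathlib
import Cfsg.Agent.Lib.Helper2.Local
import Cfsg.Statements.S1292

set_option autoImplicit false
open Cfsg
open Cfsg.Agent.Lib.Helper2

namespace Cfsg.Agent.S1292

/-- Let G be a finite group such that F*(C_G(t)) = O_2(C_G(t)) for every involution t. Then F*(N_G(T)) = O_2(N_G(T)) for every nontrivial 2-subgroup T of G. -/
theorem result {G : Type*} [Group G] [Finite G] (h : ∀ t : G, orderOf t = 2 → Cfsg.generalizedFittingSubgroup ↥(Subgroup.centralizer ({t} : Set G)) = Cfsg.pCore 2 ↥(Subgroup.centralizer ({t} : Set G))) (T : Subgroup G) (hT : IsPGroup 2 ↥T) (hT1 : T ≠ ⊥) : Cfsg.generalizedFittingSubgroup ↥(Subgroup.normalizer (T : Set G)) = Cfsg.pCore 2 ↥(Subgroup.normalizer (T : Set G)) := by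
  haveI : Fact (Nat.Prime 2) := ⟨Nat.prime_two⟩
  haveI hnt : Nontrivial ↥T := (Subgroup.nontrivial_iff_ne_bot T).2 hT1
  haveI hZ : Nontrivial ↥(Subgroup.center ↥T) := hT.center_nontrivial
  have hZp : IsPGroup 2 ↥(Subgroup.center ↥T) := hT.to_subgroup _
  have hdvd : 2 ∣ Nat.card ↥(Subgroup.center ↥T) := by
    rcases hZp.card_eq_or_dvd with h1 | h1
    · exfalso
      have h2 := Finite.one_lt_card (α := ↥(Subgroup.center ↥T))
      omega
    · exact h1
  obtain ⟨z, hz⟩ := exists_prime_orderOf_dvd_card' 2 hdvd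
  have ht2 : orderOf (((z : ↥T) : G)) = 2 := by
    rw [Subgroup.orderOf_coe, Subgroup.orderOf_coe]
    exact hz
  have htc : T ≤ Subgroup.centralizer ({((z : ↥T) : G)} : Set G) := by
    intro x hx
    rw [Subgroup.mem_centralizer_singleton_iff]
    have h0 := (Subgroup.mem_center_iff.1 z.2) ⟨x, hx⟩
    exact congrArg Subtype.val h0
  have h1 := Local.charP_of_eq_sub _ (h _ ht2)
  have h2 := Local.charP_normalizer _ h1 T htc hT
  have h3 := Local.charP_of_inf_centralizer (Subgroup.normalizer (T : Set G)) T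
    Subgroup.le_normalizer le_rfl hT _ (z : ↥T).2 h2
  exact Local.eq_of_charP_sub _ h3

end Cfsg.Agent.S1292
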