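import Mathlib
import Cfsg.Statements.S1443
import Cfsg.Agent.S0130
import Cfsg.Agent.S0650
import Cfsg.Agent.S0651
import Cfsg.Agent.Lib.Helper2.AxB
import Cfsg.Agent.Lib.Helper3.Coprime

set_option autoImplicit false
open Pointwise
open Cfsg
open scoped commutatorElement

namespace Cfsg.Agent.S1443

open Cfsg.Agent.Lib

theorem pow_mem_coatom {P : Type*} [Group P] [Finite P] (p : ℕ) [Fact p.Prime]
    (hP : IsPGroup p P) (M : Subgroup P) (hM : IsCoatom M) (u : P) : u ^ p ∈ M := by
  haveI : Group.IsNilpotent P := hP.isNilpotent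
  haveI hMn : M.Normal := ((Group.isNilpotent_of_finite_tfae (G := P)).out 0 2 rfl rfl).mp this M hM
  by_contra hu
  have hsup : M ⊔ Subgroup.zpowers (u ^ p) = ⊤ := by
    apply hM.2
    refine lt_of_le_of_ne le_sup_left (fun h => hu ?_)
    rw [h]; exact Subgroup.mem_sup_right (Subgroup.mem_zpowers _)
  have hu' : u ∈ M ⊔ Subgroup.zpowers (u ^ p) := by rw [hsup]; trivial
  obtain ⟨m, hm, z, hz, hmz⟩ := Subgroup.mem_sup_of_normal_left.mp hu'
  obtain ⟨j, rfl⟩ := Subgroup.mem_zpowers_iff.mp hz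
  have hm' : u ^ ((1 : ℤ) - p * j) ∈ M := by
    have : u ^ ((1 : ℤ) - p * j) = m := by
      rw [zpow_sub, zpow_one, zpow_mul, zpow_natCast]
      exact (eq_mul_inv_of_mul_eq hmz).symm
    rw [this]; exact hm
  obtain ⟨e, he⟩ := hP u
  have hcop : IsCoprime ((1 : ℤ) - p * j) ((p : ℤ) ^ e) := by
    apply IsCoprime.pow_right
    exact ⟨1, j, by ring⟩
  obtain ⟨a, b, hab⟩ := hcop
  have h1 : u ^ (((1 : ℤ) - p * j) * a + (p : ℤ) ^ e * b) = u := by
    have : ((1 : ℤ) - p * j) * a + (p : ℤ) ^ e * b = 1 := by linarith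
    rw [this, zpow_one]
  rw [zpow_add, zpow_mul, zpow_mul] at h1
  have h2 : u ^ ((p : ℤ) ^ e) = 1 := by
    rw [← Nat.cast_pow, zpow_natCast]; exact he
  rw [h2, one_zpow, mul_one] at h1
  have h3 : u ∈ M := by rw [← h1]; exact M.zpow_mem hm' a
  exact hu (M.pow_mem h3 p)

theorem exists_proper_pow {X : Type*} [Group X] [Finite X] (p : ℕ) [Fact p.Prime]
    (P : Subgroup X) (hP : IsPGroup p P) (hne : P ≠ ⊥) :
    ∃ M : Subgroup X, M ≤ P ∧ M ≠ P ∧ ∀ u ∈ P, u ^ p ∈ M := by
  haveI : Nontrivial P := (Subgroup.nontrivial_iff_ne_bot P).mpr hne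
  obtain ⟨M', hM', -⟩ := (eq_top_or_exists_le_coatom (⊥ : Subgroup P)).resolve_left bot_ne_top
  refine ⟨M'.map P.subtype, ?_, ?_, ?_⟩
  · rintro _ ⟨y, -, rfl⟩; exact y.2
  · intro h
    apply hM'.1
    rw [eq_top_iff]
    intro y _
    have hy : (y : X) ∈ M'.map P.subtype := by rw [h]; exact y.2
    obtain ⟨y', hy', hyy⟩ := hy
    have : y' = y := Subtype.ext hyy
    exact this ▸ hy'
  · intro u hu
    exact ⟨⟨u, hu⟩ ^ p, pow_mem_coatom p hP M' hM' ⟨u, hu⟩, rfl⟩

theorem omega_aux {X : Type*} [Group X] [Finite X] (p : ℕ) [Fact p.Prime] (hp : p ≠ 2) (x : X)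
    (hx : (orderOf x).Coprime p) :
    ∀ (n : ℕ) (P : Subgroup X), Nat.card P = n → IsPGroup p P →
      x ∈ Subgroup.normalizer (P : Set X) →
      (∀ u ∈ P, u ^ p = 1 → x * u = u * x) → ∀ u ∈ P, x * u = u * x := by
  have hpp : p.Prime := Fact.out
  intro n
  induction n using Nat.strong_induction_on with
  | _ n ih =>
    intro P hn hP hxP hfix
    have IH : ∀ P₀ : Subgroup X, P₀ ≤ P → P₀ ≠ P → x ∈ Subgroup.normalizer (P₀ : Set X) →
        ∀ u ∈ P₀, x * u = u * x := by
      intro P₀ hle hne hx0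
      have hlt : Nat.card P₀ < n := by
        rw [← hn]; exact S0651.card_lt_of_lt (lt_of_le_of_ne hle hne)
      exact ih _ hlt P₀ rfl (hP.to_le hle) hx0 (fun u hu hup => hfix u (hle hu) hup)
    have hzP : Subgroup.zpowers x ≤ Subgroup.normalizer (P : Set X) := by
      rw [Subgroup.zpowers_le]; exact hxP
    have hcopP : ∀ w ∈ P, (orderOf x).Coprime (orderOf w) := by
      intro w hw
      obtain ⟨j, hj⟩ := hP ⟨w, hw⟩
      have hj' : w ^ (p ^ j) = 1 := congrArg Subtype.val hj
      exact Nat.Coprime.coprime_dvd_right (orderOf_dvd_of_pow_eq_one hj')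
        (Nat.Coprime.pow_right j hx)
    have hle1 : ⁅P, Subgroup.zpowers x⁆ ≤ P := Helper2.AxB.commutator_le_of_le_normalizer hzP
    by_cases h1 : ⁅P, Subgroup.zpowers x⁆ = P
    swap
    · intro u hu
      have hxn : x ∈ Subgroup.normalizer ((⁅P, Subgroup.zpowers x⁆ : Subgroup X) : Set X) :=
        Helper2.AxB.mem_normalizer_commutator hxP (Subgroup.le_normalizer (Subgroup.mem_zpowers x))
      have hc : ⁅u, x⁆ ∈ ⁅P, Subgroup.zpowers x⁆ :=
        Subgroup.commutator_mem_commutator hu (Subgroup.mem_zpowers x)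
      have h2 := IH _ hle1 h1 hxn _ hc
      exact (Helper3.Coprime.commute_of_coprime_comm u x h2 (hcopP _ (hle1 hc))).symm
    by_cases hbot : P = ⊥
    · intro u hu; rw [hbot, Subgroup.mem_bot] at hu; subst hu; simp
    have central : ∀ N : Subgroup X, N ≤ P → N ≠ P → P ≤ Subgroup.normalizer (N : Set X) →
        x ∈ Subgroup.normalizer (N : Set X) → ∀ c ∈ N, ∀ u ∈ P, c * u = u * c := by
      intro N hNP hNne hPN hxN c hc u hu
      have hcent := IH N hNP hNne hxN
      have hcz : ∀ t ∈ Subgroup.zpowers x, ∀ c ∈ N, t * c = c * t := by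
        intro t ht c hc
        obtain ⟨k, rfl⟩ := Subgroup.mem_zpowers_iff.mp ht
        exact ((show Commute x c from hcent c hc).zpow_left k).eq
      have hsub : ⁅P, Subgroup.zpowers x⁆ ≤ Subgroup.centralizer ({c} : Set X) := by
        rw [Subgroup.commutator_le]
        intro v hv t ht
        rw [Subgroup.mem_centralizer_iff]
        intro c' hc'
        rw [Set.mem_singleton_iff] at hc'; subst hc'
        have h3 : v⁻¹ * c' * v ∈ N := by
          have := (Subgroup.mem_normalizer_iff.mp (hPN (P.inv_mem hv)) c').1 hc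
          simpa using this
        have h4 := hcz t ht _ h3
        have h5 := hcz t⁻¹ (inv_mem ht) c' hc
        rw [commutatorElement_def]
        calc c' * (v * t * v⁻¹ * t⁻¹) = v * ((v⁻¹ * c' * v) * t) * v⁻¹ * t⁻¹ := by group
          _ = v * (t * (v⁻¹ * c' * v)) * v⁻¹ * t⁻¹ := by rw [h4]
          _ = v * t * v⁻¹ * (c' * t⁻¹) := by group
          _ = v * t * v⁻¹ * (t⁻¹ * c') := by rw [h5]
          _ = v * t * v⁻¹ * t⁻¹ * c' := by group
      rw [h1] at hsub
      exact Subgroup.mem_centralizer_iff.mp (hsub hu) c (Set.mem_singleton c)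
    have hP' : ∀ c ∈ ⁅P, P⁆, ∀ u ∈ P, c * u = u * c := by
      apply central
      · exact Helper2.AxB.commutator_le_of_le_normalizer Subgroup.le_normalizer
      · exact Helper2.AxB.commutator_ne_self_of_pgroup hP hP Subgroup.le_normalizer hbot
      · intro g hg
        exact Helper2.AxB.mem_normalizer_commutator (Subgroup.le_normalizer hg) (Subgroup.le_normalizer hg)
      · exact Helper2.AxB.mem_normalizer_commutator hxP hxP
    obtain ⟨M, hMP, hMne, hMpow⟩ := exists_proper_pow p P hP hbot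
    have hNP : Subgroup.closure {w : X | ∃ u ∈ P, w = u ^ p} ≤ P := by
      rw [Subgroup.closure_le]; rintro w ⟨u, hu, rfl⟩; exact P.pow_mem hu p
    have hNM : Subgroup.closure {w : X | ∃ u ∈ P, w = u ^ p} ≤ M := by
      rw [Subgroup.closure_le]; rintro w ⟨u, hu, rfl⟩; exact hMpow u hu
    have hNne : Subgroup.closure {w : X | ∃ u ∈ P, w = u ^ p} ≠ P := by
      intro h
      apply hMne
      exact le_antisymm hMP (h ▸ hNM)
    have hNnorm : ∀ g ∈ Subgroup.normalizer (P : Set X),
        g ∈ Subgroup.normalizer ((Subgroup.closure {w : X | ∃ u ∈ P, w = u ^ p} : Subgroup X) : Set X) := by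
      intro g hg
      apply S0650.norm_of_conj
      intro w hw
      induction hw using Subgroup.closure_induction with
      | mem w hw =>
        obtain ⟨u, hu, rfl⟩ := hw
        apply Subgroup.subset_closure
        exact ⟨g * u * g⁻¹, (Subgroup.mem_normalizer_iff.mp hg u).1 hu, by rw [conj_pow]⟩
      | one => simp
      | mul a b _ _ iha ihb =>
        have : g * (a * b) * g⁻¹ = (g * a * g⁻¹) * (g * b * g⁻¹) := by group
        rw [this]; exact Subgroup.mul_mem _ iha ihb
      | inv a _ iha =>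
        have : g * a⁻¹ * g⁻¹ = (g * a * g⁻¹)⁻¹ := by group
        rw [this]; exact Subgroup.inv_mem _ iha
    have hNc := central _ hNP hNne (fun g hg => hNnorm g (Subgroup.le_normalizer hg))
      (hNnorm x hxP)
    have hxN := IH _ hNP hNne (hNnorm x hxP)
    have hpowN : ∀ u ∈ P, u ^ p ∈ Subgroup.closure {w : X | ∃ u ∈ P, w = u ^ p} :=
      fun u hu => Subgroup.subset_closure ⟨u, hu, rfl⟩
    intro u hu
    have ha : x * u * x⁻¹ ∈ P := (Subgroup.mem_normalizer_iff.mp hxP u).1 hu
    have hc : u⁻¹ * (x * u * x⁻¹) = (x * u * x⁻¹) * u⁻¹ * ⁅u, (x * u * x⁻¹)⁻¹⁆ := by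
      rw [commutatorElement_def]; group
    have hcP' : ⁅u, (x * u * x⁻¹)⁻¹⁆ ∈ ⁅P, P⁆ :=
      Subgroup.commutator_mem_commutator hu (P.inv_mem ha)
    have hcu := hP' _ hcP' _ ha
    have hcv := hP' _ hcP' _ (P.inv_mem hu)
    have hpow := S0130.mul_pow_class2 (x * u * x⁻¹) u⁻¹ _ hc hcu hcv p
    have hcp : ⁅u, (x * u * x⁻¹)⁻¹⁆ ^ p = 1 := by
      have h2 := S0130.pow_comm2 (x * u * x⁻¹) u⁻¹ _ hc hcv p
      have h3 : u⁻¹ ^ p ∈ Subgroup.closure {w : X | ∃ u ∈ P, w = u ^ p} := by
        rw [inv_pow]; exact Subgroup.inv_mem _ (hpowN u hu)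
      have h4 := hNc _ h3 _ ha
      rw [h4] at h2
      exact (mul_eq_left.mp h2.symm)
    obtain ⟨k, hk⟩ : ∃ k, p = 2 * k + 1 := by
      rcases hpp.eq_two_or_odd' with h | h
      · exact absurd h hp
      · exact h
    have hsum : ∑ i ∈ Finset.range p, i = p * k := by
      have h2 := Finset.sum_range_id_mul_two p
      have h3 : p - 1 = 2 * k := by omega
      rw [h3] at h2
      have : (∑ i ∈ Finset.range p, i) * 2 = (p * k) * 2 := by rw [h2]; ring
      exact Nat.eq_of_mul_eq_mul_right (by norm_num) this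
    rw [hsum, pow_mul, hcp, one_pow, mul_one] at hpow
    have hxp : (x * u * x⁻¹) ^ p = u ^ p := by
      rw [conj_pow, hxN _ (hpowN u hu), mul_inv_cancel_right]
    rw [hxp, inv_pow, mul_inv_cancel] at hpow
    have hw : x * u * x⁻¹ * u⁻¹ ∈ P := P.mul_mem ha (P.inv_mem hu)
    have hcomm := hfix _ hw hpow
    exact Helper2.AxB.comm_of_coprime hP hw hcomm hx

/-- For odd `p`, a `p'`-element normalizing a `p`-group and centralizing its elements of order
dividing `p` centralizes it. -/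
theorem omega_coprime {X : Type*} [Group X] [Finite X] (p : ℕ) [Fact p.Prime] (hp : p ≠ 2)
    (x : X) (hx : (orderOf x).Coprime p) (P : Subgroup X) (hP : IsPGroup p P)
    (hxP : x ∈ Subgroup.normalizer (P : Set X))
    (hfix : ∀ u ∈ P, u ^ p = 1 → x * u = u * x) : ∀ u ∈ P, x * u = u * x :=
  omega_aux p hp x hx _ P rfl hP hxP hfix

theorem result {G : Type*} [Group G] [Finite G] (p : ℕ) [Fact p.Prime] (hp : p ≠ 2) (H E A : Subgroup G) (hH : IsPGroup p H) (hE : E ≤ H) (hEe : Cfsg.IsElementaryAbelian p E)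
    (hA : (A ≤ Subgroup.normalizer (H : Set G))) (hcop : (Nat.card A).Coprime p)
    (hfix : ∀ x ∈ (H ⊓ Subgroup.centralizer (E : Set G)), orderOf x = p → A ≤ Subgroup.centralizer ({x} : Set G)) :
    A ≤ Subgroup.centralizer (H : Set G) := by
  have hpp : p.Prime := Fact.out
  obtain ⟨hEc, hEp⟩ := hEe
  have hEE : E ≤ H ⊓ Subgroup.centralizer (E : Set G) := by
    intro e he
    refine Subgroup.mem_inf.mpr ⟨hE he, ?_⟩
    rw [Subgroup.mem_centralizer_iff]
    intro f hf
    have := hEc.is_comm.comm ⟨f, hf⟩ ⟨e, he⟩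
    exact congrArg Subtype.val this
  have hfix' : ∀ a ∈ A, ∀ u ∈ H ⊓ Subgroup.centralizer (E : Set G), u ^ p = 1 →
      a * u = u * a := by
    intro a ha u hu hup
    by_cases hu1 : u = 1
    · subst hu1; simp
    · have hord : orderOf u = p := orderOf_eq_prime hup hu1
      have := hfix u hu hord ha
      rw [Subgroup.mem_centralizer_iff] at this
      exact (this u (Set.mem_singleton u)).symm
  have hAE : ∀ a ∈ A, ∀ e ∈ E, a * e = e * a :=
    fun a ha e he => hfix' a ha e (hEE he) (hEp e he)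
  have hAord : ∀ a ∈ A, (orderOf a).Coprime p := fun a ha =>
    Nat.Coprime.coprime_dvd_left (Subgroup.orderOf_dvd_natCard A ha) hcop
  have hAn : ∀ a ∈ A, a ∈ Subgroup.normalizer
      ((H ⊓ Subgroup.centralizer (E : Set G) : Subgroup G) : Set G) := by
    intro a ha
    apply S0650.norm_of_conj
    intro u hu
    refine Subgroup.mem_inf.mpr ⟨(Subgroup.mem_normalizer_iff.mp (hA ha) u).1 hu.1, ?_⟩
    rw [Subgroup.mem_centralizer_iff]
    intro e he
    have c1 : Commute e a := (hAE a ha e he).symm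
    have c2 : Commute e u := Subgroup.mem_centralizer_iff.mp hu.2 e he
    exact ((c1.mul_right c2).mul_right c1.inv_right).eq
  have hAC : ∀ a ∈ A, ∀ u ∈ H ⊓ Subgroup.centralizer (E : Set G), a * u = u * a := by
    intro a ha
    exact omega_coprime p hp a (hAord a ha) _ (hH.to_le inf_le_left) (hAn a ha) (hfix' a ha)
  apply Helper2.AxB.axb H E A hH (hH.to_le hE) (hE.trans Subgroup.le_normalizer) hA
  · rw [Subgroup.commutator_eq_bot_iff_le_centralizer]
    intro a ha
    rw [Subgroup.mem_centralizer_iff]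
    intro e he
    exact (hAE a ha e he).symm
  · rw [Subgroup.commutator_eq_bot_iff_le_centralizer]
    intro a ha
    rw [Subgroup.mem_centralizer_iff]
    intro u hu
    exact (hAC a ha u hu).symm
  · intro M _ hM a ha
    exact hM a ha (hAord a ha)

end Cfsg.Agent.S1443
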