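import Mathlib
import Cfsg.Statements.S1947
import Cfsg.Agent.S1443
import Cfsg.Agent.S0071
set_option autoImplicit false
open Pointwise
open Cfsg
open scoped commutatorElement

namespace Cfsg.Agent.S1947

theorem omega4_aux {X : Type*} [Group X] [Finite X] (x : X)
    (hx : (orderOf x).Coprime 2) :
    ∀ (n : ℕ) (P : Subgroup X), Nat.card P = n → IsPGroup 2 P →
      x ∈ Subgroup.normalizer (P : Set X) →
      (∀ u ∈ P, u ^ 4 = 1 → x * u = u * x) → ∀ u ∈ P, x * u = u * x := by
  intro n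
  induction n using Nat.strong_induction_on with
  | _ n ih =>
    intro P hn hP hxP hfix
    have IH : ∀ P₀ : Subgroup X, P₀ ≤ P → P₀ ≠ P → x ∈ Subgroup.normalizer (P₀ : Set X) →
        ∀ u ∈ P₀, x * u = u * x := by
      intro P₀ hle hne hx0
      have hlt : Nat.card P₀ < n := by
        rw [← hn]; exact S0651.card_lt_of_lt (lt_of_le_of_ne hle hne)
      exact ih _ hlt P₀ rfl (hP.to_le hle) hx0 (fun u hu hup => hfix u (hle hu) hup)
    have hzP : Subgroup.zpowers x ≤ Subgroup.normalizer (P : Set X) := by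
      rw [Subgroup.zpowers_le]; exact hxP
    have hcopP : ∀ w ∈ P, (orderOf x).Coprime (orderOf w) := by
      intro w hw
      obtain ⟨j, hj⟩ := hP ⟨w, hw⟩
      have hj' : w ^ (2 ^ j) = 1 := congrArg Subtype.val hj
      exact Nat.Coprime.coprime_dvd_right (orderOf_dvd_of_pow_eq_one hj')
        (Nat.Coprime.pow_right j hx)
    have hle1 : ⁅P, Subgroup.zpowers x⁆ ≤ P := Lib.Helper2.AxB.commutator_le_of_le_normalizer hzP
    by_cases h1 : ⁅P, Subgroup.zpowers x⁆ = P
    swap
    · intro u hu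
      have hxn : x ∈ Subgroup.normalizer ((⁅P, Subgroup.zpowers x⁆ : Subgroup X) : Set X) :=
        Lib.Helper2.AxB.mem_normalizer_commutator hxP (Subgroup.le_normalizer (Subgroup.mem_zpowers x))
      have hc : ⁅u, x⁆ ∈ ⁅P, Subgroup.zpowers x⁆ :=
        Subgroup.commutator_mem_commutator hu (Subgroup.mem_zpowers x)
      have h2 := IH _ hle1 h1 hxn _ hc
      exact (Lib.Helper3.Coprime.commute_of_coprime_comm u x h2 (hcopP _ (hle1 hc))).symm
    by_cases hbot : P = ⊥
    · intro u hu; rw [hbot, Subgroup.mem_bot] at hu; subst hu; simp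
    have central : ∀ N : Subgroup X, N ≤ P → N ≠ P → P ≤ Subgroup.normalizer (N : Set X) →
        x ∈ Subgroup.normalizer (N : Set X) → ∀ c ∈ N, ∀ u ∈ P, c * u = u * c := by
      intro N hNP hNne hPN hxN c hc u hu
      have hcent := IH N hNP hNne hxN
      have hcz : ∀ t ∈ Subgroup.zpowers x, ∀ c ∈ N, t * c = c * t := by
        intro t ht c hc
        obtain ⟨k, rfl⟩ := Subgroup.mem_zpowers_iff.mp ht
        exact ((show Commute x c from hcent c hc).zpow_left k).eq
      have hsub : ⁅P, Subgroup.zpowers x⁆ ≤ Subgroup.centralizer ({c} : Set X) := by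
        rw [Subgroup.commutator_le]
        intro v hv t ht
        rw [Subgroup.mem_centralizer_iff]
        intro c' hc'
        rw [Set.mem_singleton_iff] at hc'; subst hc'
        have h3 : v⁻¹ * c' * v ∈ N := by
          have := (Subgroup.mem_normalizer_iff.mp (hPN (P.inv_mem hv)) c').1 hc
          simpa using this
        have h4 := hcz t ht _ h3
        have h5 := hcz t⁻¹ (inv_mem ht) c' hc
        rw [commutatorElement_def]
        calc c' * (v * t * v⁻¹ * t⁻¹) = v * ((v⁻¹ * c' * v) * t) * v⁻¹ * t⁻¹ := by group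
          _ = v * (t * (v⁻¹ * c' * v)) * v⁻¹ * t⁻¹ := by rw [h4]
          _ = v * t * v⁻¹ * (c' * t⁻¹) := by group
          _ = v * t * v⁻¹ * (t⁻¹ * c') := by rw [h5]
          _ = v * t * v⁻¹ * t⁻¹ * c' := by group
      rw [h1] at hsub
      exact Subgroup.mem_centralizer_iff.mp (hsub hu) c (Set.mem_singleton c)
    have hP' : ∀ c ∈ ⁅P, P⁆, ∀ u ∈ P, c * u = u * c := by
      apply central
      · exact Lib.Helper2.AxB.commutator_le_of_le_normalizer Subgroup.le_normalizer
      · exact Lib.Helper2.AxB.commutator_ne_self_of_pgroup hP hP Subgroup.le_normalizer hbot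
      · intro g hg
        exact Lib.Helper2.AxB.mem_normalizer_commutator (Subgroup.le_normalizer hg) (Subgroup.le_normalizer hg)
      · exact Lib.Helper2.AxB.mem_normalizer_commutator hxP hxP
    obtain ⟨M, hMP, hMne, hMpow⟩ := S1443.exists_proper_pow 2 P hP hbot
    have hNP : Subgroup.closure {w : X | ∃ u ∈ P, w = u ^ 2} ≤ P := by
      rw [Subgroup.closure_le]; rintro w ⟨u, hu, rfl⟩; exact P.pow_mem hu 2
    have hNM : Subgroup.closure {w : X | ∃ u ∈ P, w = u ^ 2} ≤ M := by
      rw [Subgroup.closure_le]; rintro w ⟨u, hu, rfl⟩; exact hMpow u hu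
    have hNne : Subgroup.closure {w : X | ∃ u ∈ P, w = u ^ 2} ≠ P := by
      intro h
      apply hMne
      exact le_antisymm hMP (h ▸ hNM)
    have hNnorm : ∀ g ∈ Subgroup.normalizer (P : Set X),
        g ∈ Subgroup.normalizer ((Subgroup.closure {w : X | ∃ u ∈ P, w = u ^ 2} : Subgroup X) : Set X) := by
      intro g hg
      apply S0650.norm_of_conj
      intro w hw
      induction hw using Subgroup.closure_induction with
      | mem w hw =>
        obtain ⟨u, hu, rfl⟩ := hw
        apply Subgroup.subset_closure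
        exact ⟨g * u * g⁻¹, (Subgroup.mem_normalizer_iff.mp hg u).1 hu, by rw [conj_pow]⟩
      | one => simp
      | mul a b _ _ iha ihb =>
        have : g * (a * b) * g⁻¹ = (g * a * g⁻¹) * (g * b * g⁻¹) := by group
        rw [this]; exact Subgroup.mul_mem _ iha ihb
      | inv a _ iha =>
        have : g * a⁻¹ * g⁻¹ = (g * a * g⁻¹)⁻¹ := by group
        rw [this]; exact Subgroup.inv_mem _ iha
    have hNc := central _ hNP hNne (fun g hg => hNnorm g (Subgroup.le_normalizer hg))
      (hNnorm x hxP)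
    have hxN := IH _ hNP hNne (hNnorm x hxP)
    have hpowN : ∀ u ∈ P, u ^ 2 ∈ Subgroup.closure {w : X | ∃ u ∈ P, w = u ^ 2} :=
      fun u hu => Subgroup.subset_closure ⟨u, hu, rfl⟩
    intro u hu
    have ha : x * u * x⁻¹ ∈ P := (Subgroup.mem_normalizer_iff.mp hxP u).1 hu
    have hc : u⁻¹ * (x * u * x⁻¹) = (x * u * x⁻¹) * u⁻¹ * ⁅u, (x * u * x⁻¹)⁻¹⁆ := by
      rw [commutatorElement_def]; group
    have hcP' : ⁅u, (x * u * x⁻¹)⁻¹⁆ ∈ ⁅P, P⁆ :=
      Subgroup.commutator_mem_commutator hu (P.inv_mem ha)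
    have hcu := hP' _ hcP' _ ha
    have hcv := hP' _ hcP' _ (P.inv_mem hu)
    have hpow := S0130.mul_pow_class2 (x * u * x⁻¹) u⁻¹ _ hc hcu hcv 4
    have hcp : ⁅u, (x * u * x⁻¹)⁻¹⁆ ^ 2 = 1 := by
      have h2 := S0130.pow_comm2 (x * u * x⁻¹) u⁻¹ _ hc hcv 2
      have h3 : u⁻¹ ^ 2 ∈ Subgroup.closure {w : X | ∃ u ∈ P, w = u ^ 2} := by
        rw [inv_pow]; exact Subgroup.inv_mem _ (hpowN u hu)
      have h4 := hNc _ h3 _ ha
      rw [h4] at h2
      exact (mul_eq_left.mp h2.symm)
    have hsum : ∑ i ∈ Finset.range 4, i = 2 * 3 := by decide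
    rw [hsum, pow_mul, hcp, one_pow, mul_one] at hpow
    have hu4 : u ^ 4 ∈ Subgroup.closure {w : X | ∃ u ∈ P, w = u ^ 2} := by
      have : u ^ 4 = (u ^ 2) ^ 2 := by rw [← pow_mul]
      rw [this]; exact Subgroup.pow_mem _ (hpowN u hu) 2
    have hxp : (x * u * x⁻¹) ^ 4 = u ^ 4 := by
      rw [conj_pow, hxN _ hu4, mul_inv_cancel_right]
    rw [hxp, inv_pow, mul_inv_cancel] at hpow
    have hw : x * u * x⁻¹ * u⁻¹ ∈ P := P.mul_mem ha (P.inv_mem hu)
    have hcomm := hfix _ hw hpow
    exact Lib.Helper2.AxB.comm_of_coprime hP hw hcomm hx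

/-- A `p'`-element normalizing a `p`-group and centralizing its elements of order dividing `p`
(dividing `4` if `p = 2`) centralizes it. -/
theorem omega_gen {X : Type*} [Group X] [Finite X] (p : ℕ) [Fact p.Prime]
    (x : X) (hx : (orderOf x).Coprime p) (P : Subgroup X) (hP : IsPGroup p P)
    (hxP : x ∈ Subgroup.normalizer (P : Set X))
    (hfix : ∀ u ∈ P, (u ^ p = 1 ∨ (p = 2 ∧ u ^ 4 = 1)) → x * u = u * x) :
    ∀ u ∈ P, x * u = u * x := by
  by_cases hp2 : p = 2
  · subst hp2
    exact omega4_aux x hx _ P rfl hP hxP (fun u hu h4 => hfix u hu (Or.inr ⟨rfl, h4⟩))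
  · exact S1443.omega_coprime p hp2 x hx P hP hxP (fun u hu hup => hfix u hu (Or.inl hup))

theorem result {G : Type*} [Group G] [Finite G] {p : ℕ} [Fact p.Prime] (n : ℕ)
    (h : ∀ a : G, (a ^ p = 1 ∨ (p = 2 ∧ a ^ 4 = 1)) → a ∈ Subgroup.upperCentralSeries G n) : Cfsg.HasNormalPComplement p G := by
  obtain ⟨P⟩ : Nonempty (Sylow p G) := inferInstance
  refine ⟨P, (S0071.result P).2 ?_⟩
  intro Q hQP g hg hcop
  have hQp : IsPGroup p Q := P.2.to_le hQP
  have hcopQ : ∀ w ∈ Q, (orderOf g).Coprime (orderOf w) := by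
    intro w hw
    obtain ⟨j, hj⟩ := hQp ⟨w, hw⟩
    have hj' : w ^ (p ^ j) = 1 := congrArg Subtype.val hj
    exact Nat.Coprime.coprime_dvd_right (orderOf_dvd_of_pow_eq_one hj')
      (Nat.Coprime.pow_right j hcop)
  have hZ : ∀ i : ℕ, ∀ u ∈ Q, u ∈ Subgroup.upperCentralSeries G i → u * g = g * u := by
    intro i
    induction i with
    | zero =>
      intro u _ hu
      rw [Subgroup.upperCentralSeries_zero, Subgroup.mem_bot] at hu
      rw [hu]; simp
    | succ i ih =>
      intro u hu huZ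
      have h1 : ⁅u, g⁆ ∈ Subgroup.upperCentralSeries G i :=
        Subgroup.mem_upperCentralSeries_succ_iff.1 huZ g
      have h2 : ⁅u, g⁆ ∈ Q := by
        rw [commutatorElement_def]
        have h3 : g * u⁻¹ * g⁻¹ ∈ Q := (Subgroup.mem_normalizer_iff.1 hg u⁻¹).1 (Q.inv_mem hu)
        have e : u * g * u⁻¹ * g⁻¹ = u * (g * u⁻¹ * g⁻¹) := by group
        rw [e]; exact Q.mul_mem hu h3
      have h4 := ih _ h2 h1
      exact Lib.Helper3.Coprime.commute_of_coprime_comm u g h4.symm (hcopQ _ h2)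
  rw [Subgroup.mem_centralizer_iff]
  intro u hu
  have key := omega_gen p g hcop Q hQp hg (fun u hu hup => (hZ n u hu (h u hup)).symm) u hu
  exact key.symm

end Cfsg.Agent.S1947
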