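import Mathlib
import Cfsg.Statements.S1946
import Cfsg.Agent.S1947
set_option autoImplicit false
open Pointwise
open Cfsg
open scoped commutatorElement

namespace Cfsg.Agent.S1946

theorem result {G : Type*} [Group G] [Finite G] {p : ℕ} [Fact p.Prime] (P : Sylow p G) :
    Cfsg.HasNormalPComplement p G ↔
      ∀ a ∈ (P : Subgroup G), (a ^ p = 1 ∨ (p = 2 ∧ a ^ 4 = 1)) → ∀ g : G, g * a * g⁻¹ ∈ (P : Subgroup G) →
        ∃ x ∈ (P : Subgroup G), g * a * g⁻¹ = x * a * x⁻¹ := by
  constructor
  · intro hnpc a ha _ g hg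
    obtain ⟨N, hN, hc, j, hj⟩ := Lib.Helper1.Frob.hasNPC_iff.1 hnpc
    have hcompl := Lib.Helper1.Frob.isComplement'_of_coprime_index N hc hj P
    have hC := (Lib.Helper1.Frob.frobenius_iff P).1 ⟨N, hN, hcompl⟩
    have hQ : Subgroup.zpowers a ≤ (P : Subgroup G) := by rw [Subgroup.zpowers_le]; exact ha
    obtain ⟨u, hu, huq⟩ := Lib.Helper1.Frob.fusion_control P hC (Subgroup.zpowers a) hQ g (by
      intro q hq
      obtain ⟨k, rfl⟩ := Subgroup.mem_zpowers_iff.1 hq
      have : g * a ^ k * g⁻¹ = (g * a * g⁻¹) ^ k := (conj_zpow).symm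
      rw [this]; exact Subgroup.zpow_mem _ hg k)
    exact ⟨u, hu, huq a (Subgroup.mem_zpowers a)⟩
  · intro hfus
    refine ⟨P, (S0071.result P).2 ?_⟩
    suffices key : ∀ (n : ℕ) (Q : Subgroup G), Nat.card Q = n → Q ≤ (P : Subgroup G) →
        ∀ g ∈ Subgroup.normalizer (Q : Set G), (orderOf g).Coprime p → ∀ u ∈ Q, g * u = u * g by
      intro Q hQP g hg hcop
      rw [Subgroup.mem_centralizer_iff]
      intro u hu
      exact (key _ Q rfl hQP g hg hcop u hu).symm
    intro n
    induction n using Nat.strong_induction_on with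
    | _ n ih =>
      intro Q hn hQP g hg hcop
      have hQp : IsPGroup p Q := P.2.to_le hQP
      have hcopQ : ∀ w ∈ Q, (orderOf g).Coprime (orderOf w) := by
        intro w hw
        obtain ⟨j, hj⟩ := hQp ⟨w, hw⟩
        have hj' : w ^ (p ^ j) = 1 := congrArg Subtype.val hj
        exact Nat.Coprime.coprime_dvd_right (orderOf_dvd_of_pow_eq_one hj')
          (Nat.Coprime.pow_right j hcop)
      have hgc : ∀ w ∈ Q, g * w * g⁻¹ ∈ Q :=
        fun w hw => (Subgroup.mem_normalizer_iff.1 hg w).1 hw
      have IH : ∀ Q₀ : Subgroup G, Q₀ ≤ Q → Q₀ ≠ Q → g ∈ Subgroup.normalizer (Q₀ : Set G) →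
          ∀ u ∈ Q₀, g * u = u * g := by
        intro Q₀ hle hne hg0
        have hlt : Nat.card Q₀ < n := by
          rw [← hn]; exact S0651.card_lt_of_lt (lt_of_le_of_ne hle hne)
        exact ih _ hlt Q₀ rfl (hle.trans hQP) g hg0 hcop
      obtain ⟨Q₁, hQ₁⟩ : ∃ Q₁ : Subgroup G, Q₁ = Subgroup.closure
          {u : G | u ∈ Q ∧ (u ^ p = 1 ∨ (p = 2 ∧ u ^ 4 = 1))} := ⟨_, rfl⟩
      have hQ₁le : Q₁ ≤ Q := by
        rw [hQ₁, Subgroup.closure_le]; rintro u ⟨hu, -⟩; exact hu
      have hgQ₁ : g ∈ Subgroup.normalizer (Q₁ : Set G) := by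
        apply S0650.norm_of_conj
        intro w hw
        rw [hQ₁] at hw ⊢
        induction hw using Subgroup.closure_induction with
        | mem w hw =>
          apply Subgroup.subset_closure
          refine ⟨hgc w hw.1, ?_⟩
          rcases hw.2 with h | ⟨h2, h4⟩
          · left; rw [conj_pow, h]; group
          · right; refine ⟨h2, ?_⟩; rw [conj_pow, h4]; group
        | one => simp
        | mul a b _ _ iha ihb =>
          have : g * (a * b) * g⁻¹ = (g * a * g⁻¹) * (g * b * g⁻¹) := by group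
          rw [this]; exact Subgroup.mul_mem _ iha ihb
        | inv a _ iha =>
          have : g * a⁻¹ * g⁻¹ = (g * a * g⁻¹)⁻¹ := by group
          rw [this]; exact Subgroup.inv_mem _ iha
      by_cases hQ₁Q : Q₁ = Q
      swap
      · have h1 := IH Q₁ hQ₁le hQ₁Q hgQ₁
        exact S1947.omega_gen p g hcop Q hQp hg
          (fun u hu hup => h1 u (hQ₁ ▸ Subgroup.subset_closure ⟨hu, hup⟩))
      obtain ⟨Q₅, hQ₅⟩ : ∃ Q₅ : Subgroup G, Q₅ = Subgroup.closure
          {c : G | ∃ w ∈ Q, c = ⁅w, g⁆} := ⟨_, rfl⟩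
      have hcQ : ∀ w ∈ Q, ⁅w, g⁆ ∈ Q := by
        intro w hw
        rw [commutatorElement_def]
        have h3 : g * w⁻¹ * g⁻¹ ∈ Q := hgc _ (Q.inv_mem hw)
        have e : w * g * w⁻¹ * g⁻¹ = w * (g * w⁻¹ * g⁻¹) := by group
        rw [e]; exact Q.mul_mem hw h3
      have hQ₅le : Q₅ ≤ Q := by
        rw [hQ₅, Subgroup.closure_le]; rintro c ⟨w, hw, rfl⟩; exact hcQ w hw
      have hgQ₅ : g ∈ Subgroup.normalizer (Q₅ : Set G) := by
        apply S0650.norm_of_conj
        intro c hc
        rw [hQ₅] at hc ⊢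
        induction hc using Subgroup.closure_induction with
        | mem c hc =>
          obtain ⟨w, hw, rfl⟩ := hc
          apply Subgroup.subset_closure
          refine ⟨g * w * g⁻¹, hgc w hw, ?_⟩
          rw [commutatorElement_def, commutatorElement_def]; group
        | one => simp
        | mul a b _ _ iha ihb =>
          have : g * (a * b) * g⁻¹ = (g * a * g⁻¹) * (g * b * g⁻¹) := by group
          rw [this]; exact Subgroup.mul_mem _ iha ihb
        | inv a _ iha =>
          have : g * a⁻¹ * g⁻¹ = (g * a * g⁻¹)⁻¹ := by group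
          rw [this]; exact Subgroup.inv_mem _ iha
      by_cases hQ₅Q : Q₅ = Q
      swap
      · have h1 := IH Q₅ hQ₅le hQ₅Q hgQ₅
        intro u hu
        have h2 : ⁅u, g⁆ ∈ Q₅ := hQ₅ ▸ Subgroup.subset_closure ⟨u, hu, rfl⟩
        exact (Lib.Helper3.Coprime.commute_of_coprime_comm u g (h1 _ h2)
          (hcopQ _ (hQ₅le h2))).symm
      have hgam : ∀ i : ℕ, Q ≤ (P : Subgroup G).lowerCentralSeries i := by
        intro i
        induction i with
        | zero => exact hQP
        | succ i ihi =>
          have hnorm : ∀ x ∈ (P : Subgroup G),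
              ∀ c ∈ (P : Subgroup G).lowerCentralSeries (i + 1),
              x * c * x⁻¹ ∈ (P : Subgroup G).lowerCentralSeries (i + 1) := by
            intro x hx c hc
            exact (Subgroup.mem_normalizer_iff.1
              ((P : Subgroup G).self_le_normalizer_lowerCentralSeries (i + 1) hx) c).1 hc
          have hall : ∀ w ∈ Q₁, ⁅w, g⁆ ∈ (P : Subgroup G).lowerCentralSeries (i + 1) := by
            intro w hw
            rw [hQ₁] at hw
            induction hw using Subgroup.closure_induction with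
            | mem u hu =>
              obtain ⟨huQ, hup⟩ := hu
              have hu' : (u⁻¹ ^ p = 1 ∨ (p = 2 ∧ u⁻¹ ^ 4 = 1)) := by
                rcases hup with h | ⟨h2, h4⟩
                · left; rw [inv_pow, h, inv_one]
                · right; exact ⟨h2, by rw [inv_pow, h4, inv_one]⟩
              obtain ⟨x, hx, hxe⟩ := hfus u⁻¹ ((P : Subgroup G).inv_mem (hQP huQ)) hu' g
                (hQP (hgc _ (Q.inv_mem huQ)))
              have e : ⁅u, g⁆ = ⁅u, x⁆ := by
                rw [commutatorElement_def, commutatorElement_def]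
                have : u * g * u⁻¹ * g⁻¹ = u * (g * u⁻¹ * g⁻¹) := by group
                rw [this, hxe]; group
              rw [e, Subgroup.lowerCentralSeries_succ]
              exact Subgroup.commutator_mem_commutator (ihi huQ) hx
            | one => simp
            | mul a b ha hb iha ihb =>
              have haP : a ∈ (P : Subgroup G) := hQP (hQ₁le (hQ₁ ▸ ha))
              have e : ⁅a * b, g⁆ = a * ⁅b, g⁆ * a⁻¹ * ⁅a, g⁆ := by
                simp only [commutatorElement_def]; group
              rw [e]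
              exact Subgroup.mul_mem _ (hnorm a haP _ ihb) iha
            | inv a ha iha =>
              have haP : a ∈ (P : Subgroup G) := hQP (hQ₁le (hQ₁ ▸ ha))
              have e : ⁅a⁻¹, g⁆ = a⁻¹ * (⁅a, g⁆)⁻¹ * a⁻¹⁻¹ := by
                simp only [commutatorElement_def]; group
              rw [e]
              exact hnorm a⁻¹ ((P : Subgroup G).inv_mem haP) _ (Subgroup.inv_mem _ iha)
          rw [← hQ₅Q, hQ₅, Subgroup.closure_le]
          rintro c ⟨w, hw, rfl⟩
          exact hall w (hQ₁Q ▸ hw)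
      haveI : Group.IsNilpotent ↥(P : Subgroup G) := P.2.isNilpotent
      obtain ⟨m, hm⟩ := (Subgroup.isNilpotent_iff_lowerCentralSeries (P : Subgroup G)).mp
        inferInstance
      intro u hu
      have := hgam m hu
      rw [hm, Subgroup.mem_bot] at this
      rw [this]; simp

end Cfsg.Agent.S1946
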