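import Mathlib
import Cfsg.Statements.S3745
import Cfsg.Agent.S0001
import Cfsg.Agent.S0003
import Cfsg.Agent.S0004
import Cfsg.Agent.S1473
import Cfsg.Agent.Lib.Helper1.Nil

set_option autoImplicit false
open Pointwise
open Cfsg
open scoped commutatorElement

universe u

namespace Cfsg.Agent.S3745

theorem pi_part (π : Set ℕ) : ∀ N : ℕ, 0 < N → ∃ m n : ℕ, N = m * n ∧
    (∀ p : ℕ, p.Prime → p ∣ m → p ∈ π) ∧ (∀ p : ℕ, p.Prime → p ∈ π → ¬ p ∣ n) := by
  intro N
  induction N using Nat.strong_induction_on with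
  | _ N ih =>
    intro hN
    by_cases h : ∃ p : ℕ, p.Prime ∧ p ∈ π ∧ p ∣ N
    · obtain ⟨p, hp, hpπ, k, hk⟩ := h
      have hk0 : 0 < k := by
        rcases Nat.eq_zero_or_pos k with h0 | h0
        · rw [h0, mul_zero] at hk; omega
        · exact h0
      have hkN : k < N := by
        rw [hk]; have := hp.one_lt; nlinarith
      obtain ⟨m, n, hmn, hm, hn⟩ := ih k hkN hk0
      refine ⟨p * m, n, by rw [hk, hmn, mul_assoc], ?_, hn⟩
      intro r hr hrd
      rcases (Nat.Prime.dvd_mul hr).1 hrd with h1 | h1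
      · rw [(Nat.prime_dvd_prime_iff_eq hr hp).1 h1]; exact hpπ
      · exact hm r hr h1
    · refine ⟨1, N, (one_mul N).symm, ?_, ?_⟩
      · intro p hp hp1
        exact absurd (Nat.dvd_one.1 hp1) hp.ne_one
      · intro p hp hpπ hpN
        exact h ⟨p, hp, hpπ, hpN⟩

theorem coprime_of_pi (π : Set ℕ) (m n : ℕ) (hm : ∀ p : ℕ, p.Prime → p ∣ m → p ∈ π)
    (hn : ∀ p : ℕ, p.Prime → p ∈ π → ¬ p ∣ n) : m.Coprime n := by
  by_contra hc
  obtain ⟨p, hp, hpm, hpn⟩ := Nat.Prime.not_coprime_iff_dvd.1 hc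
  exact hn p hp (hm p hp hpm) hpn

theorem pi_unique (π : Set ℕ) (a b a' b' : ℕ) (h : a * b = a' * b')
    (ha : ∀ p : ℕ, p.Prime → p ∣ a → p ∈ π) (hb : ∀ p : ℕ, p.Prime → p ∈ π → ¬ p ∣ b)
    (ha' : ∀ p : ℕ, p.Prime → p ∣ a' → p ∈ π) (hb' : ∀ p : ℕ, p.Prime → p ∈ π → ¬ p ∣ b') :
    a = a' := by
  have d1 : a ∣ a' * b' := by rw [← h]; exact dvd_mul_right a b
  have d2 : a' ∣ a * b := by rw [h]; exact dvd_mul_right a' b'
  have h1 : a ∣ a' := (coprime_of_pi π a b' ha hb').dvd_of_dvd_mul_right d1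
  have h2 : a' ∣ a := (coprime_of_pi π a' b ha' hb).dvd_of_dvd_mul_right d2
  exact Nat.dvd_antisymm h1 h2

theorem card_mul_relIndex' {X : Type*} [Group X] (S T : Subgroup X) (h : S ≤ T) :
    Nat.card S * S.relIndex T = Nat.card T := by
  have h1 := Subgroup.card_mul_index (S.subgroupOf T)
  rw [S0003.card_subgroupOf_eq', inf_of_le_left h] at h1
  exact h1

theorem hall_of_card {X : Type*} [Group X] [Finite X] (π : Set ℕ) (H G : Subgroup X) (m n : ℕ)
    (hG : Nat.card G = m * n) (hm : ∀ p : ℕ, p.Prime → p ∣ m → p ∈ π)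
    (hn : ∀ p : ℕ, p.Prime → p ∈ π → ¬ p ∣ n) (hle : H ≤ G) (hH : Nat.card H = m) :
    IsPiHallOf π H G := by
  refine ⟨hle, fun p hp hpd => hm p hp (hH ▸ hpd), fun p hp hpπ hpd => ?_⟩
  have h1 := card_mul_relIndex' H G hle
  rw [hH, hG] at h1
  have hm0 : 0 < m := by rw [← hH]; exact Nat.card_pos
  have h2 : H.relIndex G = n := Nat.eq_of_mul_eq_mul_left hm0 h1
  rw [h2] at hpd
  exact hn p hp hpπ hpd

theorem card_of_hall {X : Type*} [Group X] [Finite X] (π : Set ℕ) (H G : Subgroup X) (m n : ℕ)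
    (hG : Nat.card G = m * n) (hm : ∀ p : ℕ, p.Prime → p ∣ m → p ∈ π)
    (hn : ∀ p : ℕ, p.Prime → p ∈ π → ¬ p ∣ n) (hH : IsPiHallOf π H G) : Nat.card H = m := by
  obtain ⟨hle, h1, h2⟩ := hH
  have h3 := card_mul_relIndex' H G hle
  rw [hG] at h3
  exact pi_unique π _ _ m n h3 h1 h2 hm hn

theorem sub_solvable {X : Type*} [Group X] {S T : Subgroup X} (h : S ≤ T)
    (hT : Group.IsSolvable T) : Group.IsSolvable S :=
  Group.isSolvable_of_isSolvable_injective (Subgroup.inclusion_injective h)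

theorem hall_exists_sub {X : Type*} [Group X] [Finite X] (π : Set ℕ) (G : Subgroup X)
    (hsolv : Group.IsSolvable G) : ∃ H : Subgroup X, IsPiHallOf π H G := by
  obtain ⟨m, n, hmn, hm, hn⟩ := pi_part π (Nat.card G) Nat.card_pos
  obtain ⟨H', hH'⟩ := S0003.result (G := ↥G) m n hmn (coprime_of_pi π m n hm hn)
  refine ⟨H'.map G.subtype, hall_of_card π _ G m n hmn hm hn ?_ ?_⟩
  · rintro _ ⟨y, _, rfl⟩; exact y.2
  · rw [Subgroup.card_map_of_injective (Subgroup.subtype_injective _)]; exact hH'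

theorem mem_conj_smul {X : Type*} [Group X] (H : Subgroup X) (g x : X) :
    x ∈ MulAut.conj g • H ↔ g⁻¹ * x * g ∈ H := by
  rw [Subgroup.mem_pointwise_smul_iff_inv_smul_mem, MulAut.smul_def, MulAut.conj_inv_apply]

theorem hall_conj_sub {X : Type*} [Group X] [Finite X] (π : Set ℕ) (G H₁ H₂ : Subgroup X)
    (hsolv : Group.IsSolvable G) (h1 : IsPiHallOf π H₁ G) (h2 : IsPiHallOf π H₂ G) :
    ∃ g ∈ G, H₂ = H₁.map (MulAut.conj g).toMonoidHom := by
  obtain ⟨m, n, hmn, hm, hn⟩ := pi_part π (Nat.card G) Nat.card_pos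
  have c1 := card_of_hall π H₁ G m n hmn hm hn h1
  have c2 := card_of_hall π H₂ G m n hmn hm hn h2
  have c1' : Nat.card (H₁.subgroupOf G) = m := by
    rw [S0003.card_subgroupOf_eq', inf_of_le_left h1.1]; exact c1
  have c2' : Nat.card (H₂.subgroupOf G) = m := by
    rw [S0003.card_subgroupOf_eq', inf_of_le_left h2.1]; exact c2
  obtain ⟨g, hg⟩ := S0004.result (G := ↥G) m n hmn (coprime_of_pi π m n hm hn)
    (H₁.subgroupOf G) (H₂.subgroupOf G) c1' c2'
  refine ⟨(g : X), g.2, ?_⟩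
  ext x
  rw [Lib.Helper1.mem_map_conj_iff]
  constructor
  · intro hx
    have hxG : x ∈ G := h2.1 hx
    have h3 : (⟨x, hxG⟩ : G) ∈ MulAut.conj g • H₁.subgroupOf G := by
      rw [hg]; exact Subgroup.mem_subgroupOf.2 hx
    rw [mem_conj_smul] at h3
    exact Subgroup.mem_subgroupOf.1 h3
  · intro hx
    have hxG : x ∈ G := by
      have h3 := h1.1 hx
      have e : x = (g : X) * ((g : X)⁻¹ * x * g) * (g : X)⁻¹ := by group
      rw [e]
      exact G.mul_mem (G.mul_mem g.2 h3) (G.inv_mem g.2)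
    have h3 : (⟨x, hxG⟩ : G) ∈ MulAut.conj g • H₁.subgroupOf G := by
      rw [mem_conj_smul]
      exact Subgroup.mem_subgroupOf.2 hx
    rw [hg] at h3
    exact Subgroup.mem_subgroupOf.1 h3

theorem hall_map_conj {X : Type*} [Group X] [Finite X] (π : Set ℕ) (G H : Subgroup X) (c : X)
    (hc : c ∈ Subgroup.normalizer (G : Set X)) (h : IsPiHallOf π H G) :
    IsPiHallOf π (H.map (MulAut.conj c).toMonoidHom) G := by
  obtain ⟨hle, h1, h2⟩ := h
  have hcard : Nat.card (H.map (MulAut.conj c).toMonoidHom) = Nat.card H :=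
    Subgroup.card_map_of_injective (MulAut.conj c).injective
  have hle' : H.map (MulAut.conj c).toMonoidHom ≤ G := by
    rintro _ ⟨y, hy, rfl⟩
    show c * y * c⁻¹ ∈ G
    exact (Subgroup.mem_normalizer_iff.1 hc y).1 (hle hy)
  refine ⟨hle', fun p hp hpd => h1 p hp (hcard ▸ hpd), fun p hp hpπ hpd => h2 p hp hpπ ?_⟩
  have e1 := card_mul_relIndex' H G hle
  have e2 := card_mul_relIndex' _ G hle'
  rw [hcard, ← e1] at e2
  have hpos : 0 < Nat.card H := Nat.card_pos
  rw [← Nat.eq_of_mul_eq_mul_left hpos e2]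
  exact hpd

theorem card_sup_mul_card_inf' {X : Type*} [Group X] [Finite X] (H N : Subgroup X)
    (hLE : H ≤ Subgroup.normalizer (N : Set X)) :
    Nat.card ↥(H ⊔ N) * Nat.card ↥(H ⊓ N) = Nat.card H * Nat.card N := by
  haveI := Subgroup.normal_subgroupOf_of_le_normalizer hLE
  haveI := Subgroup.normal_subgroupOf_sup_of_le_normalizer hLE
  have e1 : N.relIndex (H ⊔ N) = N.relIndex H := by
    have h0 := Nat.card_congr
      (QuotientGroup.quotientInfEquivProdNormalizerQuotient H N hLE).toEquiv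
    rw [Subgroup.relIndex, Subgroup.relIndex, Subgroup.index_eq_card, Subgroup.index_eq_card]
    exact h0.symm
  have a1 : Nat.card (N.subgroupOf (H ⊔ N)) * N.relIndex (H ⊔ N) = Nat.card ↥(H ⊔ N) :=
    Subgroup.card_mul_index _
  have a2 : Nat.card (N.subgroupOf H) * N.relIndex H = Nat.card H := Subgroup.card_mul_index _
  have c1 : Nat.card (N.subgroupOf (H ⊔ N)) = Nat.card N := by
    rw [S0003.card_subgroupOf_eq', inf_of_le_left le_sup_right]
  have c2 : Nat.card (N.subgroupOf H) = Nat.card ↥(H ⊓ N) := by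
    rw [S0003.card_subgroupOf_eq', inf_comm]
  rw [← a1, ← a2, c1, c2, e1]; ring

theorem sz_conj_sub {X : Type*} [Group X] [Finite X] (N A B : Subgroup X)
    (hAN : A ≤ Subgroup.normalizer (N : Set X)) (hB : B ≤ A ⊔ N)
    (hcard : Nat.card B = Nat.card A)
    (hcop : (Nat.card N).Coprime (Nat.card A)) (hsolv : Group.IsSolvable N) :
    ∃ n ∈ N, B = A.map (MulAut.conj n).toMonoidHom := by
  obtain ⟨Λ, hΛdef⟩ : ∃ Λ : Subgroup X, Λ = A ⊔ N := ⟨_, rfl⟩
  have hAΛ : A ≤ Λ := by rw [hΛdef]; exact le_sup_left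
  have hNΛ : N ≤ Λ := by rw [hΛdef]; exact le_sup_right
  have hBΛ : B ≤ Λ := by rw [hΛdef]; exact hB
  haveI hNn : (N.subgroupOf Λ).Normal := by
    rw [hΛdef]; exact Subgroup.normal_subgroupOf_sup_of_le_normalizer hAN
  have hdisj : A ⊓ N = ⊥ := (Subgroup.disjoint_of_coprime_natCard hcop.symm).eq_bot
  have hΛcard : Nat.card Λ = Nat.card A * Nat.card N := by
    have h0 := card_sup_mul_card_inf' A N hAN
    rw [hdisj, Subgroup.card_bot, mul_one] at h0
    rw [hΛdef]; exact h0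
  have cN : Nat.card (N.subgroupOf Λ) = Nat.card N := by
    rw [S0003.card_subgroupOf_eq', inf_of_le_left hNΛ]
  have cA : Nat.card (A.subgroupOf Λ) = Nat.card A := by
    rw [S0003.card_subgroupOf_eq', inf_of_le_left hAΛ]
  have cB : Nat.card (B.subgroupOf Λ) = Nat.card A := by
    rw [S0003.card_subgroupOf_eq', inf_of_le_left hBΛ]; exact hcard
  have hidx : (N.subgroupOf Λ).index = Nat.card A := by
    have h1 := Subgroup.card_mul_index (N.subgroupOf Λ)
    rw [cN, hΛcard, mul_comm] at h1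
    exact Nat.eq_of_mul_eq_mul_right Nat.card_pos h1
  have hcA : Subgroup.IsComplement' (N.subgroupOf Λ) (A.subgroupOf Λ) :=
    Subgroup.isComplement'_of_coprime (by rw [cN, cA, hΛcard, mul_comm])
      (by rw [cN, cA]; exact hcop)
  have hcB : Subgroup.IsComplement' (N.subgroupOf Λ) (B.subgroupOf Λ) :=
    Subgroup.isComplement'_of_coprime (by rw [cN, cB, hΛcard, mul_comm])
      (by rw [cN, cB]; exact hcop)
  have hsolv' : Group.IsSolvable (N.subgroupOf Λ) :=
    Group.isSolvable_of_isSolvable_injective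
      (f := (Subgroup.subgroupOfEquivOfLe hNΛ).toMonoidHom)
      (Subgroup.subgroupOfEquivOfLe hNΛ).injective
  obtain ⟨y, hy⟩ := S0001.result (N.subgroupOf Λ) (by rw [cN, hidx]; exact hcop)
    (Or.inl hsolv') (A.subgroupOf Λ) (B.subgroupOf Λ) hcA hcB
  have hyΛ : (y : X) ∈ ((A ⊔ N : Subgroup X) : Set X) := by rw [← hΛdef]; exact y.2
  rw [Subgroup.coe_mul_of_left_le_normalizer_right A N hAN] at hyΛ
  obtain ⟨a, ha, n, hn, hy_eq⟩ := Set.mem_mul.1 hyΛ
  have hn' : a * n * a⁻¹ ∈ N := (Subgroup.mem_normalizer_iff.1 (hAN ha) n).1 hn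
  refine ⟨a * n * a⁻¹, hn', ?_⟩
  have key : ∀ x : X, (y : X)⁻¹ * x * y ∈ A ↔ (a * n * a⁻¹)⁻¹ * x * (a * n * a⁻¹) ∈ A := by
    intro x
    have e : (y : X)⁻¹ * x * y = a⁻¹ * ((a * n * a⁻¹)⁻¹ * x * (a * n * a⁻¹)) * a := by
      rw [← hy_eq]; group
    rw [e]
    constructor
    · intro h
      have h0 := A.mul_mem (A.mul_mem ha h) (A.inv_mem ha)
      have e2 : a * (a⁻¹ * ((a * n * a⁻¹)⁻¹ * x * (a * n * a⁻¹)) * a) * a⁻¹ =
          (a * n * a⁻¹)⁻¹ * x * (a * n * a⁻¹) := by group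
      rw [e2] at h0
      exact h0
    · intro h
      exact A.mul_mem (A.mul_mem (A.inv_mem ha) h) ha
  ext x
  rw [Lib.Helper1.mem_map_conj_iff]
  constructor
  · intro hx
    have hxΛ : x ∈ Λ := hBΛ hx
    have h1 : (⟨x, hxΛ⟩ : Λ) ∈ MulAut.conj y • A.subgroupOf Λ := by
      rw [hy]; exact Subgroup.mem_subgroupOf.2 hx
    rw [mem_conj_smul] at h1
    exact (key x).1 (Subgroup.mem_subgroupOf.1 h1)
  · intro hx
    have hxΛ : x ∈ Λ := by
      have e : x = (a * n * a⁻¹) * ((a * n * a⁻¹)⁻¹ * x * (a * n * a⁻¹)) * (a * n * a⁻¹)⁻¹ := by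
        group
      rw [e]
      exact Λ.mul_mem (Λ.mul_mem (hNΛ hn') (hAΛ hx)) (Λ.inv_mem (hNΛ hn'))
    have h1 : (⟨x, hxΛ⟩ : Λ) ∈ MulAut.conj y • A.subgroupOf Λ := by
      rw [mem_conj_smul]
      exact Subgroup.mem_subgroupOf.2 ((key x).2 hx)
    rw [hy] at h1
    exact Subgroup.mem_subgroupOf.1 h1

theorem sz_exists_sub {X : Type*} [Group X] [Finite X] (N Λ : Subgroup X) (hNΛ : N ≤ Λ)
    (hΛN : Λ ≤ Subgroup.normalizer (N : Set X)) (k : ℕ) (hcard : Nat.card Λ = Nat.card N * k)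
    (hcop : (Nat.card N).Coprime k) : ∃ B : Subgroup X, B ≤ Λ ∧ Nat.card B = k := by
  haveI hNn : (N.subgroupOf Λ).Normal := Subgroup.normal_subgroupOf_of_le_normalizer hΛN
  have cN : Nat.card (N.subgroupOf Λ) = Nat.card N := by
    rw [S0003.card_subgroupOf_eq', inf_of_le_left hNΛ]
  have hidx : (N.subgroupOf Λ).index = k := by
    have h1 := Subgroup.card_mul_index (N.subgroupOf Λ)
    rw [cN, hcard] at h1
    exact Nat.eq_of_mul_eq_mul_left Nat.card_pos h1
  obtain ⟨B', hB'⟩ := Subgroup.exists_right_complement'_of_coprime (N := N.subgroupOf Λ)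
    (by rw [cN, hidx]; exact hcop)
  refine ⟨B'.map Λ.subtype, ?_, ?_⟩
  · rintro _ ⟨y, _, rfl⟩; exact y.2
  · rw [Subgroup.card_map_of_injective (Subgroup.subtype_injective _)]
    have h1 := hB'.card_mul_card
    have h2 := Subgroup.card_mul_index (N.subgroupOf Λ)
    rw [hidx] at h2
    exact Nat.eq_of_mul_eq_mul_left (Nat.card_pos (α := N.subgroupOf Λ)) (h1.trans h2.symm)

theorem norm_conj {X : Type*} [Group X] (H : Subgroup X) (c b : X)
    (hb : b ∈ Subgroup.normalizer (H : Set X)) :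
    c * b * c⁻¹ ∈
      Subgroup.normalizer ((H.map (MulAut.conj c).toMonoidHom : Subgroup X) : Set X) := by
  rw [Subgroup.mem_normalizer_iff]
  intro x
  rw [Lib.Helper1.mem_map_conj_iff, Lib.Helper1.mem_map_conj_iff,
    (Subgroup.mem_normalizer_iff.1 hb) (c⁻¹ * x * c)]
  have e : c⁻¹ * (c * b * c⁻¹ * x * (c * b * c⁻¹)⁻¹) * c = b * (c⁻¹ * x * c) * b⁻¹ := by group
  rw [e]

theorem norm_inf_norm {X : Type*} [Group X] (G H : Subgroup X) (y : X)
    (hyG : y ∈ Subgroup.normalizer (G : Set X)) (hyH : y ∈ Subgroup.normalizer (H : Set X)) :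
    y ∈ Subgroup.normalizer ((G ⊓ Subgroup.normalizer (H : Set X) : Subgroup X) : Set X) := by
  rw [Subgroup.mem_normalizer_iff]
  intro x
  constructor
  · rintro ⟨hxG, hxN⟩
    exact ⟨(Subgroup.mem_normalizer_iff.1 hyG x).1 hxG,
      Subgroup.mul_mem _ (Subgroup.mul_mem _ hyH hxN) (Subgroup.inv_mem _ hyH)⟩
  · rintro ⟨hxG, hxN⟩
    refine ⟨(Subgroup.mem_normalizer_iff.1 hyG x).2 hxG, ?_⟩
    have h0 := Subgroup.mul_mem _ (Subgroup.mul_mem _ (Subgroup.inv_mem _ hyH) hxN) hyH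
    have e : y⁻¹ * (y * x * y⁻¹) * y = x := by group
    rw [e] at h0
    exact h0

theorem partB {X : Type*} [Group X] [Finite X] (A G : Subgroup X)
    (hAG : A ≤ Subgroup.normalizer (G : Set X)) (hcop : (Nat.card A).Coprime (Nat.card G))
    (hsolv : Group.IsSolvable G) (π : Set ℕ) (H₁ H₂ : Subgroup X)
    (h1 : IsPiHallOf π H₁ G) (hA1 : A ≤ Subgroup.normalizer (H₁ : Set X))
    (h2 : IsPiHallOf π H₂ G) (hA2 : A ≤ Subgroup.normalizer (H₂ : Set X)) :
    ∃ c ∈ G ⊓ Subgroup.centralizer (A : Set X), H₂ = H₁.map (MulAut.conj c).toMonoidHom := by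
  obtain ⟨g, hgG, hg⟩ := hall_conj_sub π G H₁ H₂ hsolv h1 h2
  obtain ⟨B, hBdef⟩ : ∃ B : Subgroup X, B = A.map (MulAut.conj g⁻¹).toMonoidHom := ⟨_, rfl⟩
  obtain ⟨N₁, hN₁def⟩ : ∃ N₁ : Subgroup X, N₁ = G ⊓ Subgroup.normalizer (H₁ : Set X) :=
    ⟨_, rfl⟩
  have hAN₁ : A ≤ Subgroup.normalizer (N₁ : Set X) := by
    intro a ha
    rw [hN₁def]
    exact norm_inf_norm G H₁ a (hAG ha) (hA1 ha)
  have h4 : H₂.map (MulAut.conj g⁻¹).toMonoidHom = H₁ := by
    ext x
    rw [Lib.Helper1.mem_map_conj_iff, hg, Lib.Helper1.mem_map_conj_iff]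
    have e : g⁻¹ * (g⁻¹⁻¹ * x * g⁻¹) * g = x := by group
    rw [e]
  have hBN : ∀ a ∈ A, g⁻¹ * a * g ∈ Subgroup.normalizer (H₁ : Set X) := by
    intro a ha
    have h3 := norm_conj H₂ g⁻¹ a (hA2 ha)
    rw [h4, inv_inv] at h3
    exact h3
  have hBmem : ∀ b ∈ B, ∃ a ∈ A, b = g⁻¹ * a * g := by
    intro b hb
    rw [hBdef] at hb
    obtain ⟨a, ha, rfl⟩ := hb
    refine ⟨a, ha, ?_⟩
    show g⁻¹ * a * g⁻¹⁻¹ = g⁻¹ * a * g
    rw [inv_inv]
  have hBle : B ≤ A ⊔ N₁ := by
    intro b hb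
    obtain ⟨a, ha, rfl⟩ := hBmem b hb
    have hmem : g⁻¹ * a * g * a⁻¹ ∈ N₁ := by
      rw [hN₁def]
      refine ⟨?_, ?_⟩
      · have h0 : a * g * a⁻¹ ∈ G := (Subgroup.mem_normalizer_iff.1 (hAG ha) g).1 hgG
        have e : g⁻¹ * a * g * a⁻¹ = g⁻¹ * (a * g * a⁻¹) := by group
        rw [e]; exact G.mul_mem (G.inv_mem hgG) h0
      · exact Subgroup.mul_mem _ (hBN a ha) (Subgroup.inv_mem _ (hA1 ha))
    have e : g⁻¹ * a * g = (g⁻¹ * a * g * a⁻¹) * a := by group
    rw [e]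
    exact Subgroup.mul_mem _ (Subgroup.mem_sup_right hmem) (Subgroup.mem_sup_left ha)
  have hBcard : Nat.card B = Nat.card A := by
    rw [hBdef]; exact Subgroup.card_map_of_injective (MulAut.conj g⁻¹).injective
  have hN₁G : N₁ ≤ G := by rw [hN₁def]; exact inf_le_left
  have hcop' : (Nat.card N₁).Coprime (Nat.card A) :=
    Nat.Coprime.coprime_dvd_left (Subgroup.card_dvd_of_le hN₁G) hcop.symm
  have hsolv' : Group.IsSolvable N₁ := sub_solvable hN₁G hsolv
  obtain ⟨n, hn, hBn⟩ := sz_conj_sub N₁ A B hAN₁ hBle hBcard hcop' hsolv'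
  have hnG : n ∈ G := hN₁G hn
  have hnN : n ∈ Subgroup.normalizer (H₁ : Set X) := by
    rw [hN₁def] at hn; exact hn.2
  have hcA : ∀ a ∈ A, (g * n) * a * (g * n)⁻¹ ∈ A := by
    intro a ha
    have h5 : n * a * n⁻¹ ∈ B := by
      rw [hBn]; exact ⟨a, ha, rfl⟩
    obtain ⟨a', ha', he⟩ := hBmem _ h5
    have e : (g * n) * a * (g * n)⁻¹ = g * (n * a * n⁻¹) * g⁻¹ := by group
    rw [e, he]
    have e2 : g * (g⁻¹ * a' * g) * g⁻¹ = a' := by group
    rw [e2]; exact ha'
  have hdisj : A ⊓ G = ⊥ := (Subgroup.disjoint_of_coprime_natCard hcop).eq_bot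
  have hcG : g * n ∈ G := G.mul_mem hgG hnG
  refine ⟨g * n, Subgroup.mem_inf.2 ⟨hcG, ?_⟩, ?_⟩
  · rw [Subgroup.mem_centralizer_iff]
    intro a ha
    have h6 : (g * n) * a * (g * n)⁻¹ * a⁻¹ ∈ A ⊓ G := by
      refine ⟨A.mul_mem (hcA a ha) (A.inv_mem ha), ?_⟩
      have h0 : a * (g * n)⁻¹ * a⁻¹ ∈ G :=
        (Subgroup.mem_normalizer_iff.1 (hAG ha) _).1 (G.inv_mem hcG)
      have e : (g * n) * a * (g * n)⁻¹ * a⁻¹ = (g * n) * (a * (g * n)⁻¹ * a⁻¹) := by group
      rw [e]; exact G.mul_mem hcG h0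
    rw [hdisj, Subgroup.mem_bot] at h6
    have e : (g * n) * a = ((g * n) * a * (g * n)⁻¹ * a⁻¹) * (a * (g * n)) := by group
    rw [e, h6, one_mul]
  · rw [hg]
    ext x
    rw [Lib.Helper1.mem_map_conj_iff, Lib.Helper1.mem_map_conj_iff]
    have e : (g * n)⁻¹ * x * (g * n) = n⁻¹ * (g⁻¹ * x * g) * n := by group
    rw [e]
    exact Subgroup.mem_normalizer_iff''.1 hnN (g⁻¹ * x * g)

theorem partA {X : Type*} [Group X] [Finite X] (A G : Subgroup X)
    (hAG : A ≤ Subgroup.normalizer (G : Set X)) (hcop : (Nat.card A).Coprime (Nat.card G))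
    (hsolv : Group.IsSolvable G) (π : Set ℕ) :
    ∃ H : Subgroup X, IsPiHallOf π H G ∧ A ≤ Subgroup.normalizer (H : Set X) := by
  obtain ⟨H, hH⟩ := hall_exists_sub π G hsolv
  obtain ⟨Γ, hΓdef⟩ : ∃ Γ : Subgroup X, Γ = A ⊔ G := ⟨_, rfl⟩
  obtain ⟨Λ, hΛdef⟩ : ∃ Λ : Subgroup X, Λ = Γ ⊓ Subgroup.normalizer (H : Set X) := ⟨_, rfl⟩
  obtain ⟨N₁, hN₁def⟩ : ∃ N₁ : Subgroup X, N₁ = G ⊓ Subgroup.normalizer (H : Set X) :=
    ⟨_, rfl⟩
  have hdisj : A ⊓ G = ⊥ := (Subgroup.disjoint_of_coprime_natCard hcop).eq_bot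
  have hΓcard : Nat.card Γ = Nat.card A * Nat.card G := by
    have h0 := card_sup_mul_card_inf' A G hAG
    rw [hdisj, Subgroup.card_bot, mul_one] at h0
    rw [hΓdef]; exact h0
  have hΓN : Γ ≤ Subgroup.normalizer (G : Set X) := by
    rw [hΓdef]; exact sup_le hAG Subgroup.le_normalizer
  have hGΓ : G ≤ Γ := by rw [hΓdef]; exact le_sup_right
  have hAΓ : A ≤ Γ := by rw [hΓdef]; exact le_sup_left
  have hΛΓ : Λ ≤ Γ := by rw [hΛdef]; exact inf_le_left
  have hΛNH : Λ ≤ Subgroup.normalizer (H : Set X) := by rw [hΛdef]; exact inf_le_right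
  have hN₁Λ : N₁ ≤ Λ := by
    rw [hN₁def, hΛdef]; exact inf_le_inf_right _ hGΓ
  have hN₁G : N₁ ≤ G := by rw [hN₁def]; exact inf_le_left
  have hfrat : Λ ⊔ G = Γ := by
    apply le_antisymm (sup_le hΛΓ hGΓ)
    rw [hΓdef]
    refine sup_le ?_ le_sup_right
    intro a ha
    have haG : a ∈ Subgroup.normalizer (G : Set X) := hAG ha
    have hHa := hall_map_conj π G H a haG hH
    obtain ⟨g, hgG, hg⟩ := hall_conj_sub π G H _ hsolv hH hHa
    have hmem : g⁻¹ * a ∈ Λ := by
      rw [hΛdef]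
      refine Subgroup.mem_inf.2 ⟨Γ.mul_mem (Γ.inv_mem (hGΓ hgG)) (hAΓ ha), ?_⟩
      rw [Subgroup.mem_normalizer_iff]
      intro x
      have h1 : ∀ z : X, a⁻¹ * z * a ∈ H ↔ g⁻¹ * z * g ∈ H := by
        intro z
        rw [← Lib.Helper1.mem_map_conj_iff, ← Lib.Helper1.mem_map_conj_iff, hg]
      have h2 := h1 (a * x * a⁻¹)
      have e1 : a⁻¹ * (a * x * a⁻¹) * a = x := by group
      have e2 : g⁻¹ * (a * x * a⁻¹) * g = g⁻¹ * a * x * (g⁻¹ * a)⁻¹ := by group
      rw [e1, e2] at h2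
      exact h2
    have e : a = g * (g⁻¹ * a) := by group
    rw [e]
    exact Subgroup.mul_mem _ (Subgroup.mem_sup_right hgG) (Subgroup.mem_sup_left hmem)
  have hΛNG : Λ ≤ Subgroup.normalizer (G : Set X) := hΛΓ.trans hΓN
  have hinf : Λ ⊓ G = N₁ := by
    rw [hΛdef, hN₁def]
    ext x; constructor
    · rintro ⟨⟨_, hxN⟩, hxG⟩; exact ⟨hxG, hxN⟩
    · rintro ⟨hxG, hxN⟩; exact ⟨⟨hGΓ hxG, hxN⟩, hxG⟩
  have hΛcard : Nat.card Λ = Nat.card N₁ * Nat.card A := by
    have h1 := card_sup_mul_card_inf' Λ G hΛNG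
    rw [hfrat, hinf, hΓcard] at h1
    have hpos : 0 < Nat.card G := Nat.card_pos
    have h2 : Nat.card Λ * Nat.card G = (Nat.card N₁ * Nat.card A) * Nat.card G := by
      rw [← h1]; ring
    exact Nat.eq_of_mul_eq_mul_right hpos h2
  have hΛN₁ : Λ ≤ Subgroup.normalizer (N₁ : Set X) := by
    intro y hy
    rw [hN₁def]
    exact norm_inf_norm G H y (hΛNG hy) (hΛNH hy)
  have hcop' : (Nat.card N₁).Coprime (Nat.card A) :=
    Nat.Coprime.coprime_dvd_left (Subgroup.card_dvd_of_le hN₁G) hcop.symm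
  obtain ⟨B, hBΛ, hBcard⟩ := sz_exists_sub N₁ Λ hN₁Λ hΛN₁ (Nat.card A) hΛcard hcop'
  have hBle : B ≤ A ⊔ G := by rw [← hΓdef]; exact hBΛ.trans hΛΓ
  obtain ⟨n, hn, hBn⟩ := sz_conj_sub G A B hAG hBle hBcard hcop.symm hsolv
  refine ⟨H.map (MulAut.conj n⁻¹).toMonoidHom,
    hall_map_conj π G H n⁻¹ (Subgroup.le_normalizer (G.inv_mem hn)) hH, ?_⟩
  intro a ha
  have h1 : n * a * n⁻¹ ∈ B := by rw [hBn]; exact ⟨a, ha, rfl⟩
  have h2 := norm_conj H n⁻¹ (n * a * n⁻¹) (hΛNH (hBΛ h1))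
  have e : n⁻¹ * (n * a * n⁻¹) * n⁻¹⁻¹ = a := by group
  rw [e] at h2
  exact h2

theorem partC_normal (π : Set ℕ) : ∀ (n : ℕ) (X : Type u) [Group X] [Finite X]
    (A G U : Subgroup X), G.Normal → Nat.card G = n → (Nat.card A).Coprime (Nat.card G) →
    Group.IsSolvable G → U ≤ G → A ≤ Subgroup.normalizer (U : Set X) →
    (∀ p : ℕ, p.Prime → p ∣ Nat.card U → p ∈ π) →
    ∃ H : Subgroup X, IsPiHallOf π H G ∧ A ≤ Subgroup.normalizer (H : Set X) ∧ U ≤ H := by
  intro n
  induction n using Nat.strong_induction_on with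
  | _ n ih =>
    intro X _ _ A G U hGn hGcard hcop hsolv hUG hAU hUπ
    by_cases hG1 : G = ⊥
    · refine ⟨G, ⟨le_rfl, ?_, ?_⟩, ?_, hUG⟩
      · intro p hp hpd
        rw [hG1, Subgroup.card_bot] at hpd
        exact absurd (Nat.dvd_one.1 hpd) hp.ne_one
      · intro p hp _ hpd
        rw [Subgroup.relIndex_self] at hpd
        exact absurd (Nat.dvd_one.1 hpd) hp.ne_one
      · rw [Subgroup.normalizer_eq_top]; exact le_top
    · obtain ⟨q, N, hq, hNn, hNG, -, hNq, hN1⟩ := S1473.exists_sub G hsolv hG1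
      haveI := hNn
      haveI : Fact q.Prime := ⟨hq⟩
      have hfs : Function.Surjective (QuotientGroup.mk' N) := QuotientGroup.mk'_surjective N
      have hGbarN : (G.map (QuotientGroup.mk' N)).Normal := hGn.map _ hfs
      have hNcard1 : 1 < Nat.card N := (Subgroup.one_lt_card_iff_ne_bot N).2 hN1
      have hcardG : Nat.card (G.map (QuotientGroup.mk' N)) * Nat.card N = Nat.card G := by
        have h0 := S0003.card_map_mk G N
        rwa [inf_of_le_right hNG] at h0
      have hlt : Nat.card (G.map (QuotientGroup.mk' N)) < n := by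
        rw [← hGcard, ← hcardG]
        have h0 : 0 < Nat.card (G.map (QuotientGroup.mk' N)) := Nat.card_pos
        nlinarith
      have hcop' : (Nat.card (A.map (QuotientGroup.mk' N))).Coprime
          (Nat.card (G.map (QuotientGroup.mk' N))) :=
        Nat.Coprime.coprime_dvd_left (Subgroup.card_map_dvd A _)
          (Nat.Coprime.coprime_dvd_right (Subgroup.card_map_dvd G _) hcop)
      have hsolv' : Group.IsSolvable (G.map (QuotientGroup.mk' N)) :=
        Group.isSolvable_of_surjective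
          (MonoidHom.subgroupMap_surjective (QuotientGroup.mk' N) G)
      have hAU' : A.map (QuotientGroup.mk' N) ≤ Subgroup.normalizer
          ((U.map (QuotientGroup.mk' N) : Subgroup (X ⧸ N)) : Set (X ⧸ N)) :=
        (Subgroup.map_mono hAU).trans (Subgroup.le_normalizer_map _)
      have hUπ' : ∀ p : ℕ, p.Prime → p ∣ Nat.card (U.map (QuotientGroup.mk' N)) → p ∈ π :=
        fun p hp hpd => hUπ p hp (hpd.trans (Subgroup.card_map_dvd U _))
      obtain ⟨Hb, hHb, hAHb, hUHb⟩ := ih _ hlt (X ⧸ N) (A.map (QuotientGroup.mk' N))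
        (G.map (QuotientGroup.mk' N)) (U.map (QuotientGroup.mk' N)) hGbarN rfl hcop' hsolv'
        (Subgroup.map_mono hUG) hAU' hUπ'
      obtain ⟨L, hLdef⟩ : ∃ L : Subgroup X, L = Hb.comap (QuotientGroup.mk' N) := ⟨_, rfl⟩
      have hNL : N ≤ L := by
        rw [hLdef]; intro x hx
        rw [Subgroup.mem_comap]
        have h0 : QuotientGroup.mk' N x = 1 := (QuotientGroup.eq_one_iff x).2 hx
        rw [h0]; exact Hb.one_mem
      have hLG : L ≤ G := by
        rw [hLdef]; intro x hx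
        rw [Subgroup.mem_comap] at hx
        obtain ⟨g, hg, hge⟩ := hHb.1 hx
        obtain ⟨z, hz, hze⟩ := (QuotientGroup.mk'_eq_mk' N).1 hge
        rw [← hze]
        exact G.mul_mem hg (hNG hz)
      have hUL : U ≤ L := by
        rw [hLdef]; intro x hx
        exact hUHb (Subgroup.mem_map_of_mem _ hx)
      have hAL : A ≤ Subgroup.normalizer (L : Set X) := by
        intro a ha
        have h1 : QuotientGroup.mk' N a ∈ Subgroup.normalizer (Hb : Set (X ⧸ N)) :=
          hAHb (Subgroup.mem_map_of_mem _ ha)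
        rw [Subgroup.mem_normalizer_iff] at h1 ⊢
        intro x
        rw [hLdef, Subgroup.mem_comap, Subgroup.mem_comap, map_mul, map_mul, map_inv]
        exact h1 _
      have hLcard : Nat.card L = Nat.card N * Nat.card Hb := by
        rw [hLdef]; exact S0003.card_comap_mk' N Hb
      have hrel : L.relIndex G = Hb.relIndex (G.map (QuotientGroup.mk' N)) := by
        have e1 := card_mul_relIndex' L G hLG
        have e2 := card_mul_relIndex' Hb _ hHb.1
        have hpos : 0 < Nat.card N * Nat.card Hb := Nat.mul_pos Nat.card_pos Nat.card_pos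
        have h0 : Nat.card N * Nat.card Hb * L.relIndex G =
            Nat.card N * Nat.card Hb * Hb.relIndex (G.map (QuotientGroup.mk' N)) := by
          rw [← hLcard, e1, hLcard, mul_assoc, e2, ← hcardG, mul_comm]
        exact Nat.eq_of_mul_eq_mul_left hpos h0
      obtain ⟨k, hk⟩ := IsPGroup.iff_card.1 hNq
      by_cases hqπ : q ∈ π
      · refine ⟨L, ⟨hLG, ?_, ?_⟩, hAL, hUL⟩
        · intro p hp hpd
          rw [hLcard] at hpd
          rcases (Nat.Prime.dvd_mul hp).1 hpd with h1 | h1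
          · rw [hk] at h1
            rw [(Nat.prime_dvd_prime_iff_eq hp hq).1 (hp.dvd_of_dvd_pow h1)]; exact hqπ
          · exact hHb.2.1 p hp h1
        · intro p hp hpπ hpd
          rw [hrel] at hpd
          exact hHb.2.2 p hp hpπ hpd
      · have hLsolv : Group.IsSolvable L := sub_solvable hLG hsolv
        have hLcop : (Nat.card A).Coprime (Nat.card L) :=
          Nat.Coprime.coprime_dvd_right (Subgroup.card_dvd_of_le hLG) hcop
        obtain ⟨H, hH, hAH⟩ := partA A L hAL hLcop hLsolv π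
        have hHL : H ≤ L := hH.1
        have hnotq : ∀ p : ℕ, p.Prime → p ∈ π → ¬ p ∣ Nat.card N := by
          intro p hp hpπ hpd
          rw [hk] at hpd
          have h0 := (Nat.prime_dvd_prime_iff_eq hp hq).1 (hp.dvd_of_dvd_pow hpd)
          exact hqπ (h0 ▸ hpπ)
        have hHcard : Nat.card H = Nat.card Hb := by
          have e1 := card_mul_relIndex' H L hHL
          rw [hLcard, mul_comm (Nat.card N)] at e1
          exact pi_unique π _ _ _ _ e1 hH.2.1 hH.2.2 hHb.2.1 hnotq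
        have hNH : H ⊓ N = ⊥ := by
          apply (Subgroup.disjoint_of_coprime_natCard _).eq_bot
          exact coprime_of_pi π _ _ hH.2.1 hnotq
        have hNHL : H ⊔ N = L := by
          have h1 := S0003.card_sup_mul_card_inf H N
          rw [hNH, Subgroup.card_bot, mul_one, hHcard] at h1
          apply Subgroup.eq_of_le_of_card_ge (sup_le hHL hNL)
          rw [h1, hLcard, mul_comm]
        obtain ⟨W, hWdef⟩ : ∃ W : Subgroup X, W = U ⊔ N := ⟨_, rfl⟩
        have hNW : N ≤ W := by rw [hWdef]; exact le_sup_right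
        have hUW : U ≤ W := by rw [hWdef]; exact le_sup_left
        have hWL : W ≤ L := by rw [hWdef]; exact sup_le hUL hNL
        have hAW : A ≤ Subgroup.normalizer (W : Set X) := by
          intro a ha
          apply Lib.Helper1.mem_normalizer_of_map_conj_eq
          rw [hWdef, Subgroup.map_sup, Lib.Helper1.map_conj_eq_of_mem_normalizer U a (hAU ha),
            Lib.Helper1.map_conj_eq_of_mem_normalizer N a
              (by rw [Subgroup.normalizer_eq_top]; exact Subgroup.mem_top a)]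
        have hWsolv : Group.IsSolvable W := sub_solvable (hWL.trans hLG) hsolv
        have hWcop : (Nat.card A).Coprime (Nat.card W) :=
          Nat.Coprime.coprime_dvd_right (Subgroup.card_dvd_of_le (hWL.trans hLG)) hcop
        have hallW : ∀ S : Subgroup X, S ⊔ N = W →
            (∀ p : ℕ, p.Prime → p ∣ Nat.card S → p ∈ π) → IsPiHallOf π S W := by
          intro S hS hSπ
          have hSW : S ≤ W := by rw [← hS]; exact le_sup_left
          refine ⟨hSW, hSπ, ?_⟩
          intro p hp hpπ hpd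
          have h1 := S0003.card_sup_mul_card_inf S N
          rw [hS] at h1
          have h2 := card_mul_relIndex' S W hSW
          have h3 : Nat.card S * S.relIndex W ∣ Nat.card S * Nat.card N := by
            rw [h2, ← h1]; exact dvd_mul_right _ _
          have h4 : S.relIndex W ∣ Nat.card N := Nat.dvd_of_mul_dvd_mul_left Nat.card_pos h3
          exact hnotq p hp hpπ (hpd.trans h4)
        have hUhall : IsPiHallOf π U W := hallW U hWdef.symm hUπ
        obtain ⟨V, hVdef⟩ : ∃ V : Subgroup X, V = W ⊓ H := ⟨_, rfl⟩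
        have hVH : V ≤ H := by rw [hVdef]; exact inf_le_right
        have hVN : V ⊔ N = W := by
          apply le_antisymm
          · rw [hVdef]; exact sup_le inf_le_left hNW
          · intro w hw
            have hwL : w ∈ ((H ⊔ N : Subgroup X) : Set X) := by rw [hNHL]; exact hWL hw
            rw [Subgroup.mul_normal] at hwL
            obtain ⟨h, hh, n₀, hn₀, rfl⟩ := Set.mem_mul.1 hwL
            have hhW : h ∈ W := by
              have e : h = h * n₀ * n₀⁻¹ := by group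
              rw [e]; exact W.mul_mem hw (W.inv_mem (hNW hn₀))
            have hhV : h ∈ V := by rw [hVdef]; exact ⟨hhW, hh⟩
            exact Subgroup.mul_mem _ (Subgroup.mem_sup_left hhV) (Subgroup.mem_sup_right hn₀)
        have hVπ : ∀ p : ℕ, p.Prime → p ∣ Nat.card V → p ∈ π := by
          intro p hp hpd
          exact hH.2.1 p hp (hpd.trans (Subgroup.card_dvd_of_le hVH))
        have hVhall : IsPiHallOf π V W := hallW V hVN hVπ
        have hAV : A ≤ Subgroup.normalizer (V : Set X) := by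
          intro a ha
          rw [Subgroup.mem_normalizer_iff]
          intro x
          rw [hVdef]
          have h1 := Subgroup.mem_normalizer_iff.1 (hAW ha) x
          have h2 := Subgroup.mem_normalizer_iff.1 (hAH ha) x
          constructor
          · rintro ⟨hx1, hx2⟩; exact ⟨h1.1 hx1, h2.1 hx2⟩
          · rintro ⟨hx1, hx2⟩; exact ⟨h1.2 hx1, h2.2 hx2⟩
        obtain ⟨c, hc, hUc⟩ := partB A W hAW hWcop hWsolv π V U hVhall hAV hUhall hAU
        obtain ⟨hcW, hcA⟩ := Subgroup.mem_inf.1 hc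
        have hcG : c ∈ G := hLG (hWL hcW)
        refine ⟨H.map (MulAut.conj c).toMonoidHom, ?_, ?_, ?_⟩
        · have hHG : IsPiHallOf π H G := by
            refine ⟨hHL.trans hLG, hH.2.1, ?_⟩
            intro p hp hpπ hpd
            rw [← Subgroup.relIndex_mul_relIndex H L G hHL hLG] at hpd
            rcases (Nat.Prime.dvd_mul hp).1 hpd with h1 | h1
            · exact hH.2.2 p hp hpπ h1
            · rw [hrel] at h1; exact hHb.2.2 p hp hpπ h1
          exact hall_map_conj π G H c (Subgroup.le_normalizer hcG) hHG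
        · intro a ha
          have h1 := norm_conj H c a (hAH ha)
          have h2 : c * a * c⁻¹ = a := by
            have h0 := (Subgroup.mem_centralizer_iff.1 hcA) a ha
            rw [← h0]; group
          rw [h2] at h1
          exact h1
        · rw [hUc]
          exact Subgroup.map_mono hVH

theorem partC {X : Type u} [Group X] [Finite X] (A G : Subgroup X)
    (hAG : A ≤ Subgroup.normalizer (G : Set X)) (hcop : (Nat.card A).Coprime (Nat.card G))
    (hsolv : Group.IsSolvable G) (π : Set ℕ) (U : Subgroup X) (hUG : U ≤ G)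
    (hAU : A ≤ Subgroup.normalizer (U : Set X))
    (hUπ : ∀ p : ℕ, p.Prime → p ∣ Nat.card U → p ∈ π) :
    ∃ H : Subgroup X, IsPiHallOf π H G ∧ A ≤ Subgroup.normalizer (H : Set X) ∧ U ≤ H := by
  obtain ⟨Y, hYdef⟩ : ∃ Y : Subgroup X, Y = Subgroup.normalizer (G : Set X) := ⟨_, rfl⟩
  have hGY : G ≤ Y := by rw [hYdef]; exact Subgroup.le_normalizer
  have hAY : A ≤ Y := by rw [hYdef]; exact hAG
  have hUY : U ≤ Y := hUG.trans hGY
  haveI hGn : (G.subgroupOf Y).Normal := by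
    rw [hYdef]; exact Subgroup.normal_in_normalizer
  have cG : Nat.card (G.subgroupOf Y) = Nat.card G := by
    rw [S0003.card_subgroupOf_eq', inf_of_le_left hGY]
  have cA : Nat.card (A.subgroupOf Y) = Nat.card A := by
    rw [S0003.card_subgroupOf_eq', inf_of_le_left hAY]
  have cU : Nat.card (U.subgroupOf Y) = Nat.card U := by
    rw [S0003.card_subgroupOf_eq', inf_of_le_left hUY]
  have hsolv' : Group.IsSolvable (G.subgroupOf Y) :=
    Group.isSolvable_of_isSolvable_injective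
      (f := (Subgroup.subgroupOfEquivOfLe hGY).toMonoidHom)
      (Subgroup.subgroupOfEquivOfLe hGY).injective
  have hUG' : U.subgroupOf Y ≤ G.subgroupOf Y := by
    intro x hx
    exact Subgroup.mem_subgroupOf.2 (hUG (Subgroup.mem_subgroupOf.1 hx))
  have hAU' : A.subgroupOf Y ≤
      Subgroup.normalizer ((U.subgroupOf Y : Subgroup Y) : Set Y) := by
    intro a ha
    have h1 := hAU (Subgroup.mem_subgroupOf.1 ha)
    rw [Subgroup.mem_normalizer_iff] at h1 ⊢
    intro x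
    rw [Subgroup.mem_subgroupOf, Subgroup.mem_subgroupOf]
    exact h1 x
  obtain ⟨H', hH', hAH', hUH'⟩ := partC_normal π _ Y (A.subgroupOf Y) (G.subgroupOf Y)
    (U.subgroupOf Y) hGn rfl (by rw [cA, cG]; exact hcop) hsolv' hUG' hAU'
    (by rw [cU]; exact hUπ)
  refine ⟨H'.map Y.subtype, ?_, ?_, ?_⟩
  · obtain ⟨h1, h2, h3⟩ := hH'
    have hle : H'.map Y.subtype ≤ G := by
      rintro _ ⟨y, hy, rfl⟩
      exact Subgroup.mem_subgroupOf.1 (h1 hy)
    refine ⟨hle, ?_, ?_⟩
    · intro p hp hpd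
      rw [Subgroup.card_map_of_injective (Subgroup.subtype_injective _)] at hpd
      exact h2 p hp hpd
    · intro p hp hpπ hpd
      apply h3 p hp hpπ
      have e1 := card_mul_relIndex' (H'.map Y.subtype) G hle
      have e2 := card_mul_relIndex' H' (G.subgroupOf Y) h1
      rw [Subgroup.card_map_of_injective (Subgroup.subtype_injective _)] at e1
      rw [cG, ← e1] at e2
      rw [Nat.eq_of_mul_eq_mul_left Nat.card_pos e2]
      exact hpd
  · intro a ha
    have h1 := hAH' (Subgroup.mem_subgroupOf.2 ha : (⟨a, hAY ha⟩ : Y) ∈ A.subgroupOf Y)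
    exact Subgroup.le_normalizer_map Y.subtype (Subgroup.mem_map_of_mem Y.subtype h1)
  · intro x hx
    exact ⟨⟨x, hUY hx⟩, hUH' (Subgroup.mem_subgroupOf.2 hx), rfl⟩

theorem result {X : Type*} [Group X] [Finite X] (A G : Subgroup X) (hAG : A ≤ Subgroup.normalizer (G : Set X)) (hcop : (Nat.card A).Coprime (Nat.card G)) (hsolv : Group.IsSolvable G) (π : Set ℕ) : (∃ H : Subgroup X, Cfsg.IsPiHallOf π H G ∧ A ≤ Subgroup.normalizer (H : Set X)) ∧ (∀ H₁ H₂ : Subgroup X, Cfsg.IsPiHallOf π H₁ G → A ≤ Subgroup.normalizer (H₁ : Set X) → Cfsg.IsPiHallOf π H₂ G → A ≤ Subgroup.normalizer (H₂ : Set X) → ∃ c ∈ G ⊓ Subgroup.centralizer (A : Set X), H₂ = H₁.map (MulAut.conj c).toMonoidHom) ∧ (∀ U : Subgroup X, U ≤ G → A ≤ Subgroup.normalizer (U : Set X) → (∀ p : ℕ, p.Prime → p ∣ Nat.card U → p ∈ π) → ∃ H : Subgroup X, Cfsg.IsPiHallOf π H G ∧ A ≤ Subgroup.normalizer (H : Set X) ∧ U ≤ H) := by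
  exact ⟨partA A G hAG hcop hsolv π,
    fun H₁ H₂ h1 hA1 h2 hA2 => partB A G hAG hcop hsolv π H₁ H₂ h1 hA1 h2 hA2,
    fun U hUG hAU hUπ => partC A G hAG hcop hsolv π U hUG hAU hUπ⟩

end Cfsg.Agent.S3745
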