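import Mathlib
import Cfsg.Statements.S1462
import Cfsg.Agent.S0028
import Cfsg.Agent.S0044
import Cfsg.Agent.S0634
import Cfsg.Agent.S1946
import Cfsg.Agent.S3745
import Cfsg.Agent.S0579
import Cfsg.Agent.Lib.Helper1.Frob
import Cfsg.Agent.Lib.Helper2.Fit
import Cfsg.Agent.Lib.Helper8.PLen1

set_option autoImplicit false
open Pointwise
open Cfsg
open scoped commutatorElement

namespace Cfsg.Agent.S1462

theorem ea_sup {G : Type*} [Group G] (p : ℕ) (E : Subgroup G) (x : G)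
    (hE : Cfsg.IsElementaryAbelian p E) (hx : x ^ p = 1) (hc : ∀ e ∈ E, e * x = x * e) :
    Cfsg.IsElementaryAbelian p (E ⊔ Subgroup.zpowers x) := by
  obtain ⟨hEc, hEp⟩ := hE
  have hEcomm : ∀ a ∈ E, ∀ b ∈ E, a * b = b * a := by
    intro a ha b hb
    have h1 := mul_comm' (⟨a, ha⟩ : ↥E) ⟨b, hb⟩
    exact congrArg Subtype.val h1
  obtain ⟨S, hS⟩ : ∃ S : Set G, S = (E : Set G) ∪ {x} := ⟨_, rfl⟩
  have hJ : E ⊔ Subgroup.zpowers x = Subgroup.closure S := by
    rw [hS, Subgroup.closure_union, Subgroup.closure_eq, Subgroup.zpowers_eq_closure]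
  have hSc : ∀ a ∈ S, ∀ b ∈ S, a * b = b * a := by
    intro a ha b hb
    rw [hS] at ha hb
    rcases ha with ha | ha <;> rcases hb with hb | hb
    · exact hEcomm a ha b hb
    · rw [Set.mem_singleton_iff.1 hb]; exact hc a ha
    · rw [Set.mem_singleton_iff.1 ha]; exact (hc b hb).symm
    · rw [Set.mem_singleton_iff.1 ha, Set.mem_singleton_iff.1 hb]
  have h1 : Subgroup.closure S ≤ Subgroup.centralizer S := by
    rw [Subgroup.closure_le]
    intro a ha
    rw [SetLike.mem_coe, Subgroup.mem_centralizer_iff]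
    intro b hb
    exact hSc b hb a ha
  have h2 : Subgroup.closure S ≤ Subgroup.centralizer (Subgroup.closure S : Set G) := by
    rw [Subgroup.closure_le]
    intro a ha
    rw [SetLike.mem_coe, Subgroup.mem_centralizer_iff]
    intro b hb
    exact (Subgroup.mem_centralizer_iff.1 (h1 hb) a ha).symm
  rw [hJ]
  refine ⟨⟨⟨fun a b => Subtype.ext ?_⟩⟩, ?_⟩
  · exact Subgroup.mem_centralizer_iff.1 (h2 b.2) a a.2
  · intro a ha
    refine Subgroup.closure_induction (p := fun y _ => y ^ p = 1) ?_ ?_ ?_ ?_ ha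
    · intro y hy
      rw [hS] at hy
      rcases hy with hy | hy
      · exact hEp y hy
      · rw [Set.mem_singleton_iff.1 hy]; exact hx
    · exact one_pow p
    · intro y z hy hz hyp hzp
      have hcomm : Commute y z := Subgroup.mem_centralizer_iff.1 (h2 hz) y hy
      rw [hcomm.mul_pow, hyp, hzp, one_mul]
    · intro y _ hyp
      rw [inv_pow, hyp, inv_one]

/-- For odd `p`, a `p'`-group normalising a `p`-group and centralising its elements of order
dividing `p` centralises it. -/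
theorem omega_lemma {Γ : Type*} [Group Γ] [Finite Γ] (p : ℕ) [Fact p.Prime] (hp : p ≠ 2)
    (Dg Lg : Subgroup Γ) (hD : IsPGroup p Dg) (hL : (Nat.card Lg).Coprime p)
    (hLD : Lg ≤ Subgroup.normalizer (Dg : Set Γ))
    (hcent : ∀ a ∈ Dg, a ^ p = 1 → ∀ l ∈ Lg, l * a = a * l) :
    Lg ≤ Subgroup.centralizer (Dg : Set Γ) := by
  have hpp : p.Prime := Fact.out
  obtain ⟨M, hM⟩ : ∃ M : Subgroup Γ, M = Dg ⊔ Lg := ⟨_, rfl⟩
  have hDM : Dg ≤ M := hM ▸ le_sup_left
  have hLM : Lg ≤ M := hM ▸ le_sup_right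
  have hdec : ∀ g ∈ M, ∃ d ∈ Dg, ∃ l ∈ Lg, d * l = g := by
    intro g hg
    rw [hM, ← SetLike.mem_coe, Subgroup.coe_mul_of_right_le_normalizer_left Dg Lg hLD] at hg
    obtain ⟨d, hd, l, hl, h⟩ := Set.mem_mul.1 hg
    exact ⟨d, hd, l, hl, h⟩
  obtain ⟨k, hk⟩ := IsPGroup.iff_card.1 hD
  have hinf : Lg ⊓ Dg = ⊥ :=
    (Subgroup.disjoint_of_coprime_natCard (by rw [hk]; exact Nat.Coprime.pow_right k hL)).eq_bot
  have hrel : Dg.relIndex M = Nat.card Lg := by
    have h1 := S3745.card_sup_mul_card_inf' Lg Dg hLD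
    rw [hinf, Subgroup.card_bot, mul_one, sup_comm, ← hM] at h1
    have h2 := S3745.card_mul_relIndex' Dg M hDM
    rw [h1, mul_comm] at h2
    exact Nat.eq_of_mul_eq_mul_right Nat.card_pos h2
  have hidx : ¬ p ∣ (Dg.subgroupOf M).index := by
    have h1 : (Dg.subgroupOf M).index = Nat.card Lg := hrel
    rw [h1]
    exact (Nat.Prime.coprime_iff_not_dvd hpp).1 hL.symm
  have hDp' : IsPGroup p ↥(Dg.subgroupOf M) := hD.comap_subtype
  obtain ⟨P, hP⟩ : ∃ P : Sylow p ↥M, ∀ g : ↥M, g ∈ (P : Subgroup ↥M) ↔ (g : Γ) ∈ Dg :=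
    ⟨hDp'.toSylow hidx, fun g => (IsPGroup.mem_toSylow hDp' hidx).trans Subgroup.mem_subgroupOf⟩
  have hnpc : HasNormalPComplement p ↥M := by
    rw [S1946.result P]
    intro a ha hap g hg
    have hap' : (a : Γ) ^ p = 1 := by
      rcases hap with h | ⟨h, -⟩
      · have := congrArg Subtype.val h
        simpa using this
      · exact absurd h hp
    obtain ⟨d, hd, l, hl, hdl⟩ := hdec (g : Γ) g.2
    have hla := hcent (a : Γ) ((hP a).1 ha) hap' l hl
    refine ⟨⟨d, hDM hd⟩, (hP _).2 hd, ?_⟩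
    apply Subtype.ext
    show (g : Γ) * (a : Γ) * (g : Γ)⁻¹ = d * (a : Γ) * d⁻¹
    rw [← hdl]
    have e : d * l * (a : Γ) * (d * l)⁻¹ = d * (l * (a : Γ)) * l⁻¹ * d⁻¹ := by group
    rw [e, hla]; group
  obtain ⟨N, hNn, hNc, j, hNj⟩ := Lib.Helper1.Frob.hasNPC_iff.1 hnpc
  have hLN : ∀ l (hl : l ∈ Lg), (⟨l, hLM hl⟩ : ↥M) ∈ N := by
    intro l hl
    have h1 : (QuotientGroup.mk' N ⟨l, hLM hl⟩) ^ (p ^ j) = 1 := by
      have h2 : Nat.card (↥M ⧸ N) = p ^ j := by rw [← Subgroup.index_eq_card]; exact hNj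
      rw [← h2]; exact pow_card_eq_one'
    have h3 : (QuotientGroup.mk' N ⟨l, hLM hl⟩) ^ (Nat.card Lg) = 1 := by
      rw [← map_pow]
      have h4 : (⟨l, hLM hl⟩ : ↥M) ^ (Nat.card Lg) = 1 := by
        apply Subtype.ext
        have h5 := pow_card_eq_one' (G := ↥Lg) (x := ⟨l, hl⟩)
        have h6 := congrArg Subtype.val h5
        exact h6
      rw [h4, map_one]
    have h7 := S0579.eq_one_of_pow_coprime h3 h1 (Nat.Coprime.pow_right j hL)
    exact (QuotientGroup.eq_one_iff _).1 h7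
  intro l hl
  rw [Subgroup.mem_centralizer_iff]
  intro d hd
  have hnd : l * d * l⁻¹ ∈ Dg := (Subgroup.mem_set_normalizer_iff.1 (hLD hl) d).1 hd
  have hcD : l * d * l⁻¹ * d⁻¹ ∈ Dg := Dg.mul_mem hnd (Dg.inv_mem hd)
  have hcN : (⟨l * d * l⁻¹ * d⁻¹, hDM hcD⟩ : ↥M) ∈ N := by
    have e : (⟨l * d * l⁻¹ * d⁻¹, hDM hcD⟩ : ↥M) =
        ⟨l, hLM hl⟩ * (⟨d, hDM hd⟩ * (⟨l, hLM hl⟩ : ↥M)⁻¹ * (⟨d, hDM hd⟩ : ↥M)⁻¹) := by
      apply Subtype.ext
      show l * d * l⁻¹ * d⁻¹ = l * (d * l⁻¹ * d⁻¹)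
      group
    rw [e]
    exact N.mul_mem (hLN l hl) (hNn.conj_mem _ (N.inv_mem (hLN l hl)) _)
  have h1 : (l * d * l⁻¹ * d⁻¹) ^ Nat.card ↥N = 1 := by
    have h2 := pow_card_eq_one' (G := ↥N) (x := ⟨_, hcN⟩)
    have h3 := congrArg (fun t : ↥N => ((t : ↥M) : Γ)) h2
    exact h3
  obtain ⟨i, hi⟩ := hD ⟨_, hcD⟩
  have hi' : (l * d * l⁻¹ * d⁻¹) ^ p ^ i = 1 := congrArg Subtype.val hi
  have h4 := S0579.eq_one_of_pow_coprime h1 hi' (Nat.Coprime.pow_right i hNc)
  have e : d * l = (l * d * l⁻¹ * d⁻¹)⁻¹ * (l * d) := by group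
  rw [e, h4]; group

theorem core {G : Type*} [Group G] [Finite G] (p : ℕ) [Fact p.Prime] (hp : p ≠ 2)
    (D : Subgroup G) [D.Normal] (hDcop : (Nat.card D).Coprime p)
    (hcent : Subgroup.centralizer (Cfsg.pCore p (G ⧸ D) : Set (G ⧸ D)) ≤ Cfsg.pCore p (G ⧸ D))
    (E L : Subgroup G) (hE : Cfsg.IsElementaryAbelian p E)
    (hEP : E.map (QuotientGroup.mk' D) ≤ Cfsg.pCore p (G ⧸ D))
    (hEmax : ∀ B : Subgroup G, Cfsg.IsElementaryAbelian p B → E ≤ B → B = E)
    (hL : (Nat.card L).Coprime p) (hEL : E ≤ Subgroup.normalizer (L : Set G)) : L ≤ D := by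
  have hpp : p.Prime := Fact.out
  obtain ⟨π, hπ⟩ : ∃ π : G →* G ⧸ D, π = QuotientGroup.mk' D := ⟨_, rfl⟩
  have hπsurj : Function.Surjective π := hπ ▸ QuotientGroup.mk'_surjective D
  have hπker : ∀ g : G, π g = 1 ↔ g ∈ D := by
    intro g; rw [hπ]; exact QuotientGroup.eq_one_iff g
  obtain ⟨Pb, hPb⟩ : ∃ Pb : Subgroup (G ⧸ D), Pb = Cfsg.pCore p (G ⧸ D) := ⟨_, rfl⟩
  haveI hPbn : Pb.Normal := hPb ▸ Lib.Helper2.Fit.pCore_normal p
  have hPbp : IsPGroup p Pb := hPb ▸ Lib.Helper2.Fit.pCore_isPGroup p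
  obtain ⟨Eb, hEb⟩ : ∃ Eb : Subgroup (G ⧸ D), Eb = E.map π := ⟨_, rfl⟩
  obtain ⟨Lb, hLb⟩ : ∃ Lb : Subgroup (G ⧸ D), Lb = L.map π := ⟨_, rfl⟩
  have hEbP : Eb ≤ Pb := by rw [hEb, hPb, hπ]; exact hEP
  have hLbcop : (Nat.card Lb).Coprime p := by
    rw [hLb]; exact Nat.Coprime.coprime_dvd_left (Subgroup.card_map_dvd L π) hL
  obtain ⟨hEc, hEexp⟩ := hE
  have hEp : IsPGroup p E := by
    intro e
    refine ⟨1, ?_⟩
    rw [pow_one]
    exact Subtype.ext (hEexp e e.2)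
  have hDp : ∀ d ∈ D, ∀ k : ℕ, d ^ (p ^ k) = 1 → d = 1 := by
    intro d hd k hk
    have h1 : d ^ Nat.card D = 1 := by
      have h2 := pow_card_eq_one' (G := ↥D) (x := ⟨d, hd⟩)
      have h3 := congrArg Subtype.val h2
      exact h3
    exact S0579.eq_one_of_pow_coprime h1 hk (Nat.Coprime.pow_right k hDcop)
  obtain ⟨kP, hkP⟩ := IsPGroup.iff_card.1 hPbp
  have hLbPb : Lb ⊓ Pb = ⊥ :=
    (Subgroup.disjoint_of_coprime_natCard
      (by rw [hkP]; exact Nat.Coprime.pow_right kP hLbcop)).eq_bot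
  have hcommLE : ∀ l ∈ Lb, ∀ e ∈ Eb, l * e = e * l := by
    intro l hl e he
    have h1 : ⁅l, e⁆ ∈ Lb ⊓ Pb := by
      refine Subgroup.mem_inf.2 ⟨?_, ?_⟩
      · rw [hLb] at hl ⊢
        rw [hEb] at he
        obtain ⟨l₀, hl₀, rfl⟩ := Subgroup.mem_map.1 hl
        obtain ⟨e₀, he₀, rfl⟩ := Subgroup.mem_map.1 he
        rw [← map_commutatorElement]
        apply Subgroup.mem_map_of_mem
        have h2 : e₀ * l₀⁻¹ * e₀⁻¹ ∈ L :=
          (Subgroup.mem_set_normalizer_iff.1 (hEL he₀) l₀⁻¹).1 (L.inv_mem hl₀)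
        have e1 : ⁅l₀, e₀⁆ = l₀ * (e₀ * l₀⁻¹ * e₀⁻¹) := by
          simp only [commutatorElement_def]; group
        rw [e1]; exact L.mul_mem hl₀ h2
      · have e1 : ⁅l, e⁆ = (l * e * l⁻¹) * e⁻¹ := by simp only [commutatorElement_def]
        rw [e1]; exact Pb.mul_mem (hPbn.conj_mem e (hEbP he) l) (Pb.inv_mem (hEbP he))
    rw [hLbPb, Subgroup.mem_bot, commutatorElement_eq_one_iff_commute] at h1
    exact h1.eq
  obtain ⟨T, hET⟩ := hEp.exists_le_sylow
  have hTD : ∀ t ∈ (T : Subgroup G), π t = 1 → t = 1 := by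
    intro t ht h1
    obtain ⟨k, hk⟩ := T.2 ⟨t, ht⟩
    exact hDp t ((hπker t).1 h1) k (congrArg Subtype.val hk)
  have hPbT : Pb ≤ (T : Subgroup G).map π := by
    have h1 := hPbp.le_sylow_of_normal (Sylow.mapSurjective hπsurj T)
    exact h1
  have hmax : ∀ xb ∈ Pb, xb ^ p = 1 → (∀ e ∈ Eb, e * xb = xb * e) → xb ∈ Eb := by
    intro xb hxbP hxbp hxbc
    obtain ⟨x, hxT, rfl⟩ := Subgroup.mem_map.1 (hPbT hxbP)
    have hxp : x ^ p = 1 :=
      hTD _ (Subgroup.pow_mem _ hxT p) (by rw [map_pow]; exact hxbp)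
    have hxc : ∀ e ∈ E, e * x = x * e := by
      intro e he
      have h1 : ⁅e, x⁆ = 1 := by
        apply hTD
        · rw [commutatorElement_def]
          exact Subgroup.mul_mem _ (Subgroup.mul_mem _ (Subgroup.mul_mem _ (hET he) hxT)
            (Subgroup.inv_mem _ (hET he))) (Subgroup.inv_mem _ hxT)
        · rw [map_commutatorElement, commutatorElement_eq_one_iff_commute]
          exact hxbc (π e) (hEb ▸ Subgroup.mem_map_of_mem π he)
      exact (commutatorElement_eq_one_iff_commute.1 h1).eq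
    have hB := hEmax (E ⊔ Subgroup.zpowers x) (ea_sup p E x ⟨hEc, hEexp⟩ hxp hxc) le_sup_left
    have hxE : x ∈ E := by
      rw [← hB]
      exact (le_sup_right : Subgroup.zpowers x ≤ E ⊔ Subgroup.zpowers x) (Subgroup.mem_zpowers x)
    rw [hEb]; exact Subgroup.mem_map_of_mem π hxE
  -- the centraliser of `Eb` in `Pb`
  have hnorm : ∀ l : G ⧸ D, (∀ e ∈ Eb, l * e = e * l) →
      ∀ h ∈ Pb ⊓ Subgroup.centralizer (Eb : Set (G ⧸ D)),
        l * h * l⁻¹ ∈ Pb ⊓ Subgroup.centralizer (Eb : Set (G ⧸ D)) := by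
    intro l hl h hh
    obtain ⟨hh1, hh2⟩ := Subgroup.mem_inf.1 hh
    refine Subgroup.mem_inf.2 ⟨hPbn.conj_mem h hh1 l, ?_⟩
    rw [Subgroup.mem_centralizer_iff]
    intro e he
    have h1 := Subgroup.mem_centralizer_iff.1 hh2 e he
    have h2 := hl e he
    have h3 : l⁻¹ * e = e * l⁻¹ := by
      have e1 : l⁻¹ * e = l⁻¹ * (e * l) * l⁻¹ := by group
      rw [e1, ← h2]; group
    calc e * (l * h * l⁻¹) = (e * l) * h * l⁻¹ := by group
      _ = l * (e * h) * l⁻¹ := by rw [← h2]; group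
      _ = l * h * (e * l⁻¹) := by rw [h1]; group
      _ = l * h * l⁻¹ * e := by rw [← h3]; group
  have hLD : Lb ≤ Subgroup.normalizer
      ((Pb ⊓ Subgroup.centralizer (Eb : Set (G ⧸ D)) : Subgroup (G ⧸ D)) : Set (G ⧸ D)) := by
    intro l hl
    rw [Subgroup.mem_set_normalizer_iff]
    intro h
    constructor
    · intro hh
      exact hnorm l (hcommLE l hl) h hh
    · intro hh
      have h1 : ∀ e ∈ Eb, l⁻¹ * e = e * l⁻¹ := by
        intro e he
        have h2 := hcommLE l hl e he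
        have e1 : l⁻¹ * e = l⁻¹ * (e * l) * l⁻¹ := by group
        rw [e1, ← h2]; group
      have h3 := hnorm l⁻¹ h1 _ hh
      have e2 : l⁻¹ * (l * h * l⁻¹) * l⁻¹⁻¹ = h := by group
      rw [e2] at h3
      exact h3
  have hLcD := omega_lemma p hp (Pb ⊓ Subgroup.centralizer (Eb : Set (G ⧸ D))) Lb
    (hPbp.to_le inf_le_left) hLbcop hLD
    (by
      intro a ha hap l hl
      obtain ⟨ha1, ha2⟩ := Subgroup.mem_inf.1 ha
      have haE : a ∈ Eb := hmax a ha1 hap (fun e he => Subgroup.mem_centralizer_iff.1 ha2 e he)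
      exact hcommLE l hl a haE)
  have hEbp : IsPGroup p Eb := by rw [hEb]; exact hEp.map π
  have hLcP := S0028.result p Eb Lb Pb hEbp hLbcop hPbp
    (by
      intro e he
      rw [Subgroup.mem_centralizer_iff]
      intro l hl
      exact hcommLE l hl e he)
    (by
      intro e _
      rw [Subgroup.mem_set_normalizer_iff]
      intro h
      constructor
      · intro hh; exact hPbn.conj_mem h hh e
      · intro hh
        have h1 := hPbn.conj_mem _ hh e⁻¹
        have e2 : e⁻¹ * (e * h * e⁻¹) * e⁻¹⁻¹ = h := by group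
        rw [e2] at h1
        exact h1)
    (by
      intro e _
      rw [Subgroup.mem_set_normalizer_iff]
      intro h
      constructor
      · intro hh; exact hPbn.conj_mem h hh e
      · intro hh
        have h1 := hPbn.conj_mem _ hh e⁻¹
        have e2 : e⁻¹ * (e * h * e⁻¹) * e⁻¹⁻¹ = h := by group
        rw [e2] at h1
        exact h1)
    (by
      intro a ha
      rw [Subgroup.mem_centralizer_iff]
      intro l hl
      exact (Subgroup.mem_centralizer_iff.1 (hLcD hl) a ha).symm)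
  have hLP : Lb ≤ Pb := by
    rw [hPb]
    refine le_trans ?_ hcent
    rw [← hPb]
    exact hLcP
  have hLbot : Lb = ⊥ := by
    rw [eq_bot_iff, ← hLbPb]
    exact le_inf le_rfl hLP
  intro l hl
  have h1 : π l ∈ Lb := by rw [hLb]; exact Subgroup.mem_map_of_mem π hl
  rw [hLbot, Subgroup.mem_bot] at h1
  exact (hπker l).1 h1

theorem result {G : Type*} [Group G] [Finite G] [Group.IsSolvable G] (p : ℕ) [Fact p.Prime] (hp : p ≠ 2) (hpl : Cfsg.PLengthLE p 1 G) (E L : Subgroup G) (hE : Cfsg.IsElementaryAbelian p E)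
    (hEmax : ∀ B : Subgroup G, Cfsg.IsElementaryAbelian p B → E ≤ B → B = E) (hL : (Nat.card L).Coprime p) (hEL : E ≤ Subgroup.normalizer (L : Set G)) :
    L ≤ Cfsg.pPrimeCore p G := by
  have hpp : p.Prime := Fact.out
  haveI hDn : ((Cfsg.upperPSeries p G 1).1).Normal := (Cfsg.upperPSeries p G 1).2
  have hEp : IsPGroup p E := by
    intro e
    refine ⟨1, ?_⟩
    rw [pow_one]
    exact Subtype.ext (hE.2 e e.2)
  obtain ⟨S, hES⟩ := hEp.exists_le_sylow
  have hsetup := Lib.Helper8.PLen1.setup_of_plength hpl S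
  have hDcop : (Nat.card ↥(Cfsg.upperPSeries p G 1).1).Coprime p := by
    obtain ⟨n, hn, hnx⟩ := hsetup.cop
    rw [Nat.coprime_comm, Nat.Prime.coprime_iff_not_dvd hpp]
    intro hdvd
    obtain ⟨x, hx⟩ := exists_prime_orderOf_dvd_card' (G := ↥(Cfsg.upperPSeries p G 1).1) p hdvd
    have h1 := hnx (x : G) x.2
    rw [Subgroup.orderOf_coe, hx] at h1
    exact (Nat.Prime.coprime_iff_not_dvd hpp).1 hn.symm h1
  have hO : Cfsg.pPrimeCore p (G ⧸ (Cfsg.upperPSeries p G 1).1) = ⊥ :=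
    S0634.pPrimeCore_quot_odd p 0
  have hcent : Subgroup.centralizer (Cfsg.pCore p (G ⧸ (Cfsg.upperPSeries p G 1).1) :
      Set (G ⧸ (Cfsg.upperPSeries p G 1).1)) ≤ Cfsg.pCore p (G ⧸ (Cfsg.upperPSeries p G 1).1) := by
    have h1 := S0044.result (G := G ⧸ (Cfsg.upperPSeries p G 1).1)
    have h2 : Cfsg.fittingSubgroup (G ⧸ (Cfsg.upperPSeries p G 1).1) =
        Cfsg.pCore p (G ⧸ (Cfsg.upperPSeries p G 1).1) := by
      rw [Lib.Helper2.Fit.fitting_eq_iSup_pCore]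
      apply le_antisymm
      · apply iSup_le
        intro q
        by_cases hq : (q : ℕ) = p
        · rw [hq]
        · have h3 : Cfsg.pCore (q : ℕ) (G ⧸ (Cfsg.upperPSeries p G 1).1) ≤
              Cfsg.pPrimeCore p (G ⧸ (Cfsg.upperPSeries p G 1).1) := by
            apply le_sSup
            refine ⟨Lib.Helper2.Fit.pCore_normal _, ?_⟩
            haveI : Fact (q : ℕ).Prime := ⟨q.2⟩
            obtain ⟨k, hk⟩ := IsPGroup.iff_card.1
              (Lib.Helper2.Fit.pCore_isPGroup (G := G ⧸ (Cfsg.upperPSeries p G 1).1) (q : ℕ))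
            rw [hk]
            exact Nat.Coprime.pow_left k ((Nat.coprime_primes q.2 hpp).2 hq)
          rw [hO] at h3
          exact h3.trans bot_le
      · exact le_iSup (fun q : Nat.Primes => Cfsg.pCore (q : ℕ)
          (G ⧸ (Cfsg.upperPSeries p G 1).1)) ⟨p, hpp⟩
    rw [h2] at h1
    exact h1
  have hEP : E.map (QuotientGroup.mk' (Cfsg.upperPSeries p G 1).1) ≤
      Cfsg.pCore p (G ⧸ (Cfsg.upperPSeries p G 1).1) := by
    rw [Subgroup.map_le_iff_le_comap]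
    have h1 : (Cfsg.upperPSeries p G 2).1 = (Cfsg.pCore p
        (G ⧸ (Cfsg.upperPSeries p G 1).1)).comap (QuotientGroup.mk' _) := S0634.hW p 0
    rw [← h1]
    exact hES.trans hsetup.SU
  have hLD := core p hp (Cfsg.upperPSeries p G 1).1 hDcop hcent E L hE hEP hEmax hL hEL
  exact hLD.trans (le_sSup ⟨hDn, hDcop⟩)

end Cfsg.Agent.S1462
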