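import Mathlib
import Cfsg.Statements.S1302
import Cfsg.Agent.S1462
import Cfsg.Agent.S0579
import Cfsg.Agent.Lib.Helper2.PCons

set_option autoImplicit false
open Pointwise
open Cfsg
open scoped commutatorElement

namespace Cfsg.Agent.S1302

theorem swap_id {P : Type*} [Group P] (h1 : ∀ x y z : P, ⁅x, y⁆ * z = z * ⁅x, y⁆)
    (x y u v : P) : y * (x * u) * (v * x * y) = x * (y * u) * (v * y * x) := by
  have hc : y * x = ⁅y, x⁆ * (x * y) := by simp [commutatorElement_def, mul_assoc]
  calc y * (x * u) * (v * x * y) = (y * x) * (u * v) * (x * y) := by group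
    _ = ⁅y, x⁆ * (x * y) * (u * v) * (x * y) := by rw [hc]
    _ = (x * y) * (u * v) * ⁅y, x⁆ * (x * y) := by
        rw [mul_assoc ⁅y, x⁆, h1 y x ((x * y) * (u * v))]
    _ = (x * y) * (u * v) * (y * x) := by rw [hc, mul_assoc ((x * y) * (u * v))]
    _ = x * (y * u) * (v * y * x) := by group

theorem sym_perm {P : Type*} [Group P] (h1 : ∀ x y z : P, ⁅x, y⁆ * z = z * ⁅x, y⁆)
    {M M' : List P} (h : M.Perm M') :
    M.prod * M.reverse.prod = M'.prod * M'.reverse.prod := by
  induction h with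
  | nil => rfl
  | cons a _ ih =>
    simp only [List.prod_cons, List.reverse_cons, List.prod_append, List.prod_nil, mul_one]
    have hh : ∀ (u v u' v' : P), u * v = u' * v' → a * u * (v * a) = a * u' * (v' * a) := by
      intro u v u' v' h
      calc a * u * (v * a) = a * (u * v) * a := by group
        _ = a * (u' * v') * a := by rw [h]
        _ = _ := by group
    exact hh _ _ _ _ ih
  | swap a b M =>
    simp only [List.prod_cons, List.reverse_cons, List.prod_append, List.prod_nil, mul_one]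
    exact swap_id h1 a b _ _
  | trans _ _ ih1 ih2 => exact ih1.trans ih2

theorem L3 {P : Type*} [Group P] [Finite P] (p : ℕ) [Fact p.Prime] (hp : p ≠ 2)
    (hP : IsPGroup p P) [Nontrivial P]
    {Γ : Type*} [Group Γ] (φ : Γ →* MulAut P) (Q A : Subgroup Γ) [Finite Q]
    (hAQ : A ≤ Subgroup.normalizer (Q : Set Γ)) (hA : IsPGroup p A) (hQ : ¬ p ∣ Nat.card Q)
    (h1 : ∀ x y z : P, ⁅x, y⁆ * z = z * ⁅x, y⁆)
    (h3 : ∀ g ∈ Q, ∀ c ∈ commutator P, φ g c = c)
    (h4 : Subgroup.closure {y : P | ∃ x : P, ∃ g ∈ Q, y = x * (φ g x)⁻¹} = ⊤) :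
    ∃ y : P, y ≠ 1 ∧ (∀ a ∈ A, φ a y = y) ∧ ¬ (∀ g ∈ Q, φ g y = y) := by
  classical
  have hpp : p.Prime := Fact.out
  haveI : Fintype ↥Q := Fintype.ofFinite _
  obtain ⟨Nh, hNh⟩ : ∃ Nh : P →* Abelianization P,
      ∀ x, Nh x = ∏ g : ↥Q, Abelianization.of (φ (g : Γ) x) := by
    refine ⟨∏ g : ↥Q, (Abelianization.of.comp (φ (g : Γ)).toMonoidHom), fun x => ?_⟩
    rw [MonoidHom.finsetProd_apply]
    rfl
  have hN1 : ∀ x, ∀ g0 ∈ Q, Nh (φ g0 x) = Nh x := by
    intro x g0 hg0
    rw [hNh, hNh]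
    have := Equiv.prod_comp (Equiv.mulRight (⟨g0, hg0⟩ : ↥Q))
      (fun g : ↥Q => Abelianization.of (φ (g : Γ) x))
    rw [← this]
    apply Finset.prod_congr rfl
    intro g _
    simp [map_mul]
  have hN : ∀ x, Nh x = 1 := by
    have hle : Subgroup.closure {y : P | ∃ x : P, ∃ g ∈ Q, y = x * (φ g x)⁻¹} ≤ Nh.ker := by
      rw [Subgroup.closure_le]
      rintro _ ⟨x, g, hg, rfl⟩
      show _ ∈ Nh.ker
      rw [MonoidHom.mem_ker, map_mul, map_inv, hN1 x g hg, mul_inv_cancel]
    intro x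
    have : x ∈ Nh.ker := hle (h4 ▸ Subgroup.mem_top x)
    exact MonoidHom.mem_ker.1 this
  obtain ⟨L, hL⟩ : ∃ L : List ↥Q, L = (Finset.univ : Finset ↥Q).toList := ⟨_, rfl⟩
  have hLnd : L.Nodup := hL ▸ Finset.nodup_toList _
  have hLmem : ∀ g : ↥Q, g ∈ L := fun g => by
    rw [hL, Finset.mem_toList]; exact Finset.mem_univ g
  obtain ⟨ell, hell⟩ : ∃ ell : P → P, ∀ x, ell x =
      (L.map (fun g : ↥Q => x * (φ (g : Γ) x)⁻¹)).prod *
        ((L.map (fun g : ↥Q => x * (φ (g : Γ) x)⁻¹)).reverse).prod := ⟨_, fun _ => rfl⟩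
  have h7 : ∀ M : List P, Abelianization.of (M.reverse.prod) = Abelianization.of (M.prod) := by
    intro M
    rw [map_list_prod, map_list_prod, List.map_reverse, List.prod_reverse]
  have hof : ∀ x, Abelianization.of (ell x) = ((Abelianization.of x) ^ (Nat.card Q)) ^ 2 := by
    intro x
    have h5 : (Abelianization.of) ((L.map (fun g : ↥Q => x * (φ (g : Γ) x)⁻¹)).prod) =
        (Abelianization.of x) ^ (Nat.card Q) := by
      rw [map_list_prod, List.map_map, hL, Finset.prod_map_toList]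
      have h6 : ∀ g : ↥Q, (Abelianization.of ∘ fun g : ↥Q => x * (φ (g : Γ) x)⁻¹) g =
          Abelianization.of x * (Abelianization.of (φ (g : Γ) x))⁻¹ := by
        intro g; simp
      rw [Finset.prod_congr rfl (fun g _ => h6 g), Finset.prod_mul_distrib,
        Finset.prod_inv_distrib, ← hNh, hN, inv_one, mul_one, Finset.prod_const,
        Finset.card_univ, Nat.card_eq_fintype_card]
    rw [hell, map_mul, h7, h5, sq]
  have heq : ∀ a ∈ A, ∀ x, φ a (ell x) = ell (φ a x) := by
    intro a ha x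
    rw [hell, hell]
    have h8 : ∀ M : List P, φ a (M.prod * M.reverse.prod) =
        (M.map (φ a)).prod * ((M.map (φ a)).reverse).prod := by
      intro M
      rw [map_mul, map_list_prod, map_list_prod, List.map_reverse]
    rw [h8, List.map_map]
    obtain ⟨cj, hcj⟩ : ∃ cj : ↥Q → ↥Q, ∀ g : ↥Q, ((cj g : ↥Q) : Γ) = a * g * a⁻¹ :=
      ⟨fun g => ⟨a * g * a⁻¹, ((Subgroup.mem_set_normalizer_iff.1 (hAQ ha)) g).1 g.2⟩,
        fun g => rfl⟩
    have hcjinj : Function.Injective cj := by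
      intro g g' h
      have := congrArg (Subtype.val) h
      rw [hcj, hcj] at this
      exact Subtype.ext (mul_left_cancel (mul_right_cancel this))
    have hperm : (L.map cj).Perm L := by
      rw [List.perm_ext_iff_of_nodup (hLnd.map hcjinj) hLnd]
      intro g
      constructor
      · intro _; exact hLmem g
      · intro _
        rw [List.mem_map]
        obtain ⟨g', hg'⟩ := (Finite.injective_iff_surjective.1 hcjinj) g
        exact ⟨g', hLmem g', hg'⟩
    have h9 : L.map (φ a ∘ fun g : ↥Q => x * (φ (g : Γ) x)⁻¹) =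
        (L.map cj).map (fun g : ↥Q => φ a x * (φ (g : Γ) (φ a x))⁻¹) := by
      rw [List.map_map]
      apply List.map_congr_left
      intro g _
      simp only [Function.comp]
      rw [map_mul, map_inv, hcj]
      have : φ a (φ (g : Γ) x) = φ (a * g * a⁻¹) (φ a x) := by
        rw [← MulAut.mul_apply, ← MulAut.mul_apply, ← map_mul, ← map_mul]
        simp
      rw [this]
    rw [h9]
    exact sym_perm h1 (hperm.map _)
  -- the action on the abelianization
  obtain ⟨ψ, hψ⟩ : ∃ ψ : Γ →* MulAut (Abelianization P),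
      ∀ g x, ψ g (Abelianization.of x) = Abelianization.of (φ g x) := by
    refine ⟨{ toFun := fun g => (φ g).abelianizationCongr, map_one' := ?_, map_mul' := ?_ },
      fun g x => ?_⟩
    · apply MulEquiv.ext
      intro v
      obtain ⟨x, rfl⟩ := QuotientGroup.mk_surjective v
      show (φ 1).abelianizationCongr (Abelianization.of x) = _
      simp
      rfl
    · intro g g'
      apply MulEquiv.ext
      intro v
      obtain ⟨x, rfl⟩ := QuotientGroup.mk_surjective v
      show (φ (g * g')).abelianizationCongr (Abelianization.of x) =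
        (φ g).abelianizationCongr ((φ g').abelianizationCongr (Abelianization.of x))
      simp
    · show (φ g).abelianizationCongr (Abelianization.of x) = _
      simp
  letI : MulAction ↥A (Abelianization P) := MulAction.compHom _ (ψ.comp A.subtype)
  have hsmul : ∀ (a : ↥A) (v : Abelianization P), a • v = ψ (a : Γ) v := fun a v => rfl
  haveI : Finite (Abelianization P) := inferInstanceAs (Finite (P ⧸ commutator P))
  have hVp : IsPGroup p (Abelianization P) := hP.to_quotient (commutator P)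
  haveI := hP.isNilpotent
  have hlt := IsSolvable.commutator_lt_top_of_nontrivial P
  have hdvd : p ∣ Nat.card (Abelianization P) := by
    obtain ⟨n, hn⟩ := hP.index (commutator P)
    have hidx : Nat.card (Abelianization P) = (commutator P).index := rfl
    rw [hidx, hn]
    have : n ≠ 0 := by
      rintro rfl
      rw [pow_zero, Subgroup.index_eq_one] at hn
      exact hlt.ne hn
    exact dvd_pow_self p this
  obtain ⟨b, hb, hb1⟩ := hA.exists_fixed_point_of_prime_dvd_card_of_fixed_point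
    (Abelianization P) hdvd (a := 1) (by intro a; rw [hsmul, map_one])
  obtain ⟨x, rfl⟩ : ∃ x, Abelianization.of x = b := QuotientGroup.mk_surjective b
  have hfix : ∀ a ∈ A, Abelianization.of (φ a x) = Abelianization.of x := by
    intro a ha
    have := hb ⟨a, ha⟩
    rw [hsmul, hψ] at this
    exact this
  have hne : ∀ k : ℕ, k.Coprime p → (Abelianization.of x) ^ k ≠ 1 := by
    intro k hk h
    obtain ⟨n, hn⟩ := hVp (Abelianization.of x)
    exact hb1 (Cfsg.Agent.S0579.eq_one_of_pow_coprime h hn (Nat.Coprime.pow_right n hk)).symm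
  have hQc : (Nat.card Q).Coprime p :=
    (Nat.coprime_comm.1 ((Nat.Prime.coprime_iff_not_dvd hpp).2 hQ))
  have h2c : (2 : ℕ).Coprime p := (Nat.coprime_primes Nat.prime_two hpp).2 (Ne.symm hp)
  refine ⟨ell x, ?_, ?_, ?_⟩
  · intro h
    have h5 := hof x
    rw [h, map_one, ← pow_mul] at h5
    exact hne _ (Nat.Coprime.mul_left hQc h2c) h5.symm
  · intro a ha
    rw [heq a ha, hell, hell]
    have hz : x⁻¹ * φ a x ∈ commutator P := by
      rw [← QuotientGroup.eq_one_iff]
      show Abelianization.of (x⁻¹ * φ a x) = 1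
      rw [map_mul, map_inv, hfix a ha, inv_mul_cancel]
    have hl : (L.map (fun g : ↥Q => φ a x * (φ (g : Γ) (φ a x))⁻¹)) =
        (L.map (fun g : ↥Q => x * (φ (g : Γ) x)⁻¹)) := by
      apply List.map_congr_left
      intro g _
      have h10 : φ a x = x * (x⁻¹ * φ a x) := by group
      have h11 := h3 g g.2 _ hz
      rw [h10, map_mul, h11]
      group
    rw [hl]
  · intro hfixQ
    have h5 : Nh (ell x) = (Abelianization.of (ell x)) ^ (Nat.card Q) := by
      rw [hNh]
      rw [Finset.prod_congr rfl (fun g _ => by rw [hfixQ g g.2]), Finset.prod_const,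
        Finset.card_univ, Nat.card_eq_fintype_card]
    rw [hN, hof, ← pow_mul, ← pow_mul] at h5
    exact hne _ (Nat.Coprime.mul_left hQc (Nat.Coprime.mul_left h2c hQc)) h5.symm

theorem pow_comm_formula {G : Type*} [Group G] (x y : G) (hx : Commute ⁅y, x⁆ x)
    (hy : Commute ⁅y, x⁆ y) (n : ℕ) : y ^ n * x = x * y ^ n * ⁅y, x⁆ ^ n := by
  have e1 : y * x = x * y * ⁅y, x⁆ := by
    have : y * x = ⁅y, x⁆ * (x * y) := by simp [commutatorElement_def, mul_assoc]
    rw [this]
    exact (hx.mul_right hy).eq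
  induction n with
  | zero => simp
  | succ n ih =>
    calc y ^ (n + 1) * x = y * (y ^ n * x) := by rw [pow_succ', mul_assoc]
      _ = y * (x * y ^ n * ⁅y, x⁆ ^ n) := by rw [ih]
      _ = (y * x) * y ^ n * ⁅y, x⁆ ^ n := by simp only [mul_assoc]
      _ = x * y * (⁅y, x⁆ * y ^ n) * ⁅y, x⁆ ^ n := by rw [e1]; simp only [mul_assoc]
      _ = x * y * (y ^ n * ⁅y, x⁆) * ⁅y, x⁆ ^ n := by rw [(hy.pow_right n).eq]
      _ = x * y ^ (n + 1) * ⁅y, x⁆ ^ (n + 1) := by
          rw [pow_succ' y, pow_succ' ⁅y, x⁆]; simp only [mul_assoc]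

theorem pow_formula {G : Type*} [Group G] (x y : G) (hx : Commute ⁅y, x⁆ x)
    (hy : Commute ⁅y, x⁆ y) (n : ℕ) :
    (x * y) ^ n = x ^ n * y ^ n * ⁅y, x⁆ ^ (n * (n - 1) / 2) := by
  induction n with
  | zero => simp
  | succ n ih =>
    have hT := Nat.triangle_succ n
    have hcx : ∀ k : ℕ, Commute (⁅y, x⁆ ^ k) (x * y) := fun k => (hx.mul_right hy).pow_left k
    have hcy : ∀ k : ℕ, Commute (⁅y, x⁆ ^ k) y := fun k => hy.pow_left k
    calc (x * y) ^ (n + 1) = (x * y) ^ n * (x * y) := pow_succ _ _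
      _ = x ^ n * y ^ n * (⁅y, x⁆ ^ (n * (n - 1) / 2) * (x * y)) := by
          rw [ih]; simp only [mul_assoc]
      _ = x ^ n * y ^ n * ((x * y) * ⁅y, x⁆ ^ (n * (n - 1) / 2)) := by rw [(hcx _).eq]
      _ = x ^ n * (y ^ n * x) * y * ⁅y, x⁆ ^ (n * (n - 1) / 2) := by simp only [mul_assoc]
      _ = x ^ n * (x * y ^ n * ⁅y, x⁆ ^ n) * y * ⁅y, x⁆ ^ (n * (n - 1) / 2) := by
          rw [pow_comm_formula x y hx hy n]
      _ = x ^ n * x * y ^ n * (⁅y, x⁆ ^ n * y) * ⁅y, x⁆ ^ (n * (n - 1) / 2) := by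
          simp only [mul_assoc]
      _ = x ^ n * x * y ^ n * (y * ⁅y, x⁆ ^ n) * ⁅y, x⁆ ^ (n * (n - 1) / 2) := by
          rw [(hcy n).eq]
      _ = x ^ (n + 1) * y ^ (n + 1) * ⁅y, x⁆ ^ ((n + 1) * (n + 1 - 1) / 2) := by
          rw [hT, pow_succ x, pow_succ y, add_comm (n * (n - 1) / 2) n, pow_add]
          simp only [mul_assoc]

theorem norm_comm {G : Type*} [Group G] (H K : Subgroup G) (g : G)
    (hH : g ∈ Subgroup.normalizer (H : Set G)) (hK : g ∈ Subgroup.normalizer (K : Set G)) :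
    g ∈ Subgroup.normalizer ((⁅H, K⁆ : Subgroup G) : Set G) := by
  have key : ∀ g : G, g ∈ Subgroup.normalizer (H : Set G) →
      g ∈ Subgroup.normalizer (K : Set G) → ∀ h ∈ ⁅H, K⁆, g * h * g⁻¹ ∈ ⁅H, K⁆ := by
    intro g hH hK
    have hle : ⁅H, K⁆ ≤ (⁅H, K⁆).comap (MulAut.conj g).toMonoidHom := by
      rw [Subgroup.commutator_le]
      intro a ha b hb
      rw [Subgroup.mem_comap]
      show MulAut.conj g ⁅a, b⁆ ∈ _
      rw [map_commutatorElement]
      exact Subgroup.commutator_mem_commutator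
        (by rw [MulAut.conj_apply]; exact (Subgroup.mem_set_normalizer_iff.1 hH a).1 ha)
        (by rw [MulAut.conj_apply]; exact (Subgroup.mem_set_normalizer_iff.1 hK b).1 hb)
    intro h hh
    have := hle hh
    rw [Subgroup.mem_comap] at this
    simpa [MulAut.conj_apply] using this
  rw [Subgroup.mem_set_normalizer_iff]
  intro h
  constructor
  · exact key g hH hK h
  · intro hh
    have := key g⁻¹ (inv_mem hH) (inv_mem hK) _ hh
    simpa [mul_assoc] using this

theorem L1 {G : Type*} [Group G] [Finite G] (p : ℕ) [Fact p.Prime] (hp : p ≠ 2)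
    (R : Subgroup G) [R.Normal] (hR : IsPGroup p R)
    (A : Subgroup G) (hAp : IsPGroup p A)
    (hΩ : ∀ x ∈ Subgroup.centralizer (A : Set G), orderOf x = p → x ∈ A)
    (Q : Subgroup G) (hQ : ¬ p ∣ Nat.card Q) (hAQ : A ≤ Subgroup.normalizer (Q : Set G)) :
    Q ≤ Subgroup.centralizer (R : Set G) := by
  classical
  have hpp : p.Prime := Fact.out
  have hQc : (Nat.card Q).Coprime p :=
    Nat.coprime_comm.1 ((Nat.Prime.coprime_iff_not_dvd hpp).2 hQ)
  by_contra hcon
  have hex : ∃ n : ℕ, ∃ P : Subgroup G, Nat.card P = n ∧ P ≤ R ∧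
      Q ≤ Subgroup.normalizer (P : Set G) ∧ A ≤ Subgroup.normalizer (P : Set G) ∧
      ¬ Q ≤ Subgroup.centralizer (P : Set G) :=
    ⟨_, R, rfl, le_rfl, (by rw [Subgroup.normalizer_eq_top_iff.2 inferInstance]; exact le_top),
      (by rw [Subgroup.normalizer_eq_top_iff.2 inferInstance]; exact le_top), hcon⟩
  obtain ⟨P, hPcard, hPR, hQP, hAP, hPQ⟩ := Nat.find_spec hex
  have hmin : ∀ P' : Subgroup G, P' ≤ P → Q ≤ Subgroup.normalizer (P' : Set G) →
      A ≤ Subgroup.normalizer (P' : Set G) → P' ≠ P →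
      Q ≤ Subgroup.centralizer (P' : Set G) := by
    intro P' h1 h2 h3 h4
    by_contra h5
    have h6 : Nat.card P ≤ Nat.card P' := by
      rw [hPcard]
      exact Nat.find_min' hex ⟨P', rfl, h1.trans hPR, h2, h3, h5⟩
    exact h4 (Subgroup.eq_of_le_of_card_ge h1 h6)
  have hPp : IsPGroup p P := hR.to_le hPR
  have hcomm_le : ⁅P, Q⁆ ≤ P := by
    rw [Subgroup.commutator_le]
    intro x hx g hg
    have h1 : g * x⁻¹ * g⁻¹ ∈ P := (Subgroup.mem_set_normalizer_iff.1 (hQP hg) _).1 (inv_mem hx)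
    have h2 : ⁅x, g⁆ = x * (g * x⁻¹ * g⁻¹) := by simp [commutatorElement_def, mul_assoc]
    rw [h2]
    exact mul_mem hx h1
  have hPcomm : ⁅P, Q⁆ = P := by
    by_contra hne
    have h1 := hmin ⁅P, Q⁆ hcomm_le
      (fun g hg => norm_comm P Q g (hQP hg) (Subgroup.le_normalizer hg))
      (fun a ha => norm_comm P Q a (hAP ha) (hAQ ha)) hne
    apply hPQ
    intro g hg
    rw [Subgroup.mem_centralizer_iff]
    intro x hx
    obtain ⟨c, hc⟩ : ∃ c, c = x⁻¹ * (g * x * g⁻¹) := ⟨_, rfl⟩
    have hcmem : c ∈ ⁅P, Q⁆ := by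
      have : c = ⁅x⁻¹, g⁆ := by rw [hc]; simp [commutatorElement_def, mul_assoc]
      rw [this]
      exact Subgroup.commutator_mem_commutator (inv_mem hx) hg
    have hcg : g * c = c * g := ((Subgroup.mem_centralizer_iff.1 (h1 hg)) c hcmem).symm
    have hconj : ∀ k : ℕ, g ^ k * x * (g ^ k)⁻¹ = x * c ^ k := by
      intro k
      induction k with
      | zero => simp
      | succ k ih =>
        have h3 : g * x * g⁻¹ = x * c := by rw [hc]; group
        have h4 : g * c ^ k * g⁻¹ = c ^ k := by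
          have : Commute g (c ^ k) := (show Commute g c from hcg).pow_right k
          rw [this.eq]; group
        calc g ^ (k + 1) * x * (g ^ (k + 1))⁻¹ = g * (g ^ k * x * (g ^ k)⁻¹) * g⁻¹ := by
              rw [pow_succ']; group
          _ = g * (x * c ^ k) * g⁻¹ := by rw [ih]
          _ = (g * x * g⁻¹) * (g * c ^ k * g⁻¹) := by group
          _ = (x * c) * c ^ k := by rw [h3, h4]
          _ = x * c ^ (k + 1) := by rw [pow_succ', mul_assoc]
    have h5 := hconj (orderOf g)
    rw [pow_orderOf_eq_one, one_mul, inv_one, mul_one] at h5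
    have h6 : c ^ orderOf g = 1 := by
      have := congrArg (fun t => x⁻¹ * t) h5
      simpa using this.symm
    obtain ⟨n, hn⟩ := hPp ⟨c, hcomm_le hcmem⟩
    have hn' : c ^ (p ^ n) = 1 := congrArg Subtype.val hn
    have h7 : (orderOf g).Coprime (p ^ n) :=
      Nat.Coprime.pow_right n (Nat.Coprime.coprime_dvd_left (Subgroup.orderOf_dvd_natCard Q hg) hQc)
    have h8 : c = 1 := Cfsg.Agent.S0579.eq_one_of_pow_coprime h6 hn' h7
    rw [hc] at h8
    have h9 : g * x * g⁻¹ = x := by
      have := congrArg (fun t => x * t) h8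
      simpa using this
    calc x * g = (g * x * g⁻¹) * g := by rw [h9]
      _ = g * x := by group
  have hPne : P ≠ ⊥ := by
    rintro rfl
    apply hPQ
    intro g hg
    rw [Subgroup.mem_centralizer_iff]
    intro x hx
    rw [Subgroup.mem_bot.1 hx]; simp
  obtain ⟨D, hD⟩ : ∃ D : Subgroup G, D = ⁅P, P⁆ := ⟨_, rfl⟩
  have hDP : D ≤ P := by
    rw [hD, Subgroup.commutator_le]
    intro a ha b hb
    rw [commutatorElement_def]
    exact mul_mem (mul_mem (mul_mem ha hb) (inv_mem ha)) (inv_mem hb)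
  haveI : Nontrivial ↥P := (Subgroup.nontrivial_iff_ne_bot P).2 hPne
  have hDne : D ≠ P := by
    intro h
    haveI := hPp.isNilpotent
    have hlt := IsSolvable.commutator_lt_top_of_nontrivial ↥P
    have h1 : (commutator ↥P).map P.subtype = (⊤ : Subgroup ↥P).map P.subtype := by
      rw [Subgroup.map_subtype_commutator, ← hD, h, ← MonoidHom.range_eq_map,
        Subgroup.range_subtype]
    exact hlt.ne (Subgroup.map_injective P.subtype_injective h1)
  have hDQ : Q ≤ Subgroup.centralizer (D : Set G) :=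
    hmin D hDP (fun g hg => hD ▸ norm_comm P P g (hQP hg) (hQP hg))
      (fun a ha => hD ▸ norm_comm P P a (hAP ha) (hAP ha)) hDne
  have hDcent : P ≤ Subgroup.centralizer (D : Set G) := by
    have h1 : ⁅⁅P, D⁆, Q⁆ = ⊥ := by
      rw [Subgroup.commutator_eq_bot_iff_le_centralizer]
      have : ⁅P, D⁆ ≤ D := by
        rw [hD]; exact Subgroup.commutator_mono le_rfl (hD ▸ hDP)
      intro c hc
      rw [Subgroup.mem_centralizer_iff]
      intro g hg
      exact ((Subgroup.mem_centralizer_iff.1 (hDQ hg)) c (this hc)).symm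
    have h2 : ⁅⁅D, Q⁆, P⁆ = ⊥ := by
      have : ⁅D, Q⁆ = ⊥ := by
        rw [Subgroup.commutator_eq_bot_iff_le_centralizer]
        intro c hc
        rw [Subgroup.mem_centralizer_iff]
        intro g hg
        exact ((Subgroup.mem_centralizer_iff.1 (hDQ hg)) c hc).symm
      rw [this, Subgroup.commutator_bot_left]
    have h3 := Subgroup.commutator_commutator_eq_bot_of_rotate h1 h2
    rw [Subgroup.commutator_comm Q P, hPcomm, Subgroup.commutator_eq_bot_iff_le_centralizer] at h3
    exact h3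
  have hexp : ∀ x ∈ P, x ^ p = 1 := by
    have hodd : 2 ∣ p - 1 := by
      rcases hpp.eq_two_or_odd' with h | h
      · exact absurd h hp
      · obtain ⟨k, hk⟩ := h
        exact ⟨k, by omega⟩
    obtain ⟨Om, hOm⟩ : ∃ Om : Subgroup G, ∀ x, x ∈ Om ↔ x ∈ P ∧ x ^ p = 1 := by
      refine ⟨
        { carrier := {x | x ∈ P ∧ x ^ p = 1}
          mul_mem' := ?_
          one_mem' := ⟨one_mem _, one_pow _⟩
          inv_mem' := ?_ }, fun x => Iff.rfl⟩
      · rintro x y ⟨hx, hx1⟩ ⟨hy, hy1⟩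
        refine ⟨mul_mem hx hy, ?_⟩
        have hcD : ⁅y, x⁆ ∈ D := by rw [hD]; exact Subgroup.commutator_mem_commutator hy hx
        have hcx : Commute ⁅y, x⁆ x := (Subgroup.mem_centralizer_iff.1 (hDcent hx)) _ hcD
        have hcy : Commute ⁅y, x⁆ y := (Subgroup.mem_centralizer_iff.1 (hDcent hy)) _ hcD
        have h1 := pow_comm_formula x y hcx hcy p
        rw [hy1, one_mul, mul_one] at h1
        have h2 : ⁅y, x⁆ ^ p = 1 := by
          have := congrArg (fun t => x⁻¹ * t) h1
          simpa using this.symm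
        rw [pow_formula x y hcx hcy p, hx1, hy1, one_mul, one_mul, Nat.mul_div_assoc p hodd,
          pow_mul, h2, one_pow]
      · rintro x ⟨hx, hx1⟩
        exact ⟨inv_mem hx, by rw [inv_pow, hx1, inv_one]⟩
    have hOmP : Om ≤ P := fun x hx => ((hOm x).1 hx).1
    have hOmN : ∀ g, g ∈ Subgroup.normalizer (P : Set G) →
        g ∈ Subgroup.normalizer (Om : Set G) := by
      intro g hg
      rw [Subgroup.mem_set_normalizer_iff]
      intro h
      rw [SetLike.mem_coe, SetLike.mem_coe, hOm, hOm, conj_pow]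
      constructor
      · rintro ⟨h1, h2⟩
        exact ⟨(Subgroup.mem_set_normalizer_iff.1 hg h).1 h1, by rw [h2]; simp⟩
      · rintro ⟨h1, h2⟩
        refine ⟨(Subgroup.mem_set_normalizer_iff.1 hg h).2 h1, ?_⟩
        have := congrArg (fun t => g⁻¹ * t * g) h2
        simpa [mul_assoc] using this
    by_contra hcon2
    have hOmne : Om ≠ P := by
      intro h
      apply hcon2
      intro x hx
      exact ((hOm x).1 (h ▸ hx)).2
    have h1 := hmin Om hOmP (fun g hg => hOmN g (hQP hg)) (fun a ha => hOmN a (hAP ha)) hOmne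
    apply hPQ
    apply Cfsg.Agent.S1462.omega_lemma p hp P Q hPp hQc hQP
    intro a ha ha1 l hl
    exact ((Subgroup.mem_centralizer_iff.1 (h1 hl)) a ((hOm a).2 ⟨ha, ha1⟩)).symm
  have hcardQ : Nat.card ↥(Q.subgroupOf (Subgroup.normalizer (P : Set G))) = Nat.card Q :=
    Nat.card_congr (Subgroup.subgroupOfEquivOfLe hQP).toEquiv
  obtain ⟨y, hy1, hyA, hyQ⟩ := L3 p hp hPp P.normalizerMonoidHom
    (Q.subgroupOf (Subgroup.normalizer (P : Set G)))
    (A.subgroupOf (Subgroup.normalizer (P : Set G)))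
    (by
      intro a ha
      rw [Subgroup.mem_subgroupOf] at ha
      rw [Subgroup.mem_set_normalizer_iff]
      intro h
      rw [SetLike.mem_coe, SetLike.mem_coe, Subgroup.mem_subgroupOf, Subgroup.mem_subgroupOf]
      exact Subgroup.mem_set_normalizer_iff.1 (hAQ ha) h)
    hAp.comap_subtype (by rw [hcardQ]; exact hQ)
    (by
      intro x y z
      apply Subtype.ext
      have hc : ((⁅x, y⁆ : ↥P) : G) ∈ D := by
        rw [hD]
        exact Subgroup.commutator_mem_commutator x.2 y.2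
      exact (Subgroup.mem_centralizer_iff.1 (hDcent z.2)) _ hc)
    (by
      intro g hg c hc
      rw [Subgroup.mem_subgroupOf] at hg
      apply Subtype.ext
      have hcD : (c : G) ∈ D := by
        rw [hD, ← Subgroup.map_subtype_commutator]
        exact Subgroup.mem_map_of_mem _ hc
      show (g : G) * c * (g : G)⁻¹ = c
      have := (Subgroup.mem_centralizer_iff.1 (hDQ hg)) _ hcD
      rw [← this]; group)
    (by
      rw [eq_top_iff]
      intro y _
      have hy : (y : G) ∈ ⁅P, Q⁆ := by rw [hPcomm]; exact y.2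
      have key : ∀ z (_ : z ∈ ⁅P, Q⁆), ∀ hzP : z ∈ P, (⟨z, hzP⟩ : ↥P) ∈
          Subgroup.closure {y : ↥P | ∃ x : ↥P,
            ∃ g ∈ Q.subgroupOf (Subgroup.normalizer (P : Set G)),
              y = x * (P.normalizerMonoidHom g x)⁻¹} := by
        intro z hz
        rw [Subgroup.commutator_def] at hz
        refine Subgroup.closure_induction (p := fun z _ => ∀ hzP : z ∈ P, (⟨z, hzP⟩ : ↥P) ∈
          Subgroup.closure {y : ↥P | ∃ x : ↥P,
            ∃ g ∈ Q.subgroupOf (Subgroup.normalizer (P : Set G)),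
              y = x * (P.normalizerMonoidHom g x)⁻¹}) ?_ ?_ ?_ ?_ hz
        · rintro _ ⟨x, hx, g, hg, rfl⟩ hzP
          apply Subgroup.subset_closure
          refine ⟨⟨x, hx⟩, ⟨g, hQP hg⟩, Subgroup.mem_subgroupOf.2 hg, ?_⟩
          apply Subtype.ext
          show ⁅x, g⁆ = x * (g * x * g⁻¹)⁻¹
          simp [commutatorElement_def, mul_assoc]
        · intro hzP
          exact one_mem _
        · intro a b ha hb iha ihb hzP
          have haP : a ∈ P := hcomm_le (by rw [Subgroup.commutator_def]; exact ha)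
          have hbP : b ∈ P := hcomm_le (by rw [Subgroup.commutator_def]; exact hb)
          exact mul_mem (iha haP) (ihb hbP)
        · intro a ha iha hzP
          have haP : a ∈ P := hcomm_le (by rw [Subgroup.commutator_def]; exact ha)
          exact inv_mem (iha haP)
      exact key y hy y.2)
  have hyG : (y : G) ∈ Subgroup.centralizer (A : Set G) := by
    rw [Subgroup.mem_centralizer_iff]
    intro a ha
    have := congrArg Subtype.val (hyA ⟨a, hAP ha⟩ (Subgroup.mem_subgroupOf.2 ha))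
    have h2 : a * (y : G) * a⁻¹ = y := this
    calc a * (y : G) = (a * (y : G) * a⁻¹) * a := by group
      _ = y * a := by rw [h2]
  have hyp : (y : G) ^ p = 1 := hexp y y.2
  have hyne : (y : G) ≠ 1 := fun h => hy1 (Subtype.ext h)
  have hyA' : (y : G) ∈ A := hΩ _ hyG (orderOf_eq_prime hyp hyne)
  have hQR : Q ⊓ R = ⊥ := by
    obtain ⟨n, hn⟩ := IsPGroup.iff_card.1 hR
    exact (Subgroup.disjoint_of_coprime_natCard
      (by rw [hn]; exact Nat.Coprime.pow_right n hQc)).eq_bot
  apply hyQ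
  intro g hg
  rw [Subgroup.mem_subgroupOf] at hg
  apply Subtype.ext
  show (g : G) * y * (g : G)⁻¹ = y
  have h1 : (g : G) * y * (g : G)⁻¹ * (y : G)⁻¹ ∈ Q ⊓ R := by
    refine Subgroup.mem_inf.2 ⟨?_, ?_⟩
    · have := (Subgroup.mem_set_normalizer_iff.1 (hAQ hyA') _).1 (inv_mem hg)
      have h2 : (g : G) * y * (g : G)⁻¹ * (y : G)⁻¹ =
          g * ((y : G) * (g : G)⁻¹ * (y : G)⁻¹) := by group
      rw [h2]
      exact mul_mem hg this
    · exact mul_mem (Subgroup.Normal.conj_mem inferInstance _ (hPR y.2) _) (inv_mem (hPR y.2))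
  rw [hQR, Subgroup.mem_bot] at h1
  calc (g : G) * y * (g : G)⁻¹ = ((g : G) * y * (g : G)⁻¹ * (y : G)⁻¹) * y := by group
    _ = y := by rw [h1, one_mul]

/-- Let X be a finite p-constrained group, p an odd prime, and A an abelian p-subgroup of X containing every element of order p of C_X(A). Then every subgroup of X of order prime to p that is normalized by A lies in O_{p'}(X). -/
theorem result {X : Type*} [Group X] [Finite X] (p : ℕ) [Fact p.Prime] (hp : p ≠ 2) (hX : Cfsg.IsPConstrained p X) (A : Subgroup X) (hA : IsMulCommutative ↥A) (hAp : IsPGroup p ↥A) (hΩ : ∀ x ∈ Subgroup.centralizer (A : Set X), orderOf x = p → x ∈ A) (Q : Subgroup X) (hQ : ¬ p ∣ Nat.card ↥Q) (hAQ : A ≤ Subgroup.normalizer (Q : Set X)) : Q ≤ Cfsg.pPrimeCore p X := by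
  have hpp : p.Prime := Fact.out
  have hQc : (Nat.card Q).Coprime p :=
    Nat.coprime_comm.1 ((Nat.Prime.coprime_iff_not_dvd hpp).2 hQ)
  haveI hNn : (Cfsg.pPrimeCore p X).Normal := Cfsg.Agent.Lib.Helper2.PComp.pPrimeCore_normal p
  have hNc : (Nat.card (Cfsg.pPrimeCore p X)).Coprime p :=
    Cfsg.Agent.Lib.Helper2.Local.pPrimeCore_coprime p
  haveI hRn : (Cfsg.pCore p (X ⧸ Cfsg.pPrimeCore p X)).Normal :=
    Cfsg.Agent.Lib.Helper2.Fit.pCore_normal p
  have hRp : IsPGroup p (Cfsg.pCore p (X ⧸ Cfsg.pPrimeCore p X)) :=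
    Cfsg.Agent.Lib.Helper2.Fit.pCore_isPGroup p
  have hlayer : Cfsg.layer (X ⧸ Cfsg.pPrimeCore p X) = ⊥ := by
    rw [← Cfsg.Agent.Lib.Helper2.PComp.map_pLayer p,
      (Cfsg.Agent.Lib.Helper2.PCons.pConstrained_iff p).1 hX, Subgroup.map_bot]
  have hF := Cfsg.Agent.Lib.Helper2.PCons.genFitting_eq_pCore_of hlayer
    (Cfsg.Agent.Lib.Helper2.PComp.pPrimeCore_quotient_eq_bot (G := X) p)
  have hCR : Subgroup.centralizer ((Cfsg.pCore p (X ⧸ Cfsg.pPrimeCore p X) : Subgroup _) :
      Set (X ⧸ Cfsg.pPrimeCore p X)) ≤ Cfsg.pCore p (X ⧸ Cfsg.pPrimeCore p X) := by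
    have := Cfsg.Agent.Lib.Helper2.Comp.centralizer_genFitting_le (G := X ⧸ Cfsg.pPrimeCore p X)
    rw [hF] at this
    exact this
  obtain ⟨π, hπ⟩ : ∃ π : X →* X ⧸ Cfsg.pPrimeCore p X,
      π = QuotientGroup.mk' (Cfsg.pPrimeCore p X) := ⟨_, rfl⟩
  have hΩ' : ∀ x ∈ Subgroup.centralizer ((A.map π : Subgroup _) :
      Set (X ⧸ Cfsg.pPrimeCore p X)), orderOf x = p → x ∈ A.map π := by
    intro xb hxb hord
    obtain ⟨k, rfl⟩ : ∃ k, π k = xb := by
      rw [hπ]; exact QuotientGroup.mk'_surjective _ xb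
    obtain ⟨y, hy, hyk⟩ := Cfsg.Agent.Lib.Helper2.Lift.exists_lift_centralizer
      (Cfsg.pPrimeCore p X) hNc A hAp k (by rw [← hπ]; exact hxb)
    rw [← hπ] at hyk
    obtain ⟨t, -, ht⟩ := Nat.exists_mul_mod_eq_one_of_coprime hNc hpp.one_lt
    obtain ⟨w, hw⟩ : ∃ w, w = y ^ (Nat.card (Cfsg.pPrimeCore p X) * t) := ⟨_, rfl⟩
    have hwπ : π w = π k := by
      rw [hw, map_pow, hyk]
      have : (π k) ^ (Nat.card (Cfsg.pPrimeCore p X) * t) = (π k) ^ 1 := by
        rw [pow_eq_pow_iff_modEq, hord]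
        show _ % p = 1 % p
        rw [ht, Nat.mod_eq_of_lt hpp.one_lt]
      rw [this, pow_one]
    have hyp : y ^ p ∈ Cfsg.pPrimeCore p X := by
      rw [← QuotientGroup.eq_one_iff]
      show (QuotientGroup.mk' (Cfsg.pPrimeCore p X)) (y ^ p) = 1
      have hkp : (π k) ^ p = 1 := by
        have := pow_orderOf_eq_one (π k)
        rw [hord] at this
        exact this
      rw [← hπ, map_pow, hyk, hkp]
    have hwp : w ^ p = 1 := by
      rw [hw, ← pow_mul, mul_comm _ p, ← mul_assoc, pow_mul, pow_mul]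
      have := pow_card_eq_one' (G := ↥(Cfsg.pPrimeCore p X)) (x := ⟨y ^ p, hyp⟩)
      have h2 : (y ^ p) ^ Nat.card (Cfsg.pPrimeCore p X) = 1 := congrArg Subtype.val this
      rw [h2, one_pow]
    have hw1 : w ≠ 1 := by
      intro h
      rw [h, map_one] at hwπ
      rw [← hwπ, orderOf_one] at hord
      exact hpp.one_lt.ne hord
    have hwC : w ∈ Subgroup.centralizer (A : Set X) := by rw [hw]; exact pow_mem hy _
    have hwA := hΩ w hwC (orderOf_eq_prime hwp hw1)
    rw [← hwπ]
    exact Subgroup.mem_map_of_mem π hwA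
  have hAQ' : A.map π ≤ Subgroup.normalizer ((Q.map π : Subgroup _) :
      Set (X ⧸ Cfsg.pPrimeCore p X)) :=
    (Subgroup.map_mono hAQ).trans (Subgroup.le_normalizer_map π)
  have hQ' : ¬ p ∣ Nat.card (Q.map π) := fun h => hQ (h.trans (Subgroup.card_map_dvd Q π))
  have h1 := L1 p hp (Cfsg.pCore p (X ⧸ Cfsg.pPrimeCore p X)) hRp (A.map π) (hAp.map π) hΩ'
    (Q.map π) hQ' hAQ'
  have h2 := h1.trans hCR
  intro q hq
  have h3 : π q ∈ Cfsg.pCore p (X ⧸ Cfsg.pPrimeCore p X) := h2 (Subgroup.mem_map_of_mem π hq)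
  obtain ⟨n, hn⟩ := hRp ⟨π q, h3⟩
  have hn' : (π q) ^ (p ^ n) = 1 := congrArg Subtype.val hn
  have h4 : (π q) ^ (Nat.card Q) = 1 := by
    rw [← map_pow]
    have := pow_card_eq_one' (G := ↥Q) (x := ⟨q, hq⟩)
    have h5 : q ^ Nat.card Q = 1 := congrArg Subtype.val this
    rw [h5, map_one]
  have h6 : π q = 1 := Cfsg.Agent.S0579.eq_one_of_pow_coprime h4 hn' (Nat.Coprime.pow_right n hQc)
  rw [hπ] at h6
  exact (QuotientGroup.eq_one_iff q).1 h6

end Cfsg.Agent.S1302
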