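import Cfsg.Statements.S1339
import Mathlib
import Cfsg.Agent.Lib.Helper2.PCons

set_option autoImplicit false
open Cfsg

set_option maxHeartbeats 1000000
namespace Cfsg.Agent.S1339

open Matrix
open Cfsg.Agent.Lib.Helper2

theorem fstar_of_constrained {G : Type*} [Group G] [Finite G] {p : ℕ} [Fact p.Prime]
    (h : Subgroup.centralizer (Cfsg.pCore p G : Set G) ≤ Cfsg.pCore p G) :
    Cfsg.generalizedFittingSubgroup G = Cfsg.pCore p G := by
  have hQn : (Cfsg.pCore p G).Normal := Fit.pCore_normal p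
  have hQp : IsPGroup p (Cfsg.pCore p G) := Fit.pCore_isPGroup p
  apply PCons.genFitting_eq_pCore_of
  · unfold Cfsg.layer
    rw [sSup_eq_bot]
    intro K hK
    exfalso
    apply Sub.not_le_solvable hK.2 (Local.solvable_of_pgroup hQp)
    have h1 := Comp.component_comm_normal_solvable hK hQn (Local.solvable_of_pgroup hQp)
    rw [Subgroup.commutator_eq_bot_iff_le_centralizer] at h1
    exact h1.trans h
  · have hRn : (Cfsg.pPrimeCore p G).Normal := PComp.pPrimeCore_normal p
    have hd : Disjoint (Cfsg.pPrimeCore p G) (Cfsg.pCore p G) := by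
      rw [Subgroup.disjoint_def]
      intro x hx1 hx2
      exact Local.eq_one_of_mem_pgroup_coprime hQp (Local.pPrimeCore_coprime p) hx2 hx1
    have hc := Local.comm_of_normal_disjoint
      (by rw [Subgroup.normalizer_eq_top_iff.2 hQn]; exact le_top)
      (by rw [Subgroup.normalizer_eq_top_iff.2 hRn]; exact le_top) hd
    rw [Subgroup.commutator_eq_bot_iff_le_centralizer] at hc
    rw [eq_bot_iff]
    intro x hx
    exact Subgroup.mem_bot.2 (Local.eq_one_of_mem_pgroup_coprime hQp
      (Local.pPrimeCore_coprime p) (h (hc hx)) hx)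

theorem mem_pCore {C : Type*} [Group C] [Finite C] (u : C) (hu : u * u = 1)
    (hc : ∀ g : C, u * (g * u * g⁻¹) = (g * u * g⁻¹) * u) :
    u ∈ Cfsg.pCore 2 C := by
  set S : Set C := Group.conjugatesOfSet ({u} : Set C) with hS
  have hSmem : ∀ y ∈ S, ∃ g : C, g * u * g⁻¹ = y := by
    intro y hy
    rw [hS, Group.mem_conjugatesOfSet_iff] at hy
    obtain ⟨a, ha, hay⟩ := hy
    rw [Set.mem_singleton_iff] at ha
    subst ha
    exact isConj_iff.mp hay
  have hpair : ∀ x ∈ S, ∀ y ∈ S, x * y = y * x := by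
    intro x hx y hy
    obtain ⟨g, rfl⟩ := hSmem x hx
    obtain ⟨h, rfl⟩ := hSmem y hy
    have := hc (g⁻¹ * h)
    have e1 : g * u * g⁻¹ * (h * u * h⁻¹)
        = g * (u * ((g⁻¹ * h) * u * (g⁻¹ * h)⁻¹)) * g⁻¹ := by group
    have e2 : h * u * h⁻¹ * (g * u * g⁻¹)
        = g * (((g⁻¹ * h) * u * (g⁻¹ * h)⁻¹) * u) * g⁻¹ := by group
    rw [e1, e2, this]
  have hsq : ∀ x ∈ S, x * x = 1 := by
    intro x hx
    obtain ⟨g, rfl⟩ := hSmem x hx
    have : g * u * g⁻¹ * (g * u * g⁻¹) = g * (u * u) * g⁻¹ := by group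
    rw [this, hu]; group
  have h1 : Subgroup.closure S ≤ Subgroup.centralizer S := by
    rw [Subgroup.closure_le]
    intro x hx
    exact Subgroup.mem_centralizer_iff.mpr (fun y hy => hpair y hy x hx)
  have h2 : ∀ x ∈ Subgroup.closure S, ∀ y ∈ Subgroup.closure S, x * y = y * x := by
    intro x hx y hy
    have : Subgroup.closure S ≤ Subgroup.centralizer (Subgroup.closure S : Set C) := by
      rw [Subgroup.closure_le]
      intro a ha
      exact Subgroup.mem_centralizer_iff.mpr
        (fun b hb => (Subgroup.mem_centralizer_iff.mp (h1 hb) a ha).symm)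
    exact (Subgroup.mem_centralizer_iff.mp (this hy) x hx)
  have h3 : ∀ x ∈ Subgroup.closure S, x * x = 1 := by
    intro x hx
    induction hx using Subgroup.closure_induction with
    | mem x hx => exact hsq x hx
    | one => simp
    | mul a b ha hb iha ihb =>
      have := h2 a ha b hb
      calc a * b * (a * b) = a * (b * a) * b := by group
        _ = a * (a * b) * b := by rw [this]
        _ = (a * a) * (b * b) := by group
        _ = 1 := by rw [iha, ihb, one_mul]
    | inv a ha iha =>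
      have : a⁻¹ * a⁻¹ = (a * a)⁻¹ := by group
      rw [this, iha, inv_one]
  have hN : IsPGroup 2 (Subgroup.normalClosure ({u} : Set C)) := by
    intro g
    refine ⟨1, ?_⟩
    have := h3 g.1 g.2
    apply Subtype.ext
    simp [pow_two, this]
  exact Fit.le_pCore _ Subgroup.normalClosure_normal hN
    (Subgroup.subset_normalClosure (Set.mem_singleton u))

section mat
variable {F : Type*} [Field F] [Fintype F] [DecidableEq F] {n : ℕ}

theorem comm_tv {c : Matrix (Fin n) (Fin n) F} {a b : Fin n}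
    (h : c * (1 + Matrix.single a b 1) = (1 + Matrix.single a b 1) * c) :
    (∀ i, i ≠ a → c i a = 0) ∧ (∀ j, j ≠ b → c b j = 0) ∧ c a a = c b b := by
  have h' : c * Matrix.single a b (1 : F) = Matrix.single a b 1 * c := by
    rw [mul_add, add_mul, mul_one, one_mul] at h
    exact add_left_cancel h
  refine ⟨fun i hi => ?_, fun j hj => ?_, ?_⟩
  · have := congrFun (congrFun h' i) b
    rw [Matrix.mul_single_apply_same, Matrix.single_mul_apply_of_ne _ _ _ _ _ hi] at this
    simpa using this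
  · have := congrFun (congrFun h' a) j
    rw [Matrix.mul_single_apply_of_ne _ _ _ _ _ hj, Matrix.single_mul_apply_same] at this
    simpa using this.symm
  · have := congrFun (congrFun h' a) b
    rw [Matrix.mul_single_apply_same, Matrix.single_mul_apply_same] at this
    simpa using this

theorem cent_struct (i j : Fin n) (t : Matrix.SpecialLinearGroup (Fin n) F)
    (ht : (t : Matrix (Fin n) (Fin n) F) = Matrix.transvection i j 1)
    (g : Matrix.SpecialLinearGroup (Fin n) F)
    (hg : g ∈ Subgroup.centralizer ({t} : Set (Matrix.SpecialLinearGroup (Fin n) F))) :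
    (∀ k, k ≠ i → (g : Matrix (Fin n) (Fin n) F) k i = 0) ∧
      (∀ k, k ≠ j → (g : Matrix (Fin n) (Fin n) F) j k = 0) := by
  have h := Subgroup.mem_centralizer_iff.mp hg t (Set.mem_singleton t)
  have h' : (g : Matrix (Fin n) (Fin n) F) * (1 + Matrix.single i j 1)
      = (1 + Matrix.single i j 1) * (g : Matrix (Fin n) (Fin n) F) := by
    have := congrArg (fun m : Matrix.SpecialLinearGroup (Fin n) F => (m : Matrix (Fin n) (Fin n) F)) h
    simp only [Matrix.SpecialLinearGroup.coe_mul, ht, Matrix.transvection] at this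
    exact this.symm
  obtain ⟨h1, h2, -⟩ := comm_tv h'
  exact ⟨h1, h2⟩

def tv (a b : Fin n) (h : a ≠ b) : Matrix.SpecialLinearGroup (Fin n) F :=
  ⟨Matrix.transvection a b 1, Matrix.det_transvection_of_ne a b h 1⟩

theorem tv_coe (a b : Fin n) (h : a ≠ b) :
    ((tv a b h : Matrix.SpecialLinearGroup (Fin n) F) : Matrix (Fin n) (Fin n) F)
      = 1 + Matrix.single a b 1 := rfl

theorem tv_mem (i j : Fin n) (t : Matrix.SpecialLinearGroup (Fin n) F)
    (ht : (t : Matrix (Fin n) (Fin n) F) = Matrix.transvection i j 1) (a b : Fin n) (h : a ≠ b)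
    (ha : a ≠ j) (hb : b ≠ i) :
    (tv a b h : Matrix.SpecialLinearGroup (Fin n) F) ∈
      Subgroup.centralizer ({t} : Set (Matrix.SpecialLinearGroup (Fin n) F)) := by
  rw [Subgroup.mem_centralizer_iff]
  intro s hs
  rw [Set.mem_singleton_iff] at hs
  rw [hs]
  apply Subtype.ext
  rw [Matrix.SpecialLinearGroup.coe_mul, Matrix.SpecialLinearGroup.coe_mul, ht, tv_coe,
    Matrix.transvection]
  have e1 : Matrix.single i j (1 : F) * Matrix.single a b (1 : F) = 0 :=
    Matrix.single_mul_single_of_ne _ _ _ _ (Ne.symm ha) _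
  have e2 : Matrix.single a b (1 : F) * Matrix.single i j (1 : F) = 0 :=
    Matrix.single_mul_single_of_ne _ _ _ _ hb _
  simp only [mul_add, add_mul, mul_one, one_mul, e1, e2]
  abel

theorem one_add_one (hF : Fintype.card F = 2) : (1 : F) + 1 = 0 := by
  have h := Nat.cast_card_eq_zero F
  rw [hF] at h
  rw [one_add_one_eq_two]
  exact_mod_cast h

theorem f2 (hF : Fintype.card F = 2) (x : F) : x = 0 ∨ x = 1 := by
  have h := FiniteField.pow_card x
  rw [hF] at h
  have h' : x * (x - 1) = 0 := by linear_combination h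
  rcases mul_eq_zero.mp h' with h1 | h1
  · exact Or.inl h1
  · exact Or.inr (sub_eq_zero.mp h1)

theorem tv_sq (hF : Fintype.card F = 2) (a b : Fin n) (h : a ≠ b) :
    (tv a b h : Matrix.SpecialLinearGroup (Fin n) F) * tv a b h = 1 := by
  apply Subtype.ext
  rw [Matrix.SpecialLinearGroup.coe_mul, tv_coe, Matrix.SpecialLinearGroup.coe_one]
  have e1 : Matrix.single a b (1 : F) * Matrix.single a b (1 : F) = 0 :=
    Matrix.single_mul_single_of_ne _ _ _ _ (Ne.symm h) _
  have e2 : Matrix.single a b (1 : F) + Matrix.single a b (1 : F) = 0 := by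
    rw [← Matrix.single_add, one_add_one hF]; simp
  simp only [mul_add, add_mul, mul_one, one_mul, e1, add_zero]
  rw [add_assoc, e2, add_zero]

theorem tv_conj (i j : Fin n) (t : Matrix.SpecialLinearGroup (Fin n) F)
    (ht : (t : Matrix (Fin n) (Fin n) F) = Matrix.transvection i j 1) (a b : Fin n) (h : a ≠ b)
    (hab : (a = i ∧ b ≠ i) ∨ (b = j ∧ a ≠ j)) (g : Matrix.SpecialLinearGroup (Fin n) F)
    (hg : g ∈ Subgroup.centralizer ({t} : Set (Matrix.SpecialLinearGroup (Fin n) F))) :
    (tv a b h : Matrix.SpecialLinearGroup (Fin n) F) * (g * tv a b h * g⁻¹)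
      = (g * tv a b h * g⁻¹) * tv a b h := by
  have hg' : g⁻¹ ∈ Subgroup.centralizer ({t} : Set (Matrix.SpecialLinearGroup (Fin n) F)) :=
    inv_mem hg
  obtain ⟨g1, g2⟩ := cent_struct i j t ht g hg
  obtain ⟨g1', g2'⟩ := cent_struct i j t ht g⁻¹ hg'
  have hba : (g : Matrix (Fin n) (Fin n) F) b a = 0 := by
    rcases hab with ⟨rfl, hb⟩ | ⟨rfl, ha⟩
    · exact g1 b hb
    · exact g2 a ha
  have hba' : ((g⁻¹ : Matrix.SpecialLinearGroup (Fin n) F) : Matrix (Fin n) (Fin n) F) b a = 0 := by
    rcases hab with ⟨rfl, hb⟩ | ⟨rfl, ha⟩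
    · exact g1' b hb
    · exact g2' a ha
  apply Subtype.ext
  simp only [Matrix.SpecialLinearGroup.coe_mul, tv_coe]
  set E : Matrix (Fin n) (Fin n) F := Matrix.single a b 1 with hE
  set A : Matrix (Fin n) (Fin n) F := (g : Matrix (Fin n) (Fin n) F) with hA
  set B : Matrix (Fin n) (Fin n) F :=
    ((g⁻¹ : Matrix.SpecialLinearGroup (Fin n) F) : Matrix (Fin n) (Fin n) F) with hB
  have hAB : A * B = 1 := by
    rw [hA, hB, ← Matrix.SpecialLinearGroup.coe_mul, mul_inv_cancel,
      Matrix.SpecialLinearGroup.coe_one]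
  have e1 : E * A * E = 0 := by
    rw [hE, Matrix.single_mul_mul_single, hba]; simp
  have e2 : E * B * E = 0 := by
    rw [hE, Matrix.single_mul_mul_single, hba']; simp
  have e3 : E * (A * E * B) = 0 := by
    rw [← mul_assoc, ← mul_assoc, e1, zero_mul]
  have e4 : (A * E * B) * E = 0 := by
    rw [mul_assoc, mul_assoc, ← mul_assoc E B E, e2, mul_zero]
  have e5 : A * (1 + E) * B = 1 + A * E * B := by
    rw [mul_add, add_mul, mul_one, hAB]
  rw [e5]
  simp only [mul_add, add_mul, mul_one, one_mul, e3, e4]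
  abel

theorem constrained (hF : Fintype.card F = 2) (hn : 3 ≤ n) (i j : Fin n) (hij : i ≠ j)
    (t : Matrix.SpecialLinearGroup (Fin n) F)
    (ht : (t : Matrix (Fin n) (Fin n) F) = Matrix.transvection i j 1) :
    Subgroup.centralizer
      (Cfsg.pCore 2 ↥(Subgroup.centralizer ({t} : Set (Matrix.SpecialLinearGroup (Fin n) F))) :
        Set ↥(Subgroup.centralizer ({t} : Set (Matrix.SpecialLinearGroup (Fin n) F))))
      ≤ Cfsg.pCore 2 ↥(Subgroup.centralizer ({t} : Set (Matrix.SpecialLinearGroup (Fin n) F))) := by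
  intro c hc
  rw [Subgroup.mem_centralizer_iff] at hc
  have htt : t = tv i j hij := Subtype.ext ht
  have htC : t ∈ Subgroup.centralizer ({t} : Set (Matrix.SpecialLinearGroup (Fin n) F)) := by
    rw [Subgroup.mem_centralizer_iff]
    intro s hs; rw [Set.mem_singleton_iff] at hs; rw [hs]
  -- t is in the core
  have htQ : (⟨t, htC⟩ : ↥(Subgroup.centralizer ({t} : Set (Matrix.SpecialLinearGroup (Fin n) F))))
      ∈ Cfsg.pCore 2 ↥(Subgroup.centralizer ({t} : Set (Matrix.SpecialLinearGroup (Fin n) F))) := by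
    apply mem_pCore
    · apply Subtype.ext
      show t * t = 1
      rw [htt]; exact tv_sq hF i j hij
    · intro g
      apply Subtype.ext
      have hg := Subgroup.mem_centralizer_iff.mp g.2 t (Set.mem_singleton t)
      show t * ((g : Matrix.SpecialLinearGroup (Fin n) F) * t * (g : Matrix.SpecialLinearGroup (Fin n) F)⁻¹)
        = ((g : Matrix.SpecialLinearGroup (Fin n) F) * t * (g : Matrix.SpecialLinearGroup (Fin n) F)⁻¹) * t
      rw [← hg]
      group
  have hu : ∀ (a b : Fin n) (h : a ≠ b), ((a = i ∧ b ≠ i ∧ b ≠ j) ∨ (b = j ∧ a ≠ j ∧ a ≠ i)) →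
      (c : Matrix.SpecialLinearGroup (Fin n) F) * tv a b h = tv a b h * (c : Matrix.SpecialLinearGroup (Fin n) F) := by
    intro a b h hab
    have haj : a ≠ j := by
      rcases hab with ⟨h1, -, -⟩ | ⟨-, h1, -⟩
      · rw [h1]; exact hij
      · exact h1
    have hbi : b ≠ i := by
      rcases hab with ⟨-, h1, -⟩ | ⟨h1, -, -⟩
      · exact h1
      · rw [h1]; exact Ne.symm hij
    have hab' : (a = i ∧ b ≠ i) ∨ (b = j ∧ a ≠ j) := by
      rcases hab with ⟨h1, h2, -⟩ | ⟨h1, h2, -⟩
      · exact Or.inl ⟨h1, h2⟩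
      · exact Or.inr ⟨h1, h2⟩
    have hmem := tv_mem i j t ht a b h haj hbi
    have hQ : (⟨tv a b h, hmem⟩ : ↥(Subgroup.centralizer ({t} : Set (Matrix.SpecialLinearGroup (Fin n) F))))
        ∈ Cfsg.pCore 2 ↥(Subgroup.centralizer ({t} : Set (Matrix.SpecialLinearGroup (Fin n) F))) := by
      apply mem_pCore
      · apply Subtype.ext; exact tv_sq hF a b h
      · intro g
        apply Subtype.ext
        exact tv_conj i j t ht a b h hab' g.1 g.2
    have := hc _ hQ
    have := congrArg Subtype.val this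
    exact this.symm
  have hu' : ∀ (a b : Fin n) (h : a ≠ b), ((a = i ∧ b ≠ i ∧ b ≠ j) ∨ (b = j ∧ a ≠ j ∧ a ≠ i)) →
      (∀ k, k ≠ a → ((c : Matrix.SpecialLinearGroup (Fin n) F) : Matrix (Fin n) (Fin n) F) k a = 0) ∧
      (∀ k, k ≠ b → ((c : Matrix.SpecialLinearGroup (Fin n) F) : Matrix (Fin n) (Fin n) F) b k = 0) ∧
        ((c : Matrix.SpecialLinearGroup (Fin n) F) : Matrix (Fin n) (Fin n) F) a a
          = ((c : Matrix.SpecialLinearGroup (Fin n) F) : Matrix (Fin n) (Fin n) F) b b := by
    intro a b h hab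
    have := congrArg (fun m : Matrix.SpecialLinearGroup (Fin n) F => (m : Matrix (Fin n) (Fin n) F))
      (hu a b h hab)
    simp only [Matrix.SpecialLinearGroup.coe_mul, tv_coe] at this
    exact comm_tv this
  set K : Matrix (Fin n) (Fin n) F :=
    ((c : Matrix.SpecialLinearGroup (Fin n) F) : Matrix (Fin n) (Fin n) F) with hK
  have hA : ∀ b : Fin n, b ≠ i → b ≠ j →
      (∀ k, k ≠ i → K k i = 0) ∧ (∀ k, k ≠ b → K b k = 0) ∧ K i i = K b b := fun b h0 h1 =>
    hu' i b (Ne.symm h0) (Or.inl ⟨rfl, h0, h1⟩)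
  have hB : ∀ a : Fin n, a ≠ i → a ≠ j →
      (∀ k, k ≠ a → K k a = 0) ∧ (∀ k, k ≠ j → K j k = 0) ∧ K a a = K j j := fun a h0 h1 =>
    hu' a j h1 (Or.inr ⟨rfl, h1, h0⟩)
  obtain ⟨k0, hk0i, hk0j⟩ : ∃ k : Fin n, k ≠ i ∧ k ≠ j := by
    by_contra h
    push_neg at h
    have hsub : (Finset.univ : Finset (Fin n)) ⊆ {i, j} := by
      intro k _
      by_cases hk : k = i
      · simp [hk]
      · simp [h k hk]
    have h1 := Finset.card_le_card hsub
    have h2 : ({i, j} : Finset (Fin n)).card ≤ 2 := Finset.card_le_two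
    rw [Finset.card_univ, Fintype.card_fin] at h1
    omega
  have coli : ∀ k, k ≠ i → K k i = 0 := (hA k0 hk0i hk0j).1
  have rowj : ∀ k, k ≠ j → K j k = 0 := (hB k0 hk0i hk0j).2.1
  have hd0 : K i i ≠ 0 := by
    intro h0
    have hdet : K.det = 0 := Matrix.det_eq_zero_of_column_eq_zero i (fun k => by
      by_cases hk : k = i
      · rw [hk]; exact h0
      · exact coli k hk)
    have h1 : K.det = 1 := (c : Matrix.SpecialLinearGroup (Fin n) F).2
    rw [h1] at hdet
    exact one_ne_zero hdet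
  have hd : K i i = 1 := (f2 hF _).resolve_left hd0
  have diag : ∀ k, K k k = 1 := by
    intro k
    by_cases h0 : k = i
    · rw [h0]; exact hd
    by_cases h1 : k = j
    · rw [h1, ← (hB k0 hk0i hk0j).2.2, ← (hA k0 hk0i hk0j).2.2]; exact hd
    · rw [← (hA k h0 h1).2.2]; exact hd
  have off : ∀ r s, r ≠ s → ¬ (r = i ∧ s = j) → K r s = 0 := by
    intro r s hrs h01
    by_cases hr1 : r = j
    · rw [hr1]; exact rowj s (fun h => hrs (by rw [hr1, h]))
    by_cases hr0 : r = i
    · have hs0 : s ≠ i := fun h => hrs (by rw [hr0, h])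
      have hs1 : s ≠ j := fun h => h01 ⟨hr0, h⟩
      exact (hB s hs0 hs1).1 r hrs
    · exact (hA r hr0 hr1).2.1 s (Ne.symm hrs)
  rcases f2 hF (K i j) with h | h
  · have hc1 : c = 1 := by
      apply Subtype.ext
      apply Subtype.ext
      show K = _
      rw [Subgroup.coe_one, Matrix.SpecialLinearGroup.coe_one]
      ext r s
      rw [Matrix.one_apply]
      by_cases hrs : r = s
      · rw [if_pos hrs, hrs]; exact diag s
      · rw [if_neg hrs]
        by_cases h01 : r = i ∧ s = j
        · rw [h01.1, h01.2]; exact h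
        · exact off r s hrs h01
    rw [hc1]; exact one_mem _
  · have hc1 : c = ⟨t, htC⟩ := by
      apply Subtype.ext
      apply Subtype.ext
      show K = _
      rw [ht]
      ext r s
      rw [Matrix.transvection, Matrix.add_apply, Matrix.one_apply, Matrix.single_apply]
      by_cases hrs : r = s
      · have h01 : ¬ (i = r ∧ j = s) := by
          rintro ⟨h1, h2⟩
          rw [← h1, ← h2] at hrs
          exact hij hrs
        rw [if_pos hrs, if_neg h01, add_zero, hrs]; exact diag s
      · rw [if_neg hrs]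
        by_cases h01 : r = i ∧ s = j
        · rw [if_pos ⟨h01.1.symm, h01.2.symm⟩, zero_add, h01.1, h01.2]; exact h
        · rw [if_neg (fun hh => h01 ⟨hh.1.symm, hh.2.symm⟩), add_zero]
          exact off r s hrs h01
    rw [hc1]; exact htQ

end mat

theorem main {F : Type*} [Field F] [Fintype F] [DecidableEq F] (hF : Fintype.card F = 2) (n : ℕ) (hn : 3 ≤ n) (i j : Fin n) (hij : i ≠ j) (t : Matrix.SpecialLinearGroup (Fin n) F) (ht : (t : Matrix (Fin n) (Fin n) F) = Matrix.transvection i j 1) : Cfsg.generalizedFittingSubgroup ↥(Subgroup.centralizer ({t} : Set (Matrix.SpecialLinearGroup (Fin n) F))) = Cfsg.pCore 2 ↥(Subgroup.centralizer ({t} : Set (Matrix.SpecialLinearGroup (Fin n) F))) := by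
  haveI : Fact (Nat.Prime 2) := ⟨Nat.prime_two⟩
  exact fstar_of_constrained (constrained hF hn i j hij t ht)

theorem result {F : Type*} [Field F] [Fintype F] [DecidableEq F] (hF : Fintype.card F = 2) (n : ℕ) (hn : 3 ≤ n) (i j : Fin n) (hij : i ≠ j) (t : Matrix.SpecialLinearGroup (Fin n) F) (ht : (t : Matrix (Fin n) (Fin n) F) = Matrix.transvection i j 1) : Cfsg.generalizedFittingSubgroup ↥(Subgroup.centralizer ({t} : Set (Matrix.SpecialLinearGroup (Fin n) F))) = Cfsg.pCore 2 ↥(Subgroup.centralizer ({t} : Set (Matrix.SpecialLinearGroup (Fin n) F))) := by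
  exact main hF n hn i j hij t ht

end Cfsg.Agent.S1339
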