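import Mathlib
import Cfsg.Statements.S1349
import Cfsg.Agent.S0044
import Cfsg.Agent.S3745
import Cfsg.Agent.Lib.Helper1.Dih
import Cfsg.Agent.Lib.Helper2.Fit
import Cfsg.Agent.Lib.Helper2.Fstar

set_option autoImplicit false
open Pointwise
open Cfsg
open scoped commutatorElement

namespace Cfsg.Agent.S1349

variable {G : Type*} [Group G]

theorem norm_of_conj (A U : Subgroup G) (h : ∀ a ∈ A, ∀ w ∈ U, a * w * a⁻¹ ∈ U) :
    A ≤ Subgroup.normalizer (U : Set G) := by
  intro a ha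
  rw [Subgroup.mem_set_normalizer_iff]
  intro w
  constructor
  · exact h a ha w
  · intro hh
    have := h a⁻¹ (inv_mem ha) _ hh
    simpa [mul_assoc] using this

theorem lemT [Finite G] (a : G) (ha : a * a = 1) (X Y : Subgroup G) (hXodd : Odd (Nat.card X))
    (hXY : X ≤ Subgroup.normalizer (Y : Set G)) (haX : a ∈ Subgroup.normalizer (X : Set G))
    (haY : ∀ y ∈ Y, a * y = y * a)
    (hC : ∀ x ∈ X, (∀ y ∈ Y, x * y = y * x) → a * x = x * a) :
    ∀ x ∈ X, a * x = x * a := by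
  intro x hx
  have hainv : a⁻¹ = a := inv_eq_of_mul_eq_one_left ha
  obtain ⟨c, hc⟩ : ∃ c, c = x⁻¹ * (a * x * a⁻¹) := ⟨_, rfl⟩
  have hcX : c ∈ X := by
    rw [hc]; exact mul_mem (inv_mem hx) ((Subgroup.mem_set_normalizer_iff.1 haX x).1 hx)
  have hcY : ∀ y ∈ Y, c * y = y * c := by
    intro y hy
    have h1 : x * y * x⁻¹ ∈ Y := (Subgroup.mem_set_normalizer_iff.1 (hXY hx) y).1 hy
    have h2 := haY _ h1
    have h3 := haY y hy
    have h4 : a⁻¹ * y = y * a⁻¹ := by rw [hainv]; exact h3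
    calc c * y = x⁻¹ * a * x * (a⁻¹ * y) := by rw [hc]; group
      _ = x⁻¹ * a * x * (y * a⁻¹) := by rw [h4]
      _ = x⁻¹ * (a * (x * y * x⁻¹)) * x * a⁻¹ := by group
      _ = x⁻¹ * ((x * y * x⁻¹) * a) * x * a⁻¹ := by rw [h2]
      _ = y * c := by rw [hc]; group
  have hac := hC c hcX hcY
  have hcc : c * c = 1 := by
    have h1 : a * x * a⁻¹ = x * c := by rw [hc]; group
    have h2 : x = a * (a * x * a⁻¹) * a⁻¹ := by
      calc x = (a * a) * x * (a * a)⁻¹ := by rw [ha]; group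
        _ = a * (a * x * a⁻¹) * a⁻¹ := by group
    rw [h1] at h2
    have h3 : a * (x * c) * a⁻¹ = (a * x * a⁻¹) * (a * c * a⁻¹) := by group
    have h4 : a * c * a⁻¹ = c := by rw [hac]; group
    rw [h3, h1, h4] at h2
    have := congrArg (fun t => x⁻¹ * t) h2
    simpa [mul_assoc] using this.symm
  have hc1 : c = 1 := by
    have h1 : orderOf c ∣ 2 := orderOf_dvd_of_pow_eq_one (by rw [pow_two]; exact hcc)
    have h2 : orderOf c ∣ Nat.card X := Subgroup.orderOf_dvd_natCard X hcX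
    have h3 : orderOf c = 1 :=
      Nat.eq_one_of_dvd_coprimes (Nat.coprime_two_left.2 hXodd) h1 h2
    exact orderOf_eq_one_iff.1 h3
  rw [hc] at hc1
  have h5 : a * x * a⁻¹ = x := by
    have := congrArg (fun t => x * t) hc1
    simpa using this
  calc a * x = (a * x * a⁻¹) * a := by group
    _ = x * a := by rw [h5]

theorem lemE [Finite G] (A : Subgroup G) (hAc : ∀ a ∈ A, ∀ b ∈ A, a * b = b * a)
    (hA2 : ∀ a ∈ A, a * a = 1)
    (U0 : Subgroup G) (hAU0 : A ≤ Subgroup.normalizer (U0 : Set G)) :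
    ∀ (n : ℕ) (U : Subgroup G), Nat.card U ≤ n → U0 ≤ U → U0 ≠ U →
      U ≤ Subgroup.normalizer (U0 : Set G) →
      ⁅U, U⁆ ≤ U0 → A ≤ Subgroup.normalizer (U : Set G) →
      ∃ x ∈ U, x ∉ U0 ∧ ∀ a ∈ A, x⁻¹ * (a * x * a⁻¹) ∈ U0 ∨ x * (a * x * a⁻¹) ∈ U0 := by
  intro n
  induction n with
  | zero =>
    intro U hn
    have := Nat.card_pos (α := U)
    omega
  | succ n ih =>
    intro U hn hU0 hne hUN hcomm hAU
    by_cases hall : ∀ a ∈ A, (∀ x ∈ U, x⁻¹ * (a * x * a⁻¹) ∈ U0) ∨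
        (∀ x ∈ U, x * (a * x * a⁻¹) ∈ U0)
    · obtain ⟨x, hx, hx0⟩ : ∃ x ∈ U, x ∉ U0 := by
        by_contra h
        push_neg at h
        exact hne (le_antisymm hU0 h)
      refine ⟨x, hx, hx0, fun a ha => ?_⟩
      rcases hall a ha with h | h
      · exact Or.inl (h x hx)
      · exact Or.inr (h x hx)
    · push_neg at hall
      obtain ⟨a, ha, ⟨x1, hx1, hx1'⟩, ⟨x2, hx2, hx2'⟩⟩ := hall
      obtain ⟨Up, hUp⟩ : ∃ Up : Subgroup G,
          ∀ x, x ∈ Up ↔ x ∈ U ∧ x⁻¹ * (a * x * a⁻¹) ∈ U0 := by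
        refine ⟨
          { carrier := {x | x ∈ U ∧ x⁻¹ * (a * x * a⁻¹) ∈ U0}
            mul_mem' := ?_
            one_mem' := ⟨one_mem _, by simp⟩
            inv_mem' := ?_ }, fun x => Iff.rfl⟩
        · rintro x y ⟨hx, hx'⟩ ⟨hy, hy'⟩
          refine ⟨mul_mem hx hy, ?_⟩
          have h1 : y⁻¹ * (x⁻¹ * (a * x * a⁻¹)) * y⁻¹⁻¹ ∈ U0 :=
            (Subgroup.mem_set_normalizer_iff.1 (hUN (inv_mem hy)) _).1 hx'
          have h2 : (x * y)⁻¹ * (a * (x * y) * a⁻¹) =
              (y⁻¹ * (x⁻¹ * (a * x * a⁻¹)) * y⁻¹⁻¹) * (y⁻¹ * (a * y * a⁻¹)) := by group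
          rw [h2]
          exact mul_mem h1 hy'
        · rintro x ⟨hx, hx'⟩
          refine ⟨inv_mem hx, ?_⟩
          have h1 : x * (x⁻¹ * (a * x * a⁻¹))⁻¹ * x⁻¹ ∈ U0 :=
            (Subgroup.mem_set_normalizer_iff.1 (hUN hx) _).1 (inv_mem hx')
          have h2 : x⁻¹⁻¹ * (a * x⁻¹ * a⁻¹) = x * (x⁻¹ * (a * x * a⁻¹))⁻¹ * x⁻¹ := by group
          rw [h2]; exact h1
      have hUpU : Up ≤ U := fun x hx => ((hUp x).1 hx).1
      have hU0Up : U0 ≤ Up := by
        intro x hx
        rw [hUp]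
        refine ⟨hU0 hx, ?_⟩
        exact mul_mem (inv_mem hx) ((Subgroup.mem_set_normalizer_iff.1 (hAU0 ha) x).1 hx)
      have hUpne : Up ≠ U := by
        intro h
        exact hx1' (((hUp x1).1 (h ▸ hx1)).2)
      have hU0ne : U0 ≠ Up := by
        intro h
        apply hx2'
        rw [h, hUp]
        have hax2 : a * x2 * a⁻¹ ∈ U := (Subgroup.mem_set_normalizer_iff.1 (hAU ha) x2).1 hx2
        refine ⟨mul_mem hx2 hax2, ?_⟩
        have h1 : (x2 * (a * x2 * a⁻¹))⁻¹ * (a * (x2 * (a * x2 * a⁻¹)) * a⁻¹) =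
            ⁅(a * x2 * a⁻¹)⁻¹, x2⁻¹⁆ := by
          rw [commutatorElement_def]
          have : a * (x2 * (a * x2 * a⁻¹)) * a⁻¹ =
              (a * x2 * a⁻¹) * ((a * a) * x2 * (a * a)⁻¹) := by group
          rw [this, hA2 a ha]; group
        rw [h1]
        exact hcomm (Subgroup.commutator_mem_commutator (inv_mem hax2) (inv_mem hx2))
      have hcard : Nat.card Up ≤ n := by
        by_contra h
        exact hUpne (Subgroup.eq_of_le_of_card_ge hUpU (by omega))
      obtain ⟨x, hx, hx0, hxe⟩ := ih Up hcard hU0Up hU0ne (hUpU.trans hUN)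
        ((Subgroup.commutator_mono hUpU hUpU).trans hcomm) (by
          intro b hb
          rw [Subgroup.mem_set_normalizer_iff]
          intro x
          rw [SetLike.mem_coe, SetLike.mem_coe, hUp, hUp]
          have hab : a * b = b * a := hAc a ha b hb
          have h1 : (b * x * b⁻¹)⁻¹ * (a * (b * x * b⁻¹) * a⁻¹) =
              b * (x⁻¹ * (a * x * a⁻¹)) * b⁻¹ := by
            have h2 : a * (b * x * b⁻¹) * a⁻¹ = b * (a * x * a⁻¹) * b⁻¹ := by
              calc a * (b * x * b⁻¹) * a⁻¹ = (a * b) * x * (a * b)⁻¹ := by group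
                _ = (b * a) * x * (b * a)⁻¹ := by rw [hab]
                _ = b * (a * x * a⁻¹) * b⁻¹ := by group
            rw [h2]; group
          rw [h1]
          constructor
          · rintro ⟨h3, h4⟩
            exact ⟨(Subgroup.mem_set_normalizer_iff.1 (hAU hb) x).1 h3,
              (Subgroup.mem_set_normalizer_iff.1 (hAU0 hb) _).1 h4⟩
          · rintro ⟨h3, h4⟩
            exact ⟨(Subgroup.mem_set_normalizer_iff.1 (hAU hb) x).2 h3,
              (Subgroup.mem_set_normalizer_iff.1 (hAU0 hb) _).2 h4⟩)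
      exact ⟨x, hUpU hx, hx0, hxe⟩

theorem lemZ (F M C : Subgroup G) (hnil : Group.IsNilpotent ↥F) (hCF : C ≤ F)
    (hFC : F ≤ Subgroup.normalizer (C : Set G)) (hCM : ¬ C ≤ M) :
    ∃ y ∈ C, y ∉ M ∧ ∀ f ∈ F, ⁅y, f⁆ ∈ M := by
  classical
  obtain ⟨D, hD0, hDs⟩ : ∃ D : ℕ → Subgroup G, D 0 = C ∧ ∀ n, D (n + 1) = ⁅D n, F⁆ :=
    ⟨fun n => Nat.rec C (fun _ D => ⁅D, F⁆) n, rfl, fun _ => rfl⟩
  have hCFC : ⁅C, F⁆ ≤ C := by
    rw [Subgroup.commutator_le]
    intro c hc f hf
    have h1 : f * c⁻¹ * f⁻¹ ∈ C := (Subgroup.mem_set_normalizer_iff.1 (hFC hf) _).1 (inv_mem hc)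
    have h2 : ⁅c, f⁆ = c * (f * c⁻¹ * f⁻¹) := by simp [commutatorElement_def, mul_assoc]
    rw [h2]; exact mul_mem hc h1
  have hDC : ∀ n, D n ≤ C := by
    intro n
    induction n with
    | zero => rw [hD0]
    | succ n ih => rw [hDs]; exact (Subgroup.commutator_mono ih le_rfl).trans hCFC
  have hDl : ∀ n, D n ≤ F.lowerCentralSeries n := by
    intro n
    induction n with
    | zero => rw [hD0]; exact hCF
    | succ n ih => rw [hDs, Subgroup.lowerCentralSeries_succ]; exact Subgroup.commutator_mono ih le_rfl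
  obtain ⟨n, hn⟩ := (Subgroup.isNilpotent_iff_lowerCentralSeries F).1 hnil
  have hex : ∃ n, D n ≤ M := ⟨n, (hDl n).trans (hn ▸ bot_le)⟩
  have hm0 : Nat.find hex ≠ 0 := by
    intro h
    have := Nat.find_spec hex
    rw [h, hD0] at this
    exact hCM this
  obtain ⟨m', hm'⟩ := Nat.exists_eq_succ_of_ne_zero hm0
  have h1 : ¬ D m' ≤ M := Nat.find_min hex (by omega)
  have h2 : D (m' + 1) ≤ M := by
    have := Nat.find_spec hex
    rw [hm'] at this
    exact this
  obtain ⟨y, hy, hyM⟩ : ∃ y ∈ D m', y ∉ M := by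
    by_contra h
    push_neg at h
    exact h1 h
  refine ⟨y, hDC m' hy, hyM, fun f hf => h2 ?_⟩
  rw [hDs]
  exact Subgroup.commutator_mem_commutator hy hf

theorem sup_zpowers_comm (M : Subgroup G) (y : G) (hM : ∀ x ∈ M, ∀ z ∈ M, x * z = z * x)
    (hy : ∀ x ∈ M, y * x = x * y) :
    ∀ u ∈ M ⊔ Subgroup.zpowers y, ∀ v ∈ M ⊔ Subgroup.zpowers y, u * v = v * u := by
  have h1 : M ⊔ Subgroup.zpowers y ≤ Subgroup.centralizer ((M : Set G) ∪ {y}) := by
    refine sup_le ?_ ?_
    · intro x hx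
      rw [Subgroup.mem_centralizer_iff]
      rintro s (hs | hs)
      · exact hM s hs x hx
      · rw [Set.mem_singleton_iff.1 hs]; exact hy x hx
    · rw [Subgroup.zpowers_le, Subgroup.mem_centralizer_iff]
      rintro s (hs | hs)
      · exact (hy s hs).symm
      · rw [Set.mem_singleton_iff.1 hs]
  intro u hu v hv
  have hv' := Subgroup.mem_centralizer_iff.1 (h1 hv)
  have h2 : M ⊔ Subgroup.zpowers y ≤ Subgroup.centralizer ({v} : Set G) := by
    refine sup_le ?_ ?_
    · intro x hx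
      rw [Subgroup.mem_centralizer_iff]
      intro s hs
      rw [Set.mem_singleton_iff.1 hs]
      exact (hv' x (Or.inl hx)).symm
    · rw [Subgroup.zpowers_le, Subgroup.mem_centralizer_iff]
      intro s hs
      rw [Set.mem_singleton_iff.1 hs]
      exact (hv' y (Or.inr rfl)).symm
  exact ((Subgroup.mem_centralizer_iff.1 (h2 hu)) v rfl).symm

theorem conj_sup_zpowers (M N' : Subgroup G) (y g : G) (h1 : ∀ m ∈ M, g * m * g⁻¹ ∈ N')
    (h2 : g * y * g⁻¹ ∈ N') : ∀ n ∈ M ⊔ Subgroup.zpowers y, g * n * g⁻¹ ∈ N' := by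
  have hle : M ⊔ Subgroup.zpowers y ≤ N'.comap (MulAut.conj g).toMonoidHom := by
    refine sup_le ?_ ?_
    · intro m hm
      rw [Subgroup.mem_comap]
      exact h1 m hm
    · rw [Subgroup.zpowers_le, Subgroup.mem_comap]
      exact h2
  intro n hn
  exact hle hn

theorem lemAb [Finite G] (A M : Subgroup G) (hAc : ∀ a ∈ A, ∀ b ∈ A, a * b = b * a)
    (hA2 : ∀ a ∈ A, a * a = 1)
    (hMc : ∀ x ∈ M, ∀ y ∈ M, x * y = y * x) (hModd : Odd (Nat.card M))
    (hAM : A ≤ Subgroup.normalizer (M : Set G)) :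
    ∀ (k : ℕ) (B : Subgroup G), B ≤ A → Nat.card B = 2 ^ k →
      B ⊓ Subgroup.centralizer (M : Set G) = ⊥ →
      ∃ (b x : Fin k → G),
        (∀ i, b i ∈ B ∧ x i ∈ M ∧ x i ≠ 1 ∧ b i * x i * (b i)⁻¹ = (x i)⁻¹ ∧
          (∀ a ∈ A, a * x i * a⁻¹ = x i ∨ a * x i * a⁻¹ = (x i)⁻¹)) ∧
        (∀ i j, i ≠ j → b j * x i * (b j)⁻¹ = x i) ∧
        (⨆ i, Subgroup.zpowers (b i)) = B ∧
        (∀ g ∈ B, (∀ i, g * x i * g⁻¹ = x i) → g = 1) := by
  classical
  intro k
  induction k with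
  | zero =>
    intro B hBA hcard hfaith
    have hB : B = ⊥ := by
      rw [pow_zero] at hcard
      exact Subgroup.card_eq_one.1 hcard
    refine ⟨Fin.elim0, Fin.elim0, fun i => i.elim0, fun i => i.elim0, ?_, ?_⟩
    · rw [hB]; simp
    · intro g hg _
      rw [hB] at hg
      exact Subgroup.mem_bot.1 hg
  | succ k ih =>
    intro B hBA hcard hfaith
    have hodd1 : ∀ x ∈ M, x * x = 1 → x = 1 := by
      intro x hx hxx
      have h1 : orderOf x ∣ 2 := orderOf_dvd_of_pow_eq_one (by rw [pow_two]; exact hxx)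
      have h2 : orderOf x ∣ Nat.card M := Subgroup.orderOf_dvd_natCard M hx
      exact orderOf_eq_one_iff.1
        (Nat.eq_one_of_dvd_coprimes (Nat.coprime_two_left.2 hModd) h1 h2)
    have hBne : ∃ b0 ∈ B, b0 ≠ 1 := by
      by_contra h
      push_neg at h
      have hB : B = ⊥ := (Subgroup.eq_bot_iff_forall B).2 h
      rw [hB, Subgroup.card_bot] at hcard
      have : 2 ≤ 2 ^ (k + 1) := by
        calc 2 = 2 ^ 1 := rfl
          _ ≤ 2 ^ (k + 1) := Nat.pow_le_pow_right (by norm_num) (by omega)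
      omega
    obtain ⟨b0, hb0, hb0ne⟩ := hBne
    have hb0A : b0 ∈ A := hBA hb0
    have hb0C : b0 ∉ Subgroup.centralizer (M : Set G) := by
      intro h
      have : b0 ∈ B ⊓ Subgroup.centralizer (M : Set G) := Subgroup.mem_inf.2 ⟨hb0, h⟩
      rw [hfaith, Subgroup.mem_bot] at this
      exact hb0ne this
    rw [Subgroup.mem_centralizer_iff] at hb0C
    push_neg at hb0C
    obtain ⟨m, hm, hmb⟩ := hb0C
    obtain ⟨N, hN⟩ : ∃ N : Subgroup G, ∀ x, x ∈ N ↔ x ∈ M ∧ b0 * x * b0⁻¹ = x⁻¹ := by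
      refine ⟨
        { carrier := {x | x ∈ M ∧ b0 * x * b0⁻¹ = x⁻¹}
          mul_mem' := ?_
          one_mem' := ⟨one_mem _, by simp⟩
          inv_mem' := ?_ }, fun x => Iff.rfl⟩
      · rintro x y ⟨hx, hx'⟩ ⟨hy, hy'⟩
        refine ⟨mul_mem hx hy, ?_⟩
        have h1 : b0 * (x * y) * b0⁻¹ = (b0 * x * b0⁻¹) * (b0 * y * b0⁻¹) := by group
        rw [h1, hx', hy', mul_inv_rev]
        exact hMc _ (inv_mem hx) _ (inv_mem hy)
      · rintro x ⟨hx, hx'⟩
        refine ⟨inv_mem hx, ?_⟩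
        have h1 : b0 * x⁻¹ * b0⁻¹ = (b0 * x * b0⁻¹)⁻¹ := by group
        rw [h1, hx']
    have hNM : N ≤ M := fun x hx => ((hN x).1 hx).1
    have hNne : (⊥ : Subgroup G) ≠ N := by
      intro h
      have hmem : m⁻¹ * (b0 * m * b0⁻¹) ∈ N := by
        rw [hN]
        refine ⟨mul_mem (inv_mem hm) ((Subgroup.mem_set_normalizer_iff.1 (hAM hb0A) m).1 hm), ?_⟩
        have h1 : b0 * (m⁻¹ * (b0 * m * b0⁻¹)) * b0⁻¹ =
            (b0 * m * b0⁻¹)⁻¹ * ((b0 * b0) * m * (b0 * b0)⁻¹) := by group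
        rw [h1, hA2 b0 hb0A]; group
      rw [← h, Subgroup.mem_bot] at hmem
      apply hmb
      have h2 : b0 * m * b0⁻¹ = m := by
        have := congrArg (fun t => m * t) hmem
        simpa using this
      calc m * b0 = (b0 * m * b0⁻¹) * b0 := by rw [h2]
        _ = b0 * m := by group
    have hAN : A ≤ Subgroup.normalizer (N : Set G) := by
      apply norm_of_conj
      intro a ha w hw
      rw [hN] at hw ⊢
      refine ⟨(Subgroup.mem_set_normalizer_iff.1 (hAM ha) w).1 hw.1, ?_⟩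
      have hab : b0 * a = a * b0 := hAc b0 hb0A a ha
      calc b0 * (a * w * a⁻¹) * b0⁻¹ = (b0 * a) * w * (b0 * a)⁻¹ := by group
        _ = (a * b0) * w * (a * b0)⁻¹ := by rw [hab]
        _ = a * (b0 * w * b0⁻¹) * a⁻¹ := by group
        _ = (a * w * a⁻¹)⁻¹ := by rw [hw.2]; group
    have hbotN : ∀ K : Subgroup G, K ≤ Subgroup.normalizer ((⊥ : Subgroup G) : Set G) := by
      intro K
      apply norm_of_conj
      intro a _ w hw
      rw [Subgroup.mem_bot] at hw ⊢
      rw [hw]; simp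
    obtain ⟨x0, hx0N, hx0ne, hx0e⟩ := lemE A hAc hA2 ⊥ (hbotN A) (Nat.card N) N le_rfl bot_le hNne
      (hbotN N) (by
        rw [Subgroup.commutator_le]
        intro u hu v hv
        rw [Subgroup.mem_bot, commutatorElement_eq_one_iff_commute]
        exact hMc u (hNM hu) v (hNM hv)) hAN
    have hx0M : x0 ∈ M := hNM hx0N
    have hx01 : x0 ≠ 1 := fun h => hx0ne (h ▸ one_mem _)
    have hx0b : b0 * x0 * b0⁻¹ = x0⁻¹ := ((hN x0).1 hx0N).2
    have hx0eig : ∀ a ∈ A, a * x0 * a⁻¹ = x0 ∨ a * x0 * a⁻¹ = x0⁻¹ := by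
      intro a ha
      rcases hx0e a ha with h | h
      · left
        rw [Subgroup.mem_bot] at h
        have := congrArg (fun t => x0 * t) h
        simpa using this
      · right
        rw [Subgroup.mem_bot] at h
        exact eq_inv_of_mul_eq_one_right h
    have hx0inv : x0⁻¹ ≠ x0 := by
      intro h
      apply hx01
      apply hodd1 x0 hx0M
      calc x0 * x0 = x0⁻¹ * x0 := by rw [h]
        _ = 1 := inv_mul_cancel x0
    obtain ⟨B1, hB1⟩ : ∃ B1 : Subgroup G, B1 = B ⊓ Subgroup.centralizer ({x0} : Set G) :=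
      ⟨_, rfl⟩
    have hB1B : B1 ≤ B := hB1 ▸ inf_le_left
    have hB1mem : ∀ g, g ∈ B1 ↔ g ∈ B ∧ g * x0 * g⁻¹ = x0 := by
      intro g
      rw [hB1, Subgroup.mem_inf, Subgroup.mem_centralizer_iff]
      constructor
      · rintro ⟨h1, h2⟩
        refine ⟨h1, ?_⟩
        have := h2 x0 rfl
        rw [← this]; group
      · rintro ⟨h1, h2⟩
        refine ⟨h1, ?_⟩
        intro s hs
        rw [Set.mem_singleton_iff.1 hs]
        calc x0 * g = (g * x0 * g⁻¹) * g := by rw [h2]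
          _ = g * x0 := by group
    have hrel : B1.relIndex B = 2 := by
      rw [Subgroup.relIndex_eq_two_iff]
      refine ⟨b0, hb0, fun g hg => ?_⟩
      have hgA := hBA hg
      have h1 : (g * b0) * x0 * (g * b0)⁻¹ = (g * x0 * g⁻¹)⁻¹ := by
        calc (g * b0) * x0 * (g * b0)⁻¹ = g * (b0 * x0 * b0⁻¹) * g⁻¹ := by group
          _ = (g * x0 * g⁻¹)⁻¹ := by rw [hx0b]; group
      rcases hx0eig g hgA with h | h
      · right
        refine ⟨(hB1mem g).2 ⟨hg, h⟩, ?_⟩
        intro h2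
        have := ((hB1mem _).1 h2).2
        rw [h1, h] at this
        exact hx0inv this
      · left
        refine ⟨(hB1mem _).2 ⟨mul_mem hg hb0, ?_⟩, ?_⟩
        · rw [h1, h, inv_inv]
        · intro h2
          have := ((hB1mem _).1 h2).2
          rw [h] at this
          exact hx0inv this
    have hB1card : Nat.card B1 = 2 ^ k := by
      have := Cfsg.Agent.S3745.card_mul_relIndex' B1 B hB1B
      rw [hrel, hcard, pow_succ] at this
      omega
    obtain ⟨b', x', hbx, hcross, hgen, hfaith'⟩ := ih B1 (hB1B.trans hBA) hB1card (by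
      rw [eq_bot_iff, ← hfaith]
      exact inf_le_inf_right _ hB1B)
    haveI : Fintype ↥B := Fintype.ofFinite _
    obtain ⟨g, g', hgg', hs⟩ := Fintype.exists_ne_map_eq_of_card_lt
      (fun g : ↥B => fun i : Fin k => decide ((g : G) * x' i * (g : G)⁻¹ = x' i)) (by
        rw [Fintype.card_fun, Fintype.card_bool, Fintype.card_fin, ← Nat.card_eq_fintype_card,
          hcard]
        exact Nat.pow_lt_pow_right (by norm_num) (by omega))
    obtain ⟨b1, hb1⟩ : ∃ b1 : G, b1 = (g : G)⁻¹ * (g' : G) := ⟨_, rfl⟩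
    have hb1B : b1 ∈ B := by rw [hb1]; exact mul_mem (inv_mem g.2) g'.2
    have hb1ne : b1 ≠ 1 := by
      intro h
      rw [hb1] at h
      apply hgg'
      apply Subtype.ext
      have := congrArg (fun t => (g : G) * t) h
      simpa using this.symm
    have hb1x : ∀ i, b1 * x' i * b1⁻¹ = x' i := by
      intro i
      have h1 := congrFun hs i
      simp only [decide_eq_decide] at h1
      have hgA : (g : G) ∈ A := hBA g.2
      have hg'A : (g' : G) ∈ A := hBA g'.2
      have h2 : (g' : G) * x' i * (g' : G)⁻¹ = (g : G) * x' i * (g : G)⁻¹ := by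
        rcases (hbx i).2.2.2.2 g hgA with h | h
        · rw [h]; exact h1.1 h
        · rcases (hbx i).2.2.2.2 g' hg'A with h' | h'
          · rw [h', h1.2 h']
          · rw [h, h']
      rw [hb1]
      calc (g : G)⁻¹ * g' * x' i * ((g : G)⁻¹ * g')⁻¹ =
            (g : G)⁻¹ * ((g' : G) * x' i * (g' : G)⁻¹) * g := by group
        _ = x' i := by rw [h2]; group
    have hb1B1 : b1 ∉ B1 := by
      intro h
      exact hb1ne (hfaith' b1 h hb1x)
    have hb1A : b1 ∈ A := hBA hb1B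
    have hb1x0 : b1 * x0 * b1⁻¹ = x0⁻¹ := by
      rcases hx0eig b1 hb1A with h | h
      · exact absurd ((hB1mem b1).2 ⟨hb1B, h⟩) hb1B1
      · exact h
    refine ⟨Fin.cons b1 b', Fin.cons x0 x', ?_, ?_, ?_, ?_⟩
    · intro i
      induction i using Fin.cases with
      | zero =>
        simp only [Fin.cons_zero]
        exact ⟨hb1B, hx0M, hx01, hb1x0, hx0eig⟩
      | succ j =>
        simp only [Fin.cons_succ]
        obtain ⟨h1, h2, h3, h4, h5⟩ := hbx j
        exact ⟨hB1B h1, h2, h3, h4, h5⟩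
    · intro i j hij
      induction i using Fin.cases with
      | zero =>
        induction j using Fin.cases with
        | zero => exact absurd rfl hij
        | succ j' =>
          simp only [Fin.cons_zero, Fin.cons_succ]
          exact ((hB1mem _).1 (hbx j').1).2
      | succ i' =>
        induction j using Fin.cases with
        | zero =>
          simp only [Fin.cons_zero, Fin.cons_succ]
          exact hb1x i'
        | succ j' =>
          simp only [Fin.cons_succ]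
          exact hcross i' j' (fun h => hij (by rw [h]))
    · apply le_antisymm
      · apply iSup_le
        intro i
        rw [Subgroup.zpowers_le]
        induction i using Fin.cases with
        | zero => simp only [Fin.cons_zero]; exact hb1B
        | succ j => simp only [Fin.cons_succ]; exact hB1B (hbx j).1
      · intro g hg
        have hS1 : B1 ≤ ⨆ i, Subgroup.zpowers ((Fin.cons b1 b' : Fin (k + 1) → G) i) := by
          rw [← hgen]
          apply iSup_le
          intro j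
          have := le_iSup (fun i => Subgroup.zpowers ((Fin.cons b1 b' : Fin (k + 1) → G) i))
            j.succ
          simp only [Fin.cons_succ] at this
          exact this
        have hS2 : b1 ∈ ⨆ i, Subgroup.zpowers ((Fin.cons b1 b' : Fin (k + 1) → G) i) := by
          have := le_iSup (fun i => Subgroup.zpowers ((Fin.cons b1 b' : Fin (k + 1) → G) i)) 0
          simp only [Fin.cons_zero] at this
          exact this (Subgroup.mem_zpowers b1)
        by_cases hgB1 : g ∈ B1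
        · exact hS1 hgB1
        · have hgA := hBA hg
          have hgx0 : g * x0 * g⁻¹ = x0⁻¹ := by
            rcases hx0eig g hgA with h | h
            · exact absurd ((hB1mem g).2 ⟨hg, h⟩) hgB1
            · exact h
          have h1 : g * b1 ∈ B1 := by
            rw [hB1mem]
            refine ⟨mul_mem hg hb1B, ?_⟩
            calc (g * b1) * x0 * (g * b1)⁻¹ = g * (b1 * x0 * b1⁻¹) * g⁻¹ := by group
              _ = (g * x0 * g⁻¹)⁻¹ := by rw [hb1x0]; group
              _ = x0 := by rw [hgx0, inv_inv]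
          have h2 : g = (g * b1) * b1⁻¹ := by group
          rw [h2]
          exact mul_mem (hS1 h1) (inv_mem hS2)
    · intro g hg hgx
      have h0 := hgx 0
      simp only [Fin.cons_zero] at h0
      have hgB1 : g ∈ B1 := (hB1mem g).2 ⟨hg, h0⟩
      apply hfaith' g hgB1
      intro i
      have := hgx i.succ
      simp only [Fin.cons_succ] at this
      exact this

/-- Let G be finite, L ≤ G solvable of odd order, and A an elementary abelian 2-subgroup of order 2^d (d ≥ 1) normalizing L with C_A(L) = 1. Then there are subgroups A_1, …, A_d of A of order 2 generating A and subgroups L_1, …, L_d of L such that each A_i ⊔ L_i is dihedral of order 2 n_i with n_i odd and at least 3, and A_i ⊔ L_i commutes elementwise with A_j ⊔ L_j for i ≠ j. -/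
theorem result {G : Type*} [Group G] [Finite G] (L A : Subgroup G) (hLs : Group.IsSolvable ↥L) (hLodd : Odd (Nat.card ↥L)) (hA : Cfsg.IsElementaryAbelian 2 A) (d : ℕ) (hd : 1 ≤ d) (hAd : Nat.card ↥A = 2 ^ d) (hAL : A ≤ Subgroup.normalizer (L : Set G)) (hfaith : A ⊓ Subgroup.centralizer (L : Set G) = ⊥) : ∃ (Ai : Fin d → Subgroup G) (Li : Fin d → Subgroup G) (n : Fin d → ℕ), (∀ i, Ai i ≤ A ∧ Nat.card ↥(Ai i) = 2 ∧ Li i ≤ L ∧ Odd (n i) ∧ 3 ≤ n i ∧ Nonempty (↥(Ai i ⊔ Li i) ≃* DihedralGroup (n i))) ∧ (⨆ i, Ai i) = A ∧ ∀ i j, i ≠ j → ∀ x ∈ Ai i ⊔ Li i, ∀ y ∈ Ai j ⊔ Li j, x * y = y * x := by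
  classical
  obtain ⟨hAcomm, hAexp⟩ := hA
  have hAc : ∀ a ∈ A, ∀ b ∈ A, a * b = b * a := by
    intro a ha b hb
    haveI := hAcomm
    exact congrArg Subtype.val (mul_comm' (⟨a, ha⟩ : ↥A) ⟨b, hb⟩)
  have hA2 : ∀ a ∈ A, a * a = 1 := by
    intro a ha
    rw [← pow_two]; exact hAexp a ha
  obtain ⟨F, hF⟩ : ∃ F : Subgroup G, F = (Cfsg.fittingSubgroup ↥L).map L.subtype := ⟨_, rfl⟩
  have hFL : F ≤ L := by rw [hF]; exact Subgroup.map_subtype_le _
  have hFmem : ∀ g, g ∈ F ↔ ∃ h : g ∈ L, (⟨g, h⟩ : ↥L) ∈ Cfsg.fittingSubgroup ↥L := by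
    intro g
    rw [hF]
    constructor
    · rintro ⟨y, hy, rfl⟩
      exact ⟨y.2, hy⟩
    · rintro ⟨h, hy⟩
      exact ⟨⟨g, h⟩, hy, rfl⟩
  have hLF : L ≤ Subgroup.normalizer (F : Set G) := by
    apply norm_of_conj
    intro l hl w hw
    obtain ⟨hwL, hw'⟩ := (hFmem w).1 hw
    have := (Cfsg.Agent.Lib.Helper2.Fit.fitting_normal (G := ↥L)).conj_mem _ hw' ⟨l, hl⟩
    exact (hFmem _).2 ⟨mul_mem (mul_mem hl hwL) (inv_mem hl), this⟩
  have hAF : A ≤ Subgroup.normalizer (F : Set G) := by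
    apply norm_of_conj
    intro a ha w hw
    obtain ⟨hwL, hw'⟩ := (hFmem w).1 hw
    have h1 := Cfsg.Agent.Lib.Helper2.Fstar.fitting_map_equiv (L.normalizerMonoidHom ⟨a, hAL ha⟩)
    have h2 : (L.normalizerMonoidHom ⟨a, hAL ha⟩) ⟨w, hwL⟩ ∈ Cfsg.fittingSubgroup ↥L := by
      have h3 : (L.normalizerMonoidHom ⟨a, hAL ha⟩) ⟨w, hwL⟩ ∈
          (Cfsg.fittingSubgroup ↥L).map (L.normalizerMonoidHom ⟨a, hAL ha⟩).toMonoidHom :=
        Subgroup.mem_map_of_mem _ hw'
      rw [h1] at h3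
      exact h3
    exact (hFmem _).2 ⟨(Subgroup.mem_set_normalizer_iff.1 (hAL ha) w).1 hwL, h2⟩
  have hFnil : Group.IsNilpotent ↥F := by
    haveI := Cfsg.Agent.Lib.Helper2.Fit.fitting_nilpotent (G := ↥L)
    rw [hF]
    exact Group.nilpotent_of_mulEquiv
      ((Cfsg.fittingSubgroup ↥L).equivMapOfInjective L.subtype L.subtype_injective)
  have hCLF : ∀ l ∈ L, (∀ y ∈ F, l * y = y * l) → l ∈ F := by
    intro l hl hc
    haveI := hLs
    have h1 : (⟨l, hl⟩ : ↥L) ∈ Subgroup.centralizer (Cfsg.fittingSubgroup ↥L : Set ↥L) := by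
      rw [Subgroup.mem_centralizer_iff]
      intro y hy
      apply Subtype.ext
      exact (hc y ((hFmem _).2 ⟨y.2, hy⟩)).symm
    exact (hFmem l).2 ⟨hl, Cfsg.Agent.S0044.result h1⟩
  have hFodd : Odd (Nat.card F) := Odd.of_dvd_nat hLodd (Subgroup.card_dvd_of_le hFL)
  have hbotN : ∀ K : Subgroup G, K ≤ Subgroup.normalizer ((⊥ : Subgroup G) : Set G) := by
    intro K
    apply norm_of_conj
    intro a _ w hw
    rw [Subgroup.mem_bot] at hw ⊢
    rw [hw]; simp
  obtain ⟨M, -, hMmax⟩ := (Set.toFinite {M : Subgroup G | M ≤ F ∧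
      (∀ x ∈ M, ∀ y ∈ M, x * y = y * x) ∧ F ≤ Subgroup.normalizer (M : Set G) ∧
      A ≤ Subgroup.normalizer (M : Set G)}).exists_le_maximal (a := ⊥)
    ⟨bot_le, by intro x hx y hy; rw [Subgroup.mem_bot.1 hx, Subgroup.mem_bot.1 hy],
      hbotN F, hbotN A⟩
  obtain ⟨⟨hMF, hMc, hFM, hAM⟩, hMmax'⟩ := hMmax
  have hCM : ∀ f ∈ F, (∀ m ∈ M, f * m = m * f) → f ∈ M := by
    by_contra hcon
    push_neg at hcon
    obtain ⟨f0, hf0F, hf0c, hf0M⟩ := hcon
    obtain ⟨C, hC⟩ : ∃ C : Subgroup G, C = F ⊓ Subgroup.centralizer (M : Set G) := ⟨_, rfl⟩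
    have hCmem : ∀ g, g ∈ C ↔ g ∈ F ∧ ∀ m ∈ M, g * m = m * g := by
      intro g
      rw [hC, Subgroup.mem_inf, Subgroup.mem_centralizer_iff]
      constructor
      · rintro ⟨h1, h2⟩; exact ⟨h1, fun m hm => (h2 m hm).symm⟩
      · rintro ⟨h1, h2⟩; exact ⟨h1, fun m hm => (h2 m hm).symm⟩
    have hCF : C ≤ F := hC ▸ inf_le_left
    have hconjC : ∀ g, g ∈ Subgroup.normalizer (F : Set G) →
        g ∈ Subgroup.normalizer (M : Set G) → ∀ w ∈ C, g * w * g⁻¹ ∈ C := by
      intro g hgF hgM w hw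
      rw [hCmem] at hw ⊢
      refine ⟨(Subgroup.mem_set_normalizer_iff.1 hgF w).1 hw.1, ?_⟩
      intro m hm
      have h1 : g⁻¹ * m * g ∈ M := (Subgroup.mem_set_normalizer_iff''.1 hgM m).1 hm
      have h2 := hw.2 _ h1
      calc g * w * g⁻¹ * m = g * (w * (g⁻¹ * m * g)) * g⁻¹ := by group
        _ = g * ((g⁻¹ * m * g) * w) * g⁻¹ := by rw [h2]
        _ = m * (g * w * g⁻¹) := by group
    have hFC : F ≤ Subgroup.normalizer (C : Set G) :=
      norm_of_conj _ _ (fun f hf w hw => hconjC f (Subgroup.le_normalizer hf) (hFM hf) w hw)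
    have hAC : ∀ a ∈ A, ∀ w ∈ C, a * w * a⁻¹ ∈ C :=
      fun a ha w hw => hconjC a (hAF ha) (hAM ha) w hw
    have hCnM : ¬ C ≤ M := fun h => hf0M (h ((hCmem f0).2 ⟨hf0F, hf0c⟩))
    obtain ⟨y, hyC, hyM, hyT⟩ := lemZ F M C hFnil hCF hFC hCnM
    obtain ⟨U, hU⟩ : ∃ U : Subgroup G, ∀ w, w ∈ U ↔ w ∈ C ∧ ∀ f ∈ F, ⁅w, f⁆ ∈ M := by
      refine ⟨
        { carrier := {w | w ∈ C ∧ ∀ f ∈ F, ⁅w, f⁆ ∈ M}
          mul_mem' := ?_
          one_mem' := ⟨one_mem _, fun f _ => by simp⟩
          inv_mem' := ?_ }, fun w => Iff.rfl⟩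
      · rintro w w' ⟨hw, hwT⟩ ⟨hw', hwT'⟩
        refine ⟨mul_mem hw hw', fun f hf => ?_⟩
        have h1 : ⁅w * w', f⁆ = (w * ⁅w', f⁆ * w⁻¹) * ⁅w, f⁆ := by
          simp only [commutatorElement_def]; group
        rw [h1]
        exact mul_mem ((Subgroup.mem_set_normalizer_iff.1 (hFM (hCF hw)) _).1 (hwT' f hf))
          (hwT f hf)
      · rintro w ⟨hw, hwT⟩
        refine ⟨inv_mem hw, fun f hf => ?_⟩
        have h1 : ⁅w⁻¹, f⁆ = w⁻¹ * (⁅w, f⁆)⁻¹ * w⁻¹⁻¹ := by
          simp only [commutatorElement_def]; group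
        rw [h1]
        exact (Subgroup.mem_set_normalizer_iff.1 (hFM (hCF (inv_mem hw))) _).1
          (inv_mem (hwT f hf))
    have hUF : U ≤ F := fun w hw => hCF ((hU w).1 hw).1
    have hMC : M ≤ C := fun m hm => (hCmem m).2 ⟨hMF hm, fun m' hm' => hMc m hm m' hm'⟩
    have hMU : M ≤ U := by
      intro m hm
      rw [hU]
      refine ⟨hMC hm, fun f hf => ?_⟩
      have h1 : ⁅m, f⁆ = m * (f * m⁻¹ * f⁻¹) := by simp [commutatorElement_def, mul_assoc]
      rw [h1]
      exact mul_mem hm ((Subgroup.mem_set_normalizer_iff.1 (hFM hf) _).1 (inv_mem hm))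
    have hyU : y ∈ U := (hU y).2 ⟨hyC, hyT⟩
    have hMneU : M ≠ U := fun h => hyM (h ▸ hyU)
    have hAU : A ≤ Subgroup.normalizer (U : Set G) := by
      apply norm_of_conj
      intro a ha w hw
      rw [hU] at hw ⊢
      refine ⟨hAC a ha w hw.1, fun f hf => ?_⟩
      have h1 : a⁻¹ * f * a ∈ F := (Subgroup.mem_set_normalizer_iff''.1 (hAF ha) f).1 hf
      have h2 : ⁅a * w * a⁻¹, f⁆ = a * ⁅w, a⁻¹ * f * a⁆ * a⁻¹ := by
        simp only [commutatorElement_def]; group
      rw [h2]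
      exact (Subgroup.mem_set_normalizer_iff.1 (hAM ha) _).1 (hw.2 _ h1)
    obtain ⟨y', hy'U, hy'M, hy'e⟩ := lemE A hAc hA2 M hAM (Nat.card U) U le_rfl hMU hMneU
      (hUF.trans hFM) (by
        rw [Subgroup.commutator_le]
        intro u hu v hv
        exact ((hU u).1 hu).2 v (hUF hv)) hAU
    have hy'C := ((hU y').1 hy'U).1
    have hy'c : ∀ m ∈ M, y' * m = m * y' := ((hCmem y').1 hy'C).2
    obtain ⟨N, hN⟩ : ∃ N : Subgroup G, N = M ⊔ Subgroup.zpowers y' := ⟨_, rfl⟩
    have hMN : M ≤ N := hN ▸ le_sup_left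
    have hy'N : y' ∈ N :=
      hN ▸ (le_sup_right : Subgroup.zpowers y' ≤ M ⊔ Subgroup.zpowers y') (Subgroup.mem_zpowers y')
    have hNprop : N ∈ {M : Subgroup G | M ≤ F ∧
        (∀ x ∈ M, ∀ y ∈ M, x * y = y * x) ∧ F ≤ Subgroup.normalizer (M : Set G) ∧
        A ≤ Subgroup.normalizer (M : Set G)} := by
      refine ⟨?_, ?_, ?_, ?_⟩
      · rw [hN]; exact sup_le hMF ((Subgroup.zpowers_le).2 (hCF hy'C))
      · rw [hN]; exact sup_zpowers_comm M y' hMc hy'c
      · apply norm_of_conj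
        intro f hf n hn
        rw [hN] at hn
        refine conj_sup_zpowers M N y' f
          (fun m hm => hMN ((Subgroup.mem_set_normalizer_iff.1 (hFM hf) m).1 hm)) ?_ n hn
        have h1 : f * y' * f⁻¹ = y' * ⁅y'⁻¹, f⁆ := by
          simp only [commutatorElement_def]; group
        rw [h1]
        exact mul_mem hy'N (hMN (((hU _).1 (inv_mem hy'U)).2 f hf))
      · apply norm_of_conj
        intro a ha n hn
        rw [hN] at hn
        refine conj_sup_zpowers M N y' a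
          (fun m hm => hMN ((Subgroup.mem_set_normalizer_iff.1 (hAM ha) m).1 hm)) ?_ n hn
        rcases hy'e a ha with h | h
        · have h1 : a * y' * a⁻¹ = y' * (y'⁻¹ * (a * y' * a⁻¹)) := by group
          rw [h1]; exact mul_mem hy'N (hMN h)
        · have h1 : a * y' * a⁻¹ = y'⁻¹ * (y' * (a * y' * a⁻¹)) := by group
          rw [h1]; exact mul_mem (inv_mem hy'N) (hMN h)
    exact hy'M (hMmax' hNprop hMN hy'N)
  have hfaithM : A ⊓ Subgroup.centralizer (M : Set G) = ⊥ := by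
    rw [eq_bot_iff]
    intro a ha
    obtain ⟨haA, haC⟩ := Subgroup.mem_inf.1 ha
    rw [Subgroup.mem_centralizer_iff] at haC
    have h1 : ∀ f ∈ F, a * f = f * a :=
      lemT a (hA2 a haA) F M hFodd hFM (hAF haA) (fun m hm => (haC m hm).symm)
        (fun f hf hfc => (haC f (hCM f hf hfc)).symm)
    have h2 : ∀ l ∈ L, a * l = l * a :=
      lemT a (hA2 a haA) L F hLodd hLF (hAL haA) h1
        (fun l hl hlc => h1 l (hCLF l hl hlc))
    have h3 : a ∈ A ⊓ Subgroup.centralizer (L : Set G) :=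
      Subgroup.mem_inf.2 ⟨haA, Subgroup.mem_centralizer_iff.2 (fun l hl => (h2 l hl).symm)⟩
    rw [hfaith] at h3
    exact h3
  have hMLodd : Odd (Nat.card M) :=
    Odd.of_dvd_nat hLodd (Subgroup.card_dvd_of_le (hMF.trans hFL))
  obtain ⟨b, x, hbx, hcross, hgen, -⟩ :=
    lemAb A M hAc hA2 hMc hMLodd hAM d A le_rfl hAd hfaithM
  have hbinv : ∀ i, (b i)⁻¹ = b i := fun i => inv_eq_of_mul_eq_one_left (hA2 _ (hbx i).1)
  have hxodd : ∀ i, x i * x i = 1 → x i = 1 := by
    intro i hxx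
    have h1 : orderOf (x i) ∣ 2 := orderOf_dvd_of_pow_eq_one (by rw [pow_two]; exact hxx)
    have h2 : orderOf (x i) ∣ Nat.card M := Subgroup.orderOf_dvd_natCard M (hbx i).2.1
    exact orderOf_eq_one_iff.1
      (Nat.eq_one_of_dvd_coprimes (Nat.coprime_two_left.2 hMLodd) h1 h2)
  have hbne : ∀ i, b i ≠ 1 := by
    intro i h
    obtain ⟨-, hxM, hx1, hinv, -⟩ := hbx i
    have h2 : x i = (x i)⁻¹ := by simpa [h] using hinv
    exact hx1 (hxodd i (mul_eq_one_iff_eq_inv.2 h2))
  refine ⟨fun i => Subgroup.zpowers (b i), fun i => Subgroup.zpowers (x i),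
    fun i => orderOf (x i), ?_, hgen, ?_⟩
  · intro i
    obtain ⟨hbA, hxM, hx1, hinv, -⟩ := hbx i
    have hxL : x i ∈ L := hFL (hMF hxM)
    have hordodd : Odd (orderOf (x i)) :=
      Odd.of_dvd_nat hLodd (Subgroup.orderOf_dvd_natCard L hxL)
    have hb2 : orderOf (b i) = 2 :=
      orderOf_eq_prime (by rw [pow_two]; exact hA2 _ hbA) (hbne i)
    refine ⟨(Subgroup.zpowers_le).2 hbA, ?_, (Subgroup.zpowers_le).2 hxL, hordodd, ?_, ?_⟩
    · rw [Nat.card_zpowers, hb2]
    · obtain ⟨t, ht⟩ := hordodd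
      have : orderOf (x i) ≠ 1 := fun h => hx1 (orderOf_eq_one_iff.1 h)
      show 3 ≤ orderOf (x i)
      omega
    · have hbx2 : orderOf (b i * x i) = 2 := by
        apply orderOf_eq_prime
        · rw [pow_two]
          calc b i * x i * (b i * x i) = (b i * x i * (b i)⁻¹) * (b i * b i) * x i := by group
            _ = 1 := by rw [hinv, hA2 _ hbA]; group
        · intro h
          have h1 : x i = b i := by
            have := eq_inv_of_mul_eq_one_right h
            rw [this, hbinv]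
          exact hx1 (hxodd i (by rw [h1]; exact hA2 _ hbA))
      have hprod : b i * (b i * x i) = x i := by rw [← mul_assoc, hA2 _ hbA, one_mul]
      have hpos : 0 < orderOf (b i * (b i * x i)) := by rw [hprod]; exact orderOf_pos _
      have hdih := Cfsg.Agent.Lib.Helper1.dihedral_closure (b i) (b i * x i) hb2 hbx2 hpos
      rw [hprod] at hdih
      have hcl : Subgroup.zpowers (b i) ⊔ Subgroup.zpowers (x i) =
          Subgroup.closure ({b i, b i * x i} : Set G) := by
        apply le_antisymm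
        · refine sup_le ?_ ?_
          · rw [Subgroup.zpowers_le]; exact Subgroup.subset_closure (by simp)
          · rw [Subgroup.zpowers_le]
            have h1 : x i = (b i)⁻¹ * (b i * x i) := by group
            rw [h1]
            exact mul_mem (inv_mem (Subgroup.subset_closure (by simp)))
              (Subgroup.subset_closure (by simp))
        · rw [Subgroup.closure_le]
          rintro g (rfl | rfl)
          · exact (le_sup_left : Subgroup.zpowers (b i) ≤ _) (Subgroup.mem_zpowers _)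
          · exact mul_mem ((le_sup_left : Subgroup.zpowers (b i) ≤ _) (Subgroup.mem_zpowers _))
              ((le_sup_right : Subgroup.zpowers (x i) ≤ _) (Subgroup.mem_zpowers _))
      obtain ⟨e⟩ := hdih
      exact ⟨(MulEquiv.subgroupCongr hcl).trans e⟩
  · intro i j hij u hu v hv
    obtain ⟨hbiA, hxiM, -, -, -⟩ := hbx i
    obtain ⟨hbjA, hxjM, -, -, -⟩ := hbx j
    have h1 : b i * x j * (b i)⁻¹ = x j := hcross j i (fun h => hij h.symm)
    have h2 : b j * x i * (b j)⁻¹ = x i := hcross i j hij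
    have h1' : b i * x j = x j * b i := by
      calc b i * x j = (b i * x j * (b i)⁻¹) * b i := by group
        _ = x j * b i := by rw [h1]
    have h2' : b j * x i = x i * b j := by
      calc b j * x i = (b j * x i * (b j)⁻¹) * b j := by group
        _ = x i * b j := by rw [h2]
    have hle1 : Subgroup.zpowers (b i) ⊔ Subgroup.zpowers (x i) ≤
        Subgroup.centralizer ({b j, x j} : Set G) := by
      refine sup_le ?_ ?_
      · rw [Subgroup.zpowers_le, Subgroup.mem_centralizer_iff]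
        rintro s (rfl | rfl)
        · exact hAc _ hbjA _ hbiA
        · exact h1'.symm
      · rw [Subgroup.zpowers_le, Subgroup.mem_centralizer_iff]
        rintro s (rfl | rfl)
        · exact h2'
        · exact hMc _ hxjM _ hxiM
    have hu' := Subgroup.mem_centralizer_iff.1 (hle1 hu)
    have hle2 : Subgroup.zpowers (b j) ⊔ Subgroup.zpowers (x j) ≤
        Subgroup.centralizer ({u} : Set G) := by
      refine sup_le ?_ ?_
      · rw [Subgroup.zpowers_le, Subgroup.mem_centralizer_iff]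
        intro s hs
        rw [Set.mem_singleton_iff.1 hs]
        exact (hu' (b j) (by simp)).symm
      · rw [Subgroup.zpowers_le, Subgroup.mem_centralizer_iff]
        intro s hs
        rw [Set.mem_singleton_iff.1 hs]
        exact (hu' (x j) (by simp)).symm
    exact (Subgroup.mem_centralizer_iff.1 (hle2 hv)) u rfl

end Cfsg.Agent.S1349
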