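import Cfsg.Statements.S1387
import Mathlib
import Cfsg.Agent.Lib.Helper2.Fit
import Cfsg.Agent.Lib.Helper5.PRed

set_option autoImplicit false
open Cfsg

namespace Cfsg.Agent.S1387

open Cfsg.Agent.Lib.Helper2

theorem cop_cent {G : Type*} [Group G] [Finite G] (F N : Subgroup G)
    (hF : Group.IsNilpotent ↥F) (hNF : N ≤ F) (u : G) (huF : u ∈ F)
    (hun : ∀ n ∈ N, u * n * u⁻¹ ∈ N) (hcop : (orderOf u).Coprime (Nat.card N)) :
    ∀ n ∈ N, u * n * u⁻¹ = n := by
  obtain ⟨k, hk⟩ := (Subgroup.isNilpotent_iff_lowerCentralSeries F).1 hF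
  have key : ∀ i, i ≤ k → ∀ n ∈ N ⊓ F.lowerCentralSeries (k - i), u * n * u⁻¹ = n := by
    intro i
    induction i with
    | zero =>
      intro _ n hn
      have h0 : n ∈ (⊥ : Subgroup G) := by
        rw [← hk]
        have h1 := hn.2
        rwa [Nat.sub_zero] at h1
      rw [Subgroup.mem_bot] at h0
      rw [h0]; group
    | succ i ih =>
      intro hi n hn
      have hki : k - i = (k - (i + 1)) + 1 := by omega
      obtain ⟨z, hz⟩ : ∃ z, z = u * n * u⁻¹ * n⁻¹ := ⟨_, rfl⟩
      have hzN : z ∈ N := by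
        rw [hz]; exact N.mul_mem (hun n hn.1) (N.inv_mem hn.1)
      have hzL : z ∈ F.lowerCentralSeries (k - i) := by
        rw [hki, Subgroup.lowerCentralSeries_succ, Subgroup.commutator_comm, hz]
        exact Subgroup.commutator_mem_commutator huF hn.2
      have hzu : u * z * u⁻¹ = z := ih (by omega) z ⟨hzN, hzL⟩
      have e3 : u * n * u⁻¹ = z * n := by rw [hz]; group
      have hpow : ∀ j : ℕ, u ^ j * n * (u ^ j)⁻¹ = z ^ j * n := by
        intro j
        induction j with
        | zero => simp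
        | succ j ihj =>
          have e1 : u ^ (j + 1) * n * (u ^ (j + 1))⁻¹ = u * (u ^ j * n * (u ^ j)⁻¹) * u⁻¹ := by
            rw [pow_succ']; group
          have e2 : u * (z ^ j * n) * u⁻¹ = (u * z * u⁻¹) ^ j * (u * n * u⁻¹) := by
            rw [conj_pow]; group
          rw [e1, ihj, e2, hzu, e3, ← mul_assoc, ← pow_succ]
      have h1 := hpow (orderOf u)
      rw [pow_orderOf_eq_one] at h1
      have hzm : z ^ orderOf u = 1 := by
        have h2 : z ^ orderOf u * n = 1 * n := by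
          rw [one_mul, ← h1]; group
        exact mul_right_cancel h2
      have hzc : z ^ Nat.card N = 1 := by
        have h3 : (⟨z, hzN⟩ : ↥N) ^ Nat.card ↥N = 1 := pow_card_eq_one'
        have h4 := congrArg Subtype.val h3
        rw [Subgroup.coe_pow] at h4
        exact h4
      have hz1 : z = 1 := by
        have d1 := orderOf_dvd_of_pow_eq_one hzm
        have d2 := orderOf_dvd_of_pow_eq_one hzc
        have d3 : orderOf z ∣ Nat.gcd (orderOf u) (Nat.card N) := Nat.dvd_gcd d1 d2
        rw [hcop, Nat.dvd_one] at d3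
        exact orderOf_eq_one_iff.mp d3
      rw [e3, hz1, one_mul]
  intro n hn
  have h0 := key k le_rfl n
  rw [Nat.sub_self, Subgroup.lowerCentralSeries_zero] at h0
  exact h0 ⟨hn, hNF hn⟩

theorem key_cent {G : Type*} [Group G] [Finite G] (M W₁ U W₂ : Subgroup G)
    (hP : Cfsg.IsTypePWith M W₁ U W₂) (u : G) (huU : u ∈ U) (huF : u ∈ Cfsg.fittingOf M) :
    u ∈ Subgroup.centralizer (Cfsg.fittingHallOf M : Set G) := by
  obtain ⟨hHM', hUM', hHU, hdecU⟩ := hP.U_compl
  have hM'M : ⁅M, M⁆ ≤ M := Subgroup.commutator_le_self M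
  have huM : u ∈ M := hM'M (hUM' huU)
  have hFnil : Group.IsNilpotent ↥(Cfsg.fittingOf M) := by
    haveI := Fit.fitting_nilpotent (G := ↥M)
    unfold Cfsg.fittingOf
    exact Group.nilpotent_of_surjective (M.subtype.subgroupMap (Cfsg.fittingSubgroup ↥M))
      (M.subtype.subgroupMap_surjective _)
  have hle : Cfsg.fittingHall ↥M ≤
      (Subgroup.centralizer ({u} : Set G)).comap M.subtype := by
    apply sSup_le
    rintro N ⟨hNn, hNnil, hNcop⟩
    intro x hx
    have hNF : N.map M.subtype ≤ Cfsg.fittingOf M := by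
      unfold Cfsg.fittingOf
      exact Subgroup.map_mono (Fit.le_fitting N hNn hNnil)
    have hnorm := Cfsg.Agent.Lib.Helper5.PRed.le_normalizer_map_subtype M N hNn huM
    have hun : ∀ n ∈ N.map M.subtype, u * n * u⁻¹ ∈ N.map M.subtype :=
      fun n hn => (Subgroup.mem_normalizer_iff.1 hnorm n).1 hn
    have hdvd : orderOf u ∣ N.index := by
      have h1 : orderOf (QuotientGroup.mk' N ⟨u, huM⟩) ∣ N.index := by
        rw [Subgroup.index_eq_card]; exact orderOf_dvd_natCard _
      refine dvd_trans (orderOf_dvd_of_pow_eq_one ?_) h1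
      have h2 : (QuotientGroup.mk' N ⟨u, huM⟩) ^ orderOf (QuotientGroup.mk' N ⟨u, huM⟩) = 1 :=
        pow_orderOf_eq_one _
      rw [← map_pow] at h2
      have h3 := (QuotientGroup.eq_one_iff _).1 h2
      have h4 : u ^ orderOf (QuotientGroup.mk' N ⟨u, huM⟩) ∈ N.map M.subtype :=
        ⟨_, h3, by simp⟩
      have hNle : N ≤ Cfsg.fittingHall ↥M :=
        le_sSup (show N ∈ {N : Subgroup ↥M | N.Normal ∧ Group.IsNilpotent N ∧
          (Nat.card N).Coprime N.index} from ⟨hNn, hNnil, hNcop⟩)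
      have h5 : u ^ orderOf (QuotientGroup.mk' N ⟨u, huM⟩) ∈ Cfsg.fittingHallOf M :=
        (Subgroup.map_mono hNle) h4
      have h6 : u ^ orderOf (QuotientGroup.mk' N ⟨u, huM⟩) ∈ Cfsg.fittingHallOf M ⊓ U :=
        ⟨h5, U.pow_mem huU _⟩
      rw [hHU, Subgroup.mem_bot] at h6
      exact h6
    have hcard : Nat.card ↥(N.map M.subtype) = Nat.card ↥N :=
      (Nat.card_congr (N.equivMapOfInjective M.subtype M.subtype_injective).toEquiv).symm
    have hcop : (orderOf u).Coprime (Nat.card ↥(N.map M.subtype)) := by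
      rw [hcard]; exact Nat.Coprime.coprime_dvd_left hdvd hNcop.symm
    have h7 := cop_cent (Cfsg.fittingOf M) (N.map M.subtype) hFnil hNF u huF hun hcop
      (x : G) (show (x : G) ∈ N.map M.subtype from ⟨x, hx, rfl⟩)
    show (x : G) ∈ Subgroup.centralizer ({u} : Set G)
    rw [Subgroup.mem_centralizer_iff]
    intro w hw
    rw [Set.mem_singleton_iff] at hw
    subst hw
    calc w * (x : G) = w * (x : G) * w⁻¹ * w := by group
      _ = (x : G) * w := by rw [h7]
  rw [Subgroup.mem_centralizer_iff]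
  intro h hh
  have hh' : h ∈ (Cfsg.fittingHall ↥M).map M.subtype := hh
  obtain ⟨x, hx, rfl⟩ := hh'
  have h8 : (x : G) ∈ Subgroup.centralizer ({u} : Set G) := hle hx
  rw [Subgroup.mem_centralizer_iff] at h8
  exact (h8 u rfl).symm

theorem result {G : Type*} [Group G] [Finite G] (M W₁ U W₂ : Subgroup G) (hP : Cfsg.IsTypePWith M W₁ U W₂) :
    Cfsg.fittingOf M = Cfsg.fittingHallOf M ⊔ (U ⊓ Subgroup.centralizer (Cfsg.fittingHallOf M : Set G)) := by
  obtain ⟨hHM', hUM', hHU, hdecU⟩ := hP.U_compl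
  have hM'M : ⁅M, M⁆ ≤ M := Subgroup.commutator_le_self M
  apply le_antisymm
  · intro f hf
    have hfM' := hP.fitting_le hf
    obtain ⟨h, hh, u, hu, rfl⟩ := hdecU f hfM'
    have hHF : Cfsg.fittingHallOf M ≤ Cfsg.fittingOf M := by
      rw [← hP.fitting_eq]; exact le_sup_left
    have huF : u ∈ Cfsg.fittingOf M := by
      have h1 := (Cfsg.fittingOf M).mul_mem ((Cfsg.fittingOf M).inv_mem (hHF hh)) hf
      simpa using h1
    exact Subgroup.mul_mem _ (Subgroup.mem_sup_left hh)
      (Subgroup.mem_sup_right ⟨hu, key_cent M W₁ U W₂ hP u hu huF⟩)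
  · rw [← hP.fitting_eq]
    exact sup_le_sup_left (inf_le_inf_right _ (hUM'.trans hM'M)) _

end Cfsg.Agent.S1387
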