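import Cfsg.Statements.S1388
import Mathlib
import Cfsg.Agent.Lib.Helper2.Fit
import Cfsg.Agent.S1387

set_option autoImplicit false
open Cfsg

namespace Cfsg.Agent.S1388

open Cfsg.Agent.Lib.Helper2
open scoped Pointwise

theorem result {G : Type*} [Group G] [Finite G] (M W₁ U W₂ : Subgroup G) (hP : Cfsg.IsTypePWith M W₁ U W₂) :
    ⁅U, U⁆ ≤ Subgroup.centralizer (Cfsg.fittingHallOf M : Set G) ∧ (U ≠ ⊥ → ¬ U ≤ Subgroup.centralizer (Cfsg.fittingHallOf M : Set G)) := by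
  obtain ⟨hHM', hUM', hHU, hdecU⟩ := hP.U_compl
  obtain ⟨hM'M0, hW₁M, hM'W₁, hdecW⟩ := hP.W₁_compl
  have hM'M : ⁅M, M⁆ ≤ M := Subgroup.commutator_le_self M
  refine ⟨?_, ?_⟩
  · intro u hu
    have huU : u ∈ U := Subgroup.commutator_le_self U hu
    have huF : u ∈ Cfsg.fittingOf M := by
      rw [← hP.fitting_eq]
      exact hP.derived_two_le (Subgroup.commutator_mono hUM' hUM' hu)
    exact Cfsg.Agent.S1387.key_cent M W₁ U W₂ hP u huU huF
  · intro hU1 hUC
    apply hU1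
    have hM'F : ⁅M, M⁆ ≤ Cfsg.fittingOf M := by
      rw [← hP.fitting_eq]
      intro m hm
      obtain ⟨a, ha, b, hb, rfl⟩ := hdecU m hm
      exact Subgroup.mul_mem _ (Subgroup.mem_sup_left ha)
        (Subgroup.mem_sup_right ⟨hM'M (hUM' hb), hUC hb⟩)
    have hFeq : Cfsg.fittingOf M = ⁅M, M⁆ := le_antisymm hP.fitting_le hM'F
    have hN_eq : Cfsg.fittingSubgroup ↥M = (⁅M, M⁆).subgroupOf M := by
      rw [← hFeq]
      unfold Cfsg.fittingOf
      exact (Subgroup.comap_map_eq_self_of_injective M.subtype_injective _).symm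
    have hdisj : Disjoint ((⁅M, M⁆).subgroupOf M) (W₁.subgroupOf M) := by
      rw [disjoint_iff, eq_bot_iff]
      intro x hx
      have h1 : (x : G) ∈ ⁅M, M⁆ ⊓ W₁ :=
        ⟨Subgroup.mem_subgroupOf.1 hx.1, Subgroup.mem_subgroupOf.1 hx.2⟩
      rw [hM'W₁, Subgroup.mem_bot] at h1
      rw [Subgroup.mem_bot]
      exact Subtype.ext h1
    have hmul : (((⁅M, M⁆).subgroupOf M : Subgroup ↥M) : Set ↥M) *
        ((W₁.subgroupOf M : Subgroup ↥M) : Set ↥M) = Set.univ := by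
      rw [Set.eq_univ_iff_forall]
      intro m
      obtain ⟨a, ha, b, hb, hab⟩ := hdecW (m : G) m.2
      rw [Set.mem_mul]
      exact ⟨⟨a, hM'M ha⟩, Subgroup.mem_subgroupOf.2 ha, ⟨b, hW₁M hb⟩,
        Subgroup.mem_subgroupOf.2 hb, Subtype.ext hab.symm⟩
    have hcompl := Subgroup.isComplement'_of_disjoint_and_mul_eq_univ hdisj hmul
    have h1 : (W₁.subgroupOf M).index = Nat.card ↥((⁅M, M⁆).subgroupOf M) :=
      hcompl.index_eq_card
    have h2 : ((⁅M, M⁆).subgroupOf M).index = Nat.card ↥(W₁.subgroupOf M) :=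
      hcompl.symm.index_eq_card
    have hcardB : Nat.card ↥(W₁.subgroupOf M) = Nat.card ↥W₁ :=
      Nat.card_congr (Subgroup.subgroupOfEquivOfLe hW₁M).toEquiv
    have hhall : (Nat.card ↥W₁).Coprime (W₁.subgroupOf M).index := hP.W₁_hall
    have hmem : Cfsg.fittingSubgroup ↥M ∈ {N : Subgroup ↥M | N.Normal ∧ Group.IsNilpotent N ∧
        (Nat.card N).Coprime N.index} := by
      refine ⟨Fit.fitting_normal, Fit.fitting_nilpotent, ?_⟩
      rw [hN_eq, h2, ← h1, hcardB]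
      exact hhall.symm
    have hle : Cfsg.fittingSubgroup ↥M ≤ Cfsg.fittingHall ↥M := le_sSup hmem
    have hM'H : ⁅M, M⁆ ≤ Cfsg.fittingHallOf M := by
      rw [← hFeq]
      exact Subgroup.map_mono hle
    rw [eq_bot_iff]
    intro u hu
    have h3 : u ∈ Cfsg.fittingHallOf M ⊓ U := ⟨hM'H (hUM' hu), hu⟩
    rwa [hHU] at h3

end Cfsg.Agent.S1388
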