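import Cfsg.Statements.S1453

import Mathlib
import Cfsg.Agent.S1452
import Cfsg.Agent.S1447
import Cfsg.Agent.S0112
import Cfsg.Agent.S3880

set_option autoImplicit false
open Cfsg
open scoped Pointwise

namespace Cfsg.Agent.S1453

open scoped commutatorElement

theorem gen2 {G : Type*} [Group G] [Finite G] (p : ℕ) (hp : p.Prime) (Z K : Subgroup G)
    (hZ : Nat.card Z = p) (hK : Nat.card K = p ^ 2) (hZK : Z ≤ K) (e : G) (heK : e ∈ K)
    (heZ : e ∉ Z) : Z ⊔ Subgroup.zpowers e = K := by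
  have hKle : Z ⊔ Subgroup.zpowers e ≤ K := sup_le hZK (by rw [Subgroup.zpowers_le]; exact heK)
  apply Subgroup.eq_of_le_of_card_ge hKle
  rw [hK]
  have hd : Nat.card ↥(Z ⊔ Subgroup.zpowers e) ∣ p ^ 2 := hK ▸ Subgroup.card_dvd_of_le hKle
  obtain ⟨i, hi, hi2⟩ := (Nat.dvd_prime_pow hp).mp hd
  rw [hi2]
  have h2i : 2 ≤ i := by
    by_contra hlt
    have hi1 : i ≤ 1 := by omega
    have h4 : p ^ i ≤ p ^ 1 := Nat.pow_le_pow_right hp.pos hi1
    have h5 : Z = Z ⊔ Subgroup.zpowers e :=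
      Subgroup.eq_of_le_of_card_ge le_sup_left (by rw [hi2, hZ]; simpa using h4)
    apply heZ
    rw [h5]
    exact Subgroup.mem_sup_right (Subgroup.mem_zpowers e)
  exact Nat.pow_le_pow_right hp.pos h2i

theorem card_mid {G : Type*} [Group G] [Finite G] (p : ℕ) (hp : p.Prime) (Z E : Subgroup G)
    (hE : Nat.card E = p ^ 2) (hZE : Z ≤ E) (h1 : Z ≠ ⊥) (h2 : Z ≠ E) : Nat.card Z = p := by
  have hd : Nat.card Z ∣ p ^ 2 := hE ▸ Subgroup.card_dvd_of_le hZE
  obtain ⟨i, hi, hi2⟩ := (Nat.dvd_prime_pow hp).mp hd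
  have hi0 : i ≠ 0 := by
    rintro rfl
    rw [pow_zero] at hi2
    exact h1 (Subgroup.card_eq_one.mp hi2)
  have hi2' : i ≠ 2 := by
    rintro rfl
    exact h2 (Subgroup.eq_of_le_of_card_ge hZE (by rw [hE, hi2]))
  have hi1 : i = 1 := by omega
  rw [hi2, hi1, pow_one]

theorem comm_pow_left {G : Type*} [Group G] (w r : G) (h : ⁅w, r⁆ ∈ Subgroup.center G) (n : ℕ) :
    ⁅w ^ n, r⁆ = ⁅w, r⁆ ^ n := by
  induction n with
  | zero => simp
  | succ n ih =>
    have h1 : ⁅w ^ (n + 1), r⁆ = w ^ n * ⁅w, r⁆ * (w ^ n)⁻¹ * ⁅w ^ n, r⁆ := by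
      rw [pow_succ]; simp only [commutatorElement_def]; group
    have h2 : w ^ n * ⁅w, r⁆ = ⁅w, r⁆ * w ^ n := Subgroup.mem_center_iff.mp h (w ^ n)
    rw [h1, ih, h2, mul_inv_cancel_right, pow_succ']

theorem elem_sup {G : Type*} [Group G] (p : ℕ) (E : Subgroup G)
    (hEcomm : ∀ a ∈ E, ∀ b ∈ E, a * b = b * a) (hEexp : ∀ a ∈ E, a ^ p = 1) (x : G)
    (hx : ∀ e ∈ E, x * e = e * x) (hxp : x ^ p = 1) :
    (∀ a ∈ E ⊔ Subgroup.zpowers x, ∀ b ∈ E ⊔ Subgroup.zpowers x, a * b = b * a) ∧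
      ∀ a ∈ E ⊔ Subgroup.zpowers x, a ^ p = 1 := by
  have h1 : E ⊔ Subgroup.zpowers x ≤ Subgroup.centralizer (E : Set G) :=
    sup_le (fun e he => Subgroup.mem_centralizer_iff.mpr (fun f hf => hEcomm f hf e he))
      (by rw [Subgroup.zpowers_le]
          exact Subgroup.mem_centralizer_iff.mpr (fun f hf => (hx f hf).symm))
  have h2 : E ⊔ Subgroup.zpowers x ≤ Subgroup.centralizer ({x} : Set G) :=
    sup_le (fun e he => Subgroup.mem_centralizer_singleton_iff.mpr (hx e he).symm)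
      (by rw [Subgroup.zpowers_le, Subgroup.mem_centralizer_singleton_iff])
  have hcomm : ∀ a ∈ E ⊔ Subgroup.zpowers x, ∀ b ∈ E ⊔ Subgroup.zpowers x, a * b = b * a := by
    intro a ha b hb
    have h3 : E ⊔ Subgroup.zpowers x ≤ Subgroup.centralizer ({a} : Set G) :=
      sup_le (fun e he => Subgroup.mem_centralizer_singleton_iff.mpr
          ((Subgroup.mem_centralizer_iff.mp (h1 ha)) e he))
        (by rw [Subgroup.zpowers_le, Subgroup.mem_centralizer_singleton_iff]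
            exact (Subgroup.mem_centralizer_singleton_iff.mp (h2 ha)).symm)
    exact (Subgroup.mem_centralizer_singleton_iff.mp (h3 hb)).symm
  refine ⟨hcomm, ?_⟩
  let M : Subgroup G :=
    { carrier := {b | b ∈ E ⊔ Subgroup.zpowers x ∧ b ^ p = 1}
      one_mem' := ⟨Subgroup.one_mem _, one_pow p⟩
      mul_mem' := fun {a b} ha hb => ⟨Subgroup.mul_mem _ ha.1 hb.1, by
        rw [(show Commute a b from hcomm a ha.1 b hb.1).mul_pow, ha.2, hb.2, one_mul]⟩
      inv_mem' := fun {a} ha => ⟨Subgroup.inv_mem _ ha.1, by rw [inv_pow, ha.2, inv_one]⟩ }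
  have hM : E ⊔ Subgroup.zpowers x ≤ M :=
    sup_le (fun e he => ⟨Subgroup.mem_sup_left he, hEexp e he⟩)
      (by rw [Subgroup.zpowers_le]
          exact ⟨Subgroup.mem_sup_right (Subgroup.mem_zpowers x), hxp⟩)
  exact fun a ha => (hM ha).2

theorem result {R : Type*} [Group R] [Finite R] (p : ℕ) [Fact p.Prime] (hp : p ≠ 2) (hR : IsPGroup p R) (hr : ¬ Cfsg.PRankLE p 2 R)
    (E : Subgroup R) (hE : Cfsg.IsElementaryAbelian p E) (hE2 : Nat.card E = p ^ 2)
    (hEmax : ∀ B : Subgroup R, Cfsg.IsElementaryAbelian p B → E ≤ B → B = E) :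
    ¬ E ≤ Subgroup.centralizer ((Subgroup.closure {x : R | x ∈ Subgroup.upperCentralSeries R 2 ∧ x ^ p = 1} : Subgroup R) : Set R) ∧
      Nat.card ↥(Subgroup.closure {x : R | x ∈ Subgroup.center R ∧ x ^ p = 1}) = p ∧
      (Cfsg.IsElementaryAbelian p (Subgroup.closure {x : R | x ∈ Subgroup.upperCentralSeries R 2 ∧ x ^ p = 1}) ∧
        Nat.card ↥(Subgroup.closure {x : R | x ∈ Subgroup.upperCentralSeries R 2 ∧ x ^ p = 1}) = p ^ 2) ∧
      (Subgroup.centralizer ((Subgroup.closure {x : R | x ∈ Subgroup.upperCentralSeries R 2 ∧ x ^ p = 1} : Subgroup R) : Set R)).Characteristic ∧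
      (Subgroup.centralizer ((Subgroup.closure {x : R | x ∈ Subgroup.upperCentralSeries R 2 ∧ x ^ p = 1} : Subgroup R) : Set R)).index = p := by
  classical
  haveI : Group.IsNilpotent R := hR.isNilpotent
  have hp' : p.Prime := Fact.out
  obtain ⟨hEc, hEexp⟩ := hE
  have hEcomm := (Cfsg.Agent.S3880.comm_iff_el E).mp hEc
  have fact0 : ∀ x : R, (∀ e ∈ E, x * e = e * x) → x ^ p = 1 → x ∈ E := by
    intro x hx hxp
    obtain ⟨hc, he⟩ := elem_sup p E hEcomm hEexp x hx hxp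
    have h1 := hEmax (E ⊔ Subgroup.zpowers x) ⟨(Cfsg.Agent.S3880.comm_iff_el _).mpr hc, he⟩
      le_sup_left
    rw [← h1]
    exact Subgroup.mem_sup_right (Subgroup.mem_zpowers x)
  let Z : Subgroup R :=
    { carrier := {x | x ∈ Subgroup.center R ∧ x ^ p = 1}
      one_mem' := ⟨Subgroup.one_mem _, one_pow p⟩
      mul_mem' := fun {a b} ha hb => ⟨Subgroup.mul_mem _ ha.1 hb.1, by
        rw [(show Commute a b from (Subgroup.mem_center_iff.mp hb.1 a)).mul_pow, ha.2, hb.2,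
          one_mul]⟩
      inv_mem' := fun {a} ha => ⟨Subgroup.inv_mem _ ha.1, by rw [inv_pow, ha.2, inv_one]⟩ }
  have hZmem : ∀ x, x ∈ Z ↔ (x ∈ Subgroup.center R ∧ x ^ p = 1) := fun x => Iff.rfl
  have hZc : Subgroup.closure {x : R | x ∈ Subgroup.center R ∧ x ^ p = 1} = Z :=
    Subgroup.closure_eq Z
  have hZcomm : ∀ z ∈ Z, ∀ g : R, g * z = z * g := fun z hz g =>
    Subgroup.mem_center_iff.mp ((hZmem z).mp hz).1 g
  have hZE : Z ≤ E := fun z hz =>
    fact0 z (fun e _ => (hZcomm z hz e).symm) ((hZmem z).mp hz).2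
  have hE1 : E ≠ ⊥ := by
    intro h
    rw [h, Subgroup.card_bot] at hE2
    have := hp'.two_le
    nlinarith
  haveI : Nontrivial R := by
    by_contra h
    rw [not_nontrivial_iff_subsingleton] at h
    exact hE1 ((Subgroup.subsingleton_iff.mpr h).elim _ _)
  have hcne : Subgroup.center R ≠ ⊥ := by
    haveI := hR.center_nontrivial
    exact (Subgroup.nontrivial_iff_ne_bot _).mp inferInstance
  obtain ⟨z₀, hz₀c, hz₀o⟩ :=
    Cfsg.Agent.S1447.exists_order_p p (Subgroup.center R) (hR.to_subgroup _) hcne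
  have hz₀p : z₀ ^ p = 1 := by rw [← hz₀o]; exact pow_orderOf_eq_one z₀
  have hz₀1 : z₀ ≠ 1 := by
    intro h
    rw [h, orderOf_one] at hz₀o
    exact hp'.one_lt.ne hz₀o
  have hZ1 : Z ≠ ⊥ := by
    intro h
    have h3 : z₀ ∈ Z := (hZmem z₀).mpr ⟨hz₀c, hz₀p⟩
    rw [h, Subgroup.mem_bot] at h3
    exact hz₀1 h3
  have hr' := hr
  unfold Cfsg.PRankLE at hr'
  push Not at hr'
  obtain ⟨B, hBc, hBexp, hBcard⟩ := hr'
  have hZneE : Z ≠ E := by
    intro h
    have hBE : B ≤ E := fun b hb =>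
      fact0 b (fun e he => hZcomm e (by rw [h]; exact he) b) (hBexp b hb)
    have := Subgroup.card_le_of_le hBE
    omega
  have hZcard : Nat.card Z = p := card_mid p hp' Z E hE2 hZE hZ1 hZneE
  have hEnn : ¬ E.Normal := by
    intro hEn
    obtain ⟨x, hxT, hxE, hxp⟩ := Cfsg.Agent.S1452.exists_x p hR hr E hEcomm hEexp hE2
    exact hxE (fact0 x (fun e he => ((Subgroup.mem_centralizer_iff.mp hxT) e he).symm) hxp)
  haveI hZn : Z.Normal := ⟨fun z hz g => by
    have h3 : g * z * g⁻¹ = z := by rw [hZcomm z hz g]; group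
    rw [h3]
    exact hz⟩
  have hZ2 : ∀ x, x ∈ Subgroup.upperCentralSeries R 2 ↔ ∀ y : R, ⁅x, y⁆ ∈ Subgroup.center R := by
    intro x
    have h := Subgroup.mem_upperCentralSeries_succ_iff (G := R) (n := 1) (x := x)
    rw [Subgroup.upperCentralSeries_one] at h
    exact h
  have hc : ∀ a b : ↥(Subgroup.upperCentralSeries R 2),
      ⁅a, b⁆ ∈ Subgroup.center ↥(Subgroup.upperCentralSeries R 2) := by
    intro a b
    rw [Subgroup.mem_center_iff]
    intro g
    apply Subtype.ext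
    exact Subgroup.mem_center_iff.mp ((hZ2 (a : R)).mp a.2 (b : R)) (g : R)
  have hmul2 : ∀ a b : R, a ∈ Subgroup.upperCentralSeries R 2 →
      b ∈ Subgroup.upperCentralSeries R 2 → a ^ p = 1 → b ^ p = 1 → (a * b) ^ p = 1 := by
    intro a b ha hb hap hbp
    have h1 := congrArg Subtype.val (Cfsg.Agent.S1447.pow_formula hc ⟨a, ha⟩ ⟨b, hb⟩ p)
    have h2 : ⁅b, a⁆ ^ p = 1 := by
      rw [← comm_pow_left b a ((hZ2 b).mp hb a) p, hbp, commutatorElement_one_left]
    have h3 : p ∣ p.choose 2 :=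
      hp'.dvd_choose_self (by norm_num) (by have := hp'.two_le; omega)
    obtain ⟨m, hm⟩ := h3
    have h4 : (a * b) ^ p = a ^ p * b ^ p * ⁅b, a⁆ ^ (p.choose 2) := h1
    rw [h4, hap, hbp, hm, pow_mul, h2, one_pow, mul_one, mul_one]
  let W' : Subgroup R :=
    { carrier := {x | x ∈ Subgroup.upperCentralSeries R 2 ∧ x ^ p = 1}
      one_mem' := ⟨Subgroup.one_mem _, one_pow p⟩
      mul_mem' := fun {a b} ha hb =>
        ⟨Subgroup.mul_mem _ ha.1 hb.1, hmul2 a b ha.1 hb.1 ha.2 hb.2⟩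
      inv_mem' := fun {a} ha => ⟨Subgroup.inv_mem _ ha.1, by rw [inv_pow, ha.2, inv_one]⟩ }
  have hWmem : ∀ x, x ∈ W' ↔ (x ∈ Subgroup.upperCentralSeries R 2 ∧ x ^ p = 1) :=
    fun x => Iff.rfl
  have hW : Subgroup.closure {x : R | x ∈ Subgroup.upperCentralSeries R 2 ∧ x ^ p = 1} = W' :=
    Subgroup.closure_eq W'
  have hWexp : ∀ w ∈ W', w ^ p = 1 := fun w hw => ((hWmem w).mp hw).2
  have hWZ : ∀ w ∈ W', ∀ r : R, ⁅w, r⁆ ∈ Z := by
    intro w hw r
    have h1 := (hZ2 w).mp ((hWmem w).mp hw).1 r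
    refine (hZmem _).mpr ⟨h1, ?_⟩
    rw [← comm_pow_left w r h1 p, hWexp w hw, commutatorElement_one_left]
  have hWZ' : ∀ w ∈ W', ∀ r : R, ⁅r, w⁆ ∈ Z := by
    intro w hw r
    rw [← commutatorElement_inv]
    exact Z.inv_mem (hWZ w hw r)
  have hZW : Z ≤ W' := by
    intro z hz
    refine (hWmem z).mpr ⟨(hZ2 z).mpr (fun y => ?_), ((hZmem z).mp hz).2⟩
    have h3 : ⁅z, y⁆ = 1 := commutatorElement_eq_one_iff_commute.mpr (hZcomm z hz y).symm
    rw [h3]
    exact Subgroup.one_mem _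
  have hEZ : ¬ E ≤ Z := fun h => hZneE (le_antisymm hZE h)
  obtain ⟨e₀, he₀E, he₀Z⟩ := SetLike.not_le_iff_exists.mp hEZ
  have hZcomm' : ∀ a ∈ Z, ∀ b ∈ Z, a * b = b * a := fun a ha b hb => hZcomm b hb a
  have hZexp : ∀ a ∈ Z, a ^ p = 1 := fun a ha => ((hZmem a).mp ha).2
  obtain ⟨y, -, hyZ, hyp, hyc⟩ := Cfsg.Agent.S1452.exists_y p hp hR Z hZcomm' hZexp e₀
    (Subgroup.mem_centralizer_iff.mpr (fun z hz => (hZcomm z hz e₀).symm)) he₀Z (hEexp e₀ he₀E)
  have hyW : y ∈ W' := by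
    refine (hWmem y).mpr ⟨(hZ2 y).mpr (fun r => ?_), hyp⟩
    rw [← commutatorElement_inv]
    exact Subgroup.inv_mem _ ((hZmem _).mp (hyc r)).1
  have hEW : ¬ E ≤ W' := by
    intro h
    apply hEnn
    refine ⟨fun e he g => ?_⟩
    have h3 : g * e * g⁻¹ = ⁅g, e⁆ * e := by rw [commutatorElement_def]; group
    rw [h3]
    exact E.mul_mem (hZE (hWZ' e (h he) g)) he
  have hWE : W' ⊓ E = Z := by
    have h1 : Z ≤ W' ⊓ E := le_inf hZW hZE
    have h2 : W' ⊓ E ≠ E := fun h => hEW (inf_eq_right.mp h)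
    have h3 : W' ⊓ E ≠ ⊥ := fun h => hZ1 (le_bot_iff.mp (le_of_le_of_eq h1 h))
    have h4 := card_mid p hp' (W' ⊓ E) E hE2 inf_le_right h3 h2
    exact (Subgroup.eq_of_le_of_card_ge h1 (by rw [h4, hZcard])).symm
  have hgenE : Z ⊔ Subgroup.zpowers e₀ = E := gen2 p hp' Z E hZcard hE2 hZE e₀ he₀E he₀Z
  have hCW : W' ⊓ Subgroup.centralizer ({e₀} : Set R) ≤ Z := by
    intro w hw
    obtain ⟨hwW, hwc⟩ := Subgroup.mem_inf.mp hw
    rw [Subgroup.mem_centralizer_singleton_iff] at hwc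
    have hle : E ≤ Subgroup.centralizer ({w} : Set R) := by
      rw [← hgenE]
      apply sup_le
      · intro z hz
        rw [Subgroup.mem_centralizer_singleton_iff]
        exact (hZcomm z hz w).symm
      · rw [Subgroup.zpowers_le, Subgroup.mem_centralizer_singleton_iff]
        exact hwc.symm
    have hwE : w ∈ E := fact0 w (fun e he => by
      have h3 := hle he
      rw [Subgroup.mem_centralizer_singleton_iff] at h3
      exact h3.symm) (hWexp w hwW)
    rw [← hWE]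
    exact Subgroup.mem_inf.mpr ⟨hwW, hwE⟩
  have hWle : Nat.card W' ≤ p ^ 2 := by
    have h1 := Cfsg.Agent.S0112.card_le_of_comm_mem W' Z e₀ (fun g hg => hWZ g hg e₀)
    have h2 := Subgroup.card_le_of_le hCW
    rw [hZcard] at h1 h2
    calc Nat.card W' ≤ p * Nat.card ↥(W' ⊓ Subgroup.centralizer ({e₀} : Set R)) := h1
      _ ≤ p * p := Nat.mul_le_mul_left p h2
      _ = p ^ 2 := by ring
  have hWcard : Nat.card W' = p ^ 2 := by
    apply le_antisymm hWle
    obtain ⟨j, hj⟩ := (IsPGroup.iff_card (p := p)).mp (hR.to_subgroup W')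
    rw [hj]
    have h2j : 2 ≤ j := by
      by_contra hlt
      have hj1 : j ≤ 1 := by omega
      have h4 : p ^ j ≤ p ^ 1 := Nat.pow_le_pow_right hp'.pos hj1
      have h5 : Z = W' :=
        Subgroup.eq_of_le_of_card_ge hZW (by rw [hj, hZcard]; simpa using h4)
      apply hyZ
      rw [h5]
      exact hyW
    exact Nat.pow_le_pow_right hp'.pos h2j
  have hgenW : Z ⊔ Subgroup.zpowers y = W' := gen2 p hp' Z W' hZcard hWcard hZW y hyW hyZ
  have hWcomm : ∀ a ∈ W', ∀ b ∈ W', a * b = b * a := by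
    intro a ha b hb
    have h3 := IsPGroup.commutative_of_card_eq_prime_sq (p := p) hWcard ⟨a, ha⟩ ⟨b, hb⟩
    exact congrArg Subtype.val h3
  have hET : ¬ E ≤ Subgroup.centralizer (W' : Set R) := by
    intro h
    apply hyZ
    rw [← hWE]
    refine Subgroup.mem_inf.mpr ⟨hyW, fact0 y (fun e he => ?_) hyp⟩
    exact (Subgroup.mem_centralizer_iff.mp (h he)) y hyW
  haveI hWchar : W'.Characteristic := by
    rw [Subgroup.characteristic_iff_le_comap]
    intro φ w hw
    rw [Subgroup.mem_comap]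
    obtain ⟨hw2, hwp⟩ := (hWmem w).mp hw
    refine (hWmem _).mpr ⟨?_, ?_⟩
    · exact (Subgroup.characteristic_iff_le_comap.mp inferInstance φ) hw2
    · show (φ w) ^ p = 1
      rw [← map_pow, hwp, map_one]
  have hTle : Subgroup.centralizer ({y} : Set R) ≤ Subgroup.centralizer (W' : Set R) := by
    intro c hc
    rw [Subgroup.mem_centralizer_singleton_iff] at hc
    have hle : W' ≤ Subgroup.centralizer ({c} : Set R) := by
      rw [← hgenW]
      apply sup_le
      · intro z hz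
        rw [Subgroup.mem_centralizer_singleton_iff]
        exact (hZcomm z hz c).symm
      · rw [Subgroup.zpowers_le, Subgroup.mem_centralizer_singleton_iff]
        exact hc.symm
    rw [Subgroup.mem_centralizer_iff]
    intro w hw
    have h3 := hle hw
    rw [Subgroup.mem_centralizer_singleton_iff] at h3
    exact h3
  have hidx : (Subgroup.centralizer (W' : Set R)).index = p := by
    have h1 := Cfsg.Agent.S0112.card_le_of_comm_mem (⊤ : Subgroup R) Z y (fun g _ => hyc g)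
    rw [hZcard, Subgroup.card_top] at h1
    have h2 : Nat.card ↥((⊤ : Subgroup R) ⊓ Subgroup.centralizer ({y} : Set R)) ≤
        Nat.card ↥(Subgroup.centralizer (W' : Set R)) :=
      Subgroup.card_le_of_le (inf_le_right.trans hTle)
    have h3 := Subgroup.card_mul_index (Subgroup.centralizer (W' : Set R))
    have hTpos : 0 < Nat.card ↥(Subgroup.centralizer (W' : Set R)) := Nat.card_pos
    have h4 : (Subgroup.centralizer (W' : Set R)).index ≤ p := by
      apply Nat.le_of_mul_le_mul_left _ hTpos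
      calc Nat.card ↥(Subgroup.centralizer (W' : Set R)) *
            (Subgroup.centralizer (W' : Set R)).index = Nat.card R := h3
        _ ≤ p * Nat.card ↥((⊤ : Subgroup R) ⊓ Subgroup.centralizer ({y} : Set R)) := h1
        _ ≤ p * Nat.card ↥(Subgroup.centralizer (W' : Set R)) := Nat.mul_le_mul_left p h2
        _ = Nat.card ↥(Subgroup.centralizer (W' : Set R)) * p := Nat.mul_comm _ _
    have h5 : (Subgroup.centralizer (W' : Set R)).index ≠ 1 := by
      intro h
      rw [Subgroup.index_eq_one] at h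
      apply hET
      rw [h]
      exact le_top
    obtain ⟨n, hn⟩ := (IsPGroup.iff_card (p := p)).mp hR
    have h6 : (Subgroup.centralizer (W' : Set R)).index ∣ p ^ n :=
      hn ▸ Subgroup.index_dvd_card _
    obtain ⟨i, hi, hi2⟩ := (Nat.dvd_prime_pow hp').mp h6
    rw [hi2] at h4 h5 ⊢
    have hi1 : i = 1 := by
      rcases Nat.lt_or_ge i 2 with h | h
      · interval_cases i
        · simp at h5
        · rfl
      · exfalso
        have h7 : p ^ 2 ≤ p ^ i := Nat.pow_le_pow_right hp'.pos h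
        have h8 := hp'.two_le
        nlinarith
    rw [hi1, pow_one]
  rw [hW, hZc]
  exact ⟨hET, hZcard, ⟨⟨(Cfsg.Agent.S3880.comm_iff_el W').mpr hWcomm, hWexp⟩, hWcard⟩,
    inferInstance, hidx⟩

end Cfsg.Agent.S1453
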