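import Mathlib
import Cfsg.Statements.S1496
import Cfsg.Agent.S3745
import Cfsg.Agent.S0001
import Cfsg.Agent.S0003
import Cfsg.Agent.Lib.Helper1.Nil

set_option autoImplicit false
open Pointwise
open Cfsg
open scoped commutatorElement

namespace Cfsg.Agent.S1496

/-- Schur–Zassenhaus conjugacy at the subgroup level, with the acting group solvable. -/
theorem sz_conj_subA {X : Type*} [Group X] [Finite X] (N A B : Subgroup X)
    (hAN : A ≤ Subgroup.normalizer (N : Set X)) (hB : B ≤ A ⊔ N)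
    (hcard : Nat.card B = Nat.card A)
    (hcop : (Nat.card N).Coprime (Nat.card A)) (hsolv : Group.IsSolvable A) :
    ∃ n ∈ N, B = A.map (MulAut.conj n).toMonoidHom := by
  obtain ⟨Λ, hΛdef⟩ : ∃ Λ : Subgroup X, Λ = A ⊔ N := ⟨_, rfl⟩
  have hAΛ : A ≤ Λ := by rw [hΛdef]; exact le_sup_left
  have hNΛ : N ≤ Λ := by rw [hΛdef]; exact le_sup_right
  have hBΛ : B ≤ Λ := by rw [hΛdef]; exact hB
  haveI hNn : (N.subgroupOf Λ).Normal := by
    rw [hΛdef]; exact Subgroup.normal_subgroupOf_sup_of_le_normalizer hAN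
  have hdisj : A ⊓ N = ⊥ := (Subgroup.disjoint_of_coprime_natCard hcop.symm).eq_bot
  have hΛcard : Nat.card Λ = Nat.card A * Nat.card N := by
    have h0 := S3745.card_sup_mul_card_inf' A N hAN
    rw [hdisj, Subgroup.card_bot, mul_one] at h0
    rw [hΛdef]; exact h0
  have cN : Nat.card (N.subgroupOf Λ) = Nat.card N := by
    rw [S0003.card_subgroupOf_eq', inf_of_le_left hNΛ]
  have cA : Nat.card (A.subgroupOf Λ) = Nat.card A := by
    rw [S0003.card_subgroupOf_eq', inf_of_le_left hAΛ]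
  have cB : Nat.card (B.subgroupOf Λ) = Nat.card A := by
    rw [S0003.card_subgroupOf_eq', inf_of_le_left hBΛ]; exact hcard
  have hidx : (N.subgroupOf Λ).index = Nat.card A := by
    have h1 := Subgroup.card_mul_index (N.subgroupOf Λ)
    rw [cN, hΛcard, mul_comm] at h1
    exact Nat.eq_of_mul_eq_mul_right Nat.card_pos h1
  have hcA : Subgroup.IsComplement' (N.subgroupOf Λ) (A.subgroupOf Λ) :=
    Subgroup.isComplement'_of_coprime (by rw [cN, cA, hΛcard, mul_comm])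
      (by rw [cN, cA]; exact hcop)
  have hcB : Subgroup.IsComplement' (N.subgroupOf Λ) (B.subgroupOf Λ) :=
    Subgroup.isComplement'_of_coprime (by rw [cN, cB, hΛcard, mul_comm])
      (by rw [cN, cB]; exact hcop)
  have hsolv' : Group.IsSolvable (↥Λ ⧸ N.subgroupOf Λ) := by
    haveI := hsolv
    apply Group.isSolvable_of_surjective
      (f := (QuotientGroup.mk' (N.subgroupOf Λ)).comp (Subgroup.inclusion hAΛ))
    intro q
    obtain ⟨z, rfl⟩ := QuotientGroup.mk'_surjective (N.subgroupOf Λ) q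
    have hzΛ : (z : X) ∈ ((A ⊔ N : Subgroup X) : Set X) := by rw [← hΛdef]; exact z.2
    rw [Subgroup.coe_mul_of_left_le_normalizer_right A N hAN] at hzΛ
    obtain ⟨a, ha, n, hn, hz_eq⟩ := Set.mem_mul.1 hzΛ
    refine ⟨⟨a, ha⟩, ?_⟩
    show QuotientGroup.mk' (N.subgroupOf Λ) (Subgroup.inclusion hAΛ ⟨a, ha⟩) =
      QuotientGroup.mk' (N.subgroupOf Λ) z
    rw [QuotientGroup.mk'_eq_mk']
    refine ⟨⟨n, hNΛ hn⟩, Subgroup.mem_subgroupOf.2 hn, ?_⟩
    apply Subtype.ext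
    exact hz_eq
  obtain ⟨y, hy⟩ := S0001.result (N.subgroupOf Λ) (by rw [cN, hidx]; exact hcop)
    (Or.inr hsolv') (A.subgroupOf Λ) (B.subgroupOf Λ) hcA hcB
  have hyΛ : (y : X) ∈ ((A ⊔ N : Subgroup X) : Set X) := by rw [← hΛdef]; exact y.2
  rw [Subgroup.coe_mul_of_left_le_normalizer_right A N hAN] at hyΛ
  obtain ⟨a, ha, n, hn, hy_eq⟩ := Set.mem_mul.1 hyΛ
  have hn' : a * n * a⁻¹ ∈ N := (Subgroup.mem_normalizer_iff.1 (hAN ha) n).1 hn
  refine ⟨a * n * a⁻¹, hn', ?_⟩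
  have key : ∀ x : X, (y : X)⁻¹ * x * y ∈ A ↔ (a * n * a⁻¹)⁻¹ * x * (a * n * a⁻¹) ∈ A := by
    intro x
    have e : (y : X)⁻¹ * x * y = a⁻¹ * ((a * n * a⁻¹)⁻¹ * x * (a * n * a⁻¹)) * a := by
      rw [← hy_eq]; group
    rw [e]
    constructor
    · intro h
      have h0 := A.mul_mem (A.mul_mem ha h) (A.inv_mem ha)
      have e2 : a * (a⁻¹ * ((a * n * a⁻¹)⁻¹ * x * (a * n * a⁻¹)) * a) * a⁻¹ =
          (a * n * a⁻¹)⁻¹ * x * (a * n * a⁻¹) := by group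
      rw [e2] at h0
      exact h0
    · intro h
      exact A.mul_mem (A.mul_mem (A.inv_mem ha) h) ha
  ext x
  rw [Lib.Helper1.mem_map_conj_iff]
  constructor
  · intro hx
    have hxΛ : x ∈ Λ := hBΛ hx
    have h1 : (⟨x, hxΛ⟩ : Λ) ∈ MulAut.conj y • A.subgroupOf Λ := by
      rw [hy]; exact Subgroup.mem_subgroupOf.2 hx
    rw [S3745.mem_conj_smul] at h1
    exact (key x).1 (Subgroup.mem_subgroupOf.1 h1)
  · intro hx
    have hxΛ : x ∈ Λ := by
      have e : x = (a * n * a⁻¹) * ((a * n * a⁻¹)⁻¹ * x * (a * n * a⁻¹)) * (a * n * a⁻¹)⁻¹ := by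
        group
      rw [e]
      exact Λ.mul_mem (Λ.mul_mem (hNΛ hn') (hAΛ hx)) (Λ.inv_mem (hNΛ hn'))
    have h1 : (⟨x, hxΛ⟩ : Λ) ∈ MulAut.conj y • A.subgroupOf Λ := by
      rw [S3745.mem_conj_smul]
      exact Subgroup.mem_subgroupOf.2 ((key x).2 hx)
    rw [hy] at h1
    exact Subgroup.mem_subgroupOf.1 h1


theorem pow_decomp {G : Type*} [Group G] (H : Subgroup G) (g : G)
    (hg : g ∈ Subgroup.normalizer (H : Set G)) (h : G) (hh : h ∈ H) :
    ∀ k : ℕ, ∃ h' ∈ H, (h * g) ^ k = h' * g ^ k := by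
  intro k
  induction k with
  | zero => exact ⟨1, H.one_mem, by simp⟩
  | succ k ih =>
    obtain ⟨h', hh', he⟩ := ih
    have hgk : g ^ k ∈ Subgroup.normalizer (H : Set G) := Subgroup.pow_mem _ hg k
    have h1 : g ^ k * h * (g ^ k)⁻¹ ∈ H := (Subgroup.mem_normalizer_iff.1 hgk h).1 hh
    refine ⟨h' * (g ^ k * h * (g ^ k)⁻¹), H.mul_mem hh' h1, ?_⟩
    rw [pow_succ, he, pow_succ]
    group

theorem result {G : Type*} [Group G] [Finite G] (H : Subgroup G) (g : G) (hg : g ∈ Subgroup.normalizer (H : Set G)) (hcop : Nat.Coprime (orderOf g) (Nat.card H)) (h : G) (hh : h ∈ H) : ∃ x ∈ H, ∃ c ∈ H, c * g = g * c ∧ x * (h * g) * x⁻¹ = c * g := by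
  obtain ⟨n, hn⟩ : ∃ n : ℕ, n = orderOf g := ⟨_, rfl⟩
  obtain ⟨m, hm⟩ : ∃ m : ℕ, m = Nat.card H := ⟨_, rfl⟩
  rw [← hn, ← hm] at hcop
  obtain ⟨A, hAdef⟩ : ∃ A : Subgroup G, A = Subgroup.zpowers g := ⟨_, rfl⟩
  have hgA : g ∈ A := by rw [hAdef]; exact Subgroup.mem_zpowers g
  have hAcard : Nat.card A = n := by rw [hAdef, Nat.card_zpowers, hn]
  have hAN : A ≤ Subgroup.normalizer (H : Set G) := by
    rw [hAdef, Subgroup.zpowers_le]; exact hg
  have hdisj : H ⊓ A = ⊥ :=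
    (Subgroup.disjoint_of_coprime_natCard (by rw [hAcard, ← hm]; exact hcop.symm)).eq_bot
  have hHpow : ∀ z ∈ H, z ^ m = 1 := by
    intro z hz
    have h0 : (⟨z, hz⟩ : H) ^ Nat.card H = 1 := pow_card_eq_one'
    rw [hm]
    exact congrArg Subtype.val h0
  obtain ⟨y, hydef⟩ : ∃ y : G, y = h * g := ⟨_, rfl⟩
  -- y ^ n ∈ H
  have hyn : y ^ n ∈ H := by
    obtain ⟨h', hh', he⟩ := pow_decomp H g hg h hh n
    rw [hydef, he, hn, pow_orderOf_eq_one, mul_one]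
    exact hh'
  have hynm : y ^ (n * m) = 1 := by rw [pow_mul]; exact hHpow _ hyn
  have hbez : (1 : ℤ) = (n : ℤ) * Nat.gcdA n m + (m : ℤ) * Nat.gcdB n m := by
    have h0 := Nat.gcd_eq_gcd_ab n m
    rw [hcop.gcd_eq_one] at h0
    exact_mod_cast h0
  obtain ⟨a, hadef⟩ : ∃ a : ℤ, a = Nat.gcdA n m := ⟨_, rfl⟩
  obtain ⟨b, hbdef⟩ : ∃ b : ℤ, b = Nat.gcdB n m := ⟨_, rfl⟩
  rw [← hadef, ← hbdef] at hbez
  obtain ⟨u, hudef⟩ : ∃ u : G, u = y ^ ((m : ℤ) * b) := ⟨_, rfl⟩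
  obtain ⟨v, hvdef⟩ : ∃ v : G, v = y ^ ((n : ℤ) * a) := ⟨_, rfl⟩
  have huv : u * v = y := by
    rw [hudef, hvdef, ← zpow_add, add_comm, ← hbez, zpow_one]
  have hvu : v * u = u * v := by rw [hudef, hvdef]; exact zpow_mul_comm y _ _
  have hvH : v ∈ H := by
    rw [hvdef, zpow_mul, zpow_natCast]
    exact H.zpow_mem hyn a
  have hun : u ^ n = 1 := by
    rw [hudef, ← zpow_natCast, ← zpow_mul, mul_comm ((m : ℤ) * b) (n : ℤ), ← mul_assoc,
      zpow_mul]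
    have h0 : y ^ ((n : ℤ) * (m : ℤ)) = 1 := by
      rw [← Nat.cast_mul, zpow_natCast]; exact hynm
    rw [h0, one_zpow]
  -- u = h₁ * g
  obtain ⟨h₁, hh₁def⟩ : ∃ h₁ : G, h₁ = h * (g * v⁻¹ * g⁻¹) := ⟨_, rfl⟩
  have hh₁ : h₁ ∈ H := by
    rw [hh₁def]
    exact H.mul_mem hh ((Subgroup.mem_normalizer_iff.1 hg v⁻¹).1 (H.inv_mem hvH))
  have hu_eq : u = h₁ * g := by
    have h0 : u = y * v⁻¹ := by rw [← huv]; group
    rw [h0, hydef, hh₁def]; group
  have huo : orderOf u = n := by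
    apply Nat.dvd_antisymm (orderOf_dvd_of_pow_eq_one hun)
    rw [hn]
    apply orderOf_dvd_of_pow_eq_one
    obtain ⟨h', hh', he⟩ := pow_decomp H g hg h₁ hh₁ (orderOf u)
    rw [← hu_eq, pow_orderOf_eq_one] at he
    have h1 : g ^ orderOf u = h'⁻¹ := by
      have h2 : h'⁻¹ * 1 = h'⁻¹ * (h' * g ^ orderOf u) := by rw [he]
      rw [mul_one, inv_mul_cancel_left] at h2
      exact h2.symm
    have h3 : g ^ orderOf u ∈ H ⊓ A :=
      ⟨by rw [h1]; exact H.inv_mem hh', A.pow_mem hgA _⟩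
    rw [hdisj] at h3
    exact h3
  obtain ⟨B, hBdef⟩ : ∃ B : Subgroup G, B = Subgroup.zpowers u := ⟨_, rfl⟩
  have hBle : B ≤ A ⊔ H := by
    rw [hBdef, Subgroup.zpowers_le, hu_eq]
    exact Subgroup.mul_mem _ (Subgroup.mem_sup_right hh₁) (Subgroup.mem_sup_left hgA)
  have hBcard : Nat.card B = Nat.card A := by
    rw [hBdef, Nat.card_zpowers, huo, hAcard]
  have hAsolv : Group.IsSolvable A := by
    rw [hAdef]; infer_instance
  obtain ⟨k, hk, hBk⟩ := sz_conj_subA H A B hAN hBle hBcard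
    (by rw [hAcard, ← hm]; exact hcop.symm) hAsolv
  have huB : u ∈ B := by rw [hBdef]; exact Subgroup.mem_zpowers u
  rw [hBk, Lib.Helper1.mem_map_conj_iff] at huB
  -- k⁻¹ u k ∈ A and equals g
  have hkuk : k⁻¹ * u * k = g := by
    have h1 : k⁻¹ * u * k * g⁻¹ ∈ H ⊓ A := by
      refine ⟨?_, A.mul_mem huB (A.inv_mem hgA)⟩
      have h2 : g * k * g⁻¹ ∈ H := (Subgroup.mem_normalizer_iff.1 hg k).1 hk
      have e : k⁻¹ * u * k * g⁻¹ = k⁻¹ * h₁ * (g * k * g⁻¹) := by rw [hu_eq]; group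
      rw [e]
      exact H.mul_mem (H.mul_mem (H.inv_mem hk) hh₁) h2
    rw [hdisj, Subgroup.mem_bot] at h1
    have e : k⁻¹ * u * k = (k⁻¹ * u * k * g⁻¹) * g := by group
    rw [e, h1, one_mul]
  refine ⟨k⁻¹, H.inv_mem hk, k⁻¹ * v * k, H.mul_mem (H.mul_mem (H.inv_mem hk) hvH) hk, ?_, ?_⟩
  · rw [← hkuk]
    have e1 : k⁻¹ * v * k * (k⁻¹ * u * k) = k⁻¹ * (v * u) * k := by group
    have e2 : k⁻¹ * u * k * (k⁻¹ * v * k) = k⁻¹ * (u * v) * k := by group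
    rw [e1, e2, hvu]
  · rw [← hydef, ← huv, ← hkuk, inv_inv]
    have e1 : k⁻¹ * (u * v) * k = k⁻¹ * (u * v) * k := rfl
    have e2 : k⁻¹ * v * k * (k⁻¹ * u * k) = k⁻¹ * (v * u) * k := by group
    rw [e2, hvu]

end Cfsg.Agent.S1496
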