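import Mathlib
import Cfsg.Statements.S1512
import Cfsg.Agent.S1496

set_option autoImplicit false
open Pointwise
open Cfsg
open scoped commutatorElement

namespace Cfsg.Agent.S1512

theorem fixed_rep {L : Type*} [Group L] [Finite L] (K : Subgroup L) [hK : K.Normal] (x : L)
    (hx : Nat.Coprime (orderOf x) (Nat.card K)) (c : L) (hcK : c ∈ K) (k : L) (hk : k ∈ K)
    (hkc : (k * x) * c * (k * x)⁻¹ = c) :
    ∃ t ∈ K, x * (t * c * t⁻¹) = (t * c * t⁻¹) * x := by
  have hxN : x ∈ Subgroup.normalizer (K : Set L) := by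
    rw [Subgroup.normalizer_eq_top]; exact Subgroup.mem_top x
  obtain ⟨t, ht, w, hw, hwx, he⟩ := S1496.result K x hxN hx k hk
  refine ⟨t, ht, ?_⟩
  obtain ⟨c', hc'⟩ : ∃ c' : L, c' = t * c * t⁻¹ := ⟨_, rfl⟩
  rw [← hc']
  -- w * x centralizes c'
  have h1 : (w * x) * c' * (w * x)⁻¹ = c' := by
    rw [← he, hc']
    have e : t * (k * x) * t⁻¹ * (t * c * t⁻¹) * (t * (k * x) * t⁻¹)⁻¹ =
        t * ((k * x) * c * (k * x)⁻¹) * t⁻¹ := by group
    rw [e, hkc]
  have h1' : (w * x) * c' = c' * (w * x) := by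
    have h2 : (w * x) * c' * (w * x)⁻¹ * (w * x) = c' * (w * x) := by rw [h1]
    rw [inv_mul_cancel_right] at h2
    exact h2
  have hcomm : Commute (w * x) c' := h1'
  -- x is a power of w * x
  have how : (orderOf x).Coprime (orderOf w) := by
    have h3 : orderOf w ∣ Nat.card K := by
      have h4 := orderOf_dvd_natCard (⟨w, hw⟩ : K)
      rwa [Subgroup.orderOf_mk] at h4
    exact Nat.Coprime.coprime_dvd_right h3 hx
  have hbez : (1 : ℤ) = (orderOf x : ℤ) * Nat.gcdA (orderOf x) (orderOf w) +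
      (orderOf w : ℤ) * Nat.gcdB (orderOf x) (orderOf w) := by
    have h0 := Nat.gcd_eq_gcd_ab (orderOf x) (orderOf w)
    rw [how.gcd_eq_one] at h0
    exact_mod_cast h0
  obtain ⟨a, hadef⟩ : ∃ a : ℤ, a = Nat.gcdA (orderOf x) (orderOf w) := ⟨_, rfl⟩
  obtain ⟨b, hbdef⟩ : ∃ b : ℤ, b = Nat.gcdB (orderOf x) (orderOf w) := ⟨_, rfl⟩
  rw [← hadef, ← hbdef] at hbez
  have hwxc : Commute w x := hwx
  have hpow : (w * x) ^ ((orderOf w : ℤ) * b) = x := by
    rw [hwxc.mul_zpow]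
    have e1 : w ^ ((orderOf w : ℤ) * b) = 1 := by
      rw [zpow_mul, zpow_natCast, pow_orderOf_eq_one, one_zpow]
    have e2 : x ^ ((orderOf w : ℤ) * b) = x := by
      have h5 : (orderOf w : ℤ) * b = 1 - (orderOf x : ℤ) * a := by linarith
      rw [h5, zpow_sub, zpow_one, zpow_mul, zpow_natCast, pow_orderOf_eq_one, one_zpow, inv_one,
        mul_one]
    rw [e1, e2, one_mul]
  have h6 : Commute ((w * x) ^ ((orderOf w : ℤ) * b)) c' := hcomm.zpow_left _
  rw [hpow] at h6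
  exact h6

theorem result {L : Type*} [Group L] [Finite L] (K W₂ : Subgroup L) [hK : K.Normal] (x : L) (hx1 : x ≠ 1) (hx : Nat.Coprime (orderOf x) (Nat.card K)) (hC : ∀ y ∈ Subgroup.zpowers x, y ≠ 1 → K ⊓ Subgroup.centralizer ({y} : Set L) = W₂) : Nat.card {C : ConjClasses K // ConjClasses.map (MulEquiv.toMonoidHom ((MulAut.conjNormal x : MulAut K))) C = C} ≤ Nat.card W₂ := by
  have hW : K ⊓ Subgroup.centralizer ({x} : Set L) = W₂ := hC x (Subgroup.mem_zpowers x) hx1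
  have hex : ∀ C : {C : ConjClasses K //
      ConjClasses.map (MulEquiv.toMonoidHom ((MulAut.conjNormal x : MulAut K))) C = C},
      ∃ w : W₂, ∃ hwK : (w : L) ∈ K, ConjClasses.mk (⟨(w : L), hwK⟩ : K) = C.1 := by
    rintro ⟨C, hCfix⟩
    obtain ⟨c, rfl⟩ := ConjClasses.mk_surjective C
    have h1 : ConjClasses.mk ((MulAut.conjNormal x : MulAut K) c) = ConjClasses.mk c := hCfix
    rw [ConjClasses.mk_eq_mk_iff_isConj, isConj_iff] at h1
    obtain ⟨k, hk⟩ := h1
    have hk' : ((k : L) * x) * (c : L) * ((k : L) * x)⁻¹ = (c : L) := by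
      have h2 := congrArg Subtype.val hk
      have h3 : ((k * (MulAut.conjNormal x : MulAut K) c * k⁻¹ : K) : L) =
          (k : L) * (x * (c : L) * x⁻¹) * (k : L)⁻¹ := by
        simp [MulAut.conjNormal_apply]
      rw [h3] at h2
      have e : ((k : L) * x) * (c : L) * ((k : L) * x)⁻¹ =
          (k : L) * (x * (c : L) * x⁻¹) * (k : L)⁻¹ := by group
      rw [e]; exact h2
    obtain ⟨t, ht, htx⟩ := fixed_rep K x hx (c : L) c.2 (k : L) k.2 hk'
    have hcK : t * (c : L) * t⁻¹ ∈ K := K.mul_mem (K.mul_mem ht c.2) (K.inv_mem ht)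
    have hcW : t * (c : L) * t⁻¹ ∈ W₂ := by
      rw [← hW]
      refine Subgroup.mem_inf.2 ⟨hcK, ?_⟩
      rw [Subgroup.mem_centralizer_iff]
      intro z hz
      rw [Set.mem_singleton_iff] at hz
      rw [hz]; exact htx
    refine ⟨⟨t * (c : L) * t⁻¹, hcW⟩, hcK, ?_⟩
    show ConjClasses.mk (⟨t * (c : L) * t⁻¹, hcK⟩ : K) = ConjClasses.mk c
    rw [ConjClasses.mk_eq_mk_iff_isConj, isConj_comm, isConj_iff]
    exact ⟨⟨t, ht⟩, Subtype.ext rfl⟩
  choose f hf using hex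
  have hinj : Function.Injective f := by
    intro C₁ C₂ h12
    obtain ⟨h1, e1⟩ := hf C₁
    obtain ⟨h2, e2⟩ := hf C₂
    apply Subtype.ext
    rw [← e1, ← e2]
    congr 1
    apply Subtype.ext
    show ((f C₁ : W₂) : L) = ((f C₂ : W₂) : L)
    rw [h12]
  exact Nat.card_le_card_of_injective f hinj

end Cfsg.Agent.S1512
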