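import Mathlib
import Cfsg.Statements.S1782
import Cfsg.Agent.Lib.Helper1.Crit
import Cfsg.Agent.Lib.Helper1.Nil

set_option autoImplicit false
open Pointwise
open Cfsg
open scoped commutatorElement

namespace Cfsg.Agent.S1782

theorem mem_cj {S : Type*} [Group S] (s x : S) (R : Subgroup S) :
    x ∈ R.map (MulAut.conj s).toMonoidHom ↔ s⁻¹ * x * s ∈ R := by
  rw [Subgroup.mem_map_equiv, MulAut.conj_symm_apply]

theorem cj_mem {S : Type*} [Group S] (A : Subgroup S) (x a : S)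
    (h : A.map (MulAut.conj x).toMonoidHom = A) (ha : a ∈ A) : x * a * x⁻¹ ∈ A := by
  have : x * a * x⁻¹ ∈ A.map (MulAut.conj x).toMonoidHom := by
    rw [mem_cj]
    have e : x⁻¹ * (x * a * x⁻¹) * x = a := by group
    rw [e]; exact ha
  rw [h] at this
  exact this

theorem exists_normal_over {S : Type*} [Group S] [Finite S] (hS : IsPGroup 2 S)
    (H R : Subgroup S) (hRH : R ≤ H) (hne : R ≠ H) :
    ∃ M : Subgroup S, R ≤ M ∧ M ≤ H ∧ Nat.card M < Nat.card H ∧
      ∀ h ∈ H, ∀ m ∈ M, h * m * h⁻¹ ∈ M := by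
  haveI : Fact (Nat.Prime 2) := ⟨Nat.prime_two⟩
  have hHp : IsPGroup 2 ↥H := hS.to_subgroup H
  have hne' : R.subgroupOf H ≠ ⊤ := by
    intro h
    apply hne
    apply le_antisymm hRH
    intro x hx
    have : (⟨x, hx⟩ : ↥H) ∈ R.subgroupOf H := h ▸ Subgroup.mem_top _
    exact Subgroup.mem_subgroupOf.1 this
  rcases eq_top_or_exists_le_coatom (R.subgroupOf H) with h | ⟨M', hM', hRM'⟩
  · exact absurd h hne'
  obtain ⟨hMn, -⟩ := Cfsg.Agent.Lib.Helper1.coatom_normal_index_of_isPGroup 2 hHp M' hM'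
  refine ⟨M'.map H.subtype, ?_, ?_, ?_, ?_⟩
  · intro r hr
    exact Subgroup.mem_map.2 ⟨⟨r, hRH hr⟩, hRM' (Subgroup.mem_subgroupOf.2 hr), rfl⟩
  · exact Subgroup.map_subtype_le _
  · by_contra hcon
    rw [not_lt] at hcon
    have heq := Subgroup.eq_of_le_of_card_ge (Subgroup.map_subtype_le M') hcon
    apply hM'.1
    rw [eq_top_iff]
    intro x _
    have hx : (x : S) ∈ M'.map H.subtype := by rw [heq]; exact x.2
    obtain ⟨m, hm, hmx⟩ := Subgroup.mem_map.1 hx
    have : m = x := Subtype.ext hmx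
    exact this ▸ hm
  · intro h hh m hm
    obtain ⟨m', hm', rfl⟩ := Subgroup.mem_map.1 hm
    exact Subgroup.mem_map.2 ⟨⟨h, hh⟩ * m' * ⟨h, hh⟩⁻¹, hMn.conj_mem m' hm' ⟨h, hh⟩, rfl⟩

theorem core {S : Type*} [Group S] [Finite S] (hS : IsPGroup 2 S)
    (Δ : Set (Subgroup S)) (hinv : ∀ s : S, ∀ R ∈ Δ, R.map (MulAut.conj s).toMonoidHom ∈ Δ)
    (hΦ : ∀ R ∈ Δ, frattini ↥R ≠ ⊥) (hord : ∀ R ∈ Δ, ∀ T ∈ Δ, Nat.card ↥R = Nat.card ↥T)
    (hti : ∀ R ∈ Δ, ∀ T ∈ Δ, R = T ∨ R ⊓ T = ⊥) (n : ℕ) :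
    ∀ H : Subgroup S, Nat.card H = n → ∀ R ∈ Δ, ∀ T ∈ Δ, R ≤ H → T ≤ H → R ≠ T →
      ∀ r ∈ R, ∀ t ∈ T, r * t = t * r := by
  haveI : Fact (Nat.Prime 2) := ⟨Nat.prime_two⟩
  induction n using Nat.strong_induction_on with
  | _ n ih =>
    intro H hHn R hR T hT hRH hTH hne
    by_cases hlt : Nat.card ↥(R ⊔ T) < n
    · exact ih _ hlt (R ⊔ T) rfl R hR T hT le_sup_left le_sup_right hne
    have hHeq : R ⊔ T = H := by
      rw [not_lt, ← hHn] at hlt
      exact Subgroup.eq_of_le_of_card_ge (sup_le hRH hTH) hlt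
    -- TI property
    have hTI : ∀ A ∈ Δ, ∀ u ∈ A, u ≠ 1 → ∀ x : S, x * u = u * x →
        A.map (MulAut.conj x).toMonoidHom = A := by
      intro A hA u hu hu1 x hxu
      rcases hti A hA _ (hinv x A hA) with h | h
      · exact h.symm
      · exfalso
        apply hu1
        have : u ∈ A ⊓ A.map (MulAut.conj x).toMonoidHom := by
          refine Subgroup.mem_inf.2 ⟨hu, ?_⟩
          rw [mem_cj]
          have e : x⁻¹ * u * x = u := by rw [mul_assoc, ← hxu]; group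
          rw [e]; exact hu
        rw [h] at this
        exact Subgroup.mem_bot.1 this
    have hdisj : ∀ A ∈ Δ, ∀ x : S, A.map (MulAut.conj x).toMonoidHom ≠ A →
        ∀ g ∈ A, x⁻¹ * g * x ∈ A → g = 1 := by
      intro A hA x hx g hg hg'
      rcases hti A hA _ (hinv x A hA) with h | h
      · exact absurd h.symm hx
      · have : g ∈ A ⊓ A.map (MulAut.conj x).toMonoidHom :=
          Subgroup.mem_inf.2 ⟨hg, (mem_cj x g A).2 hg'⟩
        rw [h] at this
        exact Subgroup.mem_bot.1 this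
    -- commuting of conjugates
    have hF : ∀ A ∈ Δ, ∀ B ∈ Δ, A ≤ H → B ≤ H → A ≠ H → ∀ b ∈ B,
        A.map (MulAut.conj b).toMonoidHom ≠ A → ∀ a ∈ A,
          ∀ c ∈ A.map (MulAut.conj b).toMonoidHom, a * c = c * a := by
      intro A hA B hB hAH hBH hAne b hb hbA a ha c hc
      obtain ⟨M, hAM, hMH, hMlt, hMn⟩ := exists_normal_over hS H A hAH hAne
      have hcjM : A.map (MulAut.conj b).toMonoidHom ≤ M := by
        intro x hx
        rw [mem_cj] at hx
        have := hMn b (hBH hb) _ (hAM hx)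
        have e : b * (b⁻¹ * x * b) * b⁻¹ = x := by group
        rw [e] at this
        exact this
      exact ih _ (hHn ▸ hMlt) M rfl A hA _ (hinv b A hA) hAM hcjM (Ne.symm hbA) a ha c hc
    have hRneH : R ≠ H := by
      intro h
      apply hne
      have hTR : T ≤ R := h ▸ hTH
      exact (Subgroup.eq_of_le_of_card_ge hTR (hord R hR T hT).le).symm
    have hTneH : T ≠ H := by
      intro h
      apply hne
      have hRT : R ≤ T := h ▸ hRH
      exact Subgroup.eq_of_le_of_card_ge hRT (hord T hT R hR).le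
    -- Lemma A
    have hA : ∀ A ∈ Δ, ∀ B ∈ Δ, A ≠ B → (∀ a ∈ A, B.map (MulAut.conj a).toMonoidHom = B) →
        ∀ b ∈ B, A.map (MulAut.conj b).toMonoidHom = A := by
      intro A hA B hB hAB hnorm b hb
      by_contra hcon
      obtain ⟨ψ, hψ⟩ : ∃ ψ : ↥A → ↥B, ∀ a : ↥A, ((ψ a : ↥B) : S) = b * a * b⁻¹ * (a : S)⁻¹ := by
        refine ⟨fun a => ⟨b * a * b⁻¹ * (a : S)⁻¹, ?_⟩, fun a => rfl⟩
        have h1 := cj_mem B a b⁻¹ (hnorm a a.2) (inv_mem hb)
        have e : b * (a : S) * b⁻¹ * (a : S)⁻¹ = b * ((a : S) * b⁻¹ * (a : S)⁻¹) := by group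
        rw [e]
        exact mul_mem hb h1
      have hinj : Function.Injective ψ := by
        intro a a' h
        have h1 : b * (a : S) * b⁻¹ * (a : S)⁻¹ = b * (a' : S) * b⁻¹ * (a' : S)⁻¹ := by
          rw [← hψ, ← hψ, h]
        have h1' : (a : S) * b⁻¹ * (a : S)⁻¹ = (a' : S) * b⁻¹ * (a' : S)⁻¹ := by
          have e : ∀ u : S, b * u * b⁻¹ * u⁻¹ = b * (u * b⁻¹ * u⁻¹) := fun u => by group
          rw [e, e] at h1
          exact mul_left_cancel h1
        have h2 : b⁻¹ * ((a' : S)⁻¹ * a) * b = (a' : S)⁻¹ * a := by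
          calc b⁻¹ * ((a' : S)⁻¹ * a) * b
              = (a' : S)⁻¹ * ((a' : S) * b⁻¹ * (a' : S)⁻¹) * a * b := by group
            _ = (a' : S)⁻¹ * ((a : S) * b⁻¹ * (a : S)⁻¹) * a * b := by rw [h1']
            _ = (a' : S)⁻¹ * a := by group
        have h3 := hdisj A hA b hcon ((a' : S)⁻¹ * a) (mul_mem (inv_mem a'.2) a.2)
          (by rw [h2]; exact mul_mem (inv_mem a'.2) a.2)
        apply Subtype.ext
        have : (a' : S) * ((a' : S)⁻¹ * a) = a' := by rw [h3, mul_one]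
        rw [← this]; group
      have hbij := Function.Injective.bijective_of_nat_card_le hinj (hord B hB A hA).le
      obtain ⟨a₀, ha₀⟩ := hbij.2 ⟨b, hb⟩
      have h1 : b * (a₀ : S) * b⁻¹ * (a₀ : S)⁻¹ = b := by rw [← hψ, ha₀]
      have h2 : b = 1 := by
        have e : b⁻¹ = (a₀ : S)⁻¹ * (b⁻¹ * (b * (a₀ : S) * b⁻¹ * (a₀ : S)⁻¹)) * a₀ := by group
        rw [h1] at e
        have e2 : b⁻¹ = 1 := by rw [e]; group
        exact inv_eq_one.1 e2
      apply hcon
      ext x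
      rw [mem_cj, h2]
      simp
    have hcomm : (∀ r ∈ R, T.map (MulAut.conj r).toMonoidHom = T) →
        (∀ t ∈ T, R.map (MulAut.conj t).toMonoidHom = R) →
        ∀ r ∈ R, ∀ t ∈ T, r * t = t * r := by
      intro h1 h2 r hr t ht
      have hbot : R ⊓ T = ⊥ := (hti R hR T hT).resolve_left hne
      have hm : r * t * r⁻¹ * t⁻¹ ∈ R ⊓ T := by
        refine Subgroup.mem_inf.2 ⟨?_, ?_⟩
        · have := cj_mem R t r⁻¹ (h2 t ht) (inv_mem hr)
          have e : r * t * r⁻¹ * t⁻¹ = r * (t * r⁻¹ * t⁻¹) := by group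
          rw [e]; exact mul_mem hr this
        · exact mul_mem (cj_mem T r t (h1 r hr) ht) (inv_mem ht)
      rw [hbot, Subgroup.mem_bot] at hm
      have e : r * t = (r * t * r⁻¹ * t⁻¹) * (t * r) := by group
      rw [e, hm, one_mul]
    by_cases hRn : ∀ r ∈ R, T.map (MulAut.conj r).toMonoidHom = T
    · exact hcomm hRn (hA R hR T hT hne hRn)
    by_cases hTn : ∀ t ∈ T, R.map (MulAut.conj t).toMonoidHom = R
    · exact absurd (hA T hT R hR hne.symm hTn) hRn
    exfalso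
    push_neg at hRn hTn
    obtain ⟨r₀, hr₀, hr₀T⟩ := hRn
    obtain ⟨t₀, ht₀, ht₀R⟩ := hTn
    have F1 := hF R hR T hT hRH hTH hRneH
    have F2 := hF T hT R hR hTH hRH hTneH
    by_cases hb : ∃ r₁ ∈ R, r₁ ≠ 1 ∧ T.map (MulAut.conj r₁).toMonoidHom = T
    · obtain ⟨r₁, hr₁, hr₁1, hr₁T⟩ := hb
      have key : ∀ r ∈ R, r ≠ 1 → T.map (MulAut.conj r).toMonoidHom = T →
          ∀ x ∈ R, x * r = r * x → T.map (MulAut.conj x).toMonoidHom = T := by
        intro r hr hr1 hrT x hx hxr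
        have huT : t₀ * r * t₀⁻¹ * r⁻¹ ∈ T := by
          have := cj_mem T r t₀⁻¹ hrT (inv_mem ht₀)
          have e : t₀ * r * t₀⁻¹ * r⁻¹ = t₀ * (r * t₀⁻¹ * r⁻¹) := by group
          rw [e]; exact mul_mem ht₀ this
        have hu1 : t₀ * r * t₀⁻¹ * r⁻¹ ≠ 1 := by
          intro h
          apply hr1
          apply hdisj R hR t₀ ht₀R r hr
          have e : t₀⁻¹ * r * t₀ = t₀⁻¹ * (t₀ * r * t₀⁻¹ * r⁻¹)⁻¹ * t₀ * r := by group
          rw [e, h]
          have e2 : t₀⁻¹ * (1 : S)⁻¹ * t₀ * r = r := by group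
          rw [e2]; exact hr
        have hc : t₀ * r * t₀⁻¹ ∈ R.map (MulAut.conj t₀).toMonoidHom := by
          rw [mem_cj]
          have e : t₀⁻¹ * (t₀ * r * t₀⁻¹) * t₀ = r := by group
          rw [e]; exact hr
        have h1 := F1 t₀ ht₀ ht₀R x hx _ hc
        have h2 : x * r⁻¹ = r⁻¹ * x := by
          have e : x * r⁻¹ = r⁻¹ * (r * x) * r⁻¹ := by group
          rw [e, ← hxr]; group
        have hxu : x * (t₀ * r * t₀⁻¹ * r⁻¹) = (t₀ * r * t₀⁻¹ * r⁻¹) * x := by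
          calc x * (t₀ * r * t₀⁻¹ * r⁻¹) = (x * (t₀ * r * t₀⁻¹)) * r⁻¹ := by group
            _ = (t₀ * r * t₀⁻¹) * (x * r⁻¹) := by rw [h1]; group
            _ = (t₀ * r * t₀⁻¹ * r⁻¹) * x := by rw [h2]; group
        exact hTI T hT _ huT hu1 x hxu
      haveI : Nontrivial ↥R := ⟨⟨⟨r₁, hr₁⟩, 1, fun h => hr₁1 (congrArg Subtype.val h)⟩⟩
      haveI := (hS.to_subgroup R).center_nontrivial
      obtain ⟨z, hz⟩ := exists_ne (1 : ↥(Subgroup.center ↥R))
      have hzc := Subgroup.mem_center_iff.1 z.2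
      have hz1 : ((z : ↥R) : S) ≠ 1 := by
        intro h
        apply hz
        apply Subtype.ext
        apply Subtype.ext
        exact h
      have hzT := key r₁ hr₁ hr₁1 hr₁T ((z : ↥R) : S) (z : ↥R).2
        (congrArg Subtype.val (hzc ⟨r₁, hr₁⟩)).symm
      have := key ((z : ↥R) : S) (z : ↥R).2 hz1 hzT r₀ hr₀ (congrArg Subtype.val (hzc ⟨r₀, hr₀⟩))
      exact hr₀T this
    · push_neg at hb
      have hT1 : ∀ t ∈ T, t ≠ 1 → R.map (MulAut.conj t).toMonoidHom ≠ R := by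
        intro t ht ht1 htR
        have hvR : r₀ * t * r₀⁻¹ * t⁻¹ ∈ R := by
          have := cj_mem R t r₀⁻¹ htR (inv_mem hr₀)
          have e : r₀ * t * r₀⁻¹ * t⁻¹ = r₀ * (t * r₀⁻¹ * t⁻¹) := by group
          rw [e]; exact mul_mem hr₀ this
        have hv1 : r₀ * t * r₀⁻¹ * t⁻¹ ≠ 1 := by
          intro h
          apply ht1
          apply hdisj T hT r₀ hr₀T t ht
          have e : r₀⁻¹ * t * r₀ = r₀⁻¹ * (r₀ * t * r₀⁻¹ * t⁻¹)⁻¹ * r₀ * t := by group
          rw [e, h]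
          have e2 : r₀⁻¹ * (1 : S)⁻¹ * r₀ * t = t := by group
          rw [e2]; exact ht
        have hc : r₀ * t * r₀⁻¹ ∈ T.map (MulAut.conj r₀).toMonoidHom := by
          rw [mem_cj]
          have e : r₀⁻¹ * (r₀ * t * r₀⁻¹) * r₀ = t := by group
          rw [e]; exact ht
        have h1 := F2 r₀ hr₀ hr₀T t ht _ hc
        have hvt : (r₀ * t * r₀⁻¹ * t⁻¹) * t = t * (r₀ * t * r₀⁻¹ * t⁻¹) := by
          calc (r₀ * t * r₀⁻¹ * t⁻¹) * t = r₀ * t * r₀⁻¹ := by group
            _ = (t * (r₀ * t * r₀⁻¹)) * t⁻¹ := by rw [h1]; group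
            _ = t * (r₀ * t * r₀⁻¹ * t⁻¹) := by group
        exact hb _ hvR hv1 (hTI T hT t ht ht1 _ hvt)
      -- an involution in R
      have hr₀1 : r₀ ≠ 1 := by
        rintro rfl
        apply hr₀T
        ext x
        rw [mem_cj]
        simp
      obtain ⟨r, hr, hr1, hr2⟩ : ∃ r ∈ R, r ≠ 1 ∧ r ^ 2 = 1 := by
        obtain ⟨k, hk⟩ := (IsPGroup.iff_orderOf.1 hS) r₀
        have hk0 : k ≠ 0 := by
          rintro rfl
          rw [pow_zero, orderOf_eq_one_iff] at hk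
          exact hr₀1 hk
        obtain ⟨j, rfl⟩ := Nat.exists_eq_succ_of_ne_zero hk0
        refine ⟨r₀ ^ (2 ^ j), pow_mem hr₀ _, ?_, ?_⟩
        · apply pow_ne_one_of_lt_orderOf (by positivity)
          rw [hk, pow_succ]
          have : 0 < 2 ^ j := by positivity
          omega
        · rw [← pow_mul, ← pow_succ, ← hk, pow_orderOf_eq_one]
      -- an element of T with nontrivial square
      obtain ⟨t, ht, ht2⟩ : ∃ t ∈ T, t ^ 2 ≠ 1 := by
        by_contra hcon
        push_neg at hcon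
        apply hΦ T hT
        have hsq : ∀ x : ↥T, x * x = 1 := by
          intro x
          apply Subtype.ext
          have := hcon x x.2
          rw [pow_two] at this
          exact this
        have hinvT : ∀ x : ↥T, x⁻¹ = x := fun x => inv_eq_of_mul_eq_one_left (hsq x)
        rw [eq_bot_iff]
        apply Cfsg.Agent.Lib.Helper1.Crit.frattini_le_of_elementary ⊥ 2 Nat.prime_two
        · intro x y
          rw [Subgroup.mem_bot, hinvT x, hinvT y]
          have := hsq (x * y)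
          calc x * y * x * y = (x * y) * (x * y) := by group
            _ = 1 := this
        · intro x
          rw [Subgroup.mem_bot, pow_two]
          exact hsq x
      have ht1 : t ≠ 1 := by
        rintro rfl
        exact ht2 (one_pow 2)
      have ha : t * r * t⁻¹ ∈ R.map (MulAut.conj t).toMonoidHom := by
        rw [mem_cj]
        have e : t⁻¹ * (t * r * t⁻¹) * t = r := by group
        rw [e]; exact hr
      have hbm : r * t * r⁻¹ ∈ T.map (MulAut.conj r).toMonoidHom := by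
        rw [mem_cj]
        have e : r⁻¹ * (r * t * r⁻¹) * r = t := by group
        rw [e]; exact ht
      have hca : Commute (t * r * t⁻¹) r := (F1 t ht (hT1 t ht ht1) r hr _ ha).symm
      have hcb : Commute t (r * t * r⁻¹) := F2 r hr (hb r hr hr1) t ht _ hbm
      have e1 : (t * r * t⁻¹ * r⁻¹) ^ 2 = 1 := by
        have h1 := (hca.inv_right).mul_pow 2
        have e : t * r * t⁻¹ * r⁻¹ = (t * r * t⁻¹) * r⁻¹ := rfl
        rw [e, h1, conj_pow, hr2, inv_pow, hr2]
        group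
      have e2 : (t * r * t⁻¹ * r⁻¹) ^ 2 = t ^ 2 * (r * t ^ 2 * r⁻¹)⁻¹ := by
        have h1 := (hcb.inv_right).mul_pow 2
        have e : t * r * t⁻¹ * r⁻¹ = t * (r * t * r⁻¹)⁻¹ := by group
        rw [e, h1, inv_pow, conj_pow]
      rw [e1] at e2
      have e3 : t ^ 2 = r * t ^ 2 * r⁻¹ := mul_inv_eq_one.1 e2.symm
      have e4 : r * t ^ 2 = t ^ 2 * r := by
        have : r * t ^ 2 = (r * t ^ 2 * r⁻¹) * r := by group
        rw [this, ← e3]
      exact hb r hr hr1 (hTI T hT (t ^ 2) (pow_mem ht 2) ht2 r e4)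

/-- Let S be a finite 2-group and Δ a set of subgroups of S closed under conjugation by S, all of the same order, each with nontrivial Frattini subgroup, and such that two distinct members of Δ meet trivially. Then any two distinct members of Δ commute elementwise. -/
theorem result {S : Type*} [Group S] [Finite S] (hS : IsPGroup 2 S)
    (Δ : Set (Subgroup S)) (hinv : ∀ s : S, ∀ R ∈ Δ, R.map (MulAut.conj s).toMonoidHom ∈ Δ)
    (hΦ : ∀ R ∈ Δ, frattini ↥R ≠ ⊥) (hord : ∀ R ∈ Δ, ∀ T ∈ Δ, Nat.card ↥R = Nat.card ↥T)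
    (hti : ∀ R ∈ Δ, ∀ T ∈ Δ, R = T ∨ R ⊓ T = ⊥) :
    ∀ R ∈ Δ, ∀ T ∈ Δ, R ≠ T → ⁅R, T⁆ = ⊥ := by
  intro R hR T hT hne
  rw [Subgroup.commutator_eq_bot_iff_le_centralizer]
  intro r hr
  rw [Subgroup.mem_centralizer_iff]
  intro t ht
  exact (core hS Δ hinv hΦ hord hti _ ⊤ rfl R hR T hT le_top le_top hne r hr t ht).symm

end Cfsg.Agent.S1782
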