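import Mathlib
import Cfsg.Statements.S3736
import Cfsg.Agent.S1302
import Cfsg.Agent.S1462
import Cfsg.Agent.S0579
import Cfsg.Agent.S0586

set_option autoImplicit false
open Pointwise
open Cfsg
open scoped commutatorElement

namespace Cfsg.Agent.S3736

theorem lemN {P : Type*} [Group P] [Finite P] (p : ℕ) [Fact p.Prime]
    (hP : IsPGroup p P)
    {Γ : Type*} [Group Γ] (φ : Γ →* MulAut P) (Q : Subgroup Γ) [Finite Q]
    (hQ : (Nat.card Q).Coprime p)
    (h4 : Subgroup.closure {y : P | ∃ x : P, ∃ g ∈ Q, y = x * (φ g x)⁻¹} = ⊤)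
    (y : P) (hy : ∀ g ∈ Q, φ g y = y) : y ∈ commutator P := by
  classical
  haveI : Fintype ↥Q := Fintype.ofFinite _
  obtain ⟨Nh, hNh⟩ : ∃ Nh : P →* Abelianization P,
      ∀ x, Nh x = ∏ g : ↥Q, Abelianization.of (φ (g : Γ) x) := by
    refine ⟨∏ g : ↥Q, (Abelianization.of.comp (φ (g : Γ)).toMonoidHom), fun x => ?_⟩
    rw [MonoidHom.finsetProd_apply]
    rfl
  have hN1 : ∀ x, ∀ g0 ∈ Q, Nh (φ g0 x) = Nh x := by
    intro x g0 hg0
    rw [hNh, hNh]
    have := Equiv.prod_comp (Equiv.mulRight (⟨g0, hg0⟩ : ↥Q))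
      (fun g : ↥Q => Abelianization.of (φ (g : Γ) x))
    rw [← this]
    apply Finset.prod_congr rfl
    intro g _
    simp [map_mul]
  have hN : ∀ x, Nh x = 1 := by
    have hle : Subgroup.closure {y : P | ∃ x : P, ∃ g ∈ Q, y = x * (φ g x)⁻¹} ≤ Nh.ker := by
      rw [Subgroup.closure_le]
      rintro _ ⟨x, g, hg, rfl⟩
      show _ ∈ Nh.ker
      rw [MonoidHom.mem_ker, map_mul, map_inv, hN1 x g hg, mul_inv_cancel]
    intro x
    have : x ∈ Nh.ker := hle (h4 ▸ Subgroup.mem_top x)
    exact MonoidHom.mem_ker.1 this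
  have h5 : Nh y = (Abelianization.of y) ^ (Nat.card Q) := by
    rw [hNh]
    rw [Finset.prod_congr rfl (fun g _ => by rw [hy g g.2]), Finset.prod_const,
      Finset.card_univ, Nat.card_eq_fintype_card]
  rw [hN] at h5
  obtain ⟨n, hn⟩ := IsPGroup.iff_card.1 hP
  have h6 : (Abelianization.of y) ^ (p ^ n) = 1 := by
    rw [← map_pow, ← hn, pow_card_eq_one', map_one]
  have h7 : Abelianization.of y = 1 :=
    Cfsg.Agent.S0579.eq_one_of_pow_coprime h5.symm h6 (Nat.Coprime.pow_right n hQ)
  rw [← Abelianization.ker_of]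
  exact MonoidHom.mem_ker.2 h7

theorem comm_bot_of_coprime {G : Type*} [Group G] [Finite G] (p : ℕ) [Fact p.Prime]
    (P Q : Subgroup G) (hPp : IsPGroup p P) (hQc : (Nat.card Q).Coprime p)
    (hQP : Q ≤ Subgroup.normalizer (P : Set G))
    (h1 : ⁅P, Q⁆ ≤ Subgroup.centralizer (Q : Set G)) :
    P ≤ Subgroup.centralizer (Q : Set G) := by
  have hcomm_le : ⁅P, Q⁆ ≤ P := by
    rw [Subgroup.commutator_le]
    intro x hx g hg
    have h1 : g * x⁻¹ * g⁻¹ ∈ P := (Subgroup.mem_set_normalizer_iff.1 (hQP hg) _).1 (inv_mem hx)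
    have h2 : ⁅x, g⁆ = x * (g * x⁻¹ * g⁻¹) := by simp [commutatorElement_def, mul_assoc]
    rw [h2]
    exact mul_mem hx h1
  intro x hx
  rw [Subgroup.mem_centralizer_iff]
  intro g hg
  obtain ⟨c, hc⟩ : ∃ c, c = x⁻¹ * (g * x * g⁻¹) := ⟨_, rfl⟩
  have hcmem : c ∈ ⁅P, Q⁆ := by
    have : c = ⁅x⁻¹, g⁆ := by rw [hc]; simp [commutatorElement_def, mul_assoc]
    rw [this]
    exact Subgroup.commutator_mem_commutator (inv_mem hx) hg
  have hcg : g * c = c * g := (Subgroup.mem_centralizer_iff.1 (h1 hcmem)) g hg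
  have hconj : ∀ k : ℕ, g ^ k * x * (g ^ k)⁻¹ = x * c ^ k := by
    intro k
    induction k with
    | zero => simp
    | succ k ih =>
      have h3 : g * x * g⁻¹ = x * c := by rw [hc]; group
      have h4 : g * c ^ k * g⁻¹ = c ^ k := by
        have : Commute g (c ^ k) := (show Commute g c from hcg).pow_right k
        rw [this.eq]; group
      calc g ^ (k + 1) * x * (g ^ (k + 1))⁻¹ = g * (g ^ k * x * (g ^ k)⁻¹) * g⁻¹ := by
            rw [pow_succ']; group
        _ = g * (x * c ^ k) * g⁻¹ := by rw [ih]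
        _ = (g * x * g⁻¹) * (g * c ^ k * g⁻¹) := by group
        _ = (x * c) * c ^ k := by rw [h3, h4]
        _ = x * c ^ (k + 1) := by rw [pow_succ', mul_assoc]
  have h5 := hconj (orderOf g)
  rw [pow_orderOf_eq_one, one_mul, inv_one, mul_one] at h5
  have h6 : c ^ orderOf g = 1 := by
    have := congrArg (fun t => x⁻¹ * t) h5
    simpa using this.symm
  obtain ⟨n, hn⟩ := hPp ⟨c, hcomm_le hcmem⟩
  have hn' : c ^ (p ^ n) = 1 := congrArg Subtype.val hn
  have h7 : (orderOf g).Coprime (p ^ n) :=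
    Nat.Coprime.pow_right n (Nat.Coprime.coprime_dvd_left (Subgroup.orderOf_dvd_natCard Q hg) hQc)
  have h8 : c = 1 := Cfsg.Agent.S0579.eq_one_of_pow_coprime h6 hn' h7
  rw [hc] at h8
  have h9 : g * x * g⁻¹ = x := by
    have := congrArg (fun t => x * t) h8
    simpa using this
  calc g * x = (g * x * g⁻¹) * g := by group
    _ = x * g := by rw [h9]

theorem char_norm {G : Type*} [Group G] (P : Subgroup G) (K : Subgroup ↥P)
    (hK : K.Characteristic) (g : G) (hg : g ∈ Subgroup.normalizer (P : Set G)) :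
    g ∈ Subgroup.normalizer ((K.map P.subtype : Subgroup G) : Set G) := by
  have key : ∀ g : G, g ∈ Subgroup.normalizer (P : Set G) →
      ∀ h ∈ K.map P.subtype, g * h * g⁻¹ ∈ K.map P.subtype := by
    intro g hg h hh
    obtain ⟨k, hk, rfl⟩ := Subgroup.mem_map.1 hh
    have h1 := (Subgroup.characteristic_iff_map_eq.1 hK) (P.normalizerMonoidHom ⟨g, hg⟩)
    have h2 : (P.normalizerMonoidHom ⟨g, hg⟩) k ∈
        K.map (P.normalizerMonoidHom ⟨g, hg⟩).toMonoidHom := Subgroup.mem_map_of_mem _ hk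
    rw [h1] at h2
    exact Subgroup.mem_map.2 ⟨_, h2, rfl⟩
  rw [Subgroup.mem_set_normalizer_iff]
  intro h
  constructor
  · exact key g hg h
  · intro hh
    have := key g⁻¹ (inv_mem hg) _ hh
    simpa [mul_assoc] using this

/-- The Hall–Higman reduction for a minimal non-trivial action. Let B, A and P be subgroups of a finite group with P a p-group, B normalizing P, and A a normal subgroup of B of order prime to p. Suppose A does not centralize P but centralizes every proper B-invariant subgroup of P. Then [P, A] = P; P is elementary abelian or special; B acts irreducibly on P/Φ(P), that is, the only B-invariant subgroups of P containing Φ(P) are Φ(P) and P; and if p is odd then every element of P has order dividing p. -/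
theorem result {X : Type*} [Group X] [Finite X] {p : ℕ} [Fact p.Prime] (B A P : Subgroup X) (hP : IsPGroup p P) (hBP : B ≤ Subgroup.normalizer (P : Set X)) (hAB : A ≤ B) (hAn : B ≤ Subgroup.normalizer (A : Set X)) (hAp : (Nat.card A).Coprime p) (hnt : ⁅P, A⁆ ≠ ⊥) (hmin : ∀ U : Subgroup X, U < P → B ≤ Subgroup.normalizer (U : Set X) → ⁅U, A⁆ = ⊥) : ⁅P, A⁆ = P ∧ (Cfsg.IsElementaryAbelian p P ∨ Cfsg.IsSpecial p ↥P) ∧ (∀ U : Subgroup X, (frattini ↥P).map P.subtype ≤ U → U ≤ P → B ≤ Subgroup.normalizer (U : Set X) → U = (frattini ↥P).map P.subtype ∨ U = P) ∧ (p ≠ 2 → ∀ x ∈ P, x ^ p = 1) := by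
  classical
  have hpp : p.Prime := Fact.out
  have hAP : A ≤ Subgroup.normalizer (P : Set X) := hAB.trans hBP
  have hcomm_le : ⁅P, A⁆ ≤ P := by
    rw [Subgroup.commutator_le]
    intro x hx g hg
    have h1 : g * x⁻¹ * g⁻¹ ∈ P := (Subgroup.mem_set_normalizer_iff.1 (hAP hg) _).1 (inv_mem hx)
    have h2 : ⁅x, g⁆ = x * (g * x⁻¹ * g⁻¹) := by simp [commutatorElement_def, mul_assoc]
    rw [h2]
    exact mul_mem hx h1
  have hPcomm : ⁅P, A⁆ = P := by
    by_contra hne
    have h1 := hmin ⁅P, A⁆ (lt_of_le_of_ne hcomm_le hne)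
      (fun g hg => Cfsg.Agent.S1302.norm_comm P A g (hBP hg) (hAn hg))
    apply hnt
    rw [Subgroup.commutator_eq_bot_iff_le_centralizer] at h1 ⊢
    exact comm_bot_of_coprime p P A hP hAp hAP h1
  have hPne : P ≠ ⊥ := by
    rintro rfl
    exact hnt (Subgroup.commutator_bot_left A)
  obtain ⟨D, hD⟩ : ∃ D : Subgroup X, D = ⁅P, P⁆ := ⟨_, rfl⟩
  have hDP : D ≤ P := by
    rw [hD, Subgroup.commutator_le]
    intro a ha b hb
    rw [commutatorElement_def]
    exact mul_mem (mul_mem (mul_mem ha hb) (inv_mem ha)) (inv_mem hb)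
  haveI : Nontrivial ↥P := (Subgroup.nontrivial_iff_ne_bot P).2 hPne
  haveI hnil : Group.IsNilpotent ↥P := hP.isNilpotent
  have hDne : D ≠ P := by
    intro h
    have hlt := IsSolvable.commutator_lt_top_of_nontrivial ↥P
    have h1 : (commutator ↥P).map P.subtype = (⊤ : Subgroup ↥P).map P.subtype := by
      rw [Subgroup.map_subtype_commutator, ← hD, h, ← MonoidHom.range_eq_map,
        Subgroup.range_subtype]
    exact hlt.ne (Subgroup.map_injective P.subtype_injective h1)
  have hDmap : (commutator ↥P).map P.subtype = D := by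
    rw [Subgroup.map_subtype_commutator, hD]
  have hstar : ∀ U : Subgroup X, U ≤ P → U ≠ P → B ≤ Subgroup.normalizer (U : Set X) →
      U ≤ Subgroup.centralizer (A : Set X) := by
    intro U h1 h2 h3
    have := hmin U (lt_of_le_of_ne h1 h2) h3
    rwa [Subgroup.commutator_eq_bot_iff_le_centralizer] at this
  have hDA : D ≤ Subgroup.centralizer (A : Set X) :=
    hstar D hDP hDne (fun g hg => hD ▸ Cfsg.Agent.S1302.norm_comm P P g (hBP hg) (hBP hg))
  obtain ⟨Z, hZ⟩ : ∃ Z : Subgroup X, Z = P ⊓ Subgroup.centralizer (A : Set X) := ⟨_, rfl⟩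
  have hZP : Z ≤ P := hZ ▸ inf_le_left
  have hZA : Z ≤ Subgroup.centralizer (A : Set X) := hZ ▸ inf_le_right
  have hDZ : D ≤ Z := hZ ▸ le_inf hDP hDA
  have hZcent : P ≤ Subgroup.centralizer (Z : Set X) := by
    have h1 : ⁅⁅A, Z⁆, P⁆ = ⊥ := by
      have : ⁅A, Z⁆ = ⊥ := by
        rw [Subgroup.commutator_comm, Subgroup.commutator_eq_bot_iff_le_centralizer]
        exact hZA
      rw [this, Subgroup.commutator_bot_left]
    have h2 : ⁅⁅Z, P⁆, A⁆ = ⊥ := by
      rw [Subgroup.commutator_eq_bot_iff_le_centralizer]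
      have : ⁅Z, P⁆ ≤ D := by rw [hD]; exact Subgroup.commutator_mono hZP le_rfl
      exact this.trans hDA
    have h3 := Subgroup.commutator_commutator_eq_bot_of_rotate h1 h2
    rw [hPcomm, Subgroup.commutator_eq_bot_iff_le_centralizer] at h3
    exact h3
  have hcardA : Nat.card ↥(A.subgroupOf (Subgroup.normalizer (P : Set X))) = Nat.card A :=
    Nat.card_congr (Subgroup.subgroupOfEquivOfLe hAP).toEquiv
  have hZD : Z ≤ D := by
    intro z hz
    have hzP : z ∈ P := hZP hz
    have := lemN p hP P.normalizerMonoidHom (A.subgroupOf (Subgroup.normalizer (P : Set X)))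
      (by rw [hcardA]; exact hAp)
      (by
        rw [eq_top_iff]
        intro y _
        have hy : (y : X) ∈ ⁅P, A⁆ := by rw [hPcomm]; exact y.2
        have key : ∀ z (_ : z ∈ ⁅P, A⁆), ∀ hzP : z ∈ P, (⟨z, hzP⟩ : ↥P) ∈
            Subgroup.closure {y : ↥P | ∃ x : ↥P,
              ∃ g ∈ A.subgroupOf (Subgroup.normalizer (P : Set X)),
                y = x * (P.normalizerMonoidHom g x)⁻¹} := by
          intro z hz
          rw [Subgroup.commutator_def] at hz
          refine Subgroup.closure_induction (p := fun z _ => ∀ hzP : z ∈ P, (⟨z, hzP⟩ : ↥P) ∈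
            Subgroup.closure {y : ↥P | ∃ x : ↥P,
              ∃ g ∈ A.subgroupOf (Subgroup.normalizer (P : Set X)),
                y = x * (P.normalizerMonoidHom g x)⁻¹}) ?_ ?_ ?_ ?_ hz
          · rintro _ ⟨x, hx, g, hg, rfl⟩ hzP
            apply Subgroup.subset_closure
            refine ⟨⟨x, hx⟩, ⟨g, hAP hg⟩, Subgroup.mem_subgroupOf.2 hg, ?_⟩
            apply Subtype.ext
            show ⁅x, g⁆ = x * (g * x * g⁻¹)⁻¹
            simp [commutatorElement_def, mul_assoc]
          · intro hzP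
            exact one_mem _
          · intro a b ha hb iha ihb hzP
            have haP : a ∈ P := hcomm_le (by rw [Subgroup.commutator_def]; exact ha)
            have hbP : b ∈ P := hcomm_le (by rw [Subgroup.commutator_def]; exact hb)
            exact mul_mem (iha haP) (ihb hbP)
          · intro a ha iha hzP
            have haP : a ∈ P := hcomm_le (by rw [Subgroup.commutator_def]; exact ha)
            exact inv_mem (iha haP)
        exact key y hy y.2)
      ⟨z, hzP⟩
      (by
        intro g hg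
        rw [Subgroup.mem_subgroupOf] at hg
        apply Subtype.ext
        show (g : X) * z * (g : X)⁻¹ = z
        have := (Subgroup.mem_centralizer_iff.1 (hZA hz)) _ hg
        rw [this]; group)
    rw [← hDmap]
    exact Subgroup.mem_map.2 ⟨⟨z, hzP⟩, this, rfl⟩
  obtain ⟨Φ, hΦ⟩ : ∃ Φ : Subgroup X, Φ = (frattini ↥P).map P.subtype := ⟨_, rfl⟩
  have hΦP : Φ ≤ P := by rw [hΦ]; exact Subgroup.map_subtype_le _
  have hΦne : Φ ≠ P := by
    intro h
    have h1 : frattini ↥P = ⊤ := by
      apply Subgroup.map_injective P.subtype_injective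
      rw [← hΦ, h, ← MonoidHom.range_eq_map, Subgroup.range_subtype]
    have h2 := frattini_nongenerating (G := ↥P) (K := ⊥) (by rw [h1]; simp)
    exact bot_ne_top h2
  have hΦB : B ≤ Subgroup.normalizer (Φ : Set X) :=
    fun g hg => hΦ ▸ char_norm P (frattini ↥P) frattini_characteristic g (hBP hg)
  have hΦZ : Φ ≤ Z := hZ ▸ le_inf hΦP (hstar Φ hΦP hΦne hΦB)
  have hDΦ : D ≤ Φ := by
    rw [← hDmap, hΦ]
    exact Subgroup.map_mono Cfsg.Agent.S0586.commutator_le_frattini_of_nilpotent
  have hΦD : Φ = D := le_antisymm (hΦZ.trans hZD) hDΦ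
  have hOmega : (∀ x ∈ P, ∀ y ∈ P, x ^ p = 1 → y ^ p = 1 → (x * y) ^ p = 1) →
      (∀ x ∈ P, x ^ p = 1) ∨
        (∀ x ∈ P, x ^ p = 1 → x ∈ Subgroup.centralizer (A : Set X)) := by
    intro hmul
    obtain ⟨Om, hOm⟩ : ∃ Om : Subgroup X, ∀ x, x ∈ Om ↔ x ∈ P ∧ x ^ p = 1 := by
      refine ⟨
        { carrier := {x | x ∈ P ∧ x ^ p = 1}
          mul_mem' := ?_
          one_mem' := ⟨one_mem _, one_pow _⟩
          inv_mem' := ?_ }, fun x => Iff.rfl⟩
      · rintro x y ⟨hx, hx1⟩ ⟨hy, hy1⟩
        exact ⟨mul_mem hx hy, hmul x hx y hy hx1 hy1⟩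
      · rintro x ⟨hx, hx1⟩
        exact ⟨inv_mem hx, by rw [inv_pow, hx1, inv_one]⟩
    have hOmP : Om ≤ P := fun x hx => ((hOm x).1 hx).1
    have hOmN : ∀ g, g ∈ Subgroup.normalizer (P : Set X) →
        g ∈ Subgroup.normalizer (Om : Set X) := by
      intro g hg
      rw [Subgroup.mem_set_normalizer_iff]
      intro h
      rw [SetLike.mem_coe, SetLike.mem_coe, hOm, hOm, conj_pow]
      constructor
      · rintro ⟨h1, h2⟩
        exact ⟨(Subgroup.mem_set_normalizer_iff.1 hg h).1 h1, by rw [h2]; simp⟩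
      · rintro ⟨h1, h2⟩
        refine ⟨(Subgroup.mem_set_normalizer_iff.1 hg h).2 h1, ?_⟩
        have := congrArg (fun t => g⁻¹ * t * g) h2
        simpa [mul_assoc] using this
    by_cases hOmeq : Om = P
    · left
      intro x hx
      exact ((hOm x).1 (hOmeq ▸ hx)).2
    · right
      intro x hx hx1
      exact hstar Om hOmP hOmeq (fun g hg => hOmN g (hBP hg)) ((hOm x).2 ⟨hx, hx1⟩)
  have hexp_odd : p ≠ 2 → ∀ x ∈ P, x ^ p = 1 := by
    intro hp
    have hodd : 2 ∣ p - 1 := by
      rcases hpp.eq_two_or_odd' with h | h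
      · exact absurd h hp
      · obtain ⟨k, hk⟩ := h
        exact ⟨k, by omega⟩
    rcases hOmega (by
      intro x hx y hy hx1 hy1
      have hcD : ⁅y, x⁆ ∈ D := by rw [hD]; exact Subgroup.commutator_mem_commutator hy hx
      have hcx : Commute ⁅y, x⁆ x := (Subgroup.mem_centralizer_iff.1 (hZcent hx)) _ (hDZ hcD)
      have hcy : Commute ⁅y, x⁆ y := (Subgroup.mem_centralizer_iff.1 (hZcent hy)) _ (hDZ hcD)
      have h1 := Cfsg.Agent.S1302.pow_comm_formula x y hcx hcy p
      rw [hy1, one_mul, mul_one] at h1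
      have h2 : ⁅y, x⁆ ^ p = 1 := by
        have := congrArg (fun t => x⁻¹ * t) h1
        simpa using this.symm
      rw [Cfsg.Agent.S1302.pow_formula x y hcx hcy p, hx1, hy1, one_mul, one_mul,
        Nat.mul_div_assoc p hodd, pow_mul, h2, one_pow]) with h | h
    · exact h
    · exfalso
      apply hnt
      rw [Subgroup.commutator_eq_bot_iff_le_centralizer]
      have h1 : A ≤ Subgroup.centralizer (P : Set X) := by
        apply Cfsg.Agent.S1462.omega_lemma p hp P A hP hAp hAP
        intro a ha ha1 l hl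
        exact (Subgroup.mem_centralizer_iff.1 (h a ha ha1)) l hl
      intro x hx
      rw [Subgroup.mem_centralizer_iff]
      intro a ha
      exact ((Subgroup.mem_centralizer_iff.1 (h1 ha)) x hx).symm
  refine ⟨hPcomm, ?_, ?_, hexp_odd⟩
  · by_cases hab : D = ⊥
    · left
      have hcomm : ∀ x ∈ P, ∀ y ∈ P, x * y = y * x := by
        intro x hx y hy
        have : ⁅x, y⁆ ∈ D := by rw [hD]; exact Subgroup.commutator_mem_commutator hx hy
        rw [hab, Subgroup.mem_bot] at this
        exact commutatorElement_eq_one_iff_mul_comm.1 this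
      refine ⟨⟨⟨fun a b => Subtype.ext (hcomm a a.2 b b.2)⟩⟩, ?_⟩
      rcases hOmega (by
        intro x hx y hy hx1 hy1
        rw [(show Commute x y from hcomm x hx y hy).mul_pow, hx1, hy1, one_mul]) with h | h
      · exact h
      · exfalso
        have hdvd : p ∣ Nat.card ↥P := by
          obtain ⟨n, hn⟩ := IsPGroup.iff_card.1 hP
          rw [hn]
          have hn0 : n ≠ 0 := by
            rintro rfl
            rw [pow_zero] at hn
            exact hPne ((Subgroup.card_eq_one (H := P)).1 hn)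
          exact dvd_pow_self p hn0
        obtain ⟨x, hx⟩ := exists_prime_orderOf_dvd_card' p hdvd
        have hx1 : (x : X) ^ p = 1 := by
          have h0 : x ^ p = 1 := by
            have := pow_orderOf_eq_one x
            rwa [hx] at this
          exact congrArg Subtype.val h0
        have hxZ : (x : X) ∈ Z := hZ ▸ Subgroup.mem_inf.2 ⟨x.2, h _ x.2 hx1⟩
        have hxD := hZD hxZ
        rw [hab, Subgroup.mem_bot] at hxD
        have hx0 : x = 1 := Subtype.ext hxD
        rw [hx0, orderOf_one] at hx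
        exact hpp.one_lt.ne hx
    · right
      obtain ⟨C, hC⟩ : ∃ C : Subgroup X, C = (Subgroup.center ↥P).map P.subtype := ⟨_, rfl⟩
      have hCP : C ≤ P := by rw [hC]; exact Subgroup.map_subtype_le _
      have hCne : C ≠ P := by
        intro h
        apply hab
        have h1 : Subgroup.center ↥P = ⊤ := by
          apply Subgroup.map_injective P.subtype_injective
          rw [← hC, h, ← MonoidHom.range_eq_map, Subgroup.range_subtype]
        rw [hD, Subgroup.commutator_eq_bot_iff_le_centralizer]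
        intro x hx
        rw [Subgroup.mem_centralizer_iff]
        intro y hy
        have h2 : (⟨x, hx⟩ : ↥P) ∈ Subgroup.center ↥P := h1 ▸ Subgroup.mem_top _
        have h3 := (Subgroup.mem_center_iff.1 h2) ⟨y, hy⟩
        exact congrArg Subtype.val h3
      have hCB : B ≤ Subgroup.normalizer (C : Set X) :=
        fun g hg => hC ▸ char_norm P (Subgroup.center ↥P) inferInstance g (hBP hg)
      have hCD : C = D := by
        apply le_antisymm
        · exact (hZ ▸ le_inf hCP (hstar C hCP hCne hCB) : C ≤ Z).trans hZD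
        · intro z hz
          have hzZ := hDZ hz
          rw [hC]
          refine Subgroup.mem_map.2 ⟨⟨z, hZP hzZ⟩, ?_, rfl⟩
          rw [Subgroup.mem_center_iff]
          intro g
          apply Subtype.ext
          exact ((Subgroup.mem_centralizer_iff.1 (hZcent g.2)) z hzZ).symm
      refine ⟨hP, ?_, ?_⟩
      · apply Subgroup.map_injective P.subtype_injective
        rw [← hΦ, hΦD, ← hC, hCD]
      · apply Subgroup.map_injective P.subtype_injective
        rw [hDmap, ← hC, hCD]
  · intro U hΦU hUP hUB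
    rw [← hΦ] at hΦU ⊢
    by_cases hU : U = P
    · right; exact hU
    · left
      refine le_antisymm ?_ hΦU
      rw [hΦD]
      exact (hZ ▸ le_inf hUP (hstar U hUP hU hUB) : U ≤ Z).trans hZD

end Cfsg.Agent.S3736
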