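import Mathlib
import Cfsg.Statements.S1783
import Cfsg.Agent.S1782
import Cfsg.Agent.S3736
import Cfsg.Agent.S0012
import Cfsg.Agent.S0026
import Cfsg.Agent.S0579
import Cfsg.Agent.Lib.Helper1.Nil
import Cfsg.Agent.Lib.Helper2.Fit
import Cfsg.Agent.Lib.Helper2.Comp

set_option autoImplicit false
open Pointwise
open Cfsg
open scoped commutatorElement

namespace Cfsg.Agent.S1783

open Cfsg.Agent.S1782 (mem_cj cj_mem)

theorem exists_normal_over' {S : Type*} [Group S] [Finite S]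
    (H : Subgroup S) (hHp : IsPGroup 2 ↥H) (R : Subgroup S) (hRH : R ≤ H) (hne : R ≠ H) :
    ∃ M : Subgroup S, R ≤ M ∧ M ≤ H ∧ Nat.card M < Nat.card H ∧
      ∀ h ∈ H, ∀ m ∈ M, h * m * h⁻¹ ∈ M := by
  haveI : Fact (Nat.Prime 2) := ⟨Nat.prime_two⟩
  have hne' : R.subgroupOf H ≠ ⊤ := by
    intro h
    apply hne
    apply le_antisymm hRH
    intro x hx
    have : (⟨x, hx⟩ : ↥H) ∈ R.subgroupOf H := h ▸ Subgroup.mem_top _
    exact Subgroup.mem_subgroupOf.1 this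
  rcases eq_top_or_exists_le_coatom (R.subgroupOf H) with h | ⟨M', hM', hRM'⟩
  · exact absurd h hne'
  obtain ⟨hMn, -⟩ := Cfsg.Agent.Lib.Helper1.coatom_normal_index_of_isPGroup 2 hHp M' hM'
  refine ⟨M'.map H.subtype, ?_, ?_, ?_, ?_⟩
  · intro r hr
    exact Subgroup.mem_map.2 ⟨⟨r, hRH hr⟩, hRM' (Subgroup.mem_subgroupOf.2 hr), rfl⟩
  · exact Subgroup.map_subtype_le _
  · by_contra hcon
    rw [not_lt] at hcon
    have heq := Subgroup.eq_of_le_of_card_ge (Subgroup.map_subtype_le M') hcon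
    apply hM'.1
    rw [eq_top_iff]
    intro x _
    have hx : (x : S) ∈ M'.map H.subtype := by rw [heq]; exact x.2
    obtain ⟨m, hm, hmx⟩ := Subgroup.mem_map.1 hx
    have : m = x := Subtype.ext hmx
    exact this ▸ hm
  · intro h hh m hm
    obtain ⟨m', hm', rfl⟩ := Subgroup.mem_map.1 hm
    exact Subgroup.mem_map.2 ⟨⟨h, hh⟩ * m' * ⟨h, hh⟩⁻¹, hMn.conj_mem m' hm' ⟨h, hh⟩, rfl⟩

theorem coreX {S : Type*} [Group S] [Finite S]
    (Δ : Set (Subgroup S)) (hinv : ∀ s : S, ∀ R ∈ Δ, R.map (MulAut.conj s).toMonoidHom ∈ Δ)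
    (hsq : ∀ R ∈ Δ, ∃ t ∈ R, t ^ 2 ≠ 1) (hord : ∀ R ∈ Δ, ∀ T ∈ Δ, Nat.card ↥R = Nat.card ↥T)
    (hti : ∀ R ∈ Δ, ∀ T ∈ Δ, R = T ∨ R ⊓ T = ⊥) (n : ℕ) :
    ∀ H : Subgroup S, IsPGroup 2 ↥H → Nat.card H = n → ∀ R ∈ Δ, ∀ T ∈ Δ, R ≤ H → T ≤ H →
      R ≠ T → ∀ r ∈ R, ∀ t ∈ T, r * t = t * r := by
  haveI : Fact (Nat.Prime 2) := ⟨Nat.prime_two⟩
  induction n using Nat.strong_induction_on with
  | _ n ih =>
    intro H hH2 hHn R hR T hT hRH hTH hne
    by_cases hlt : Nat.card ↥(R ⊔ T) < n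
    · exact ih _ hlt (R ⊔ T) (hH2.to_le (sup_le hRH hTH)) rfl R hR T hT le_sup_left le_sup_right hne
    have hHeq : R ⊔ T = H := by
      rw [not_lt, ← hHn] at hlt
      exact Subgroup.eq_of_le_of_card_ge (sup_le hRH hTH) hlt
    -- TI property
    have hTI : ∀ A ∈ Δ, ∀ u ∈ A, u ≠ 1 → ∀ x : S, x * u = u * x →
        A.map (MulAut.conj x).toMonoidHom = A := by
      intro A hA u hu hu1 x hxu
      rcases hti A hA _ (hinv x A hA) with h | h
      · exact h.symm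
      · exfalso
        apply hu1
        have : u ∈ A ⊓ A.map (MulAut.conj x).toMonoidHom := by
          refine Subgroup.mem_inf.2 ⟨hu, ?_⟩
          rw [mem_cj]
          have e : x⁻¹ * u * x = u := by rw [mul_assoc, ← hxu]; group
          rw [e]; exact hu
        rw [h] at this
        exact Subgroup.mem_bot.1 this
    have hdisj : ∀ A ∈ Δ, ∀ x : S, A.map (MulAut.conj x).toMonoidHom ≠ A →
        ∀ g ∈ A, x⁻¹ * g * x ∈ A → g = 1 := by
      intro A hA x hx g hg hg'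
      rcases hti A hA _ (hinv x A hA) with h | h
      · exact absurd h.symm hx
      · have : g ∈ A ⊓ A.map (MulAut.conj x).toMonoidHom :=
          Subgroup.mem_inf.2 ⟨hg, (mem_cj x g A).2 hg'⟩
        rw [h] at this
        exact Subgroup.mem_bot.1 this
    -- commuting of conjugates
    have hF : ∀ A ∈ Δ, ∀ B ∈ Δ, A ≤ H → B ≤ H → A ≠ H → ∀ b ∈ B,
        A.map (MulAut.conj b).toMonoidHom ≠ A → ∀ a ∈ A,
          ∀ c ∈ A.map (MulAut.conj b).toMonoidHom, a * c = c * a := by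
      intro A hA B hB hAH hBH hAne b hb hbA a ha c hc
      obtain ⟨M, hAM, hMH, hMlt, hMn⟩ := exists_normal_over' H hH2 A hAH hAne
      have hcjM : A.map (MulAut.conj b).toMonoidHom ≤ M := by
        intro x hx
        rw [mem_cj] at hx
        have := hMn b (hBH hb) _ (hAM hx)
        have e : b * (b⁻¹ * x * b) * b⁻¹ = x := by group
        rw [e] at this
        exact this
      exact ih _ (hHn ▸ hMlt) M (hH2.to_le hMH) rfl A hA _ (hinv b A hA) hAM hcjM (Ne.symm hbA) a ha c hc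
    have hRneH : R ≠ H := by
      intro h
      apply hne
      have hTR : T ≤ R := h ▸ hTH
      exact (Subgroup.eq_of_le_of_card_ge hTR (hord R hR T hT).le).symm
    have hTneH : T ≠ H := by
      intro h
      apply hne
      have hRT : R ≤ T := h ▸ hRH
      exact Subgroup.eq_of_le_of_card_ge hRT (hord T hT R hR).le
    -- Lemma A
    have hA : ∀ A ∈ Δ, ∀ B ∈ Δ, A ≠ B → (∀ a ∈ A, B.map (MulAut.conj a).toMonoidHom = B) →
        ∀ b ∈ B, A.map (MulAut.conj b).toMonoidHom = A := by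
      intro A hA B hB hAB hnorm b hb
      by_contra hcon
      obtain ⟨ψ, hψ⟩ : ∃ ψ : ↥A → ↥B, ∀ a : ↥A, ((ψ a : ↥B) : S) = b * a * b⁻¹ * (a : S)⁻¹ := by
        refine ⟨fun a => ⟨b * a * b⁻¹ * (a : S)⁻¹, ?_⟩, fun a => rfl⟩
        have h1 := cj_mem B a b⁻¹ (hnorm a a.2) (inv_mem hb)
        have e : b * (a : S) * b⁻¹ * (a : S)⁻¹ = b * ((a : S) * b⁻¹ * (a : S)⁻¹) := by group
        rw [e]
        exact mul_mem hb h1
      have hinj : Function.Injective ψ := by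
        intro a a' h
        have h1 : b * (a : S) * b⁻¹ * (a : S)⁻¹ = b * (a' : S) * b⁻¹ * (a' : S)⁻¹ := by
          rw [← hψ, ← hψ, h]
        have h1' : (a : S) * b⁻¹ * (a : S)⁻¹ = (a' : S) * b⁻¹ * (a' : S)⁻¹ := by
          have e : ∀ u : S, b * u * b⁻¹ * u⁻¹ = b * (u * b⁻¹ * u⁻¹) := fun u => by group
          rw [e, e] at h1
          exact mul_left_cancel h1
        have h2 : b⁻¹ * ((a' : S)⁻¹ * a) * b = (a' : S)⁻¹ * a := by
          calc b⁻¹ * ((a' : S)⁻¹ * a) * b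
              = (a' : S)⁻¹ * ((a' : S) * b⁻¹ * (a' : S)⁻¹) * a * b := by group
            _ = (a' : S)⁻¹ * ((a : S) * b⁻¹ * (a : S)⁻¹) * a * b := by rw [h1']
            _ = (a' : S)⁻¹ * a := by group
        have h3 := hdisj A hA b hcon ((a' : S)⁻¹ * a) (mul_mem (inv_mem a'.2) a.2)
          (by rw [h2]; exact mul_mem (inv_mem a'.2) a.2)
        apply Subtype.ext
        have : (a' : S) * ((a' : S)⁻¹ * a) = a' := by rw [h3, mul_one]
        rw [← this]; group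
      have hbij := Function.Injective.bijective_of_nat_card_le hinj (hord B hB A hA).le
      obtain ⟨a₀, ha₀⟩ := hbij.2 ⟨b, hb⟩
      have h1 : b * (a₀ : S) * b⁻¹ * (a₀ : S)⁻¹ = b := by rw [← hψ, ha₀]
      have h2 : b = 1 := by
        have e : b⁻¹ = (a₀ : S)⁻¹ * (b⁻¹ * (b * (a₀ : S) * b⁻¹ * (a₀ : S)⁻¹)) * a₀ := by group
        rw [h1] at e
        have e2 : b⁻¹ = 1 := by rw [e]; group
        exact inv_eq_one.1 e2
      apply hcon
      ext x
      rw [mem_cj, h2]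
      simp
    have hcomm : (∀ r ∈ R, T.map (MulAut.conj r).toMonoidHom = T) →
        (∀ t ∈ T, R.map (MulAut.conj t).toMonoidHom = R) →
        ∀ r ∈ R, ∀ t ∈ T, r * t = t * r := by
      intro h1 h2 r hr t ht
      have hbot : R ⊓ T = ⊥ := (hti R hR T hT).resolve_left hne
      have hm : r * t * r⁻¹ * t⁻¹ ∈ R ⊓ T := by
        refine Subgroup.mem_inf.2 ⟨?_, ?_⟩
        · have := cj_mem R t r⁻¹ (h2 t ht) (inv_mem hr)
          have e : r * t * r⁻¹ * t⁻¹ = r * (t * r⁻¹ * t⁻¹) := by group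
          rw [e]; exact mul_mem hr this
        · exact mul_mem (cj_mem T r t (h1 r hr) ht) (inv_mem ht)
      rw [hbot, Subgroup.mem_bot] at hm
      have e : r * t = (r * t * r⁻¹ * t⁻¹) * (t * r) := by group
      rw [e, hm, one_mul]
    by_cases hRn : ∀ r ∈ R, T.map (MulAut.conj r).toMonoidHom = T
    · exact hcomm hRn (hA R hR T hT hne hRn)
    by_cases hTn : ∀ t ∈ T, R.map (MulAut.conj t).toMonoidHom = R
    · exact absurd (hA T hT R hR hne.symm hTn) hRn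
    exfalso
    push_neg at hRn hTn
    obtain ⟨r₀, hr₀, hr₀T⟩ := hRn
    obtain ⟨t₀, ht₀, ht₀R⟩ := hTn
    have F1 := hF R hR T hT hRH hTH hRneH
    have F2 := hF T hT R hR hTH hRH hTneH
    by_cases hb : ∃ r₁ ∈ R, r₁ ≠ 1 ∧ T.map (MulAut.conj r₁).toMonoidHom = T
    · obtain ⟨r₁, hr₁, hr₁1, hr₁T⟩ := hb
      have key : ∀ r ∈ R, r ≠ 1 → T.map (MulAut.conj r).toMonoidHom = T →
          ∀ x ∈ R, x * r = r * x → T.map (MulAut.conj x).toMonoidHom = T := by
        intro r hr hr1 hrT x hx hxr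
        have huT : t₀ * r * t₀⁻¹ * r⁻¹ ∈ T := by
          have := cj_mem T r t₀⁻¹ hrT (inv_mem ht₀)
          have e : t₀ * r * t₀⁻¹ * r⁻¹ = t₀ * (r * t₀⁻¹ * r⁻¹) := by group
          rw [e]; exact mul_mem ht₀ this
        have hu1 : t₀ * r * t₀⁻¹ * r⁻¹ ≠ 1 := by
          intro h
          apply hr1
          apply hdisj R hR t₀ ht₀R r hr
          have e : t₀⁻¹ * r * t₀ = t₀⁻¹ * (t₀ * r * t₀⁻¹ * r⁻¹)⁻¹ * t₀ * r := by group
          rw [e, h]
          have e2 : t₀⁻¹ * (1 : S)⁻¹ * t₀ * r = r := by group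
          rw [e2]; exact hr
        have hc : t₀ * r * t₀⁻¹ ∈ R.map (MulAut.conj t₀).toMonoidHom := by
          rw [mem_cj]
          have e : t₀⁻¹ * (t₀ * r * t₀⁻¹) * t₀ = r := by group
          rw [e]; exact hr
        have h1 := F1 t₀ ht₀ ht₀R x hx _ hc
        have h2 : x * r⁻¹ = r⁻¹ * x := by
          have e : x * r⁻¹ = r⁻¹ * (r * x) * r⁻¹ := by group
          rw [e, ← hxr]; group
        have hxu : x * (t₀ * r * t₀⁻¹ * r⁻¹) = (t₀ * r * t₀⁻¹ * r⁻¹) * x := by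
          calc x * (t₀ * r * t₀⁻¹ * r⁻¹) = (x * (t₀ * r * t₀⁻¹)) * r⁻¹ := by group
            _ = (t₀ * r * t₀⁻¹) * (x * r⁻¹) := by rw [h1]; group
            _ = (t₀ * r * t₀⁻¹ * r⁻¹) * x := by rw [h2]; group
        exact hTI T hT _ huT hu1 x hxu
      haveI : Nontrivial ↥R := ⟨⟨⟨r₁, hr₁⟩, 1, fun h => hr₁1 (congrArg Subtype.val h)⟩⟩
      haveI := (hH2.to_le hRH).center_nontrivial
      obtain ⟨z, hz⟩ := exists_ne (1 : ↥(Subgroup.center ↥R))
      have hzc := Subgroup.mem_center_iff.1 z.2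
      have hz1 : ((z : ↥R) : S) ≠ 1 := by
        intro h
        apply hz
        apply Subtype.ext
        apply Subtype.ext
        exact h
      have hzT := key r₁ hr₁ hr₁1 hr₁T ((z : ↥R) : S) (z : ↥R).2
        (congrArg Subtype.val (hzc ⟨r₁, hr₁⟩)).symm
      have := key ((z : ↥R) : S) (z : ↥R).2 hz1 hzT r₀ hr₀ (congrArg Subtype.val (hzc ⟨r₀, hr₀⟩))
      exact hr₀T this
    · push_neg at hb
      have hT1 : ∀ t ∈ T, t ≠ 1 → R.map (MulAut.conj t).toMonoidHom ≠ R := by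
        intro t ht ht1 htR
        have hvR : r₀ * t * r₀⁻¹ * t⁻¹ ∈ R := by
          have := cj_mem R t r₀⁻¹ htR (inv_mem hr₀)
          have e : r₀ * t * r₀⁻¹ * t⁻¹ = r₀ * (t * r₀⁻¹ * t⁻¹) := by group
          rw [e]; exact mul_mem hr₀ this
        have hv1 : r₀ * t * r₀⁻¹ * t⁻¹ ≠ 1 := by
          intro h
          apply ht1
          apply hdisj T hT r₀ hr₀T t ht
          have e : r₀⁻¹ * t * r₀ = r₀⁻¹ * (r₀ * t * r₀⁻¹ * t⁻¹)⁻¹ * r₀ * t := by group
          rw [e, h]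
          have e2 : r₀⁻¹ * (1 : S)⁻¹ * r₀ * t = t := by group
          rw [e2]; exact ht
        have hc : r₀ * t * r₀⁻¹ ∈ T.map (MulAut.conj r₀).toMonoidHom := by
          rw [mem_cj]
          have e : r₀⁻¹ * (r₀ * t * r₀⁻¹) * r₀ = t := by group
          rw [e]; exact ht
        have h1 := F2 r₀ hr₀ hr₀T t ht _ hc
        have hvt : (r₀ * t * r₀⁻¹ * t⁻¹) * t = t * (r₀ * t * r₀⁻¹ * t⁻¹) := by
          calc (r₀ * t * r₀⁻¹ * t⁻¹) * t = r₀ * t * r₀⁻¹ := by group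
            _ = (t * (r₀ * t * r₀⁻¹)) * t⁻¹ := by rw [h1]; group
            _ = t * (r₀ * t * r₀⁻¹ * t⁻¹) := by group
        exact hb _ hvR hv1 (hTI T hT t ht ht1 _ hvt)
      -- an involution in R
      have hr₀1 : r₀ ≠ 1 := by
        rintro rfl
        apply hr₀T
        ext x
        rw [mem_cj]
        simp
      obtain ⟨r, hr, hr1, hr2⟩ : ∃ r ∈ R, r ≠ 1 ∧ r ^ 2 = 1 := by
        obtain ⟨k, hk⟩ := (IsPGroup.iff_orderOf.1 (hH2.to_le hRH)) ⟨r₀, hr₀⟩
        rw [Subgroup.orderOf_mk] at hk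
        have hk0 : k ≠ 0 := by
          rintro rfl
          rw [pow_zero, orderOf_eq_one_iff] at hk
          exact hr₀1 hk
        obtain ⟨j, rfl⟩ := Nat.exists_eq_succ_of_ne_zero hk0
        refine ⟨r₀ ^ (2 ^ j), pow_mem hr₀ _, ?_, ?_⟩
        · apply pow_ne_one_of_lt_orderOf (by positivity)
          rw [hk, pow_succ]
          have : 0 < 2 ^ j := by positivity
          omega
        · rw [← pow_mul, ← pow_succ, ← hk, pow_orderOf_eq_one]
      -- an element of T with nontrivial square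
      obtain ⟨t, ht, ht2⟩ := hsq T hT
      have ht1 : t ≠ 1 := by
        rintro rfl
        exact ht2 (one_pow 2)
      have ha : t * r * t⁻¹ ∈ R.map (MulAut.conj t).toMonoidHom := by
        rw [mem_cj]
        have e : t⁻¹ * (t * r * t⁻¹) * t = r := by group
        rw [e]; exact hr
      have hbm : r * t * r⁻¹ ∈ T.map (MulAut.conj r).toMonoidHom := by
        rw [mem_cj]
        have e : r⁻¹ * (r * t * r⁻¹) * r = t := by group
        rw [e]; exact ht
      have hca : Commute (t * r * t⁻¹) r := (F1 t ht (hT1 t ht ht1) r hr _ ha).symm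
      have hcb : Commute t (r * t * r⁻¹) := F2 r hr (hb r hr hr1) t ht _ hbm
      have e1 : (t * r * t⁻¹ * r⁻¹) ^ 2 = 1 := by
        have h1 := (hca.inv_right).mul_pow 2
        have e : t * r * t⁻¹ * r⁻¹ = (t * r * t⁻¹) * r⁻¹ := rfl
        rw [e, h1, conj_pow, hr2, inv_pow, hr2]
        group
      have e2 : (t * r * t⁻¹ * r⁻¹) ^ 2 = t ^ 2 * (r * t ^ 2 * r⁻¹)⁻¹ := by
        have h1 := (hcb.inv_right).mul_pow 2
        have e : t * r * t⁻¹ * r⁻¹ = t * (r * t * r⁻¹)⁻¹ := by group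
        rw [e, h1, inv_pow, conj_pow]
      rw [e1] at e2
      have e3 : t ^ 2 = r * t ^ 2 * r⁻¹ := mul_inv_eq_one.1 e2.symm
      have e4 : r * t ^ 2 = t ^ 2 * r := by
        have : r * t ^ 2 = (r * t ^ 2 * r⁻¹) * r := by group
        rw [this, ← e3]
      exact hb r hr hr1 (hTI T hT (t ^ 2) (pow_mem ht 2) ht2 r e4)


/-- the family of conjugates of a subgroup -/
def fam {X : Type*} [Group X] (A : Subgroup X) : Set (Subgroup X) :=
  {R | ∃ g : X, R = A.map (MulAut.conj g).toMonoidHom}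

theorem fam_inv {X : Type*} [Group X] (A : Subgroup X) :
    ∀ s : X, ∀ R ∈ fam A, R.map (MulAut.conj s).toMonoidHom ∈ fam A := by
  rintro s R ⟨g, rfl⟩
  refine ⟨s * g, ?_⟩
  ext x
  rw [mem_cj, mem_cj, mem_cj]
  have e : (s * g)⁻¹ * x * (s * g) = g⁻¹ * (s⁻¹ * x * s) * g := by group
  rw [e]

theorem fam_ord {X : Type*} [Group X] (A : Subgroup X) :
    ∀ R ∈ fam A, ∀ T ∈ fam A, Nat.card ↥R = Nat.card ↥T := by
  rintro R ⟨g, rfl⟩ T ⟨h, rfl⟩
  rw [Subgroup.card_map_of_injective (MulAut.conj g).injective,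
    Subgroup.card_map_of_injective (MulAut.conj h).injective]

theorem fam_ti {X : Type*} [Group X] (A : Subgroup X)
    (hti : ∀ h : X, A.map (MulAut.conj h).toMonoidHom = A ∨
      A.map (MulAut.conj h).toMonoidHom ⊓ A = ⊥) :
    ∀ R ∈ fam A, ∀ T ∈ fam A, R = T ∨ R ⊓ T = ⊥ := by
  rintro R ⟨g, rfl⟩ T ⟨h, rfl⟩
  rcases hti (g⁻¹ * h) with h1 | h1
  · left
    ext x
    rw [mem_cj, mem_cj]
    have e : h⁻¹ * x * h = (g⁻¹ * h)⁻¹ * (g⁻¹ * x * g) * (g⁻¹ * h) := by group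
    rw [e, ← mem_cj (g⁻¹ * h), h1]
  · right
    rw [eq_bot_iff]
    intro x hx
    obtain ⟨hx1, hx2⟩ := Subgroup.mem_inf.1 hx
    rw [mem_cj] at hx1 hx2
    have h2 : g⁻¹ * x * g ∈ A.map (MulAut.conj (g⁻¹ * h)).toMonoidHom ⊓ A := by
      refine Subgroup.mem_inf.2 ⟨?_, hx1⟩
      rw [mem_cj]
      have e : (g⁻¹ * h)⁻¹ * (g⁻¹ * x * g) * (g⁻¹ * h) = h⁻¹ * x * h := by group
      rw [e]; exact hx2
    rw [h1, Subgroup.mem_bot] at h2
    rw [Subgroup.mem_bot]
    have e : x = g * (g⁻¹ * x * g) * g⁻¹ := by group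
    rw [e, h2]; group

theorem self_mem_fam {X : Type*} [Group X] (A : Subgroup X) : A ∈ fam A := by
  refine ⟨1, ?_⟩
  ext x
  rw [mem_cj]
  simp

/-- Let X be a finite group whose generalized Fitting subgroup equals its largest normal 2-subgroup Q, and let A be an abelian 2-subgroup of X such that every conjugate of A equals A or meets A trivially. Let B be the subgroup generated by the squares of the elements of A. Then B lies in Q, and if B is not an elementary abelian 2-group then the normal closure of B in X is commutative. -/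
theorem result {X : Type*} [Group X] [Finite X]
    (hX : Cfsg.generalizedFittingSubgroup X = Cfsg.pCore 2 X) (A : Subgroup X) (hA2 : IsPGroup 2 ↥A) (hAa : IsMulCommutative ↥A)
    (hti : ∀ h : X, A.map (MulAut.conj h).toMonoidHom = A ∨ A.map (MulAut.conj h).toMonoidHom ⊓ A = ⊥) :
    Subgroup.closure ((fun a : X => a ^ 2) '' (A : Set X)) ≤ Cfsg.pCore 2 X ∧
      (¬ Cfsg.IsElementaryAbelian 2 (Subgroup.closure ((fun a : X => a ^ 2) '' (A : Set X))) →
        IsMulCommutative ↥(Subgroup.normalClosure ((fun a : X => a ^ 2) '' (A : Set X)))) := by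
  classical
  haveI : Fact (Nat.Prime 2) := ⟨Nat.prime_two⟩
  obtain ⟨Q, hQdef⟩ : ∃ Q : Subgroup X, Q = Cfsg.pCore 2 X := ⟨_, rfl⟩
  rw [← hQdef]
  haveI hQn : Q.Normal := hQdef ▸ Cfsg.Agent.Lib.Helper2.Fit.pCore_normal 2
  have hQ2 : IsPGroup 2 ↥Q := hQdef ▸ Cfsg.Agent.Lib.Helper2.Fit.pCore_isPGroup 2
  have hCQ : Subgroup.centralizer (Q : Set X) ≤ Q := by
    have := Cfsg.Agent.Lib.Helper2.Comp.centralizer_genFitting_le (G := X)
    rw [hX, ← hQdef] at this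
    exact this
  have hAc : ∀ a ∈ A, ∀ b ∈ A, a * b = b * a := by
    intro a ha b hb
    exact congrArg Subtype.val (hAa.is_comm.comm (⟨a, ha⟩ : ↥A) ⟨b, hb⟩)
  -- Part 1
  have hpart1 : ∀ a ∈ A, a ^ 2 ∈ Q := by
    by_cases hB : ∀ a ∈ A, a ^ 2 = 1
    · intro a ha
      rw [hB a ha]; exact one_mem _
    push_neg at hB
    obtain ⟨a₀, ha₀, ha₀2⟩ := hB
    have hsqA : ∀ R ∈ fam A, ∃ t ∈ R, t ^ 2 ≠ 1 := by
      rintro R ⟨g, rfl⟩
      refine ⟨g * a₀ * g⁻¹, ?_, ?_⟩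
      · rw [mem_cj]
        have e : g⁻¹ * (g * a₀ * g⁻¹) * g = a₀ := by group
        rw [e]; exact ha₀
      · rw [conj_pow]
        intro h
        apply ha₀2
        have e : a₀ ^ 2 = g⁻¹ * (g * a₀ ^ 2 * g⁻¹) * g := by group
        rw [e, h]; group
    have hH2 : IsPGroup 2 ↥(A ⊔ Q) := IsPGroup.to_sup_of_normal_right hA2 hQ2
    have hquad : ∀ q ∈ Q, ∀ a ∈ A, ∀ a' ∈ A,
        (q * a * q⁻¹ * a⁻¹) * a' = a' * (q * a * q⁻¹ * a⁻¹) := by
      intro q hq a ha a' ha'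
      have h1 : (q * a * q⁻¹) * a' = a' * (q * a * q⁻¹) := by
        by_cases hqA : A.map (MulAut.conj q).toMonoidHom = A
        · exact hAc _ (cj_mem A q a hqA ha) a' ha'
        · have hle : A.map (MulAut.conj q).toMonoidHom ≤ A ⊔ Q := by
            intro x hx
            rw [mem_cj] at hx
            have e : x = q * (q⁻¹ * x * q) * q⁻¹ := by group
            rw [e]
            exact mul_mem (mul_mem ((le_sup_right : Q ≤ A ⊔ Q) hq)
              ((le_sup_left : A ≤ A ⊔ Q) hx)) (inv_mem ((le_sup_right : Q ≤ A ⊔ Q) hq))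
          have hm : q * a * q⁻¹ ∈ A.map (MulAut.conj q).toMonoidHom := by
            rw [mem_cj]
            have e : q⁻¹ * (q * a * q⁻¹) * q = a := by group
            rw [e]; exact ha
          exact coreX (fam A) (fam_inv A) hsqA (fam_ord A) (fam_ti A hti) _ (A ⊔ Q) hH2 rfl
            _ ⟨q, rfl⟩ A (self_mem_fam A) hle le_sup_left hqA _ hm a' ha'
      have h2 : a⁻¹ * a' = a' * a⁻¹ := hAc _ (inv_mem ha) a' ha'
      calc (q * a * q⁻¹ * a⁻¹) * a' = (q * a * q⁻¹) * (a⁻¹ * a') := by group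
        _ = ((q * a * q⁻¹) * a') * a⁻¹ := by rw [h2]; group
        _ = a' * (q * a * q⁻¹ * a⁻¹) := by rw [h1]; group
    obtain ⟨Φ, hΦ⟩ : ∃ Φ : Subgroup X, Φ = (frattini ↥Q).map Q.subtype := ⟨_, rfl⟩
    have hΦn : ∀ g x : X, x ∈ Φ → g * x * g⁻¹ ∈ Φ := by
      intro g x hx
      have h1 := Cfsg.Agent.S3736.char_norm Q (frattini ↥Q) frattini_characteristic g
        (by rw [Subgroup.normalizer_eq_top_iff.2 hQn]; exact Subgroup.mem_top g)
      rw [← hΦ] at h1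
      exact (Subgroup.mem_set_normalizer_iff.1 h1 x).1 hx
    have hsqΦ : ∀ c ∈ Q, c ^ 2 ∈ Φ := by
      intro c hc
      have := (Cfsg.Agent.S0012.result 2 hQ2).2 ⟨c, hc⟩
      rw [hΦ]
      exact Subgroup.mem_map.2 ⟨_, this, rfl⟩
    obtain ⟨K, hK⟩ : ∃ K : Subgroup X, ∀ x, x ∈ K ↔ ∀ q ∈ Q, x * q * x⁻¹ * q⁻¹ ∈ Φ := by
      refine ⟨
        { carrier := {x | ∀ q ∈ Q, x * q * x⁻¹ * q⁻¹ ∈ Φ}
          mul_mem' := ?_
          one_mem' := ?_
          inv_mem' := ?_ }, fun x => Iff.rfl⟩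
      · intro x y hx hy q hq
        have e : x * y * q * (x * y)⁻¹ * q⁻¹ =
            (x * (y * q * y⁻¹ * q⁻¹) * x⁻¹) * (x * q * x⁻¹ * q⁻¹) := by group
        rw [e]
        exact mul_mem (hΦn x _ (hy q hq)) (hx q hq)
      · intro q hq
        have e : (1 : X) * q * 1⁻¹ * q⁻¹ = 1 := by group
        rw [e]; exact one_mem _
      · intro x hx q hq
        have e : x⁻¹ * q * x⁻¹⁻¹ * q⁻¹ = x⁻¹ * (x * q * x⁻¹ * q⁻¹)⁻¹ * x⁻¹⁻¹ := by group
        rw [e]
        exact hΦn x⁻¹ _ (inv_mem (hx q hq))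
    have hKn : K.Normal := by
      constructor
      intro x hx g
      rw [hK] at hx ⊢
      intro q hq
      have hq' : g⁻¹ * q * g ∈ Q := by
        have := hQn.conj_mem q hq g⁻¹
        rwa [inv_inv] at this
      have e : g * x * g⁻¹ * q * (g * x * g⁻¹)⁻¹ * q⁻¹ =
          g * (x * (g⁻¹ * q * g) * x⁻¹ * (g⁻¹ * q * g)⁻¹) * g⁻¹ := by group
      rw [e]
      exact hΦn g _ (hx _ hq')
    have hK2 : IsPGroup 2 ↥K := by
      rintro ⟨x, hx⟩
      obtain ⟨e, m, hm, hem⟩ := Nat.exists_eq_two_pow_mul_odd (orderOf_pos x).ne'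
      refine ⟨e, ?_⟩
      apply Subtype.ext
      show x ^ (2 ^ e) = 1
      obtain ⟨y, hy⟩ : ∃ y : X, y = x ^ (2 ^ e) := ⟨_, rfl⟩
      rw [← hy]
      have hyK : y ∈ K := hy ▸ pow_mem hx _
      have hym : y ^ m = 1 := by
        rw [hy, ← pow_mul, ← hem, pow_orderOf_eq_one]
      have hoddY : Odd (Nat.card ↥(Subgroup.zpowers y)) := by
        rw [Nat.card_zpowers]
        exact Odd.of_dvd_nat hm (orderOf_dvd_of_pow_eq_one hym)
      obtain ⟨k, hk⟩ := IsPGroup.iff_card.1 hQ2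
      have hcop : (Nat.card ↥(Subgroup.zpowers y)).Coprime (Nat.card ↥Q) := by
        rw [hk]
        exact Nat.Coprime.pow_right k (Nat.coprime_two_left.2 hoddY).symm
      have hsolv : Group.IsSolvable ↥(Subgroup.zpowers y) := by
        apply Group.isSolvable_of_comm
        intro a b
        obtain ⟨i, hi⟩ := Subgroup.mem_zpowers_iff.1 a.2
        obtain ⟨j, hj⟩ := Subgroup.mem_zpowers_iff.1 b.2
        apply Subtype.ext
        show (a : X) * b = b * a
        rw [← hi, ← hj, ← zpow_add, ← zpow_add, add_comm]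
      have h26 := Cfsg.Agent.S0026.result (Subgroup.zpowers y) Q
        (by rw [Subgroup.normalizer_eq_top_iff.2 hQn]; exact le_top) hcop (Or.inl hsolv)
      have hcomY : ⁅Q, Subgroup.zpowers y⁆ ≤ Φ := by
        rw [Subgroup.commutator_le]
        intro q hq w hw
        have hwK : w ∈ K := (Subgroup.zpowers_le.2 hyK) hw
        have := (hK w).1 hwK q hq
        have e : ⁅q, w⁆ = (w * q * w⁻¹ * q⁻¹)⁻¹ := by
          rw [commutatorElement_def]; group
        rw [e]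
        exact inv_mem this
      have htop : (Q ⊓ Subgroup.centralizer (Subgroup.zpowers y : Set X)).subgroupOf Q ⊔
          frattini ↥Q = ⊤ := by
        rw [eq_top_iff]
        intro z _
        have hz : (z : X) ∈ ⁅Q, Subgroup.zpowers y⁆ ⊔
            (Q ⊓ Subgroup.centralizer (Subgroup.zpowers y : Set X)) := by
          rw [h26]; exact z.2
        have hz2 : (z : X) ∈ ((Q ⊓ Subgroup.centralizer (Subgroup.zpowers y : Set X)).subgroupOf Q ⊔
            frattini ↥Q).map Q.subtype := by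
          rw [Subgroup.map_sup, Subgroup.map_subgroupOf_eq_of_le inf_le_left, ← hΦ, sup_comm]
          exact (sup_le_sup_right hcomY _) hz
        obtain ⟨w, hw, hwz⟩ := Subgroup.mem_map.1 hz2
        have : w = z := Subtype.ext hwz
        exact this ▸ hw
      have hD := frattini_nongenerating htop
      have hyC : y ∈ Subgroup.centralizer (Q : Set X) := by
        rw [Subgroup.mem_centralizer_iff]
        intro q hq
        have h1 : (⟨q, hq⟩ : ↥Q) ∈
            (Q ⊓ Subgroup.centralizer (Subgroup.zpowers y : Set X)).subgroupOf Q := by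
          rw [hD]; exact Subgroup.mem_top _
        rw [Subgroup.mem_subgroupOf] at h1
        exact ((Subgroup.mem_centralizer_iff.1 h1.2) y (Subgroup.mem_zpowers y)).symm
      obtain ⟨j, hj⟩ := hQ2 ⟨y, hCQ hyC⟩
      have hj' : y ^ (2 ^ j) = 1 := congrArg Subtype.val hj
      exact Cfsg.Agent.S0579.eq_one_of_pow_coprime hym hj'
        (Nat.Coprime.pow_right j (Nat.coprime_two_left.2 hm).symm)
    have hKQ : K ≤ Q := hQdef ▸ Cfsg.Agent.Lib.Helper2.Fit.le_pCore K hKn hK2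
    intro a ha
    apply hKQ
    rw [hK]
    intro q hq
    have hd := hquad q hq a⁻¹ (inv_mem ha) a ha
    rw [inv_inv] at hd
    have hcd : a * q * a⁻¹ * q⁻¹ = q * a⁻¹ * q⁻¹ * a := by
      calc a * q * a⁻¹ * q⁻¹ = (a * (q * a⁻¹ * q⁻¹ * a)) * a⁻¹ := by group
        _ = ((q * a⁻¹ * q⁻¹ * a) * a) * a⁻¹ := by rw [hd]
        _ = q * a⁻¹ * q⁻¹ * a := by group
    have hca : a * (a * q * a⁻¹ * q⁻¹) * a⁻¹ = a * q * a⁻¹ * q⁻¹ := by
      conv_lhs => rw [hcd]
      group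
    have hcQ : a * q * a⁻¹ * q⁻¹ ∈ Q := mul_mem (hQn.conj_mem q hq a) (inv_mem hq)
    have e : a ^ 2 * q * (a ^ 2)⁻¹ * q⁻¹ = (a * q * a⁻¹ * q⁻¹) ^ 2 := by
      calc a ^ 2 * q * (a ^ 2)⁻¹ * q⁻¹
          = (a * (a * q * a⁻¹ * q⁻¹) * a⁻¹) * (a * q * a⁻¹ * q⁻¹) := by rw [pow_two]; group
        _ = (a * q * a⁻¹ * q⁻¹) * (a * q * a⁻¹ * q⁻¹) := by rw [hca]
        _ = (a * q * a⁻¹ * q⁻¹) ^ 2 := (pow_two _).symm
    rw [e]
    exact hsqΦ _ hcQ
  have hBQ : Subgroup.closure ((fun a : X => a ^ 2) '' (A : Set X)) ≤ Q := by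
    rw [Subgroup.closure_le]
    rintro _ ⟨a, ha, rfl⟩
    exact hpart1 a ha
  refine ⟨hBQ, ?_⟩
  intro hnEA
  obtain ⟨B, hBdef⟩ : ∃ B : Subgroup X, B = Subgroup.closure ((fun a : X => a ^ 2) '' (A : Set X)) :=
    ⟨_, rfl⟩
  rw [← hBdef] at hnEA hBQ
  -- B is the set of squares
  have hBsq : ∀ b ∈ B, ∃ a ∈ A, b = a ^ 2 := by
    intro b hb
    rw [hBdef] at hb
    refine Subgroup.closure_induction (p := fun b _ => ∃ a ∈ A, b = a ^ 2) ?_ ?_ ?_ ?_ hb
    · rintro _ ⟨a, ha, rfl⟩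
      exact ⟨a, ha, rfl⟩
    · exact ⟨1, one_mem _, (one_pow 2).symm⟩
    · rintro x y _ _ ⟨a, ha, rfl⟩ ⟨a', ha', rfl⟩
      exact ⟨a * a', mul_mem ha ha', ((show Commute a a' from hAc a ha a' ha').mul_pow 2).symm⟩
    · rintro x _ ⟨a, ha, rfl⟩
      exact ⟨a⁻¹, inv_mem ha, (inv_pow a 2).symm⟩
  have hsqB : ∀ a ∈ A, a ^ 2 ∈ B := by
    intro a ha
    rw [hBdef]
    exact Subgroup.subset_closure ⟨a, ha, rfl⟩
  have hBA : B ≤ A := by
    intro b hb
    obtain ⟨a, ha, rfl⟩ := hBsq b hb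
    exact pow_mem ha 2
  obtain ⟨b₀, hb₀, hb₀2⟩ : ∃ b ∈ B, b ^ 2 ≠ 1 := by
    by_contra hcon
    push_neg at hcon
    apply hnEA
    exact ⟨⟨⟨fun x y => Subtype.ext (hAc x (hBA x.2) y (hBA y.2))⟩⟩, hcon⟩
  have htiB : ∀ h : X, B.map (MulAut.conj h).toMonoidHom = B ∨
      B.map (MulAut.conj h).toMonoidHom ⊓ B = ⊥ := by
    intro h
    rcases hti h with h1 | h1
    · left
      ext x
      rw [mem_cj]
      constructor
      · intro hx
        obtain ⟨a, ha, hxa⟩ := hBsq _ hx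
        have haA : h * a * h⁻¹ ∈ A := cj_mem A h a h1 ha
        have e : x = (h * a * h⁻¹) ^ 2 := by
          rw [conj_pow, ← hxa]; group
        rw [e]
        exact hsqB _ haA
      · intro hx
        obtain ⟨a, ha, rfl⟩ := hBsq _ hx
        have haA : h⁻¹ * a * h ∈ A := by
          have : a ∈ A.map (MulAut.conj h).toMonoidHom := by rw [h1]; exact ha
          exact (mem_cj h a A).1 this
        have e : h⁻¹ * a ^ 2 * h = (h⁻¹ * a * h) ^ 2 := by
          have := conj_pow (a := h⁻¹) (b := a) (i := 2)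
          rw [inv_inv] at this
          exact this.symm
        rw [e]
        exact hsqB _ haA
    · right
      rw [eq_bot_iff, ← h1]
      intro x hx
      obtain ⟨hx1, hx2⟩ := Subgroup.mem_inf.1 hx
      refine Subgroup.mem_inf.2 ⟨?_, hBA hx2⟩
      rw [mem_cj] at hx1 ⊢
      exact hBA hx1
  have hsqfB : ∀ R ∈ fam B, ∃ t ∈ R, t ^ 2 ≠ 1 := by
    rintro R ⟨g, rfl⟩
    refine ⟨g * b₀ * g⁻¹, ?_, ?_⟩
    · rw [mem_cj]
      have e : g⁻¹ * (g * b₀ * g⁻¹) * g = b₀ := by group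
      rw [e]; exact hb₀
    · rw [conj_pow]
      intro h
      apply hb₀2
      have e : b₀ ^ 2 = g⁻¹ * (g * b₀ ^ 2 * g⁻¹) * g := by group
      rw [e, h]; group
  have hfamQ : ∀ R ∈ fam B, R ≤ Q := by
    rintro R ⟨g, rfl⟩ x hx
    rw [mem_cj] at hx
    have := hQn.conj_mem _ (hBQ hx) g
    have e : g * (g⁻¹ * x * g) * g⁻¹ = x := by group
    rw [e] at this
    exact this
  -- generators commute
  have hgen : ∀ x ∈ Group.conjugatesOfSet ((fun a : X => a ^ 2) '' (A : Set X)),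
      ∀ y ∈ Group.conjugatesOfSet ((fun a : X => a ^ 2) '' (A : Set X)), x * y = y * x := by
    intro x hx y hy
    rw [Group.mem_conjugatesOfSet_iff] at hx hy
    obtain ⟨_, ⟨a, ha, rfl⟩, hconj⟩ := hx
    obtain ⟨_, ⟨a', ha', rfl⟩, hconj'⟩ := hy
    obtain ⟨g, rfl⟩ := isConj_iff.1 hconj
    obtain ⟨h, rfl⟩ := isConj_iff.1 hconj'
    have hxm : g * a ^ 2 * g⁻¹ ∈ B.map (MulAut.conj g).toMonoidHom := by
      rw [mem_cj]
      have e : g⁻¹ * (g * a ^ 2 * g⁻¹) * g = a ^ 2 := by group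
      rw [e]; exact hsqB a ha
    have hym : h * a' ^ 2 * h⁻¹ ∈ B.map (MulAut.conj h).toMonoidHom := by
      rw [mem_cj]
      have e : h⁻¹ * (h * a' ^ 2 * h⁻¹) * h = a' ^ 2 := by group
      rw [e]; exact hsqB a' ha'
    by_cases heq : B.map (MulAut.conj g).toMonoidHom = B.map (MulAut.conj h).toMonoidHom
    · rw [← heq, mem_cj] at hym
      rw [mem_cj] at hxm
      have hc := hAc _ (hBA hxm) _ (hBA hym)
      have e1 : g * a ^ 2 * g⁻¹ * (h * a' ^ 2 * h⁻¹) =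
          g * ((g⁻¹ * (g * a ^ 2 * g⁻¹) * g) * (g⁻¹ * (h * a' ^ 2 * h⁻¹) * g)) * g⁻¹ := by group
      have e2 : h * a' ^ 2 * h⁻¹ * (g * a ^ 2 * g⁻¹) =
          g * ((g⁻¹ * (h * a' ^ 2 * h⁻¹) * g) * (g⁻¹ * (g * a ^ 2 * g⁻¹) * g)) * g⁻¹ := by group
      rw [e1, e2, hc]
    · exact coreX (fam B) (fam_inv B) hsqfB (fam_ord B) (fam_ti B htiB) _ Q hQ2 rfl
        _ ⟨g, rfl⟩ _ ⟨h, rfl⟩ (hfamQ _ ⟨g, rfl⟩) (hfamQ _ ⟨h, rfl⟩) heq _ hxm _ hym
  have h1 : Subgroup.normalClosure ((fun a : X => a ^ 2) '' (A : Set X)) ≤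
      Subgroup.centralizer (Group.conjugatesOfSet ((fun a : X => a ^ 2) '' (A : Set X))) := by
    rw [Subgroup.normalClosure, Subgroup.closure_le]
    intro x hx
    rw [SetLike.mem_coe, Subgroup.mem_centralizer_iff]
    intro y hy
    exact hgen y hy x hx
  have h2 : Subgroup.normalClosure ((fun a : X => a ^ 2) '' (A : Set X)) ≤
      Subgroup.centralizer
        (Subgroup.normalClosure ((fun a : X => a ^ 2) '' (A : Set X)) : Set X) := by
    conv_lhs => rw [Subgroup.normalClosure]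
    rw [Subgroup.closure_le]
    intro x hx
    rw [SetLike.mem_coe, Subgroup.mem_centralizer_iff]
    intro y hy
    exact ((Subgroup.mem_centralizer_iff.1 (h1 hy)) x hx).symm
  exact ⟨⟨fun x y => Subtype.ext
    ((Subgroup.mem_centralizer_iff.1 (h2 y.2)) x x.2)⟩⟩

end Cfsg.Agent.S1783
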