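import Mathlib
import Cfsg.Statements.S1894
import Cfsg.Agent.Lib.Helper3.PGroup

set_option autoImplicit false
open Cfsg
open scoped commutatorElement
open Cfsg.Agent.Lib.Helper3.PGroup

namespace Cfsg.Agent.S1894

theorem exists_max_abelian_normal {P : Type*} [Group P] [Finite P] {p : ℕ} [Fact p.Prime]
    (hP : IsPGroup p P) (A : Subgroup P) [A.Normal] (B : Subgroup P) [B.Normal] (hBA : B ≤ A)
    (hB : B ≤ Subgroup.centralizer (B : Set P)) :
    ∃ C : Subgroup P, C.Normal ∧ B ≤ C ∧ C ≤ A ∧ C ≤ Subgroup.centralizer (C : Set P) ∧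
      A ⊓ Subgroup.centralizer (C : Set P) = C := by
  have hnil : Group.IsNilpotent P := hP.isNilpotent
  have hmem : B ∈ {C : Subgroup P | C.Normal ∧ B ≤ C ∧ C ≤ A ∧ C ≤ Subgroup.centralizer (C : Set P)} :=
    ⟨inferInstance, le_rfl, hBA, hB⟩
  obtain ⟨C, _, hCmax⟩ := Set.Finite.exists_le_maximal (Set.toFinite _) hmem
  obtain ⟨hCn, hBC, hCA, hCC⟩ := hCmax.1
  refine ⟨C, hCn, hBC, hCA, hCC, le_antisymm ?_ (le_inf hCA hCC)⟩
  by_contra hDC
  have hCN : (⊤ : Subgroup P) ≤ Subgroup.normalizer (C : Set P) := Subgroup.le_normalizer_of_normal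
  have hDtop : ⁅A ⊓ Subgroup.centralizer (C : Set P), (⊤ : Subgroup P)⁆ ≤
      A ⊓ Subgroup.centralizer (C : Set P) :=
    le_inf ((Subgroup.commutator_mono inf_le_left le_rfl).trans (Subgroup.commutator_le_left _ _))
      ((Subgroup.commutator_mono inf_le_right le_rfl).trans (commutator_centralizer_le C ⊤ hCN))
  obtain ⟨x, hxD, hxC, hxq⟩ := exists_comm_mem C (A ⊓ Subgroup.centralizer (C : Set P)) ⊤ hDtop hDC
  have hxcent : x ∈ Subgroup.centralizer (C : Set P) := hxD.2
  have hcomm : ∀ y ∈ C ⊔ Subgroup.zpowers x, ∀ q : P, ⁅y, q⁆ ∈ C := by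
    intro y hy q
    rw [sup_zpowers_eq_closure] at hy
    refine comm_mem_closure C ⊤ _ ?_ y hy q trivial
    intro s hs
    rcases hs with hs | hs
    · exact ⟨Subgroup.le_normalizer hs, fun q _ => comm_mem_of_mem_normalizer C q (hCN trivial) s hs⟩
    · rw [Set.mem_singleton_iff] at hs
      subst hs
      exact ⟨centralizer_le_normalizer' C hxcent, hxq⟩
  have hC' : C ⊔ Subgroup.zpowers x ∈
      {C : Subgroup P | C.Normal ∧ B ≤ C ∧ C ≤ A ∧ C ≤ Subgroup.centralizer (C : Set P)} := by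
    refine ⟨⟨fun n hn g => ?_⟩, hBC.trans le_sup_left, sup_le hCA ?_, ?_⟩
    · have h3 : g * n * g⁻¹ = (⁅n, g⁆)⁻¹ * n := by
        simp only [commutatorElement_def]; group
      rw [h3]
      exact Subgroup.mul_mem _ (Subgroup.inv_mem _ (le_sup_left (a := C) (hcomm n hn g))) hn
    · rw [Subgroup.zpowers_le]
      exact hxD.1
    · intro g hg
      rw [Subgroup.mem_centralizer_iff]
      intro h hh
      obtain ⟨c, hc, k, rfl⟩ := mem_sup_zpowers C x hxcent g hg
      obtain ⟨c', hc', l, rfl⟩ := mem_sup_zpowers C x hxcent h hh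
      have hxc : ∀ d ∈ C, ∀ m : ℤ, x ^ m * d = d * x ^ m := by
        intro d hd m
        have h2 : Commute x d := (Subgroup.mem_centralizer_iff.mp hxcent d hd).symm
        exact (h2.zpow_left m).eq
      have hcc : c' * c = c * c' := Subgroup.mem_centralizer_iff.mp (hCC hc) c' hc'
      calc c' * x ^ l * (c * x ^ k) = c' * (x ^ l * c) * x ^ k := by simp only [mul_assoc]
        _ = c' * (c * x ^ l) * x ^ k := by rw [hxc c hc l]
        _ = (c' * c) * (x ^ l * x ^ k) := by simp only [mul_assoc]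
        _ = (c * c') * (x ^ k * x ^ l) := by rw [hcc, (Commute.zpow_zpow_self x l k).eq]
        _ = c * (c' * x ^ k) * x ^ l := by simp only [mul_assoc]
        _ = c * (x ^ k * c') * x ^ l := by rw [hxc c' hc' k]
        _ = c * x ^ k * (c' * x ^ l) := by simp only [mul_assoc]
  have hle := hCmax.2 hC' le_sup_left
  exact hxC (hle (le_sup_right (a := C) (Subgroup.mem_zpowers x)))

theorem result {P : Type*} [Group P] [Finite P] {p : ℕ} [Fact p.Prime] (hP : IsPGroup p P)
    (A : Subgroup P) [A.Normal] (B : Subgroup P) [B.Normal] (hBA : B ≤ A) (hB : IsMulCommutative B) :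
    ∃ C : Subgroup P, C.Normal ∧ B ≤ C ∧ Cfsg.IsSCN A C := by
  have hBc : B ≤ Subgroup.centralizer (B : Set P) := by
    intro g hg
    rw [Subgroup.mem_centralizer_iff]
    intro h hh
    exact congrArg Subtype.val (hB.is_comm.comm ⟨h, hh⟩ ⟨g, hg⟩)
  obtain ⟨C, hCn, hBC, hCA, _, hCeq⟩ := exists_max_abelian_normal hP A B hBA hBc
  exact ⟨C, hCn, hBC, hCA, Subgroup.le_normalizer_of_normal, hCeq⟩

end Cfsg.Agent.S1894
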