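import Mathlib
import Cfsg.Statements.S1902
import Cfsg.Agent.S1302
import Cfsg.Agent.S1462
import Cfsg.Agent.S0629
import Cfsg.Agent.S0634
import Cfsg.Agent.Lib.Helper2.PCons
import Cfsg.Agent.Lib.Helper8.PSolv

set_option autoImplicit false
open Pointwise
open Cfsg
open scoped commutatorElement

namespace Cfsg.Agent.S1902

/-- Let p be an odd prime, G a finite p-solvable group, and B an elementary abelian subgroup of order p² such that B is the subgroup generated by the elements of order p of some Sylow p-subgroup of C_G(b₀), for some nontrivial b₀ ∈ B. Then every B-invariant subgroup of G of order prime to p lies in O_{p'}(G). -/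
theorem result {G : Type*} [Group G] [Finite G] {p : ℕ} [Fact p.Prime] (hp : p ≠ 2)
    (hG : Cfsg.IsPSolvable p G) (B : Subgroup G) (hB : Cfsg.IsElementaryAbelian p B) (hBc : Nat.card B = p ^ 2)
    (b₀ : G) (hb₀ : b₀ ∈ B) (hb₁ : b₀ ≠ 1) (P : Sylow p ↥(Subgroup.centralizer ({b₀} : Set G)))
    (hBP : B = Subgroup.closure {x : G | x ∈ ((P : Subgroup ↥(Subgroup.centralizer ({b₀} : Set G))).map
      (Subgroup.centralizer ({b₀} : Set G)).subtype : Subgroup G) ∧ orderOf x = p})
    (Q : Subgroup G) (hQ : ¬ p ∣ Nat.card Q) (hinv : ∀ b ∈ B, ∀ x ∈ Q, b * x * b⁻¹ ∈ Q) :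
    Q ≤ Cfsg.pPrimeCore p G := by
  classical
  have hpp : p.Prime := Fact.out
  have hX : Cfsg.IsPConstrained p G := by
    haveI hNn : (Cfsg.pPrimeCore p G).Normal := Cfsg.Agent.Lib.Helper2.PComp.pPrimeCore_normal p
    have hsurj : Function.Surjective (QuotientGroup.mk' (Cfsg.pPrimeCore p G)) :=
      QuotientGroup.mk'_surjective _
    have hO := Cfsg.Agent.Lib.Helper2.PComp.pPrimeCore_quotient_eq_bot (G := G) p
    have hqs := Cfsg.Agent.S0629.psolv_map p (QuotientGroup.mk' (Cfsg.pPrimeCore p G)) hsurj hG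
    have hlayer := Cfsg.Agent.S0634.layer_bot_of_psolv p hqs hO
    have h1 := Cfsg.Agent.Lib.Helper2.PCons.pLayer_eq_bot_of_surjective p
      (QuotientGroup.mk' (Cfsg.pPrimeCore p G)) hsurj
      (by rw [QuotientGroup.ker_mk']; exact Cfsg.Agent.Lib.Helper2.Local.pPrimeCore_coprime p)
      hO hlayer
    exact (Cfsg.Agent.Lib.Helper2.PCons.pConstrained_iff p).2 h1.1
  obtain ⟨hBcomm, hBexp⟩ := hB
  have hBp : IsPGroup p ↥B := IsPGroup.of_card hBc
  have hBc' : ∀ a ∈ B, ∀ b ∈ B, a * b = b * a := by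
    intro a ha b hb
    haveI := hBcomm
    exact congrArg Subtype.val (mul_comm' (⟨a, ha⟩ : ↥B) ⟨b, hb⟩)
  apply Cfsg.Agent.S1302.result p hp hX B hBcomm hBp ?_ Q hQ ?_
  · intro x hx hxord
    rw [Subgroup.mem_centralizer_iff] at hx
    have hxp : x ^ p = 1 := by rw [← hxord]; exact pow_orderOf_eq_one x
    have hE := Cfsg.Agent.S1462.ea_sup p B x ⟨hBcomm, hBexp⟩ hxp hx
    obtain ⟨E, hEdef⟩ : ∃ E : Subgroup G, E = B ⊔ Subgroup.zpowers x := ⟨_, rfl⟩
    rw [← hEdef] at hE
    have hBE : B ≤ E := hEdef ▸ le_sup_left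
    have hxE : x ∈ E :=
      hEdef ▸ (le_sup_right : Subgroup.zpowers x ≤ B ⊔ Subgroup.zpowers x) (Subgroup.mem_zpowers x)
    have hEC : E ≤ Subgroup.centralizer ({b₀} : Set G) := by
      rw [hEdef]
      refine sup_le ?_ ?_
      · intro b hb
        rw [Subgroup.mem_centralizer_iff]
        intro s hs
        rw [Set.mem_singleton_iff.1 hs]
        exact hBc' b₀ hb₀ b hb
      · rw [Subgroup.zpowers_le, Subgroup.mem_centralizer_iff]
        intro s hs
        rw [Set.mem_singleton_iff.1 hs]
        exact hx b₀ hb₀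
    have hEp : IsPGroup p ↥E := by
      intro e
      refine ⟨1, ?_⟩
      rw [pow_one]
      exact Subtype.ext (hE.2 e e.2)
    have hEp' : IsPGroup p ↥(E.subgroupOf (Subgroup.centralizer ({b₀} : Set G))) :=
      hEp.comap_subtype
    obtain ⟨P', hP'⟩ := hEp'.exists_le_sylow
    obtain ⟨c, hc⟩ := MulAction.exists_smul_eq (↥(Subgroup.centralizer ({b₀} : Set G))) P P'
    have hmem : ∀ e (_ : e ∈ E), (c : G)⁻¹ * e * (c : G) ∈
        ((P : Subgroup ↥(Subgroup.centralizer ({b₀} : Set G))).map
          (Subgroup.centralizer ({b₀} : Set G)).subtype : Subgroup G) := by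
      intro e he
      have h1 : (⟨e, hEC he⟩ : ↥(Subgroup.centralizer ({b₀} : Set G))) ∈
          (P' : Subgroup ↥(Subgroup.centralizer ({b₀} : Set G))) :=
        hP' (Subgroup.mem_subgroupOf.2 he)
      rw [← hc, Cfsg.Agent.Lib.Helper8.PSolv.mem_smul_sylow'] at h1
      exact ⟨_, h1, rfl⟩
    have hEB : ∀ e ∈ E, (c : G)⁻¹ * e * (c : G) ∈ B := by
      intro e he
      by_cases he1 : e = 1
      · rw [he1]; simp
      · rw [hBP]
        apply Subgroup.subset_closure
        refine ⟨hmem e he, ?_⟩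
        have h1 : orderOf e = p := orderOf_eq_prime (hE.2 e he) he1
        have := (SemiconjBy.conj_mk (c : G)⁻¹ e).orderOf_eq
        rw [inv_inv] at this
        rw [← this]
        exact h1
    have hcard : Nat.card E ≤ Nat.card B := by
      have hinj : Function.Injective
          (fun e : ↥E => (⟨(c : G)⁻¹ * e * (c : G), hEB e e.2⟩ : ↥B)) := by
        intro e e' h
        have h1 := congrArg Subtype.val h
        simp only at h1
        exact Subtype.ext (mul_left_cancel (mul_right_cancel h1))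
      exact Nat.card_le_card_of_injective _ hinj
    have hEB' : B = E := Subgroup.eq_of_le_of_card_ge hBE hcard
    rw [hEB']; exact hxE
  · intro b hb
    rw [Subgroup.mem_set_normalizer_iff]
    intro h
    constructor
    · exact hinv b hb h
    · intro hh
      have := hinv b⁻¹ (inv_mem hb) _ hh
      simpa [mul_assoc] using this

end Cfsg.Agent.S1902
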