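import Mathlib
import Cfsg.Statements.S1910
import Cfsg.Agent.S1782
import Cfsg.Agent.S0579
import Cfsg.Agent.S3745
import Cfsg.Agent.Lib.Helper2.SylowAux

set_option autoImplicit false
open Pointwise
open Cfsg
open scoped commutatorElement

namespace Cfsg.Agent.S1910

open Cfsg.Agent.S1782 (mem_cj)

theorem two_elt_trivial {G : Type*} [Group G] [Finite G] (K : Subgroup G)
    (hodd : Odd (Nat.card K)) (u : G) (hu : u ∈ K) (k : ℕ) (huk : u ^ (2 ^ k) = 1) : u = 1 := by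
  have h1 : u ^ Nat.card K = 1 := by
    have := pow_card_eq_one' (G := ↥K) (x := ⟨u, hu⟩)
    exact congrArg Subtype.val this
  exact Cfsg.Agent.S0579.eq_one_of_pow_coprime huk h1
    (Nat.Coprime.pow_left k (Nat.coprime_two_left.2 hodd))

theorem te_norm {G : Type*} [Group G] [Finite G] (K : Subgroup G)
    (hK : Cfsg.IsTightlyEmbedded K) (x u : G) (hu : u ∈ K) (hxu : x * u * x⁻¹ ∈ K) (hu1 : u ≠ 1)
    (k : ℕ) (huk : u ^ (2 ^ k) = 1) : x ∈ Subgroup.normalizer (K : Set G) := by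
  by_contra hx
  have hx' : x⁻¹ ∉ Subgroup.normalizer (K : Set G) := fun h => hx (by simpa using inv_mem h)
  have hodd := hK.2 x⁻¹ hx'
  apply hu1
  refine two_elt_trivial _ hodd u (Subgroup.mem_inf.2 ⟨hu, ?_⟩) k huk
  rw [mem_cj, inv_inv]
  exact hxu

theorem te_conj {G : Type*} [Group G] [Finite G] (K : Subgroup G)
    (hK : Cfsg.IsTightlyEmbedded K) (g : G) :
    Cfsg.IsTightlyEmbedded (K.map (MulAut.conj g).toMonoidHom) := by
  refine ⟨?_, ?_⟩
  · rw [Subgroup.card_map_of_injective (MulAut.conj g).injective]; exact hK.1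
  · intro x hx
    have hy : g⁻¹ * x * g ∉ Subgroup.normalizer (K : Set G) := by
      intro hy
      apply hx
      rw [Subgroup.mem_set_normalizer_iff]
      intro h
      rw [SetLike.mem_coe, SetLike.mem_coe, mem_cj, mem_cj]
      have := Subgroup.mem_set_normalizer_iff.1 hy (g⁻¹ * h * g)
      have e : g⁻¹ * x * g * (g⁻¹ * h * g) * (g⁻¹ * x * g)⁻¹ = g⁻¹ * (x * h * x⁻¹) * g := by group
      rw [e] at this
      exact this
    have hodd := hK.2 _ hy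
    have heq : K.map (MulAut.conj g).toMonoidHom ⊓
        (K.map (MulAut.conj g).toMonoidHom).map (MulAut.conj x).toMonoidHom =
        (K ⊓ K.map (MulAut.conj (g⁻¹ * x * g)).toMonoidHom).map (MulAut.conj g).toMonoidHom := by
      ext z
      rw [Subgroup.mem_inf, mem_cj, mem_cj, mem_cj, mem_cj, Subgroup.mem_inf, mem_cj]
      have e : (g⁻¹ * x * g)⁻¹ * (g⁻¹ * z * g) * (g⁻¹ * x * g) = g⁻¹ * (x⁻¹ * z * x) * g := by group
      rw [e]
    rw [heq, Subgroup.card_map_of_injective (MulAut.conj g).injective]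
    exact hodd

theorem mem_sup_prod {G : Type*} [Group G] (K U : Subgroup G)
    (hU : U ≤ Subgroup.normalizer (K : Set G)) (x : G) (hx : x ∈ K ⊔ U) :
    ∃ k ∈ K, ∃ u ∈ U, x = k * u := by
  rw [Subgroup.sup_eq_closure] at hx
  refine Subgroup.closure_induction (p := fun x _ => ∃ k ∈ K, ∃ u ∈ U, x = k * u) ?_ ?_ ?_ ?_ hx
  · rintro y (hy | hy)
    · exact ⟨y, hy, 1, one_mem _, (mul_one y).symm⟩
    · exact ⟨1, one_mem _, y, hy, (one_mul y).symm⟩
  · exact ⟨1, one_mem _, 1, one_mem _, (mul_one 1).symm⟩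
  · rintro a b _ _ ⟨k, hk, u, hu, rfl⟩ ⟨k', hk', u', hu', rfl⟩
    refine ⟨k * (u * k' * u⁻¹),
      mul_mem hk ((Subgroup.mem_set_normalizer_iff.1 (hU hu) k').1 hk'), u * u', mul_mem hu hu',
      by group⟩
  · rintro a _ ⟨k, hk, u, hu, rfl⟩
    refine ⟨u⁻¹ * k⁻¹ * u⁻¹⁻¹,
      (Subgroup.mem_set_normalizer_iff.1 (hU (inv_mem hu)) k⁻¹).1 (inv_mem hk), u⁻¹, inv_mem hu,
      by group⟩

theorem card_prod {G : Type*} [Group G] [Finite G] (K U S₀ : Subgroup G)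
    (hU : U ≤ Subgroup.normalizer (K : Set G)) (hKU : K ⊓ U = ⊥) (hS : S₀ ≤ K ⊔ U)
    (hUS : U ≤ S₀) : Nat.card S₀ = Nat.card ↥(S₀ ⊓ K) * Nat.card U := by
  rw [← Nat.card_prod]
  symm
  apply Nat.card_congr
  refine Equiv.ofBijective (fun p : ↥(S₀ ⊓ K) × ↥U =>
    (⟨(p.1 : G) * p.2, mul_mem (Subgroup.mem_inf.1 p.1.2).1 (hUS p.2.2)⟩ : ↥S₀)) ⟨?_, ?_⟩
  · rintro ⟨⟨k, hk⟩, ⟨u, hu⟩⟩ ⟨⟨k', hk'⟩, ⟨u', hu'⟩⟩ h
    have h1 : k * u = k' * u' := congrArg Subtype.val h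
    have h2 : k'⁻¹ * k ∈ K ⊓ U := by
      refine Subgroup.mem_inf.2 ⟨mul_mem (inv_mem (Subgroup.mem_inf.1 hk').2)
        (Subgroup.mem_inf.1 hk).2, ?_⟩
      have e : k'⁻¹ * k = u' * u⁻¹ := by
        calc k'⁻¹ * k = k'⁻¹ * (k * u) * u⁻¹ := by group
          _ = k'⁻¹ * (k' * u') * u⁻¹ := by rw [h1]
          _ = u' * u⁻¹ := by group
      rw [e]; exact mul_mem hu' (inv_mem hu)
    rw [hKU, Subgroup.mem_bot] at h2
    have hkk : k = k' := by
      have : k = k' * (k'⁻¹ * k) := by group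
      rw [this, h2, mul_one]
    subst hkk
    have huu : u = u' := mul_left_cancel h1
    subst huu
    rfl
  · rintro ⟨x, hx⟩
    obtain ⟨k, hk, u, hu, rfl⟩ := mem_sup_prod K U hU x (hS hx)
    have hkS : k ∈ S₀ := by
      have := mul_mem hx (inv_mem (hUS hu))
      have e : k * u * u⁻¹ = k := by group
      rwa [e] at this
    exact ⟨⟨⟨k, Subgroup.mem_inf.2 ⟨hkS, hk⟩⟩, ⟨u, hu⟩⟩, rfl⟩

theorem syl_inf {G : Type*} [Group G] [Finite G] (K U S₀ : Subgroup G)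
    (hU : U ≤ Subgroup.normalizer (K : Set G)) (hKU : K ⊓ U = ⊥) (hS : S₀ ≤ K ⊔ U)
    (hUS : U ≤ S₀) (h2 : ¬ 2 ∣ S₀.relIndex (K ⊔ U)) :
    ∃ m, Odd m ∧ Nat.card K = Nat.card ↥(S₀ ⊓ K) * m := by
  refine ⟨S₀.relIndex (K ⊔ U), ?_, ?_⟩
  · rw [← Nat.not_even_iff_odd, even_iff_two_dvd]; exact h2
  · have h1 := card_prod K U (K ⊔ U) hU hKU le_rfl le_sup_right
    rw [inf_of_le_right (le_sup_left : K ≤ K ⊔ U)] at h1
    have h3 := card_prod K U S₀ hU hKU hS hUS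
    have h4 := Cfsg.Agent.S3745.card_mul_relIndex' S₀ (K ⊔ U) hS
    have hUpos : 0 < Nat.card U := Nat.card_pos
    rw [h3, h1] at h4
    have : Nat.card ↥(S₀ ⊓ K) * S₀.relIndex (K ⊔ U) * Nat.card U = Nat.card K * Nat.card U := by
      rw [← h4]; ring
    exact (Nat.eq_of_mul_eq_mul_right hUpos this).symm

theorem two_dvd {G : Type*} [Group G] [Finite G] (K P V : Subgroup G) (m : ℕ) (hm : Odd m)
    (hK : Nat.card K = Nat.card P * m) (hV : V ≤ K) (hV2 : IsPGroup 2 V) :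
    Nat.card V ∣ Nat.card P := by
  haveI : Fact (Nat.Prime 2) := ⟨Nat.prime_two⟩
  obtain ⟨j, hj⟩ := IsPGroup.iff_card.1 hV2
  have h1 : Nat.card V ∣ Nat.card P * m := hK ▸ Subgroup.card_dvd_of_le hV
  have hc : (Nat.card V).Coprime m := by
    rw [hj]; exact Nat.Coprime.pow_left j (Nat.coprime_two_left.2 hm)
  exact hc.dvd_of_dvd_mul_right h1

theorem syl_conj {G : Type*} [Group G] [Finite G] (K P V : Subgroup G) (hP : P ≤ K)
    (hP2 : IsPGroup 2 P) (m : ℕ) (hm : Odd m) (hK : Nat.card K = Nat.card P * m) (hV : V ≤ K)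
    (hV2 : IsPGroup 2 V) : ∃ k : G, ∀ v ∈ V, k * v * k⁻¹ ∈ P := by
  haveI : Fact (Nat.Prime 2) := ⟨Nat.prime_two⟩
  have hP' : IsPGroup 2 ↥(P.subgroupOf K) := hP2.comap_subtype
  have hidx : ¬ 2 ∣ (P.subgroupOf K).index := by
    have h1 := Subgroup.card_mul_index (P.subgroupOf K)
    have h2 : Nat.card ↥(P.subgroupOf K) = Nat.card P :=
      Nat.card_congr (Subgroup.subgroupOfEquivOfLe hP).toEquiv
    rw [h2, hK] at h1
    have h3 : (P.subgroupOf K).index = m := Nat.eq_of_mul_eq_mul_left Nat.card_pos h1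
    rw [h3]
    intro h
    exact (Nat.not_even_iff_odd.2 hm) (even_iff_two_dvd.2 h)
  obtain ⟨h, hh⟩ := Cfsg.Agent.Lib.Helper2.SylowAux.exists_conj_le_sylow (hP'.toSylow hidx)
    (hV2.comap_subtype (K := K))
  refine ⟨(h : G)⁻¹, fun v hv => ?_⟩
  have h1 := hh ⟨v, hV hv⟩ (Subgroup.mem_subgroupOf.2 hv)
  have h2 : (h⁻¹ * ⟨v, hV hv⟩ * h : ↥K) ∈ P.subgroupOf K := h1
  rw [Subgroup.mem_subgroupOf] at h2
  simpa using h2

theorem norm_of_conj_le {G : Type*} [Group G] [Finite G] (T : Subgroup G) (x : G)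
    (h : ∀ s ∈ T, x * s * x⁻¹ ∈ T) : x ∈ Subgroup.normalizer (T : Set G) := by
  rw [Subgroup.mem_set_normalizer_iff]
  intro s
  refine ⟨h s, fun hs => ?_⟩
  have hinj : Function.Injective (fun s : ↥T => (⟨x * s * x⁻¹, h s s.2⟩ : ↥T)) := by
    intro a b hab
    have h1 : x * (a : G) * x⁻¹ = x * (b : G) * x⁻¹ := congrArg Subtype.val hab
    apply Subtype.ext
    exact mul_left_cancel (mul_right_cancel h1)
  obtain ⟨s', hs'⟩ := (Finite.injective_iff_surjective.1 hinj) ⟨x * s * x⁻¹, hs⟩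
  have h1 : x * (s' : G) * x⁻¹ = x * s * x⁻¹ := congrArg Subtype.val hs'
  have h2 : (s' : G) = s := mul_left_cancel (mul_right_cancel h1)
  rw [← h2]; exact s'.2

theorem inj_hom {G : Type*} [Group G] [Finite G] (K : Subgroup G)
    (hK : Cfsg.IsTightlyEmbedded K) (T R W : Subgroup G)
    (hTK : T ≤ K) (hT2 : IsPGroup 2 T) (hRK : R ⊓ K = ⊥)
    (hc : ∀ r ∈ R, ∀ t ∈ T, r * t = t * r) (hW2 : IsPGroup 2 W)
    (hdec : ∀ e ∈ W ⊓ Subgroup.normalizer (T : Set G), ∃ t ∈ T, ∃ r ∈ R, e = t * r)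
    (hTW : T ≤ W) (hnot : ¬ W ≤ Subgroup.normalizer (T : Set G)) :
    ∃ φ : ↥T →* ↥R, Function.Injective φ := by
  haveI : Fact (Nat.Prime 2) := ⟨Nat.prime_two⟩
  have hne : W ⊓ Subgroup.normalizer (T : Set G) ≠ W := fun h => hnot (h ▸ inf_le_right)
  obtain ⟨x, hxW, hxN, hxn⟩ :=
    Cfsg.Agent.Lib.Helper2.SylowAux.exists_normalizing_not_mem hW2 inf_le_left hne
  have hTN : T ≤ W ⊓ Subgroup.normalizer (T : Set G) := le_inf hTW Subgroup.le_normalizer
  have hex : ∀ t : ↥T, ∃ r : ↥R, x * t * x⁻¹ * (r : G)⁻¹ ∈ T := by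
    intro t
    obtain ⟨t', ht', r, hr, he⟩ := hdec _ ((hxn t).1 (hTN t.2))
    refine ⟨⟨r, hr⟩, ?_⟩
    rw [he]
    have : t' * r * r⁻¹ = t' := by group
    rw [this]; exact ht'
  choose φ hφ using hex
  have hTR : T ⊓ R = ⊥ := by
    rw [eq_bot_iff]
    intro z hz
    have : z ∈ R ⊓ K := Subgroup.mem_inf.2 ⟨(Subgroup.mem_inf.1 hz).2, hTK (Subgroup.mem_inf.1 hz).1⟩
    rw [hRK] at this; exact this
  have huniq : ∀ (t : ↥T) (r : ↥R), x * t * x⁻¹ * (r : G)⁻¹ ∈ T → φ t = r := by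
    intro t r hr
    have h1 := hφ t
    have h2 : (r : G) * ((φ t : ↥R) : G)⁻¹ ∈ T ⊓ R := by
      refine Subgroup.mem_inf.2 ⟨?_, mul_mem r.2 (inv_mem (φ t).2)⟩
      have := mul_mem (inv_mem hr) h1
      have e : (x * t * x⁻¹ * (r : G)⁻¹)⁻¹ * (x * t * x⁻¹ * ((φ t : ↥R) : G)⁻¹) =
          (r : G) * ((φ t : ↥R) : G)⁻¹ := by group
      rwa [e] at this
    rw [hTR, Subgroup.mem_bot] at h2
    apply Subtype.ext
    have : (r : G) = (r : G) * ((φ t : ↥R) : G)⁻¹ * (φ t : ↥R) := by group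
    rw [this, h2, one_mul]
  have hmul : ∀ a b : ↥T, φ (a * b) = φ a * φ b := by
    intro a b
    apply huniq
    have h1 := hφ a
    have h2 := hφ b
    have h3 := hc _ (φ a).2 _ h2
    have e : x * ((a * b : ↥T) : G) * x⁻¹ * ((φ a * φ b : ↥R) : G)⁻¹ =
        (x * a * x⁻¹ * ((φ a : ↥R) : G)⁻¹) *
          (((φ a : ↥R) : G) * (x * b * x⁻¹ * ((φ b : ↥R) : G)⁻¹)) * ((φ a : ↥R) : G)⁻¹ := by
      rw [Subgroup.coe_mul, Subgroup.coe_mul]; group
    rw [e, h3]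
    have e2 : (x * a * x⁻¹ * ((φ a : ↥R) : G)⁻¹) *
        ((x * b * x⁻¹ * ((φ b : ↥R) : G)⁻¹) * ((φ a : ↥R) : G)) * ((φ a : ↥R) : G)⁻¹ =
        (x * a * x⁻¹ * ((φ a : ↥R) : G)⁻¹) * (x * b * x⁻¹ * ((φ b : ↥R) : G)⁻¹) := by group
    rw [e2]
    exact mul_mem h1 h2
  refine ⟨MonoidHom.mk' φ hmul, ?_⟩
  rw [injective_iff_map_eq_one]
  intro t ht
  have ht' : φ t = 1 := ht
  by_contra ht1
  have h1 := hφ t
  rw [ht', Subgroup.coe_one, inv_one, mul_one] at h1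
  obtain ⟨k, hk⟩ := hT2 t
  have hxK := te_norm K hK x t (hTK t.2) (hTK h1) (fun h => ht1 (Subtype.ext h)) k
    (congrArg Subtype.val hk)
  apply hxN
  refine Subgroup.mem_inf.2 ⟨hxW, norm_of_conj_le T x ?_⟩
  intro s hs
  obtain ⟨s', hs', r, hr, he⟩ := hdec _ ((hxn s).1 (hTN hs))
  have hK' : x * s * x⁻¹ ∈ K := (Subgroup.mem_set_normalizer_iff.1 hxK s).1 (hTK hs)
  have hr1 : r ∈ R ⊓ K := by
    refine Subgroup.mem_inf.2 ⟨hr, ?_⟩
    have : r = s'⁻¹ * (x * s * x⁻¹) := by rw [he]; group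
    rw [this]; exact mul_mem (inv_mem (hTK hs')) hK'
  rw [hRK, Subgroup.mem_bot] at hr1
  rw [he, hr1, mul_one]; exact hs'

/-- Let Q be a tightly embedded subgroup of a finite group G, g an element outside N_G(Q), T a nontrivial Sylow 2-subgroup of Q^g ∩ N_G(Q), and S a Sylow 2-subgroup of QT containing T. Then T ∩ Q = 1, and N_S(T) is the direct product of T and N_S(T) ∩ Q, with N_S(T) ∩ Q isomorphic to T. -/
theorem result {G : Type*} [Group G] [Finite G] (Q : Subgroup G) (hQ : Cfsg.IsTightlyEmbedded Q)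
    (g : G) (hg : g ∉ Subgroup.normalizer (Q : Set G))
    (T : Subgroup G) (hT1 : T ≠ ⊥) (hT : T ≤ Q.map (MulAut.conj g).toMonoidHom ⊓ Subgroup.normalizer (Q : Set G))
    (hTsyl : IsPGroup 2 T ∧ ¬ 2 ∣ T.relIndex (Q.map (MulAut.conj g).toMonoidHom ⊓ Subgroup.normalizer (Q : Set G)))
    (S : Subgroup G) (hTS : T ≤ S) (hS : S ≤ Q ⊔ T) (hSsyl : IsPGroup 2 S ∧ ¬ 2 ∣ S.relIndex (Q ⊔ T)) :
    T ⊓ Q = ⊥ ∧
      T ⊓ (S ⊓ Subgroup.normalizer (T : Set G) ⊓ Q) = ⊥ ∧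
      ⁅T, S ⊓ Subgroup.normalizer (T : Set G) ⊓ Q⁆ = ⊥ ∧
      T ⊔ (S ⊓ Subgroup.normalizer (T : Set G) ⊓ Q) = S ⊓ Subgroup.normalizer (T : Set G) ∧
      Nonempty (↥(S ⊓ Subgroup.normalizer (T : Set G) ⊓ Q) ≃* T) := by
  classical
  haveI : Fact (Nat.Prime 2) := ⟨Nat.prime_two⟩
  obtain ⟨Qg, hQgdef⟩ : ∃ Qg : Subgroup G, Qg = Q.map (MulAut.conj g).toMonoidHom := ⟨_, rfl⟩
  rw [← hQgdef] at hT hTsyl
  have hQg : Cfsg.IsTightlyEmbedded Qg := by rw [hQgdef]; exact te_conj Q hQ g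
  obtain ⟨hT2, hTodd⟩ := hTsyl
  obtain ⟨hS2, hSodd⟩ := hSsyl
  have hTQg : T ≤ Qg := hT.trans inf_le_left
  have hTN : T ≤ Subgroup.normalizer (Q : Set G) := hT.trans inf_le_right
  have hQQg : ∀ u ∈ Q, u ∈ Qg → ∀ k : ℕ, u ^ (2 ^ k) = 1 → u = 1 := by
    intro u hu hu' k huk
    have hodd := hQ.2 g hg
    rw [← hQgdef] at hodd
    exact two_elt_trivial _ hodd u (Subgroup.mem_inf.2 ⟨hu, hu'⟩) k huk
  have h1 : T ⊓ Q = ⊥ := by
    rw [eq_bot_iff]
    intro u hu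
    obtain ⟨hu1, hu2⟩ := Subgroup.mem_inf.1 hu
    obtain ⟨k, hk⟩ := hT2 ⟨u, hu1⟩
    exact Subgroup.mem_bot.2 (hQQg u hu2 (hTQg hu1) k (congrArg Subtype.val hk))
  obtain ⟨R, hRdef⟩ : ∃ R : Subgroup G, R = S ⊓ Subgroup.normalizer (T : Set G) ⊓ Q := ⟨_, rfl⟩
  rw [← hRdef]
  have hRS : R ≤ S := by rw [hRdef]; exact inf_le_left.trans inf_le_left
  have hRNT : R ≤ Subgroup.normalizer (T : Set G) := by
    rw [hRdef]; exact inf_le_left.trans inf_le_right
  have hRQ : R ≤ Q := by rw [hRdef]; exact inf_le_right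
  have hR2 : IsPGroup 2 ↥R := hS2.to_le hRS
  have h2 : T ⊓ R = ⊥ := by
    rw [eq_bot_iff, ← h1]; exact inf_le_inf_left _ hRQ
  have hc : ∀ r ∈ R, ∀ t ∈ T, r * t = t * r := by
    intro r hr t ht
    have hm : t * r * t⁻¹ * r⁻¹ ∈ T ⊓ Q := by
      refine Subgroup.mem_inf.2 ⟨?_, ?_⟩
      · have := (Subgroup.mem_set_normalizer_iff.1 (hRNT hr) t⁻¹).1 (inv_mem ht)
        have e : t * r * t⁻¹ * r⁻¹ = t * (r * t⁻¹ * r⁻¹) := by group
        rw [e]; exact mul_mem ht this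
      · exact mul_mem ((Subgroup.mem_set_normalizer_iff.1 (hTN ht) r).1 (hRQ hr))
          (inv_mem (hRQ hr))
    rw [h1, Subgroup.mem_bot] at hm
    have e : t * r = (t * r * t⁻¹ * r⁻¹) * (r * t) := by group
    rw [e, hm, one_mul]
  have h3 : ⁅T, R⁆ = ⊥ := by
    rw [Subgroup.commutator_eq_bot_iff_le_centralizer]
    intro t ht
    rw [Subgroup.mem_centralizer_iff]
    intro r hr
    exact hc r hr t ht
  have hdecS : ∀ e ∈ S ⊓ Subgroup.normalizer (T : Set G), ∃ t ∈ T, ∃ r ∈ R, e = t * r := by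
    intro e he
    obtain ⟨he1, he2⟩ := Subgroup.mem_inf.1 he
    obtain ⟨q, hq, t, ht, rfl⟩ := mem_sup_prod Q T hTN e (hS he1)
    have hqS : q ∈ S := by
      have := mul_mem he1 (inv_mem (hTS ht))
      have e' : q * t * t⁻¹ = q := by group
      rwa [e'] at this
    have hqN : q ∈ Subgroup.normalizer (T : Set G) := by
      have := mul_mem he2 (inv_mem (Subgroup.le_normalizer ht))
      have e' : q * t * t⁻¹ = q := by group
      rwa [e'] at this
    have hqR : q ∈ R := by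
      rw [hRdef]; exact Subgroup.mem_inf.2 ⟨Subgroup.mem_inf.2 ⟨hqS, hqN⟩, hq⟩
    exact ⟨t, ht, q, hqR, hc q hqR t ht⟩
  have h4 : T ⊔ R = S ⊓ Subgroup.normalizer (T : Set G) := by
    apply le_antisymm
    · exact sup_le (le_inf hTS Subgroup.le_normalizer) (le_inf hRS hRNT)
    · intro e he
      obtain ⟨t, ht, r, hr, rfl⟩ := hdecS e he
      exact Subgroup.mul_mem_sup ht hr
  refine ⟨h1, h2, h3, h4, ?_⟩
  obtain ⟨m, hm, hQP⟩ := syl_inf Q T S hTN (by rw [inf_comm]; exact h1) hS hTS hSodd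
  obtain ⟨t₁, ht₁, ht₁1⟩ : ∃ t₁ ∈ T, t₁ ≠ 1 := by
    by_contra hcon
    push_neg at hcon
    exact hT1 (eq_bot_iff.2 (fun t ht => Subgroup.mem_bot.2 (hcon t ht)))
  obtain ⟨r₁, hr₁, hr₁1⟩ : ∃ r₁ ∈ R, r₁ ≠ 1 := by
    have hST : T ≠ S := by
      intro h
      have hP : S ⊓ Q = ⊥ := by rw [← h]; exact h1
      rw [hP, Subgroup.card_bot, one_mul] at hQP
      have := hQ.1
      rw [hQP] at this
      exact (Nat.not_even_iff_odd.2 hm) this
    obtain ⟨x, hxS, hxT, hxn⟩ :=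
      Cfsg.Agent.Lib.Helper2.SylowAux.exists_normalizing_not_mem hS2 hTS hST
    have hxN : x ∈ Subgroup.normalizer (T : Set G) := Subgroup.mem_set_normalizer_iff.2 hxn
    obtain ⟨t, ht, r, hr, rfl⟩ := hdecS x (Subgroup.mem_inf.2 ⟨hxS, hxN⟩)
    refine ⟨r, hr, ?_⟩
    rintro rfl
    apply hxT
    rw [mul_one]; exact ht
  have hRNQg : R ≤ Subgroup.normalizer (Qg : Set G) := by
    intro r hr
    obtain ⟨k, hk⟩ := hT2 ⟨t₁, ht₁⟩
    refine te_norm Qg hQg r t₁ (hTQg ht₁) ?_ ht₁1 k (congrArg Subtype.val hk)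
    have : r * t₁ * r⁻¹ = t₁ := by rw [hc r hr t₁ ht₁]; group
    rw [this]; exact hTQg ht₁
  have hRQg : R ⊓ Qg = ⊥ := by
    rw [eq_bot_iff]
    intro u hu
    obtain ⟨hu1, hu2⟩ := Subgroup.mem_inf.1 hu
    obtain ⟨k, hk⟩ := hR2 ⟨u, hu1⟩
    exact Subgroup.mem_bot.2 (hQQg u (hRQ hu1) hu2 k (congrArg Subtype.val hk))
  have hφ : ∃ φ : ↥T →* ↥R, Function.Injective φ := by
    by_cases hSN : S ≤ Subgroup.normalizer (T : Set G)
    · have hPR : S ⊓ Q = R := by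
        rw [hRdef]
        apply le_antisymm
        · exact le_inf (le_inf inf_le_left (inf_le_left.trans hSN)) inf_le_right
        · exact le_inf (inf_le_left.trans inf_le_left) inf_le_right
      rw [hPR] at hQP
      have hV : T.map (MulAut.conj g⁻¹).toMonoidHom ≤ Q := by
        intro z hz
        rw [mem_cj, inv_inv] at hz
        have := hTQg hz
        rw [hQgdef, mem_cj] at this
        have e : g⁻¹ * (g * z * g⁻¹) * g = z := by group
        rwa [e] at this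
      obtain ⟨k, hk⟩ := syl_conj Q R _ hRQ hR2 m hm hQP hV (hT2.map _)
      have hmem : ∀ t : ↥T, k * (g⁻¹ * t * g) * k⁻¹ ∈ R := by
        intro t
        apply hk
        rw [mem_cj, inv_inv]
        have e : g * (g⁻¹ * (t : G) * g) * g⁻¹ = t := by group
        rw [e]; exact t.2
      refine ⟨MonoidHom.mk' (fun t => ⟨k * (g⁻¹ * t * g) * k⁻¹, hmem t⟩) ?_, ?_⟩
      · intro a b
        apply Subtype.ext
        show k * (g⁻¹ * ((a * b : ↥T) : G) * g) * k⁻¹ =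
          (k * (g⁻¹ * a * g) * k⁻¹) * (k * (g⁻¹ * b * g) * k⁻¹)
        rw [Subgroup.coe_mul]; group
      · intro a b hab
        have h' : k * (g⁻¹ * (a : G) * g) * k⁻¹ = k * (g⁻¹ * (b : G) * g) * k⁻¹ :=
          congrArg Subtype.val hab
        apply Subtype.ext
        have := mul_left_cancel (mul_right_cancel h')
        exact mul_left_cancel (mul_right_cancel this)
    · exact inj_hom Qg hQg T R S hTQg hT2 hRQg hc hS2 hdecS hTS hSN
  have hψ : ∃ ψ : ↥R →* ↥T, Function.Injective ψ := by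
    obtain ⟨M, hM⟩ : ∃ M : Subgroup G, M = Qg ⊔ R := ⟨_, rfl⟩
    have hEM : T ⊔ R ≤ M := by
      rw [hM]; exact sup_le (hTQg.trans le_sup_left) le_sup_right
    have hE2 : IsPGroup 2 ↥(T ⊔ R) := hS2.to_le (sup_le hTS hRS)
    obtain ⟨Sg, hSg⟩ := (hE2.comap_subtype (K := M)).exists_le_sylow
    obtain ⟨S', hS'⟩ : ∃ S' : Subgroup G, S' = (Sg : Subgroup ↥M).map M.subtype := ⟨_, rfl⟩
    have hS'M : S' ≤ M := by rw [hS']; exact Subgroup.map_subtype_le _
    have hES' : T ⊔ R ≤ S' := by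
      intro e he
      rw [hS']
      exact Subgroup.mem_map.2 ⟨⟨e, hEM he⟩, hSg (Subgroup.mem_subgroupOf.2 he), rfl⟩
    have hS'2 : IsPGroup 2 ↥S' := by rw [hS']; exact Sg.isPGroup'.map _
    have hS'odd : ¬ 2 ∣ S'.relIndex M := by
      have : S'.subgroupOf M = (Sg : Subgroup ↥M) := by
        rw [hS']
        exact Subgroup.comap_map_eq_self_of_injective (Subgroup.subtype_injective M) _
      rw [Subgroup.relIndex, this]
      exact Sg.not_dvd_index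
    have hTS' : T ≤ S' := le_sup_left.trans hES'
    have hRS' : R ≤ S' := le_sup_right.trans hES'
    obtain ⟨m', hm', hQgP'⟩ := syl_inf Qg R S' hRNQg (by rw [inf_comm]; exact hRQg)
      (by rw [← hM]; exact hS'M) hRS' (by rw [← hM]; exact hS'odd)
    have hTmax : ∀ V : Subgroup G, IsPGroup 2 ↥V → T ≤ V →
        V ≤ Qg ⊓ Subgroup.normalizer (Q : Set G) → V = T := by
      intro V hV2 hTV hVD
      have hmD : Odd (T.relIndex (Qg ⊓ Subgroup.normalizer (Q : Set G))) := by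
        rw [← Nat.not_even_iff_odd, even_iff_two_dvd]; exact hTodd
      have := two_dvd _ T V _ hmD (Cfsg.Agent.S3745.card_mul_relIndex' T _ hT).symm hVD hV2
      exact (Subgroup.eq_of_le_of_card_ge hTV (Nat.le_of_dvd Nat.card_pos this)).symm
    have hP'R : ∀ x ∈ S' ⊓ Qg, (∀ r ∈ R, x * r * x⁻¹ ∈ R) → x ∈ T := by
      intro x hx hxR
      obtain ⟨k, hk⟩ := hR2 ⟨r₁, hr₁⟩
      have hxNQ := te_norm Q hQ x r₁ (hRQ hr₁) (hRQ (hxR r₁ hr₁)) hr₁1 k
        (congrArg Subtype.val hk)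
      have hV := hTmax ((S' ⊓ Qg) ⊓ Subgroup.normalizer (Q : Set G))
        (hS'2.to_le (inf_le_left.trans inf_le_left))
        (le_inf (le_inf hTS' hTQg) hTN) (le_inf (inf_le_left.trans inf_le_right) inf_le_right)
      have : x ∈ (S' ⊓ Qg) ⊓ Subgroup.normalizer (Q : Set G) := Subgroup.mem_inf.2 ⟨hx, hxNQ⟩
      rw [hV] at this; exact this
    have hdecS' : ∀ e ∈ S' ⊓ Subgroup.normalizer (R : Set G), ∃ r ∈ R, ∃ t ∈ T, e = r * t := by
      intro e he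
      obtain ⟨he1, he2⟩ := Subgroup.mem_inf.1 he
      have heM : e ∈ Qg ⊔ R := by rw [← hM]; exact hS'M he1
      obtain ⟨q, hq, r, hr, rfl⟩ := mem_sup_prod Qg R hRNQg e heM
      have hqS : q ∈ S' := by
        have := mul_mem he1 (inv_mem (hRS' hr))
        have e' : q * r * r⁻¹ = q := by group
        rwa [e'] at this
      have hqN : q ∈ Subgroup.normalizer (R : Set G) := by
        have := mul_mem he2 (inv_mem (Subgroup.le_normalizer hr))
        have e' : q * r * r⁻¹ = q := by group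
        rwa [e'] at this
      have hqT : q ∈ T := hP'R q (Subgroup.mem_inf.2 ⟨hqS, hq⟩)
        (fun r' hr' => (Subgroup.mem_set_normalizer_iff.1 hqN r').1 hr')
      exact ⟨r, hr, q, hqT, (hc r hr q hqT).symm⟩
    by_cases hSN : S' ≤ Subgroup.normalizer (R : Set G)
    · have hPT : S' ⊓ Qg = T := by
        apply le_antisymm
        · intro x hx
          exact hP'R x hx (fun r hr =>
            (Subgroup.mem_set_normalizer_iff.1 (hSN (Subgroup.mem_inf.1 hx).1) r).1 hr)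
        · exact le_inf hTS' hTQg
      rw [hPT] at hQgP'
      have hV : R.map (MulAut.conj g).toMonoidHom ≤ Qg := by
        intro z hz
        rw [mem_cj] at hz
        rw [hQgdef, mem_cj]
        exact hRQ hz
      obtain ⟨k, hk⟩ := syl_conj Qg T _ hTQg hT2 m' hm' hQgP' hV (hR2.map _)
      have hmem : ∀ r : ↥R, k * (g * r * g⁻¹) * k⁻¹ ∈ T := by
        intro r
        apply hk
        rw [mem_cj]
        have e : g⁻¹ * (g * (r : G) * g⁻¹) * g = r := by group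
        rw [e]; exact r.2
      refine ⟨MonoidHom.mk' (fun r => ⟨k * (g * r * g⁻¹) * k⁻¹, hmem r⟩) ?_, ?_⟩
      · intro a b
        apply Subtype.ext
        show k * (g * ((a * b : ↥R) : G) * g⁻¹) * k⁻¹ =
          (k * (g * a * g⁻¹) * k⁻¹) * (k * (g * b * g⁻¹) * k⁻¹)
        rw [Subgroup.coe_mul]; group
      · intro a b hab
        have h' : k * (g * (a : G) * g⁻¹) * k⁻¹ = k * (g * (b : G) * g⁻¹) * k⁻¹ :=
          congrArg Subtype.val hab
        apply Subtype.ext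
        have := mul_left_cancel (mul_right_cancel h')
        exact mul_left_cancel (mul_right_cancel this)
    · exact inj_hom Q hQ R T S' hRQ hR2 h1 (fun t ht r hr => (hc r hr t ht).symm) hS'2 hdecS'
        hRS' hSN
  obtain ⟨φ, hφi⟩ := hφ
  obtain ⟨ψ, hψi⟩ := hψ
  have hcard : Nat.card ↥T ≤ Nat.card ↥R := Nat.card_le_card_of_injective φ hφi
  exact ⟨MulEquiv.ofBijective ψ (Function.Injective.bijective_of_nat_card_le hψi hcard)⟩

end Cfsg.Agent.S1910
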