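import Cfsg.Statements.S1921
import Mathlib
import Cfsg.Agent.S2824
import Cfsg.Agent.Lib.Helper2.Comp
import Cfsg.Agent.Lib.Helper2.Quasi
import Cfsg.Agent.Lib.Helper2.CoprimeAct2

set_option autoImplicit false
open Cfsg

namespace Cfsg.Agent.S1921

open Cfsg.Agent.Lib.Helper2

theorem result {H : Type*} [Group H] [Finite H] (a : H) (ha : orderOf a = 2) (L : Subgroup H) (hL : Cfsg.IsComponent L)
    (hLa : L.map (MulAut.conj a).toMonoidHom ≠ L) (x : H) (hxM : x ∈ L ⊔ L.map (MulAut.conj a).toMonoidHom)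
    (hxJ : x ∉ Subgroup.closure {y : H | ∃ l ∈ L, y = l * (a * l * a⁻¹)} ⊔
      ((L ⊔ L.map (MulAut.conj a).toMonoidHom) ⊓ Subgroup.centralizer ((L ⊔ L.map (MulAut.conj a).toMonoidHom : Subgroup H) : Set H))) :
    Subgroup.closure {y : H | ∃ l ∈ L, y = l * (a * l * a⁻¹)} ⊔ Subgroup.zpowers x = L ⊔ L.map (MulAut.conj a).toMonoidHom := by
  obtain ⟨La, hLa'⟩ : ∃ La : Subgroup H, La = L.map (MulAut.conj a).toMonoidHom := ⟨_, rfl⟩
  rw [← hLa'] at hLa hxM hxJ ⊢
  obtain ⟨J, hJ⟩ : ∃ J : Subgroup H,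
      J = Subgroup.closure {y : H | ∃ l ∈ L, y = l * (a * l * a⁻¹)} := ⟨_, rfl⟩
  rw [← hJ] at hxJ ⊢
  have hLac : Cfsg.IsComponent La := by rw [hLa']; exact Comp.component_conj hL a
  have hcomm : ⁅L, La⁆ = ⊥ := Comp.components_comm hL hLac (Ne.symm hLa)
  have hc : ∀ u ∈ L, ∀ v ∈ La, u * v = v * u := by
    intro u hu v hv
    have h1 := Subgroup.commutator_mem_commutator hu hv
    rw [hcomm, Subgroup.mem_bot, commutatorElement_def] at h1
    have e : u * v = (u * v * u⁻¹ * v⁻¹) * (v * u) := by group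
    rw [e, h1, one_mul]
  have haL : ∀ l ∈ L, a * l * a⁻¹ ∈ La := by
    intro l hl
    rw [hLa']
    exact ⟨l, hl, rfl⟩
  have hJgen : ∀ l ∈ L, l * (a * l * a⁻¹) ∈ J := by
    intro l hl
    rw [hJ]
    exact Subgroup.subset_closure ⟨l, hl, rfl⟩
  apply le_antisymm
  · refine sup_le ?_ ?_
    · rw [hJ, Subgroup.closure_le]
      rintro _ ⟨l, hl, rfl⟩
      exact Subgroup.mul_mem _ (Subgroup.mem_sup_left hl) (Subgroup.mem_sup_right (haL l hl))
    · rw [Subgroup.zpowers_le]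
      exact hxM
  · obtain ⟨K, hK⟩ : ∃ K : Subgroup H, K = J ⊔ Subgroup.zpowers x := ⟨_, rfl⟩
    rw [← hK]
    have hJK : J ≤ K := by rw [hK]; exact le_sup_left
    have hxK : x ∈ K := by rw [hK]; exact Subgroup.mem_sup_right (Subgroup.mem_zpowers x)
    have hnLa : La ≤ Subgroup.normalizer (L : Set H) := by
      apply Cfsg.Agent.S2824.le_norm_of_conj
      intro v hv u hu
      have h1 := hc u hu v hv
      rw [← h1, mul_inv_cancel_right]
      exact hu
    obtain ⟨l₁, hl₁, m, hm, hx⟩ := CoprimeAct.mem_sup_of_le_normalizer L La hnLa hxM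
    obtain ⟨l₂, hl₂, hm2⟩ : ∃ l₂ ∈ L, a * l₂ * a⁻¹ = m := by
      rw [hLa'] at hm
      obtain ⟨l₂, hl₂, h⟩ := hm
      exact ⟨l₂, hl₂, h⟩
    have hxl : x = (l₁ * l₂⁻¹) * (l₂ * (a * l₂ * a⁻¹)) := by
      rw [hx, ← hm2]
      group
    have hlK : l₁ * l₂⁻¹ ∈ K := by
      have h1 := K.mul_mem hxK (K.inv_mem (hJK (hJgen l₂ hl₂)))
      have e : x * (l₂ * (a * l₂ * a⁻¹))⁻¹ = l₁ * l₂⁻¹ := by
        rw [hxl, mul_inv_cancel_right]
      rwa [e] at h1
    have hlL : l₁ * l₂⁻¹ ∈ L := L.mul_mem hl₁ (L.inv_mem hl₂)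
    have hnc : ∃ k ∈ L, k * (l₁ * l₂⁻¹) ≠ (l₁ * l₂⁻¹) * k := by
      by_contra hcon
      push Not at hcon
      apply hxJ
      have h2 : L ⊔ La ≤ Subgroup.centralizer ({l₁ * l₂⁻¹} : Set H) := by
        refine sup_le ?_ ?_
        · intro k hk
          rw [Subgroup.mem_centralizer_iff]
          intro y hy
          rw [Set.mem_singleton_iff] at hy
          subst hy
          exact (hcon k hk).symm
        · intro v hv
          rw [Subgroup.mem_centralizer_iff]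
          intro y hy
          rw [Set.mem_singleton_iff] at hy
          subst hy
          exact hc _ hlL v hv
      have hA : l₁ * l₂⁻¹ ∈ (L ⊔ La) ⊓ Subgroup.centralizer ((L ⊔ La : Subgroup H) : Set H) := by
        refine Subgroup.mem_inf.2 ⟨Subgroup.mem_sup_left hlL, ?_⟩
        rw [Subgroup.mem_centralizer_iff]
        intro h hh
        have h3 := Subgroup.mem_centralizer_iff.1 (h2 hh) (l₁ * l₂⁻¹) (Set.mem_singleton _)
        exact h3.symm
      have hB : l₂ * (a * l₂ * a⁻¹) ∈ J := hJgen l₂ hl₂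
      rw [hxl]
      exact Subgroup.mul_mem _ (Subgroup.mem_sup_right hA) (Subgroup.mem_sup_left hB)
    obtain ⟨k, hk, hkl⟩ := hnc
    have hNn : ((K ⊓ L).subgroupOf L).Normal := by
      rw [Subgroup.normal_subgroupOf_iff_le_normalizer inf_le_right]
      apply Cfsg.Agent.S2824.le_norm_of_conj
      intro u hu n hn
      obtain ⟨hnK, hnL⟩ := Subgroup.mem_inf.1 hn
      refine Subgroup.mem_inf.2 ⟨?_, L.mul_mem (L.mul_mem hu hnL) (L.inv_mem hu)⟩
      have e : u * n * u⁻¹ = (u * (a * u * a⁻¹)) * n * (u * (a * u * a⁻¹))⁻¹ := by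
        have h1 : n * (a * u * a⁻¹) = (a * u * a⁻¹) * n := hc n hnL _ (haL u hu)
        have e1 : (u * (a * u * a⁻¹)) * n * (u * (a * u * a⁻¹))⁻¹ =
            u * ((a * u * a⁻¹) * n) * (a * u * a⁻¹)⁻¹ * u⁻¹ := by group
        rw [e1, ← h1]
        group
      rw [e]
      exact K.mul_mem (K.mul_mem (hJK (hJgen u hu)) hnK) (K.inv_mem (hJK (hJgen u hu)))
    rcases Quasi.normal_eq_top_or_le_center hL.2 _ hNn with h | h
    · have hLK : L ≤ K := by
        intro u hu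
        have h1 : (⟨u, hu⟩ : ↥L) ∈ (K ⊓ L).subgroupOf L := h ▸ Subgroup.mem_top _
        exact (Subgroup.mem_inf.1 (Subgroup.mem_subgroupOf.1 h1)).1
      refine sup_le hLK ?_
      rw [hLa']
      rintro _ ⟨u, hu, rfl⟩
      show a * u * a⁻¹ ∈ K
      have e : a * u * a⁻¹ = u⁻¹ * (u * (a * u * a⁻¹)) := by group
      rw [e]
      exact K.mul_mem (K.inv_mem (hLK hu)) (hJK (hJgen u hu))
    · exfalso
      have h1 : (⟨l₁ * l₂⁻¹, hlL⟩ : ↥L) ∈ Subgroup.center ↥L :=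
        h (Subgroup.mem_subgroupOf.2 (Subgroup.mem_inf.2 ⟨hlK, hlL⟩))
      have h2 := Subgroup.mem_center_iff.1 h1 ⟨k, hk⟩
      exact hkl (congrArg Subtype.val h2)

end Cfsg.Agent.S1921
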