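import Cfsg.Statements.S2241
import Cfsg.Agent.Lib.Helper1.Sz10
import Cfsg.Agent.S0324

set_option autoImplicit false
open Cfsg


namespace Cfsg.Agent.S2241

open Cfsg.Agent.Lib.Helper1.Sz

variable {F : Type*} [Field F] [Fintype F] {m : ℕ}

theorem conj_tG (D : Dat F m) (c d a b : F) :
    tG D c d * tG D a b * (tG D c d)⁻¹ = tG D a (b + D.θ c * a + D.θ a * c) := by
  rw [tG_inv, tG_mul, tG_mul]
  congr 1
  · linear_combination c * D.h2
  · rw [map_add]
    linear_combination (d + D.θ c * c) * D.h2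

theorem fix_pI (D : Dat F m) {a b : F} (ha : a ≠ 0) (c : Cfsg.Sz F m)
    (hfix : (tG D a b : Matrix.SpecialLinearGroup (Fin 4) F) •
      ((c : Matrix.SpecialLinearGroup (Fin 4) F) • (pI : Projectivization F (Fin 4 → F)))
        = (c : Matrix.SpecialLinearGroup (Fin 4) F) • (pI : Projectivization F (Fin 4 → F))) :
    (c : Matrix.SpecialLinearGroup (Fin 4) F) • (pI : Projectivization F (Fin 4 → F)) = pI := by
  have hmem := smul_mem c.2 (pI_mem (F := F) (m := m))
  rcases (mem_ovoid D _).mp hmem with h | ⟨x, y, h⟩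
  · exact h
  · exfalso
    rw [h] at hfix
    exact ha (Ts_fix D hfix).1

theorem key (D : Dat F m) (a b : F) (h1 : tG D a b ≠ 1) :
    IsConj (tG D a b) (tG D a b)⁻¹ ↔ orderOf (tG D a b) = 2 := by
  by_cases ha : a = 0
  · subst ha
    have hsq : tG D 0 b * tG D 0 b = 1 := by
      rw [tG_sq, map_zero, zero_mul, tG_zero]
    have hinv : (tG D 0 b)⁻¹ = tG D 0 b := inv_eq_of_mul_eq_one_right hsq
    constructor
    · intro _
      haveI : Fact (Nat.Prime 2) := ⟨Nat.prime_two⟩
      exact orderOf_eq_prime (by rw [pow_two]; exact hsq) h1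
    · intro _
      rw [hinv]
  · have hθa : D.θ a ≠ 0 := fun h => ha (D.θ.injective (by rw [h, map_zero]))
    have hsq : tG D a b * tG D a b ≠ 1 := by
      rw [tG_sq, ← tG_zero D]
      intro h
      have := (tG_inj D h).2
      exact mul_ne_zero hθa ha this
    constructor
    · intro hc
      exfalso
      rw [isConj_iff] at hc
      obtain ⟨c, hc⟩ := hc
      have hcfix : (c : Matrix.SpecialLinearGroup (Fin 4) F) •
          (pI : Projectivization F (Fin 4 → F)) = pI := by
        apply fix_pI D ha (b := b)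
        have e : tG D a b * c = c * (tG D a b)⁻¹ := by
          have : (tG D a b)⁻¹ * c = c * tG D a b := by rw [← hc]; group
          calc tG D a b * c = tG D a b * ((tG D a b)⁻¹ * c) * (tG D a b)⁻¹ := by
                rw [this]; group
            _ = c * (tG D a b)⁻¹ := by group
        have e' : (tG D a b : Matrix.SpecialLinearGroup (Fin 4) F) * c
            = c * ((tG D a b)⁻¹ : Cfsg.Sz F m) := congrArg Subtype.val e
        rw [← mul_smul, e', mul_smul]
        congr 1
        rw [tG_inv]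
        exact Ts_pI D _ _
      obtain ⟨c1, d1, t, rfl⟩ := stab1G D c hcfix
      have e2 : tG D c1 d1 * hG D t * tG D a b * (tG D c1 d1 * hG D t)⁻¹
          = tG D c1 d1 * (hG D t * tG D a b * (hG D t)⁻¹) * (tG D c1 d1)⁻¹ := by group
      rw [e2, hG_tG, conj_tG, tG_inv] at hc
      obtain ⟨h3, h4⟩ := tG_inj D hc
      have ht : (t : F) = 1 := by
        apply D.eq_one_of_sq
        have : ((t : F) ^ 2 - 1) * a = 0 := by linear_combination h3
        rcases mul_eq_zero.mp this with h | h
        · linear_combination h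
        · exact absurd h ha
      rw [ht, map_one] at h4
      simp only [one_pow, one_mul] at h4
      have h5 : D.θ c1 * a + D.θ a * c1 = D.θ a * a := by linear_combination h4
      obtain ⟨s, hs⟩ : ∃ s, s = c1 / a := ⟨_, rfl⟩
      have hc1 : c1 = s * a := by rw [hs]; field_simp
      rw [hc1, map_mul] at h5
      have h6 : D.θ s + s = 1 := by
        have : (D.θ a * a) * (D.θ s + s - 1) = 0 := by linear_combination h5
        rcases mul_eq_zero.mp this with h | h
        · exact absurd h (mul_ne_zero hθa ha)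
        · linear_combination h
      have h7 : s ^ 2 + D.θ s = 1 := by
        have := congrArg D.θ h6
        rw [map_add, D.hθ, map_one] at this
        exact this
      have h8 : s * (s - 1) = 0 := by linear_combination h7 - h6
      rcases mul_eq_zero.mp h8 with h | h
      · rw [h, map_zero, add_zero] at h6
        exact zero_ne_one h6
      · have hs1 : s = 1 := by linear_combination h
        rw [hs1, map_one] at h6
        have : (1 : F) = 0 := by linear_combination D.h2 - h6
        exact one_ne_zero this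
    · intro ho
      exfalso
      apply hsq
      rw [← pow_two, ← ho]
      exact pow_orderOf_eq_one _

theorem main (hm : 1 ≤ m) (hF : Fintype.card F = 2 ^ (2 * m + 1)) (P : Sylow 2 ↥(Cfsg.Sz F m)) (g : ↥(Cfsg.Sz F m)) (hg : g ∈ (P : Subgroup ↥(Cfsg.Sz F m))) (h1 : g ≠ 1) :
    IsConj g g⁻¹ ↔ orderOf g = 2 := by
  obtain ⟨D⟩ := exists_dat hm hF
  have hG := Cfsg.Agent.S0324.result hm hF
  obtain ⟨Q, hQ⟩ := exists_sylow_UG D hG
  obtain ⟨k, hk⟩ := MulAction.exists_smul_eq (Cfsg.Sz F m) Q P
  have hg' : k⁻¹ * g * k ∈ UG D := by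
    rw [← hQ]
    have : g ∈ (k • Q : Sylow 2 (Cfsg.Sz F m)) := by rw [hk]; exact hg
    exact (mem_smul_sylow k Q g).mp this
  obtain ⟨a, b, hab⟩ := hg'
  have hgk : g = k * tG D a b * k⁻¹ := by rw [← hab]; group
  have hne : tG D a b ≠ 1 := by
    intro h
    apply h1
    rw [hgk, h]
    group
  have hkey := key D a b hne
  have ho : orderOf g = orderOf (tG D a b) := by
    rw [hgk]
    have h2 := orderOf_injective (MulAut.conj k).toMonoidHom (MulEquiv.injective _) (tG D a b)
    simpa using h2
  rw [ho, ← hkey, hgk]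
  have e : (k * tG D a b * k⁻¹)⁻¹ = k * (tG D a b)⁻¹ * k⁻¹ := by group
  rw [e]
  constructor
  · intro h
    rw [isConj_iff] at h ⊢
    obtain ⟨c, hc⟩ := h
    refine ⟨k⁻¹ * c * k, ?_⟩
    have : (tG D a b)⁻¹ = k⁻¹ * (k * (tG D a b)⁻¹ * k⁻¹) * k := by group
    rw [this, ← hc]
    group
  · intro h
    rw [isConj_iff] at h ⊢
    obtain ⟨c, hc⟩ := h
    refine ⟨k * c * k⁻¹, ?_⟩
    rw [← hc]
    group

theorem result {F : Type*} [Field F] [Fintype F] {m : ℕ} (hm : 1 ≤ m) (hF : Fintype.card F = 2 ^ (2 * m + 1)) (P : Sylow 2 ↥(Cfsg.Sz F m)) (g : ↥(Cfsg.Sz F m)) (hg : g ∈ (P : Subgroup ↥(Cfsg.Sz F m))) (h1 : g ≠ 1) :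
    IsConj g g⁻¹ ↔ orderOf g = 2 := by
  exact main hm hF P g hg h1

end Cfsg.Agent.S2241
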