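import Cfsg.Statements.S2247
import Cfsg.Agent.Lib.Helper1.Sz10
import Cfsg.Agent.S0324
import Cfsg.Agent.S2241

set_option autoImplicit false
open Cfsg


namespace Cfsg.Agent.S2247

open Cfsg.Agent.Lib.Helper1.Sz

variable {F : Type*} [Field F] [Fintype F] {m : ℕ}

/-- elements fixing `pI` normalise `U`. -/
theorem fixer_conj (D : Dat F m) (y : Cfsg.Sz F m)
    (hy : (y : Matrix.SpecialLinearGroup (Fin 4) F) • (pI : Projectivization F (Fin 4 → F)) = pI)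
    (a b : F) : ∃ a' b' : F, y * tG D a b * y⁻¹ = tG D a' b' := by
  obtain ⟨c, d, t, rfl⟩ := stab1G D y hy
  have e2 : tG D c d * hG D t * tG D a b * (tG D c d * hG D t)⁻¹
      = tG D c d * (hG D t * tG D a b * (hG D t)⁻¹) * (tG D c d)⁻¹ := by group
  rw [e2, hG_tG, Cfsg.Agent.S2241.conj_tG]
  exact ⟨_, _, rfl⟩

theorem fixer_inv (y : Cfsg.Sz F m)
    (hy : (y : Matrix.SpecialLinearGroup (Fin 4) F) • (pI : Projectivization F (Fin 4 → F)) = pI) :
    ((y⁻¹ : Cfsg.Sz F m) : Matrix.SpecialLinearGroup (Fin 4) F) •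
      (pI : Projectivization F (Fin 4 → F)) = pI := by
  have : ((y⁻¹ : Cfsg.Sz F m) : Matrix.SpecialLinearGroup (Fin 4) F)
      = (y : Matrix.SpecialLinearGroup (Fin 4) F)⁻¹ := rfl
  rw [this, inv_smul_eq_iff, hy]

theorem decompG (D : Dat F m) (g : Cfsg.Sz F m) :
    (∃ (a b : F) (t : Fˣ), g = tG D a b * hG D t) ∨
    (∃ (a b c d : F) (t : Fˣ), g = tG D a b * wG D * (tG D c d * hG D t)) := by
  rcases decomp D g.2 with ⟨a, b, t, h⟩ | ⟨a, b, c, d, t, h⟩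
  · exact Or.inl ⟨a, b, t, Subtype.ext h⟩
  · exact Or.inr ⟨a, b, c, d, t, Subtype.ext h⟩

theorem tG_fix (D : Dat F m) (a b : F) :
    ((tG D a b : Cfsg.Sz F m) : Matrix.SpecialLinearGroup (Fin 4) F) •
      (pI : Projectivization F (Fin 4 → F)) = pI := Ts_pI D a b

theorem hG_fix (D : Dat F m) (t : Fˣ) :
    ((hG D t : Cfsg.Sz F m) : Matrix.SpecialLinearGroup (Fin 4) F) •
      (pI : Projectivization F (Fin 4 → F)) = pI := Hs_pI D t

theorem th_fix (D : Dat F m) (a b : F) (t : Fˣ) :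
    ((tG D a b * hG D t : Cfsg.Sz F m) : Matrix.SpecialLinearGroup (Fin 4) F) •
      (pI : Projectivization F (Fin 4 → F)) = pI := by
  have : ((tG D a b * hG D t : Cfsg.Sz F m) : Matrix.SpecialLinearGroup (Fin 4) F)
      = Ts D a b * Hs D t := rfl
  rw [this, mul_smul, Hs_pI, Ts_pI]

theorem top_of (D : Dat F m) (M : Subgroup (Cfsg.Sz F m)) (hU : ∀ a b, tG D a b ∈ M)
    (x : Cfsg.Sz F m) (hxM : x ∈ M)
    (hx : (x : Matrix.SpecialLinearGroup (Fin 4) F) • (pI : Projectivization F (Fin 4 → F)) ≠ pI) :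
    M = ⊤ := by
  have hmem := smul_mem x.2 (pI_mem (F := F) (m := m))
  rcases (mem_ovoid D _).mp hmem with h | ⟨a, b, h⟩
  · exact absurd h hx
  obtain ⟨a', b', h'⟩ := exists_Ts D a b 0 0
  have hyM : tG D a' b' * x ∈ M := M.mul_mem (hU _ _) hxM
  have hz : (((wG D)⁻¹ * (tG D a' b' * x) : Cfsg.Sz F m) : Matrix.SpecialLinearGroup (Fin 4) F) •
      (pI : Projectivization F (Fin 4 → F)) = pI := by
    have : (((wG D)⁻¹ * (tG D a' b' * x) : Cfsg.Sz F m) : Matrix.SpecialLinearGroup (Fin 4) F)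
      = (Ws D)⁻¹ * (Ts D a' b' * (x : Matrix.SpecialLinearGroup (Fin 4) F)) := rfl
    rw [this, mul_smul, mul_smul, h, h', inv_smul_eq_iff, Ws_pI]
  set z := (wG D)⁻¹ * (tG D a' b' * x) with hzdef
  have hy : tG D a' b' * x = wG D * z := by rw [hzdef]; group
  rw [hy] at hyM
  -- conjugates of U by wG lie in M
  have hw : ∀ e f, wG D * tG D e f * (wG D)⁻¹ ∈ M := by
    intro e f
    obtain ⟨e', f', hef⟩ := fixer_conj D z⁻¹ (fixer_inv z hz) e f
    have : wG D * tG D e f * (wG D)⁻¹ = (wG D * z) * (z⁻¹ * tG D e f * z⁻¹⁻¹) * (wG D * z)⁻¹ := by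
      group
    rw [this, hef]
    exact M.mul_mem (M.mul_mem hyM (hU _ _)) (M.inv_mem hyM)
  have hall : ∀ (g : Cfsg.Sz F m) (a b : F), g * tG D a b * g⁻¹ ∈ M := by
    intro g a b
    rcases decompG D g with ⟨a1, b1, t1, rfl⟩ | ⟨a1, b1, c1, d1, t1, rfl⟩
    · obtain ⟨e, f, hef⟩ := fixer_conj D _ (th_fix D a1 b1 t1) a b
      rw [hef]
      exact hU _ _
    · obtain ⟨e, f, hef⟩ := fixer_conj D _ (th_fix D c1 d1 t1) a b
      have : tG D a1 b1 * wG D * (tG D c1 d1 * hG D t1) * tG D a b *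
          (tG D a1 b1 * wG D * (tG D c1 d1 * hG D t1))⁻¹
          = tG D a1 b1 * (wG D * ((tG D c1 d1 * hG D t1) * tG D a b * (tG D c1 d1 * hG D t1)⁻¹)
            * (wG D)⁻¹) * (tG D a1 b1)⁻¹ := by group
      rw [this, hef]
      exact M.mul_mem (M.mul_mem (hU _ _) (hw _ _)) (M.inv_mem (hU _ _))
  have hN : Subgroup.normalClosure ({tG D 1 0} : Set (Cfsg.Sz F m)) = ⊤ := by
    haveI := simple D
    rcases (Subgroup.normalClosure_normal (s := ({tG D 1 0} : Set (Cfsg.Sz F m)))).eq_bot_or_eq_top with h | h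
    · exfalso
      have h1 : tG D 1 0 ∈ Subgroup.normalClosure ({tG D 1 0} : Set (Cfsg.Sz F m)) :=
        Subgroup.subset_normalClosure (Set.mem_singleton _)
      rw [h, Subgroup.mem_bot, ← tG_zero D] at h1
      exact one_ne_zero (tG_inj D h1).1
    · exact h
  rw [eq_top_iff, ← hN]
  unfold Subgroup.normalClosure
  rw [Subgroup.closure_le]
  intro y hy
  rw [Group.mem_conjugatesOfSet_iff] at hy
  obtain ⟨u, hu, hc⟩ := hy
  rw [Set.mem_singleton_iff] at hu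
  subst hu
  rw [isConj_iff] at hc
  obtain ⟨c, rfl⟩ := hc
  exact hall c 1 0

theorem main (hm : 1 ≤ m) (hF : Fintype.card F = 2 ^ (2 * m + 1)) (P : Sylow 2 ↥(Cfsg.Sz F m)) :
    IsCoatom (Subgroup.normalizer ((P : Subgroup ↥(Cfsg.Sz F m)) : Set ↥(Cfsg.Sz F m))) ∧
    ∀ M : Subgroup ↥(Cfsg.Sz F m), IsCoatom M → (P : Subgroup ↥(Cfsg.Sz F m)) ≤ M → M = Subgroup.normalizer ((P : Subgroup ↥(Cfsg.Sz F m)) : Set ↥(Cfsg.Sz F m)) := by
  obtain ⟨D⟩ := exists_dat hm hF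
  have hG := Cfsg.Agent.S0324.result hm hF
  obtain ⟨Q, hQ⟩ := exists_sylow_UG D hG
  obtain ⟨k, hk⟩ := MulAction.exists_smul_eq (Cfsg.Sz F m) Q P
  have hP : ∀ g, g ∈ (P : Subgroup (Cfsg.Sz F m)) ↔ k⁻¹ * g * k ∈ UG D := by
    intro g
    rw [← hQ, ← hk]
    exact mem_smul_sylow k Q g
  have hPU : ∀ a b, k * tG D a b * k⁻¹ ∈ (P : Subgroup (Cfsg.Sz F m)) := by
    intro a b
    rw [hP]
    have : k⁻¹ * (k * tG D a b * k⁻¹) * k = tG D a b := by group
    rw [this]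
    exact tG_mem_UG D a b
  -- F1
  have F1 : ∀ x : Cfsg.Sz F m,
      ((k⁻¹ * x * k : Cfsg.Sz F m) : Matrix.SpecialLinearGroup (Fin 4) F) •
        (pI : Projectivization F (Fin 4 → F)) = pI →
      x ∈ Subgroup.normalizer ((P : Subgroup ↥(Cfsg.Sz F m)) : Set ↥(Cfsg.Sz F m)) := by
    intro x hx
    have key : ∀ y : Cfsg.Sz F m,
        ((k⁻¹ * y * k : Cfsg.Sz F m) : Matrix.SpecialLinearGroup (Fin 4) F) •
          (pI : Projectivization F (Fin 4 → F)) = pI →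
        ∀ h, h ∈ (P : Subgroup (Cfsg.Sz F m)) → y * h * y⁻¹ ∈ (P : Subgroup (Cfsg.Sz F m)) := by
      intro y hy h hh
      rw [hP] at hh ⊢
      obtain ⟨a, b, hab⟩ := hh
      obtain ⟨a', b', e⟩ := fixer_conj D _ hy a b
      have : k⁻¹ * (y * h * y⁻¹) * k = (k⁻¹ * y * k) * (k⁻¹ * h * k) * (k⁻¹ * y * k)⁻¹ := by group
      rw [this, hab, e]
      exact tG_mem_UG D _ _
    rw [Subgroup.mem_normalizer_iff]
    intro h
    constructor
    · exact key x hx h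
    · intro hh
      have hx' : ((k⁻¹ * x⁻¹ * k : Cfsg.Sz F m) : Matrix.SpecialLinearGroup (Fin 4) F) •
          (pI : Projectivization F (Fin 4 → F)) = pI := by
        have : k⁻¹ * x⁻¹ * k = (k⁻¹ * x * k)⁻¹ := by group
        rw [this]
        exact fixer_inv _ hx
      have := key x⁻¹ hx' _ hh
      have e : x⁻¹ * (x * h * x⁻¹) * x⁻¹⁻¹ = h := by group
      rwa [e] at this
  -- F2
  have F2 : Subgroup.normalizer ((P : Subgroup ↥(Cfsg.Sz F m)) : Set ↥(Cfsg.Sz F m)) ≠ ⊤ := by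
    intro htop
    have hw : k * wG D * k⁻¹ ∈ Subgroup.normalizer ((P : Subgroup ↥(Cfsg.Sz F m)) : Set ↥(Cfsg.Sz F m)) := by
      rw [htop]; trivial
    rw [Subgroup.mem_normalizer_iff] at hw
    have h1 := (hw (k * tG D 1 0 * k⁻¹)).mp (hPU 1 0)
    rw [hP] at h1
    have e : k⁻¹ * (k * wG D * k⁻¹ * (k * tG D 1 0 * k⁻¹) * (k * wG D * k⁻¹)⁻¹) * k
        = wG D * tG D 1 0 * (wG D)⁻¹ := by group
    rw [e] at h1
    obtain ⟨a, b, hab⟩ := h1
    have h2 : tG D 1 0 * (wG D)⁻¹ = (wG D)⁻¹ * tG D a b := by rw [← hab]; group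
    have h3 : (Ts D 1 0 * (Ws D)⁻¹ : Matrix.SpecialLinearGroup (Fin 4) F)
        = (Ws D)⁻¹ * Ts D a b := congrArg Subtype.val h2
    have h4 : Ts D 1 0 • pt D 0 0 = pt D 0 0 := by
      have hwp : (Ws D)⁻¹ • (pI : Projectivization F (Fin 4 → F)) = pt D 0 0 := by
        rw [inv_smul_eq_iff, Ws_pt0]
      rw [← hwp, ← mul_smul, h3, mul_smul, Ts_pI]
    exact one_ne_zero (Ts_fix D h4).1
  -- F3
  have F3 : ∀ M : Subgroup (Cfsg.Sz F m), (P : Subgroup (Cfsg.Sz F m)) ≤ M → M ≠ ⊤ →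
      M ≤ Subgroup.normalizer ((P : Subgroup ↥(Cfsg.Sz F m)) : Set ↥(Cfsg.Sz F m)) := by
    intro M hPM hM x hxM
    apply F1
    by_contra hne
    apply hM
    have htop := top_of D (M.comap (MulAut.conj k).toMonoidHom) (fun a b => by
      rw [Subgroup.mem_comap]
      exact hPM (hPU a b)) (k⁻¹ * x * k) (by
      rw [Subgroup.mem_comap]
      have : (MulAut.conj k).toMonoidHom (k⁻¹ * x * k) = x := by
        simp [MulAut.conj_apply]
        group
      rw [this]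
      exact hxM) hne
    rw [eq_top_iff]
    intro y _
    have hy : k⁻¹ * y * k ∈ M.comap (MulAut.conj k).toMonoidHom := by rw [htop]; trivial
    rw [Subgroup.mem_comap] at hy
    have : (MulAut.conj k).toMonoidHom (k⁻¹ * y * k) = y := by
      simp [MulAut.conj_apply]
      group
    rwa [this] at hy
  refine ⟨⟨F2, fun M hNM => ?_⟩, fun M hM hPM => ?_⟩
  · by_contra hM
    have := F3 M (le_trans Subgroup.le_normalizer hNM.le) hM
    exact absurd (lt_of_lt_of_le hNM this) (lt_irrefl _)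
  · have h1 := F3 M hPM hM.1
    by_contra hne
    exact F2 (hM.2 _ (lt_of_le_of_ne h1 hne))

theorem result {F : Type*} [Field F] [Fintype F] {m : ℕ} (hm : 1 ≤ m) (hF : Fintype.card F = 2 ^ (2 * m + 1)) (P : Sylow 2 ↥(Cfsg.Sz F m)) :
    IsCoatom (Subgroup.normalizer ((P : Subgroup ↥(Cfsg.Sz F m)) : Set ↥(Cfsg.Sz F m))) ∧
    ∀ M : Subgroup ↥(Cfsg.Sz F m), IsCoatom M → (P : Subgroup ↥(Cfsg.Sz F m)) ≤ M → M = Subgroup.normalizer ((P : Subgroup ↥(Cfsg.Sz F m)) : Set ↥(Cfsg.Sz F m)) := by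
  exact main hm hF P

end Cfsg.Agent.S2247
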