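import Cfsg.Statements.S2277

import Mathlib
import Cfsg.Agent.S0003
import Cfsg.Agent.S0025
import Cfsg.Agent.S0027

set_option autoImplicit false
open Cfsg
open scoped Pointwise

namespace Cfsg.Agent.S2277

open Subgroup
open scoped commutatorElement

universe u

/-- the hypotheses of the statement -/
structure Cfg (p : ℕ) {G : Type u} [Group G] (P : Sylow p G) (N : Subgroup G) (C D : Set G) :
    Prop where
  nN : N.Normal
  cop : (Nat.card N).Coprime p
  top : N ⊔ (P : Subgroup G) = ⊤
  hC : Subgroup.closure C = (P : Subgroup G)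
  hD : Subgroup.closure D = (P : Subgroup G)
  h : ∀ x ∈ N, ∀ c ∈ C, ∀ d ∈ D, IsPGroup p ↥(Subgroup.closure ({x * c * x⁻¹, d} : Set G))

theorem quot_cfg {p : ℕ} [Fact p.Prime] {G : Type u} [Group G] [Finite G] {P : Sylow p G}
    {N : Subgroup G} {C D : Set G} (h : Cfg p P N C D) (M : Subgroup G) [M.Normal] :
    Cfg p (P.mapSurjective (QuotientGroup.mk'_surjective M)) (N.map (QuotientGroup.mk' M))
      ((QuotientGroup.mk' M) '' C) ((QuotientGroup.mk' M) '' D) := by
  have hf := QuotientGroup.mk'_surjective M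
  refine ⟨?_, ?_, ?_, ?_, ?_, ?_⟩
  · exact Subgroup.Normal.map h.nN _ hf
  · exact Nat.Coprime.coprime_dvd_left (Subgroup.card_map_dvd N _) h.cop
  · rw [Sylow.coe_mapSurjective, ← Subgroup.map_sup, h.top, Subgroup.map_top_of_surjective _ hf]
  · rw [Sylow.coe_mapSurjective, ← h.hC, MonoidHom.map_closure]
  · rw [Sylow.coe_mapSurjective, ← h.hD, MonoidHom.map_closure]
  · rintro _ ⟨x, hx, rfl⟩ _ ⟨c, hc, rfl⟩ _ ⟨d, hd, rfl⟩
    have h1 := (h.h x hx c hc d hd).map (QuotientGroup.mk' M)
    have h2 : Subgroup.closure ({(QuotientGroup.mk' M) x * (QuotientGroup.mk' M) c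
          * ((QuotientGroup.mk' M) x)⁻¹, (QuotientGroup.mk' M) d} : Set (G ⧸ M))
        = (Subgroup.closure ({x * c * x⁻¹, d} : Set G)).map (QuotientGroup.mk' M) := by
      rw [MonoidHom.map_closure, Set.image_pair]; simp
    rw [h2]; exact h1

theorem quot_concl {p : ℕ} [Fact p.Prime] {G : Type u} [Group G] [Finite G] {P : Sylow p G}
    {N : Subgroup G} (M : Subgroup G) [M.Normal]
    (hq : ⁅((P.mapSurjective (QuotientGroup.mk'_surjective M) : Sylow p (G ⧸ M))
      : Subgroup (G ⧸ M)), N.map (QuotientGroup.mk' M)⁆ = ⊥) :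
    ⁅(P : Subgroup G), N⁆ ≤ M := by
  rw [Sylow.coe_mapSurjective, ← Subgroup.map_commutator, Subgroup.map_eq_bot_iff,
    QuotientGroup.ker_mk'] at hq
  exact hq

theorem sub_cfg {p : ℕ} [Fact p.Prime] {G : Type u} [Group G] [Finite G] {P : Sylow p G}
    {N : Subgroup G} {C D : Set G} (h : Cfg p P N C D) (M : Subgroup G) (hMN : M ≤ N)
    (hPM : (P : Subgroup G) ≤ normalizer (M : Set G)) :
    Cfg p (P.subtype (le_sup_right : (P : Subgroup G) ≤ M ⊔ P))
      (M.subgroupOf (M ⊔ (P : Subgroup G)))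
      ((M ⊔ (P : Subgroup G)).subtype ⁻¹' C) ((M ⊔ (P : Subgroup G)).subtype ⁻¹' D) := by
  have hinj : Function.Injective (M ⊔ (P : Subgroup G)).subtype := Subgroup.subtype_injective _
  have hpre : ∀ E : Set G, Subgroup.closure E = (P : Subgroup G) →
      Subgroup.closure ((M ⊔ (P : Subgroup G)).subtype ⁻¹' E)
        = ((P.subtype (le_sup_right : (P : Subgroup G) ≤ M ⊔ P) : Sylow p ↥(M ⊔ (P : Subgroup G)))
          : Subgroup ↥(M ⊔ (P : Subgroup G))) := by
    intro E hE
    have hEP : E ⊆ (P : Subgroup G) := by rw [← hE]; exact Subgroup.subset_closure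
    apply Subgroup.map_injective hinj
    rw [MonoidHom.map_closure, Set.image_preimage_eq_inter_range, Sylow.coe_subtype,
      Subgroup.map_subgroupOf_eq_of_le le_sup_right]
    have h1 : E ∩ Set.range (M ⊔ (P : Subgroup G)).subtype = E := by
      apply Set.inter_eq_left.mpr
      intro c hc
      exact ⟨⟨c, (le_sup_right : (P : Subgroup G) ≤ M ⊔ P) (hEP hc)⟩, rfl⟩
    rw [h1, hE]
  refine ⟨?_, ?_, ?_, hpre C h.hC, hpre D h.hD, ?_⟩
  · rw [Subgroup.normal_subgroupOf_iff_le_normalizer le_sup_left]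
    exact sup_le Subgroup.le_normalizer hPM
  · have h1 : Nat.card (M.subgroupOf (M ⊔ (P : Subgroup G))) = Nat.card M :=
      Nat.card_congr (Subgroup.subgroupOfEquivOfLe le_sup_left).toEquiv
    rw [h1]; exact Nat.Coprime.coprime_dvd_left (Subgroup.card_dvd_of_le hMN) h.cop
  · rw [Sylow.coe_subtype, ← Subgroup.subgroupOf_sup le_sup_left le_sup_right,
      Subgroup.subgroupOf_self]
  · intro x hx c hc d hd
    have h1 := h.h (x : G) (hMN (Subgroup.mem_subgroupOf.mp hx)) (c : G) hc (d : G) hd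
    have h2 := h1.comap_of_injective (M ⊔ (P : Subgroup G)).subtype hinj
    refine h2.to_le ?_
    rw [Subgroup.closure_le]
    rintro y (rfl | rfl)
    · exact Subgroup.subset_closure (by simp)
    · exact Subgroup.subset_closure (by simp)

theorem sub_concl {p : ℕ} [Fact p.Prime] {G : Type u} [Group G] [Finite G] {P : Sylow p G}
    (M : Subgroup G)
    (hq : ⁅((P.subtype (le_sup_right : (P : Subgroup G) ≤ M ⊔ P)
        : Sylow p ↥(M ⊔ (P : Subgroup G))) : Subgroup ↥(M ⊔ (P : Subgroup G))),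
      M.subgroupOf (M ⊔ (P : Subgroup G))⁆ = ⊥) :
    ∀ y ∈ (P : Subgroup G), ∀ m ∈ M, y * m = m * y := by
  intro y hy m hm
  have h1 : ⁅(⟨y, (le_sup_right : (P : Subgroup G) ≤ M ⊔ P) hy⟩ : ↥(M ⊔ (P : Subgroup G))),
      ⟨m, (le_sup_left : M ≤ M ⊔ (P : Subgroup G)) hm⟩⁆
      ∈ ⁅((P.subtype (le_sup_right : (P : Subgroup G) ≤ M ⊔ P)
        : Sylow p ↥(M ⊔ (P : Subgroup G))) : Subgroup ↥(M ⊔ (P : Subgroup G))),
      M.subgroupOf (M ⊔ (P : Subgroup G))⁆ :=
    Subgroup.commutator_mem_commutator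
      (by rw [Sylow.coe_subtype]; exact Subgroup.mem_subgroupOf.mpr hy)
      (Subgroup.mem_subgroupOf.mpr hm)
  rw [hq, Subgroup.mem_bot, commutatorElement_eq_one_iff_mul_comm] at h1
  exact congrArg Subtype.val h1

section final
variable {p : ℕ} [Fact p.Prime] {G : Type u} [Group G] [Finite G] {P : Sylow p G}
  {N : Subgroup G} {C D : Set G}

theorem decomp (h : Cfg p P N C D) (c : G) (hc : c ∈ C) (d : G) (hd : d ∈ D) (x : G)
    (hx : x ∈ N) : ∃ u ∈ N, u * d = d * u ∧ (u⁻¹ * x) * c = c * (u⁻¹ * x) := by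
  haveI := h.nN
  have hpp : p.Prime := Fact.out
  have hPN : (P : Subgroup G) ⊓ N = ⊥ := by
    apply Subgroup.inf_eq_bot_of_coprime
    obtain ⟨k, hk⟩ := IsPGroup.iff_card.mp P.2
    rw [hk]; exact Nat.Coprime.pow_left k (Nat.Coprime.symm h.cop)
  have hcP : c ∈ (P : Subgroup G) := by rw [← h.hC]; exact Subgroup.subset_closure hc
  have hdP : d ∈ (P : Subgroup G) := by rw [← h.hD]; exact Subgroup.subset_closure hd
  obtain ⟨Q, hQ⟩ := (h.h x hx c hc d hd).exists_le_sylow
  obtain ⟨g, hg⟩ := MulAction.exists_smul_eq G Q P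
  have hconj : ∀ q ∈ Subgroup.closure ({x * c * x⁻¹, d} : Set G),
      g * q * g⁻¹ ∈ (P : Subgroup G) := by
    intro q hq
    rw [← hg, Sylow.coe_subgroup_smul]
    have h0 := Subgroup.smul_mem_pointwise_smul q (MulAut.conj g) (Q : Subgroup G) (hQ hq)
    simpa [MulAut.smul_def] using h0
  have hgtop : g⁻¹ ∈ N ⊔ (P : Subgroup G) := by rw [h.top]; exact Subgroup.mem_top _
  obtain ⟨u, hu, y, hy, huy⟩ := Subgroup.mem_sup_of_normal_left.mp hgtop
  have hg' : g = y⁻¹ * u⁻¹ := by rw [← inv_inv g, ← huy]; group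
  have hconj' : ∀ q ∈ Subgroup.closure ({x * c * x⁻¹, d} : Set G),
      u⁻¹ * q * u ∈ (P : Subgroup G) := by
    intro q hq
    have h1 := hconj q hq
    rw [hg'] at h1
    have h2 := (P : Subgroup G).mul_mem ((P : Subgroup G).mul_mem hy h1)
      ((P : Subgroup G).inv_mem hy)
    have e : y * (y⁻¹ * u⁻¹ * q * (y⁻¹ * u⁻¹)⁻¹) * y⁻¹ = u⁻¹ * q * u := by group
    rwa [e] at h2
  refine ⟨u, hu, ?_, ?_⟩
  · have h1 := hconj' d (Subgroup.subset_closure (by simp))
    have h2 : u⁻¹ * d * u * d⁻¹ ∈ (P : Subgroup G) ⊓ N := by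
      refine ⟨(P : Subgroup G).mul_mem h1 ((P : Subgroup G).inv_mem hdP), ?_⟩
      have e : u⁻¹ * d * u * d⁻¹ = u⁻¹ * (d * u * d⁻¹) := by group
      rw [e]
      exact N.mul_mem (N.inv_mem hu) (h.nN.conj_mem u hu d)
    rw [hPN, Subgroup.mem_bot] at h2
    have e : d * u = u * (u⁻¹ * d * u * d⁻¹) * d := by group
    rw [h2, mul_one] at e
    exact e.symm
  · have h1 := hconj' (x * c * x⁻¹) (Subgroup.subset_closure (by simp))
    have hv : u⁻¹ * x ∈ N := N.mul_mem (N.inv_mem hu) hx
    have h2 : u⁻¹ * (x * c * x⁻¹) * u * c⁻¹ ∈ (P : Subgroup G) ⊓ N := by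
      refine ⟨(P : Subgroup G).mul_mem h1 ((P : Subgroup G).inv_mem hcP), ?_⟩
      have e : u⁻¹ * (x * c * x⁻¹) * u * c⁻¹ = (u⁻¹ * x) * (c * (u⁻¹ * x)⁻¹ * c⁻¹) := by group
      rw [e]
      exact N.mul_mem hv (h.nN.conj_mem _ (N.inv_mem hv) c)
    rw [hPN, Subgroup.mem_bot] at h2
    have e : (u⁻¹ * x) * c = (u⁻¹ * (x * c * x⁻¹) * u * c⁻¹) * c * (u⁻¹ * x) := by group
    rw [h2, one_mul] at e
    exact e

/-- fixed points of conjugation by `y` on the normal subgroup `N` -/
def Fix (N : Subgroup G) [N.Normal] (y : G) : Subgroup ↥N where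
  carrier := {v | MulAut.conjNormal y v = v}
  mul_mem' := by
    intro a b ha hb
    simp only [Set.mem_ofPred_eq] at *
    rw [map_mul, ha, hb]
  one_mem' := by simp
  inv_mem' := by
    intro a ha
    simp only [Set.mem_ofPred_eq] at *
    rw [map_inv, ha]

theorem mem_Fix (N : Subgroup G) [N.Normal] (y : G) (v : ↥N) :
    v ∈ Fix N y ↔ y * (v : G) = (v : G) * y := by
  show MulAut.conjNormal y v = v ↔ _
  rw [Subtype.ext_iff, MulAut.conjNormal_apply]
  constructor
  · intro h
    calc y * (v : G) = (y * v * y⁻¹) * y := by group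
      _ = v * y := by rw [h]
  · intro h; rw [h]; group

theorem card_le_fix (h : Cfg p P N C D) [N.Normal] (c : G) (hc : c ∈ C) (d : G) (hd : d ∈ D) :
    Nat.card N ≤ Nat.card (Fix N d) * Nat.card (Fix N c) := by
  rw [← Nat.card_prod]
  apply Nat.card_le_card_of_surjective
    (fun q : ↥(Fix N d) × ↥(Fix N c) => (q.1 : ↥N) * (q.2 : ↥N))
  intro x
  obtain ⟨u, hu, h1, h2⟩ := decomp h c hc d hd (x : G) x.2
  refine ⟨(⟨⟨u, hu⟩, ?_⟩, ⟨⟨u⁻¹ * x, N.mul_mem (N.inv_mem hu) x.2⟩, ?_⟩), ?_⟩
  · rw [mem_Fix]; exact h1.symm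
  · rw [mem_Fix]; exact h2.symm
  · apply Subtype.ext; simp

theorem three_elim {V : Type*} [CommGroup V] (σ ζ : MulAut V)
    (hσζ : ∀ v, σ (ζ v) = ζ (σ v))
    (hζ : ∀ v, ζ v = v → v = 1) (hζ2 : ∀ v, ζ (ζ v) = v → v = 1)
    (a b c : V) (ha : σ a = a) (hb : σ b = ζ b) (hc : σ c = ζ (ζ c)) (h : a * b * c = 1) :
    a = 1 ∧ b = 1 ∧ c = 1 := by
  have h2 : a * ζ b * ζ (ζ c) = 1 := by
    have h0 := congrArg σ h
    rwa [map_mul, map_mul, ha, hb, hc, map_one] at h0
  have h3 : (ζ b / b) * (ζ (ζ c) / c) = 1 := by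
    rw [div_mul_div_comm, div_eq_one]
    have h0 : a * (ζ b * ζ (ζ c)) = a * (b * c) := by rw [← mul_assoc, ← mul_assoc, h, h2]
    exact mul_left_cancel h0
  have hb1 : σ (ζ b / b) = ζ (ζ b / b) := by rw [map_div, map_div, hσζ, hb]
  have hc1 : σ (ζ (ζ c) / c) = ζ (ζ (ζ (ζ c) / c)) := by
    rw [map_div σ, map_div ζ, map_div ζ, hσζ, hσζ, hc]
  have h4 : ζ (ζ b / b) * ζ (ζ (ζ (ζ c) / c)) = 1 := by
    have h0 := congrArg σ h3
    rwa [map_mul, hb1, hc1, map_one] at h0
  have h5 : ζ (ζ c) / c = (ζ b / b)⁻¹ := eq_inv_of_mul_eq_one_right h3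
  rw [h5, map_inv, map_inv, mul_inv_eq_one] at h4
  have h6 : ζ (ζ b / b) = ζ b / b := (ζ.injective h4).symm
  have h7 : ζ b / b = 1 := hζ _ h6
  have hb0 : b = 1 := hζ b (div_eq_one.mp h7)
  have h8 : ζ (ζ c) / c = 1 := by rw [h5, h7, inv_one]
  have hc0 : c = 1 := hζ2 c (div_eq_one.mp h8)
  refine ⟨?_, hb0, hc0⟩
  rw [hb0, hc0, mul_one, mul_one] at h; exact h

theorem three_fix' {V : Type*} [CommGroup V] [Finite V] (σ ζ γ : MulAut V)
    (hσζ : ∀ v, σ (ζ v) = ζ (σ v)) (hσγ : ∀ v, σ (γ v) = ζ (γ (σ v)))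
    (hγζ : ∀ v, γ (ζ v) = ζ (γ v))
    (hζ : ∀ v, ζ v = v → v = 1) (hζ2 : ∀ v, ζ (ζ v) = v → v = 1)
    (U : Subgroup V) (hU : ∀ v ∈ U, σ v = v) :
    Nat.card U ^ 3 ≤ Nat.card V := by
  have hinj : Function.Injective
      (fun q : ↥U × ↥U × ↥U => (q.1 : V) * γ (q.2.1 : V) * γ (γ (q.2.2 : V))) := by
    rintro ⟨u₀, u₁, u₂⟩ ⟨u₀', u₁', u₂'⟩ hq
    dsimp only at hq
    have h1 : ((u₀ : V) / u₀') * (γ ((u₁ : V) / u₁')) * (γ (γ ((u₂ : V) / u₂'))) = 1 := by
      rw [map_div, map_div, map_div, div_mul_div_comm, div_mul_div_comm, hq, div_self']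
    have ha : σ ((u₀ : V) / u₀') = (u₀ : V) / u₀' := by
      rw [map_div σ, hU _ u₀.2, hU _ u₀'.2]
    have hb : σ (γ ((u₁ : V) / u₁')) = ζ (γ ((u₁ : V) / u₁')) := by
      rw [hσγ, map_div σ, hU _ u₁.2, hU _ u₁'.2]
    have hc : σ (γ (γ ((u₂ : V) / u₂'))) = ζ (ζ (γ (γ ((u₂ : V) / u₂')))) := by
      rw [hσγ, hσγ, map_div σ, hU _ u₂.2, hU _ u₂'.2, hγζ]
    obtain ⟨e0, e1, e2⟩ := three_elim σ ζ hσζ hζ hζ2 _ _ _ ha hb hc h1
    have e1' : (u₁ : V) / u₁' = 1 := γ.injective (e1.trans (map_one γ).symm)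
    have e2' : (u₂ : V) / u₂' = 1 :=
      γ.injective (γ.injective (e2.trans (by rw [map_one, map_one])))
    rw [div_eq_one] at e0 e1' e2'
    exact Prod.ext (Subtype.ext e0) (Prod.ext (Subtype.ext e1') (Subtype.ext e2'))
  have h := Nat.card_le_card_of_injective _ hinj
  rw [Nat.card_prod, Nat.card_prod] at h
  calc Nat.card U ^ 3 = Nat.card U * (Nat.card U * Nat.card U) := by ring
    _ ≤ Nat.card V := h

theorem three_fix {V : Type*} [Group V] [Finite V] (hcomm : ∀ a b : V, a * b = b * a)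
    (σ ζ γ : MulAut V)
    (hσζ : ∀ v, σ (ζ v) = ζ (σ v)) (hσγ : ∀ v, σ (γ v) = ζ (γ (σ v)))
    (hγζ : ∀ v, γ (ζ v) = ζ (γ v))
    (hζ : ∀ v, ζ v = v → v = 1) (hζ2 : ∀ v, ζ (ζ v) = v → v = 1)
    (U : Subgroup V) (hU : ∀ v ∈ U, σ v = v) :
    Nat.card U ^ 3 ≤ Nat.card V := by
  letI : CommGroup V := { ‹Group V› with mul_comm := hcomm }
  exact three_fix' σ ζ γ hσζ hσγ hγζ hζ hζ2 U hU

theorem fix_bound [N.Normal] (hab : ∀ a ∈ N, ∀ b ∈ N, a * b = b * a) (g h z : G)
    (hz : z = h * g * h⁻¹ * g⁻¹) (hzh : h * z = z * h) (hzg : g * z = z * g)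
    (hfpf : ∀ v ∈ N, z * v = v * z → v = 1)
    (hfpf2 : ∀ v ∈ N, (z * z) * v = v * (z * z) → v = 1) :
    Nat.card (Fix N h) ^ 3 ≤ Nat.card N := by
  have hcomm : ∀ a b : ↥N, a * b = b * a := fun a b => Subtype.ext (hab a a.2 b b.2)
  refine three_fix hcomm (MulAut.conjNormal h) (MulAut.conjNormal z) (MulAut.conjNormal g)
    ?_ ?_ ?_ ?_ ?_ (Fix N h) ?_
  · intro v
    have h0 := congrArg (fun t => (MulAut.conjNormal t : MulAut ↥N) v) hzh
    simpa [map_mul, MulAut.mul_apply] using h0
  · intro v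
    have e : h * g = z * g * h := by rw [hz]; group
    have h0 := congrArg (fun t => (MulAut.conjNormal t : MulAut ↥N) v) e
    simpa [map_mul, MulAut.mul_apply] using h0
  · intro v
    have h0 := congrArg (fun t => (MulAut.conjNormal t : MulAut ↥N) v) hzg
    simpa [map_mul, MulAut.mul_apply] using h0
  · intro v hv
    have h1 := (mem_Fix N z v).mp hv
    exact Subtype.ext (hfpf v v.2 h1)
  · intro v hv
    have hv' : (MulAut.conjNormal (z * z) : MulAut ↥N) v = v := by
      rw [map_mul, MulAut.mul_apply]; exact hv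
    have h1 := (mem_Fix N (z * z) v).mp hv'
    exact Subtype.ext (hfpf2 v v.2 h1)
  · intro v hv; exact hv

theorem fpf_of_central (h : Cfg p P N C D)
    (hirr : ∀ W : Subgroup G, W ≤ N → (P : Subgroup G) ≤ normalizer (W : Set G) →
      W = ⊥ ∨ W = N)
    (hfaith : ∀ y ∈ (P : Subgroup G), (∀ m ∈ N, y * m = m * y) → y = 1)
    (z : G) (hzP : z ∈ (P : Subgroup G)) (hzc : ∀ y ∈ (P : Subgroup G), y * z = z * y)
    (hz1 : z ≠ 1) : ∀ v ∈ N, z * v = v * z → v = 1 := by
  haveI := h.nN
  have key : ∀ y ∈ (P : Subgroup G), ∀ w ∈ N ⊓ centralizer ({z} : Set G),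
      y * w * y⁻¹ ∈ N ⊓ centralizer ({z} : Set G) := by
    intro y hy w hw
    have h1 : w * z = z * w := mem_centralizer_singleton_iff.mp hw.2
    have h2 := hzc y hy
    have h3 : y⁻¹ * z = z * y⁻¹ := by
      calc y⁻¹ * z = y⁻¹ * (z * y) * y⁻¹ := by group
        _ = y⁻¹ * (y * z) * y⁻¹ := by rw [h2]
        _ = z * y⁻¹ := by group
    have h4 : y * w * y⁻¹ ∈ centralizer ({z} : Set G) := by
      rw [mem_centralizer_singleton_iff]
      calc y * w * y⁻¹ * z = y * w * (y⁻¹ * z) := by group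
        _ = y * w * (z * y⁻¹) := by rw [h3]
        _ = y * (w * z) * y⁻¹ := by group
        _ = y * (z * w) * y⁻¹ := by rw [h1]
        _ = (y * z) * w * y⁻¹ := by group
        _ = (z * y) * w * y⁻¹ := by rw [h2]
        _ = z * (y * w * y⁻¹) := by group
    exact ⟨h.nN.conj_mem w hw.1 y, h4⟩
  have hW : (P : Subgroup G) ≤ normalizer ((N ⊓ centralizer ({z} : Set G) : Subgroup G)
      : Set G) := by
    intro y hy
    rw [Subgroup.mem_normalizer_iff]
    intro w
    constructor
    · exact key y hy w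
    · intro hw
      have h0 := key y⁻¹ ((P : Subgroup G).inv_mem hy) _ hw
      have e : y⁻¹ * (y * w * y⁻¹) * y⁻¹⁻¹ = w := by group
      rwa [e] at h0
  rcases hirr _ inf_le_left hW with h0 | h0
  · intro v hv hzv
    have h1 : v ∈ N ⊓ centralizer ({z} : Set G) :=
      ⟨hv, mem_centralizer_singleton_iff.mpr hzv.symm⟩
    rw [h0, Subgroup.mem_bot] at h1; exact h1
  · exfalso
    apply hz1
    apply hfaith z hzP
    intro m hm
    have h1 : m ∈ N ⊓ centralizer ({z} : Set G) := by rw [h0]; exact hm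
    exact (mem_centralizer_singleton_iff.mp h1.2).symm

end final

section final2
variable {p : ℕ} [Fact p.Prime] {G : Type u} [Group G] [Finite G] {P : Sylow p G}
  {N : Subgroup G} {C D : Set G}

theorem exists_H (h : Cfg p P N C D) (hp3 : 3 ≤ p) [N.Normal]
    (hab : ∀ a ∈ N, ∀ b ∈ N, a * b = b * a)
    (hirr : ∀ W : Subgroup G, W ≤ N → (P : Subgroup G) ≤ normalizer (W : Set G) →
      W = ⊥ ∨ W = N)
    (hfaith : ∀ y ∈ (P : Subgroup G), (∀ m ∈ N, y * m = m * y) → y = 1)
    (hPne : (P : Subgroup G) ≠ ⊥) :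
    ∃ H : Subgroup G, H ≤ (P : Subgroup G) ∧ H ≠ (P : Subgroup G) ∧
      ∀ y ∈ (P : Subgroup G), y ∉ H → Nat.card (Fix N y) ^ 3 ≤ Nat.card N := by
  have hpp : p.Prime := Fact.out
  by_cases hPab : ∀ a ∈ (P : Subgroup G), ∀ b ∈ (P : Subgroup G), a * b = b * a
  · refine ⟨⊥, bot_le, fun h0 => hPne h0.symm, ?_⟩
    intro y hy hy1
    have hy1' : y ≠ 1 := fun h0 => hy1 (by rw [h0]; exact Subgroup.one_mem _)
    have hfpf := fpf_of_central h hirr hfaith y hy (fun b hb => hPab b hb y hy) hy1'
    have hbot : Fix N y = ⊥ := by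
      rw [Subgroup.eq_bot_iff_forall]
      intro v hv
      exact Subtype.ext (hfpf v v.2 ((mem_Fix N y v).mp hv))
    rw [hbot, Subgroup.card_bot, one_pow]
    exact Nat.card_pos
  · have hnil : Group.IsNilpotent ↥(P : Subgroup G) := P.2.isNilpotent
    obtain ⟨n, hn⟩ := hnil.nilpotent'
    have hnot : ¬ (Subgroup.upperCentralSeries ↥(P : Subgroup G) 2 ≤ center ↥(P : Subgroup G)) := by
      intro hle
      have hall : ∀ k, Subgroup.upperCentralSeries ↥(P : Subgroup G) (k + 1)
          ≤ center ↥(P : Subgroup G) := by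
        intro k
        induction k with
        | zero => rw [Subgroup.upperCentralSeries_one]
        | succ k ih =>
          intro x hx
          apply hle
          rw [Subgroup.mem_upperCentralSeries_succ_iff]
          intro y
          rw [Subgroup.upperCentralSeries_one]
          exact ih (Subgroup.mem_upperCentralSeries_succ_iff.mp hx y)
      have htop : (⊤ : Subgroup ↥(P : Subgroup G)) ≤ center ↥(P : Subgroup G) := by
        rcases n with _ | n
        · rw [Subgroup.upperCentralSeries_zero] at hn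
          rw [← hn]; exact bot_le
        · rw [← hn]; exact hall n
      apply hPab
      intro a ha b hb
      have h0 := Subgroup.mem_center_iff.mp
        (htop (Subgroup.mem_top (⟨b, hb⟩ : ↥(P : Subgroup G)))) ⟨a, ha⟩
      exact congrArg Subtype.val h0
    obtain ⟨g, hg2, hgc⟩ := SetLike.not_le_iff_exists.mp hnot
    refine ⟨(P : Subgroup G) ⊓ centralizer ({(g : G)} : Set G), inf_le_left, ?_, ?_⟩
    · intro heq
      apply hgc
      rw [Subgroup.mem_center_iff]
      intro y
      have h0 : (y : G) ∈ (P : Subgroup G) ⊓ centralizer ({(g : G)} : Set G) := by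
        rw [heq]; exact y.2
      exact Subtype.ext (mem_centralizer_singleton_iff.mp h0.2)
    · intro y hy hyH
      have hyg : y * (g : G) ≠ (g : G) * y := by
        intro h0
        exact hyH ⟨hy, mem_centralizer_singleton_iff.mpr h0⟩
      have hzc0 : ⁅g, (⟨y, hy⟩ : ↥(P : Subgroup G))⁆ ∈ center ↥(P : Subgroup G) := by
        have h0 := Subgroup.mem_upperCentralSeries_succ_iff.mp hg2 (⟨y, hy⟩ : ↥(P : Subgroup G))
        rwa [Subgroup.upperCentralSeries_one] at h0
      have hzc1 : ⁅(⟨y, hy⟩ : ↥(P : Subgroup G)), g⁆ ∈ center ↥(P : Subgroup G) := by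
        rw [← commutatorElement_inv]
        exact Subgroup.inv_mem _ hzc0
      obtain ⟨z, hz⟩ : ∃ z : G, z = y * (g : G) * y⁻¹ * (g : G)⁻¹ := ⟨_, rfl⟩
      have hzP : z ∈ (P : Subgroup G) := by
        rw [hz]
        exact (P : Subgroup G).mul_mem ((P : Subgroup G).mul_mem ((P : Subgroup G).mul_mem hy g.2)
          ((P : Subgroup G).inv_mem hy)) ((P : Subgroup G).inv_mem g.2)
      have hzc : ∀ q ∈ (P : Subgroup G), q * z = z * q := by
        intro q hq
        have h0 := Subgroup.mem_center_iff.mp hzc1 ⟨q, hq⟩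
        rw [hz]
        exact congrArg Subtype.val h0
      have hz1 : z ≠ 1 := by
        intro h0
        apply hyg
        have e : y * (g : G) = (y * (g : G) * y⁻¹ * (g : G)⁻¹) * ((g : G) * y) := by group
        rw [← hz, h0, one_mul] at e
        exact e
      have hzz1 : z * z ≠ 1 := by
        intro h0
        apply hz1
        obtain ⟨k, hk⟩ := P.2 ⟨z, hzP⟩
        have hk' : z ^ (p ^ k) = 1 := by
          have h1 := congrArg Subtype.val hk
          simpa using h1
        have h2 : z ^ 2 = 1 := by rw [pow_two]; exact h0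
        have d1 := orderOf_dvd_of_pow_eq_one hk'
        have d2 := orderOf_dvd_of_pow_eq_one h2
        have hcop : Nat.Coprime (p ^ k) 2 := by
          apply Nat.Coprime.pow_left
          rw [Nat.coprime_primes hpp Nat.prime_two]; omega
        have d3 : orderOf z ∣ 1 := by
          have h3 := Nat.dvd_gcd d1 d2
          rwa [hcop.gcd_eq_one] at h3
        exact orderOf_eq_one_iff.mp (Nat.dvd_one.mp d3)
      have hzzP := (P : Subgroup G).mul_mem hzP hzP
      have hzzc : ∀ q ∈ (P : Subgroup G), q * (z * z) = (z * z) * q := by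
        intro q hq
        calc q * (z * z) = (q * z) * z := by rw [mul_assoc]
          _ = (z * q) * z := by rw [hzc q hq]
          _ = z * (q * z) := by rw [mul_assoc]
          _ = z * (z * q) := by rw [hzc q hq]
          _ = (z * z) * q := by rw [mul_assoc]
      exact fix_bound hab (g : G) y z hz (hzc y hy) (hzc g g.2)
        (fpf_of_central h hirr hfaith z hzP hzc hz1)
        (fpf_of_central h hirr hfaith (z * z) hzzP hzzc hzz1)

theorem final (hp3 : 3 ≤ p) (h : Cfg p P N C D) (hab : ∀ a ∈ N, ∀ b ∈ N, a * b = b * a)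
    (hirr : ∀ W : Subgroup G, W ≤ N → (P : Subgroup G) ≤ normalizer (W : Set G) →
      W = ⊥ ∨ W = N)
    (hfaith : ∀ y ∈ (P : Subgroup G), (∀ m ∈ N, y * m = m * y) → y = 1)
    (hPne : (P : Subgroup G) ≠ ⊥) (hNne : N ≠ ⊥) : False := by
  haveI := h.nN
  obtain ⟨H, hHP, hHne, hH⟩ := exists_H h hp3 hab hirr hfaith hPne
  have hexC : ∃ c ∈ C, c ∉ H := by
    by_contra hcon
    push_neg at hcon
    apply hHne
    apply le_antisymm hHP
    rw [← h.hC, Subgroup.closure_le]; exact hcon
  have hexD : ∃ d ∈ D, d ∉ H := by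
    by_contra hcon
    push_neg at hcon
    apply hHne
    apply le_antisymm hHP
    rw [← h.hD, Subgroup.closure_le]; exact hcon
  obtain ⟨c, hc, hcH⟩ := hexC
  obtain ⟨d, hd, hdH⟩ := hexD
  have hcP : c ∈ (P : Subgroup G) := by rw [← h.hC]; exact Subgroup.subset_closure hc
  have hdP : d ∈ (P : Subgroup G) := by rw [← h.hD]; exact Subgroup.subset_closure hd
  have h1 := card_le_fix h c hc d hd
  have h2 := hH c hcP hcH
  have h3 := hH d hdP hdH
  have hn : Nat.card N ≤ 1 := by
    by_contra hgt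
    have hn2 : 2 ≤ Nat.card N := by omega
    have h4 : Nat.card N ^ 3 ≤ (Nat.card (Fix N d) * Nat.card (Fix N c)) ^ 3 :=
      Nat.pow_le_pow_left h1 3
    have h5 : (Nat.card (Fix N d) * Nat.card (Fix N c)) ^ 3 ≤ Nat.card N * Nat.card N := by
      rw [mul_pow]; exact Nat.mul_le_mul h3 h2
    have h6 : Nat.card N ^ 3 ≤ Nat.card N * Nat.card N := le_trans h4 h5
    have h7 : Nat.card N * Nat.card N * 2 ≤ Nat.card N ^ 3 := by
      calc Nat.card N * Nat.card N * 2 ≤ Nat.card N * Nat.card N * Nat.card N :=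
            Nat.mul_le_mul_left _ hn2
        _ = Nat.card N ^ 3 := by ring
    have h8 : 0 < Nat.card N * Nat.card N := by positivity
    omega
  exact hNne (Subgroup.eq_bot_of_card_le N hn)

end final2

theorem main (p : ℕ) [Fact p.Prime] (hp3 : 3 ≤ p) : ∀ n : ℕ, ∀ (G : Type u) [Group G] [Finite G]
    (P : Sylow p G) (N : Subgroup G) (C D : Set G), Cfg p P N C D →
    Nat.card N + Nat.card (P : Subgroup G) = n → ⁅(P : Subgroup G), N⁆ = ⊥ := by
  intro n
  induction n using Nat.strong_induction_on with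
  | _ n ih =>
    intro G _ _ P N C D h hn
    by_contra hne
    haveI := h.nN
    have hpp : p.Prime := Fact.out
    have hS1 : ∀ (M : Subgroup G) [M.Normal],
        Nat.card (N.map (QuotientGroup.mk' M))
          + Nat.card ((P : Subgroup G).map (QuotientGroup.mk' M))
          < Nat.card N + Nat.card (P : Subgroup G) → ⁅(P : Subgroup G), N⁆ ≤ M := by
      intro M hM hlt
      have hq := quot_cfg h M
      have h0 := ih _ (by rw [Sylow.coe_mapSurjective, ← hn]; exact hlt) (G ⧸ M)
        (P.mapSurjective (QuotientGroup.mk'_surjective M)) _ _ _ hq rfl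
      exact quot_concl M h0
    have hS2 : ∀ M : Subgroup G, M ≤ N → (P : Subgroup G) ≤ normalizer (M : Set G) → M ≠ N →
        ∀ y ∈ (P : Subgroup G), ∀ m ∈ M, y * m = m * y := by
      intro M hMN hPM hMne
      have hs := sub_cfg h M hMN hPM
      have hc1 : Nat.card (M.subgroupOf (M ⊔ (P : Subgroup G))) = Nat.card M :=
        Nat.card_congr (Subgroup.subgroupOfEquivOfLe le_sup_left).toEquiv
      have hc2 : Nat.card ((P.subtype (le_sup_right : (P : Subgroup G) ≤ M ⊔ P)
          : Sylow p ↥(M ⊔ (P : Subgroup G))) : Subgroup ↥(M ⊔ (P : Subgroup G)))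
          = Nat.card (P : Subgroup G) := by
        rw [Sylow.coe_subtype]
        exact Nat.card_congr (Subgroup.subgroupOfEquivOfLe le_sup_right).toEquiv
      have hlt : Nat.card M < Nat.card N := by
        apply lt_of_le_of_ne (Subgroup.card_le_of_le hMN)
        intro heq
        exact hMne (Subgroup.eq_of_le_of_card_ge hMN heq.ge)
      have h0 := ih _ (by rw [hc1, hc2, ← hn]; omega) ↥(M ⊔ (P : Subgroup G)) _ _ _ _ hs rfl
      exact sub_concl M h0
    have hcopPN : (Nat.card (P : Subgroup G)).Coprime (Nat.card N) := by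
      obtain ⟨k, hk⟩ := IsPGroup.iff_card.mp P.2
      rw [hk]; exact Nat.Coprime.pow_left k (Nat.Coprime.symm h.cop)
    have hPN : (P : Subgroup G) ⊓ N = ⊥ := Subgroup.inf_eq_bot_of_coprime hcopPN
    have hPnorm : (P : Subgroup G) ≤ normalizer (N : Set G) := by
      rw [Subgroup.normalizer_eq_top]; exact le_top
    have hsolvP : Group.IsSolvable ↥(P : Subgroup G) := by
      haveI := P.2.isNilpotent
      infer_instance
    have hNne : N ≠ ⊥ := by
      intro h0; apply hne; rw [h0]; exact Subgroup.commutator_bot_right _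
    have hPne : (P : Subgroup G) ≠ ⊥ := by
      intro h0; apply hne; rw [h0]; exact Subgroup.commutator_bot_left _
    have hcent : (∀ y ∈ (P : Subgroup G), ∀ m ∈ N, y * m = m * y) → False := by
      intro hall
      apply hne
      rw [Subgroup.commutator_eq_bot_iff_le_centralizer]
      intro y hy
      rw [Subgroup.mem_centralizer_iff]
      intro m hm
      exact (hall y hy m hm).symm
    have hA1 : ∀ M : Subgroup G, M.Normal → M ≤ N → M ≠ ⊥ → M ≠ N → False := by
      intro M hM hMN hM0 hMne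
      haveI := hM
      have hcard := Cfsg.Agent.S0003.card_map_mk N M
      rw [inf_of_le_right hMN] at hcard
      have hM2 : 2 ≤ Nat.card M := by
        by_contra hlt
        have h0 : Nat.card M ≤ 1 := by omega
        exact hM0 (Subgroup.eq_bot_of_card_le M h0)
      have hpos : 0 < Nat.card (N.map (QuotientGroup.mk' M)) := Nat.card_pos
      have hlt : Nat.card (N.map (QuotientGroup.mk' M)) < Nat.card N := by nlinarith
      have hle : Nat.card ((P : Subgroup G).map (QuotientGroup.mk' M))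
          ≤ Nat.card (P : Subgroup G) :=
        Nat.le_of_dvd Nat.card_pos (Subgroup.card_map_dvd _ _)
      have h1 := hS1 M (by omega)
      have h2 := hS2 M hMN (by rw [Subgroup.normalizer_eq_top]; exact le_top) hMne
      have h3 : ⁅⁅N, (P : Subgroup G)⁆, (P : Subgroup G)⁆ = ⊥ := by
        rw [eq_bot_iff]
        have hle1 : ⁅N, (P : Subgroup G)⁆ ≤ M := by rw [Subgroup.commutator_comm]; exact h1
        refine le_trans (Subgroup.commutator_mono hle1 le_rfl) ?_
        rw [Subgroup.commutator_le]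
        intro m hm y hy
        rw [Subgroup.mem_bot, commutatorElement_eq_one_iff_mul_comm]
        exact (h2 y hy m hm).symm
      have h4 := Cfsg.Agent.S0027.result (P : Subgroup G) N hPnorm hcopPN (Or.inl hsolvP)
      rw [h3] at h4
      apply hne
      rw [Subgroup.commutator_comm]; exact h4.symm
    have hab : ∀ a ∈ N, ∀ b ∈ N, a * b = b * a := by
      have hex : ∃ r : ℕ, r.Prime ∧ IsPGroup r ↥N := by
        by_contra hcon
        push_neg at hcon
        apply hcent
        have hdvd : Nat.card N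
            ∣ Nat.card (N ⊓ centralizer ((P : Subgroup G) : Set G) : Subgroup G) := by
          rw [Nat.dvd_iff_prime_pow_dvd_dvd]
          intro r k hr hrk
          haveI : Fact r.Prime := ⟨hr⟩
          obtain ⟨R, -, hR⟩ := Cfsg.Agent.S0025.result (P : Subgroup G) N hPnorm hcopPN
            (Or.inl hsolvP) r ⊥ bot_le IsPGroup.of_bot
            (by rw [Subgroup.normalizer_eq_top]; exact le_top)
          have hRne : (R : Subgroup ↥N).map N.subtype ≠ N := by
            intro heq
            apply hcon r hr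
            have hRtop : (R : Subgroup ↥N) = ⊤ := by
              apply Subgroup.map_injective N.subtype_injective
              rw [heq, ← MonoidHom.range_eq_map, Subgroup.range_subtype]
            intro g
            obtain ⟨j, hj⟩ := R.2 ⟨g, by rw [hRtop]; exact Subgroup.mem_top g⟩
            exact ⟨j, by simpa using congrArg Subtype.val hj⟩
          have hRc := hS2 _ (Subgroup.map_subtype_le _) hR hRne
          have hRle : (R : Subgroup ↥N).map N.subtype
              ≤ N ⊓ centralizer ((P : Subgroup G) : Set G) := by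
            intro m hm
            have hmc : m ∈ centralizer ((P : Subgroup G) : Set G) := by
              rw [Subgroup.mem_centralizer_iff]
              intro y hy
              exact hRc y hy m hm
            exact ⟨Subgroup.map_subtype_le _ hm, hmc⟩
          have hRcard : Nat.card ((R : Subgroup ↥N).map N.subtype)
              = r ^ (Nat.card N).factorization r := by
            rw [Subgroup.card_map_of_injective N.subtype_injective, Sylow.card_eq_multiplicity]
          have h1 : r ^ k ∣ r ^ (Nat.card N).factorization r :=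
            pow_dvd_pow r ((hr.pow_dvd_iff_le_factorization Nat.card_pos.ne').mp hrk)
          rw [← hRcard] at h1
          exact dvd_trans h1 (Subgroup.card_dvd_of_le hRle)
        have heq : N ⊓ centralizer ((P : Subgroup G) : Set G) = N :=
          (Subgroup.eq_of_le_of_card_ge inf_le_left (Nat.le_of_dvd Nat.card_pos hdvd))
        intro y hy m hm
        have h0 : m ∈ N ⊓ centralizer ((P : Subgroup G) : Set G) := by rw [heq]; exact hm
        exact (Subgroup.mem_centralizer_iff.mp h0.2 y hy)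
      obtain ⟨r, hr, hNr⟩ := hex
      haveI : Fact r.Prime := ⟨hr⟩
      have hcomm : ⁅N, N⁆ = ⊥ := by
        by_contra hc0
        apply hA1 ⁅N, N⁆ inferInstance (Subgroup.commutator_le_left N N) hc0
        intro heq
        haveI : Group.IsNilpotent ↥N := hNr.isNilpotent
        haveI : Nontrivial ↥N := (Subgroup.nontrivial_iff_ne_bot N).mpr hNne
        have hlt := Group.IsSolvable.commutator_lt_top_of_nontrivial ↥N
        apply hlt.ne
        apply Subgroup.map_injective N.subtype_injective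
        rw [Subgroup.map_subtype_commutator, heq, ← MonoidHom.range_eq_map,
          Subgroup.range_subtype]
      intro a ha b hb
      have h0 : ⁅a, b⁆ ∈ ⁅N, N⁆ := Subgroup.commutator_mem_commutator ha hb
      rw [hcomm, Subgroup.mem_bot, commutatorElement_eq_one_iff_mul_comm] at h0
      exact h0
    have hfix : ∀ m ∈ N, ∀ x ∈ N, m * x * m⁻¹ = x := by
      intro m hm x hx; rw [hab m hm x hx]; group
    have hirr : ∀ W : Subgroup G, W ≤ N → (P : Subgroup G) ≤ normalizer (W : Set G) →
        W = ⊥ ∨ W = N := by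
      intro W hWN hPW
      by_contra hcon
      push_neg at hcon
      have hWn : W.Normal := by
        rw [← Subgroup.normalizer_eq_top_iff, eq_top_iff, ← h.top]
        refine sup_le ?_ hPW
        intro m hm
        rw [Subgroup.mem_normalizer_iff]
        intro w
        constructor
        · intro hw
          rw [hfix m hm w (hWN hw)]; exact hw
        · intro hw
          have hx := hWN hw
          have e : w = m⁻¹ * (m * w * m⁻¹) * m⁻¹⁻¹ := by group
          rw [e, hfix m⁻¹ (N.inv_mem hm) _ hx]; exact hw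
      exact hA1 W hWn hWN hcon.1 hcon.2
    have hfaith : ∀ y ∈ (P : Subgroup G), (∀ m ∈ N, y * m = m * y) → y = 1 := by
      intro y hy hyc
      by_contra hy1
      have hKn : ((P : Subgroup G) ⊓ centralizer (N : Set G)).Normal := by
        constructor
        intro k hk g
        have hgtop : g ∈ N ⊔ (P : Subgroup G) := by rw [h.top]; exact Subgroup.mem_top _
        obtain ⟨m, hm, q, hq, rfl⟩ := Subgroup.mem_sup_of_normal_left.mp hgtop
        have hC : (centralizer (N : Set G)).Normal := inferInstance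
        have h1 : q * k * q⁻¹ ∈ centralizer (N : Set G) := hC.conj_mem k hk.2 q
        have h2 : m * (q * k * q⁻¹) * m⁻¹ = q * k * q⁻¹ := by
          have h0 := Subgroup.mem_centralizer_iff.mp h1 m hm
          rw [h0]; group
        have e : m * q * k * (m * q)⁻¹ = m * (q * k * q⁻¹) * m⁻¹ := by group
        rw [e, h2]
        exact ⟨(P : Subgroup G).mul_mem ((P : Subgroup G).mul_mem hq hk.1)
          ((P : Subgroup G).inv_mem hq), h1⟩
      have hyK : y ∈ (P : Subgroup G) ⊓ centralizer (N : Set G) := by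
        refine ⟨hy, ?_⟩
        show y ∈ centralizer (N : Set G)
        rw [Subgroup.mem_centralizer_iff]
        intro m hm
        exact (hyc m hm).symm
      have hK2 : 2 ≤ Nat.card ((P : Subgroup G) ⊓ centralizer (N : Set G) : Subgroup G) := by
        by_contra hlt
        have h0 : Nat.card ((P : Subgroup G) ⊓ centralizer (N : Set G) : Subgroup G) ≤ 1 := by
          omega
        have h1 := Subgroup.eq_bot_of_card_le _ h0
        rw [h1, Subgroup.mem_bot] at hyK
        exact hy1 hyK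
      haveI := hKn
      have hcard := Cfsg.Agent.S0003.card_map_mk (P : Subgroup G)
        ((P : Subgroup G) ⊓ centralizer (N : Set G))
      rw [inf_of_le_right (inf_le_left : (P : Subgroup G) ⊓ centralizer (N : Set G) ≤ P)]
        at hcard
      have hpos : 0 < Nat.card ((P : Subgroup G).map
          (QuotientGroup.mk' ((P : Subgroup G) ⊓ centralizer (N : Set G)))) := Nat.card_pos
      have hlt : Nat.card ((P : Subgroup G).map
          (QuotientGroup.mk' ((P : Subgroup G) ⊓ centralizer (N : Set G))))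
          < Nat.card (P : Subgroup G) := by nlinarith
      have hle : Nat.card (N.map
          (QuotientGroup.mk' ((P : Subgroup G) ⊓ centralizer (N : Set G)))) ≤ Nat.card N :=
        Nat.le_of_dvd Nat.card_pos (Subgroup.card_map_dvd _ _)
      have h1 := hS1 ((P : Subgroup G) ⊓ centralizer (N : Set G)) (by omega)
      have h2 : ⁅(P : Subgroup G), N⁆ ≤ N := Subgroup.commutator_le_right (P : Subgroup G) N
      apply hne
      rw [eq_bot_iff, ← hPN]
      exact le_inf (le_trans h1 inf_le_left) h2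
    exact final hp3 h hab hirr hfaith hPne hNne

theorem result {G : Type*} [Group G] [Finite G] (p : ℕ) [Fact p.Prime] (hp3 : 3 ≤ p) (P : Sylow p G)
    (N : Subgroup G) [N.Normal] (hN : (Nat.card N).Coprime p) (hNP : N ⊔ (P : Subgroup G) = ⊤)
    (C D : Set G) (hC : Subgroup.closure C = (P : Subgroup G)) (hD : Subgroup.closure D = (P : Subgroup G))
    (h : ∀ x ∈ N, ∀ c ∈ C, ∀ d ∈ D, IsPGroup p ↥(Subgroup.closure ({x * c * x⁻¹, d} : Set G))) :
    ⁅(P : Subgroup G), N⁆ = ⊥ := by
  exact main p hp3 _ G P N C D ⟨inferInstance, hN, hNP, hC, hD, h⟩ rfl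

end Cfsg.Agent.S2277
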