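import Cfsg.Statements.S2325
import Mathlib

set_option autoImplicit false
open Cfsg

namespace Cfsg.Agent.S2325

open Matrix

theorem card_class_mul_card_centralizer {G : Type*} [Group G] [Finite G] (g : G) :
    Nat.card (ConjClasses.mk g).carrier * Nat.card (Subgroup.centralizer ({g} : Set G)) =
      Nat.card G := by
  classical
  have := Fintype.ofFinite G
  rw [Subgroup.nat_card_centralizer_nat_card_stabilizer, ← ConjAct.orbit_eq_carrier_conjClasses]
  have h := MulAction.card_orbit_mul_card_stabilizer_eq_card_group (ConjAct G) g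
  simp only [← Nat.card_eq_fintype_card] at h
  exact h

theorem card_SL2 {F : Type*} [Field F] [Fintype F] :
    Nat.card (Matrix.SpecialLinearGroup (Fin 2) F) =
      Fintype.card F * (Fintype.card F ^ 2 - 1) := by
  classical
  have hGL := Matrix.card_GL_field (𝔽 := F) 2
  rw [Fin.prod_univ_two] at hGL
  simp only [Fin.val_zero, Fin.val_one, pow_zero, pow_one] at hGL
  have hsurj : Function.Surjective (Matrix.GeneralLinearGroup.det : GL (Fin 2) F →* Fˣ) := by
    intro a
    refine ⟨Matrix.GeneralLinearGroup.mkOfDetNeZero !![(a : F), 0; 0, 1]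
      (by simp [Matrix.det_fin_two_of]), ?_⟩
    apply Units.ext
    simp [Matrix.GeneralLinearGroup.mkOfDetNeZero, Matrix.det_fin_two_of]
  have hker : Nat.card (Matrix.GeneralLinearGroup.det : GL (Fin 2) F →* Fˣ).ker =
      Nat.card (Matrix.SpecialLinearGroup (Fin 2) F) := by
    symm
    apply Nat.card_congr
    refine Equiv.ofBijective (fun g => ⟨Matrix.SpecialLinearGroup.toGL g, ?_⟩) ⟨?_, ?_⟩
    · rw [MonoidHom.mem_ker]
      apply Units.ext
      simp
    · intro g h hgh
      exact Matrix.SpecialLinearGroup.toGL_injective (congrArg Subtype.val hgh)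
    · rintro ⟨x, hx⟩
      rw [MonoidHom.mem_ker] at hx
      have hx' : (x : Matrix (Fin 2) (Fin 2) F).det = 1 := by
        have := congrArg Units.val hx
        simpa using this
      refine ⟨⟨(x : Matrix (Fin 2) (Fin 2) F), hx'⟩, ?_⟩
      apply Subtype.ext
      apply Units.ext
      rfl
  have h1 := Subgroup.card_eq_card_quotient_mul_card_subgroup
    (Matrix.GeneralLinearGroup.det : GL (Fin 2) F →* Fˣ).ker
  have h2 : Nat.card (GL (Fin 2) F ⧸ (Matrix.GeneralLinearGroup.det : GL (Fin 2) F →* Fˣ).ker) =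
      Nat.card Fˣ := Nat.card_congr (QuotientGroup.quotientKerEquivOfSurjective _ hsurj).toEquiv
  rw [h2, hker, Nat.card_units, Nat.card_eq_fintype_card (α := F), hGL] at h1
  have hq : 1 < Fintype.card F := Fintype.one_lt_card
  have e : Fintype.card F ^ 2 - Fintype.card F = (Fintype.card F - 1) * Fintype.card F := by
    rw [Nat.sub_mul, one_mul, sq]
  rw [e] at h1
  have h3 : (Fintype.card F - 1) * Nat.card (Matrix.SpecialLinearGroup (Fin 2) F) =
      (Fintype.card F - 1) * (Fintype.card F * (Fintype.card F ^ 2 - 1)) := by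
    rw [← h1]; ring
  exact Nat.eq_of_mul_eq_mul_left (by omega) h3

/-- the upper unitriangular element -/
def uu {F : Type*} [Field F] (b : F) : Matrix.SpecialLinearGroup (Fin 2) F :=
  ⟨!![1, b; 0, 1], by simp [Matrix.det_fin_two_of]⟩

theorem uu_val {F : Type*} [Field F] (b : F) :
    ((uu b : Matrix.SpecialLinearGroup (Fin 2) F) : Matrix (Fin 2) (Fin 2) F) = !![1, b; 0, 1] := rfl

theorem sl2_conj_iff {F : Type*} [Field F] (g h : Matrix.SpecialLinearGroup (Fin 2) F) :
    IsConj g h ↔ ∃ x : Matrix.SpecialLinearGroup (Fin 2) F, x * g = h * x := by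
  rw [isConj_iff]
  constructor
  · rintro ⟨x, hx⟩
    exact ⟨x, mul_inv_eq_iff_eq_mul.1 hx⟩
  · rintro ⟨x, hx⟩
    exact ⟨x, mul_inv_eq_iff_eq_mul.2 hx⟩

theorem sl2_det {F : Type*} [Field F] (x : Matrix.SpecialLinearGroup (Fin 2) F) :
    (x : Matrix (Fin 2) (Fin 2) F) 0 0 * (x : Matrix (Fin 2) (Fin 2) F) 1 1 -
      (x : Matrix (Fin 2) (Fin 2) F) 0 1 * (x : Matrix (Fin 2) (Fin 2) F) 1 0 = 1 := by
  have h := x.2
  rw [Matrix.det_fin_two] at h
  exact h

theorem sl2_ext {F : Type*} [Field F] (g h : Matrix.SpecialLinearGroup (Fin 2) F)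
    (h00 : (g : Matrix (Fin 2) (Fin 2) F) 0 0 = (h : Matrix (Fin 2) (Fin 2) F) 0 0)
    (h01 : (g : Matrix (Fin 2) (Fin 2) F) 0 1 = (h : Matrix (Fin 2) (Fin 2) F) 0 1)
    (h10 : (g : Matrix (Fin 2) (Fin 2) F) 1 0 = (h : Matrix (Fin 2) (Fin 2) F) 1 0)
    (h11 : (g : Matrix (Fin 2) (Fin 2) F) 1 1 = (h : Matrix (Fin 2) (Fin 2) F) 1 1) : g = h := by
  apply Subtype.ext
  ext i j
  fin_cases i <;> fin_cases j <;> assumption

theorem uu_conj {F : Type*} [Field F] (b b' : F) (hb : b ≠ 0) (hb' : b' ≠ 0) :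
    IsConj (uu b) (uu b') ↔ IsSquare (b * b') := by
  rw [sl2_conj_iff]
  constructor
  · rintro ⟨x, hx⟩
    have hd := sl2_det x
    have e00 := congrArg (fun m : Matrix.SpecialLinearGroup (Fin 2) F =>
      (m : Matrix (Fin 2) (Fin 2) F) 0 0) hx
    have e01 := congrArg (fun m : Matrix.SpecialLinearGroup (Fin 2) F =>
      (m : Matrix (Fin 2) (Fin 2) F) 0 1) hx
    simp [uu_val, Matrix.SpecialLinearGroup.coe_mul, Matrix.mul_apply, Fin.sum_univ_two] at e00 e01
    rcases e00 with e00 | e00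
    · exact absurd e00 hb'
    · rw [e00, mul_zero, sub_zero] at hd
      refine ⟨(x : Matrix (Fin 2) (Fin 2) F) 0 0 * b, ?_⟩
      linear_combination (-b * b') * hd - (b * (x : Matrix (Fin 2) (Fin 2) F) 0 0) * e01
  · rintro ⟨s, hs⟩
    have hs0 : s ≠ 0 := by
      rintro rfl
      simp at hs
      rcases hs with h | h
      · exact hb h
      · exact hb' h
    obtain ⟨x, hx⟩ : ∃ x : Matrix.SpecialLinearGroup (Fin 2) F,
        (x : Matrix (Fin 2) (Fin 2) F) = !![s / b, 0; 0, b / s] :=
      ⟨⟨_, by rw [Matrix.det_fin_two_of]; field_simp; ring⟩, rfl⟩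
    refine ⟨x, ?_⟩
    apply sl2_ext <;> simp [uu_val, hx, Matrix.SpecialLinearGroup.coe_mul, Matrix.mul_apply, Fin.sum_univ_two]
    field_simp
    linear_combination -hs

theorem trace2_conj {F : Type*} [Field F] (g : Matrix.SpecialLinearGroup (Fin 2) F)
    (htr : (g : Matrix (Fin 2) (Fin 2) F) 0 0 + (g : Matrix (Fin 2) (Fin 2) F) 1 1 = 2)
    (hne : g ≠ 1) : ∃ b : F, b ≠ 0 ∧ IsConj (uu b) g := by
  have hd := sl2_det g
  by_cases hc : (g : Matrix (Fin 2) (Fin 2) F) 1 0 = 0
  · rw [hc, mul_zero, sub_zero] at hd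
    have ha : (g : Matrix (Fin 2) (Fin 2) F) 0 0 = 1 := by
      have : ((g : Matrix (Fin 2) (Fin 2) F) 0 0 - 1) * ((g : Matrix (Fin 2) (Fin 2) F) 0 0 - 1) = 0 := by
        linear_combination (g : Matrix (Fin 2) (Fin 2) F) 0 0 * htr - hd
      exact sub_eq_zero.1 (mul_self_eq_zero.1 this)
    have hdd : (g : Matrix (Fin 2) (Fin 2) F) 1 1 = 1 := by
      rw [ha] at htr
      linear_combination htr
    have hgu : g = uu ((g : Matrix (Fin 2) (Fin 2) F) 0 1) := by
      apply sl2_ext <;> simp [uu_val, ha, hc, hdd]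
    refine ⟨(g : Matrix (Fin 2) (Fin 2) F) 0 1, ?_, ?_⟩
    · intro h0
      apply hne
      rw [hgu, h0]
      apply sl2_ext <;> simp [uu_val]
    · rw [← hgu]
  · obtain ⟨x, hx⟩ : ∃ x : Matrix.SpecialLinearGroup (Fin 2) F,
        (x : Matrix (Fin 2) (Fin 2) F) = !![(g : Matrix (Fin 2) (Fin 2) F) 0 0 - 1,
          -((g : Matrix (Fin 2) (Fin 2) F) 1 0)⁻¹; (g : Matrix (Fin 2) (Fin 2) F) 1 0, 0] :=
      ⟨⟨_, by rw [Matrix.det_fin_two_of]; field_simp; ring⟩, rfl⟩
    refine ⟨-((g : Matrix (Fin 2) (Fin 2) F) 1 0)⁻¹, by simpa using hc, ?_⟩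
    rw [sl2_conj_iff]
    refine ⟨x, ?_⟩
    apply sl2_ext <;> simp [uu_val, hx, Matrix.SpecialLinearGroup.coe_mul, Matrix.mul_apply, Fin.sum_univ_two]
    · linear_combination -(g : Matrix (Fin 2) (Fin 2) F) 0 0 * htr + hd
    · field_simp
      ring
    · linear_combination -(g : Matrix (Fin 2) (Fin 2) F) 1 0 * htr

theorem diag_form {F : Type*} [Field F] [Fintype F] (hodd : Fintype.card F % 2 = 1)
    (α β : F) (hα : α ≠ 0) (hβ : β ≠ 0) : ∃ u w : F, α * u ^ 2 + β * w ^ 2 = 1 := by
  have hf : (Polynomial.C α * Polynomial.X ^ 2 + Polynomial.C 0 * Polynomial.X +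
      Polynomial.C (-1) : Polynomial F).degree = 2 := Polynomial.degree_quadratic hα
  have hg : (Polynomial.C β * Polynomial.X ^ 2 + Polynomial.C 0 * Polynomial.X +
      Polynomial.C 0 : Polynomial F).degree = 2 := Polynomial.degree_quadratic hβ
  obtain ⟨u, w, h⟩ := FiniteField.exists_root_sum_quadratic hf hg hodd
  refine ⟨u, w, ?_⟩
  simp at h
  linear_combination h

theorem binary_form_aux {F : Type*} [Field F] [Fintype F] (hodd : Fintype.card F % 2 = 1)
    (h2 : (2 : F) ≠ 0) (A B C : F) (hA : A ≠ 0) (hD : B ^ 2 - 4 * A * C ≠ 0) :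
    ∃ x y : F, A * x ^ 2 + B * x * y + C * y ^ 2 = 1 := by
  have h4 : (4 : F) ≠ 0 := by
    have : (4 : F) = 2 * 2 := by norm_num
    rw [this]
    exact mul_ne_zero h2 h2
  obtain ⟨u, w, h⟩ := diag_form hodd A (-(B ^ 2 - 4 * A * C) / (4 * A)) hA
    (div_ne_zero (neg_ne_zero.2 hD) (mul_ne_zero h4 hA))
  refine ⟨u - B * w / (2 * A), w, ?_⟩
  rw [← h]
  field_simp
  ring

theorem binary_form {F : Type*} [Field F] [Fintype F] (hodd : Fintype.card F % 2 = 1)
    (h2 : (2 : F) ≠ 0) (A B C : F) (hD : B ^ 2 - 4 * A * C ≠ 0) :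
    ∃ x y : F, A * x ^ 2 + B * x * y + C * y ^ 2 = 1 := by
  by_cases hA : A = 0
  · by_cases hC : C = 0
    · have hB : B ≠ 0 := by
        rintro rfl
        apply hD
        rw [hA, hC]
        ring
      refine ⟨1, B⁻¹, ?_⟩
      rw [hA, hC]
      field_simp
      ring
    · obtain ⟨y, x, h⟩ := binary_form_aux hodd h2 C B A hC (by
        intro h
        apply hD
        linear_combination h)
      exact ⟨x, y, by linear_combination h⟩
  · exact binary_form_aux hodd h2 A B C hA hD

/-- the companion matrix of trace `t` -/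
def comp {F : Type*} [Field F] (t : F) : Matrix.SpecialLinearGroup (Fin 2) F :=
  ⟨!![0, -1; 1, t], by simp [Matrix.det_fin_two_of]⟩

theorem comp_val {F : Type*} [Field F] (t : F) :
    ((comp t : Matrix.SpecialLinearGroup (Fin 2) F) : Matrix (Fin 2) (Fin 2) F) = !![0, -1; 1, t] := rfl

def tr2 {F : Type*} [Field F] (g : Matrix.SpecialLinearGroup (Fin 2) F) : F :=
  (g : Matrix (Fin 2) (Fin 2) F) 0 0 + (g : Matrix (Fin 2) (Fin 2) F) 1 1

theorem tr2_conj {F : Type*} [Field F] (g h : Matrix.SpecialLinearGroup (Fin 2) F)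
    (hc : IsConj g h) : tr2 g = tr2 h := by
  obtain ⟨x, hx⟩ := isConj_iff.1 hc
  have h1 : (h : Matrix (Fin 2) (Fin 2) F) =
      (x : Matrix (Fin 2) (Fin 2) F) * ((g : Matrix (Fin 2) (Fin 2) F) *
        ((x⁻¹ : Matrix.SpecialLinearGroup (Fin 2) F) : Matrix (Fin 2) (Fin 2) F)) := by
    rw [← hx, Matrix.SpecialLinearGroup.coe_mul, Matrix.SpecialLinearGroup.coe_mul, mul_assoc]
  have h2 : (g : Matrix (Fin 2) (Fin 2) F) =
      ((g : Matrix (Fin 2) (Fin 2) F) *
        ((x⁻¹ : Matrix.SpecialLinearGroup (Fin 2) F) : Matrix (Fin 2) (Fin 2) F)) *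
        (x : Matrix (Fin 2) (Fin 2) F) := by
    rw [mul_assoc, ← Matrix.SpecialLinearGroup.coe_mul, inv_mul_cancel,
      Matrix.SpecialLinearGroup.coe_one, mul_one]
  have h3 : (g : Matrix (Fin 2) (Fin 2) F).trace = (h : Matrix (Fin 2) (Fin 2) F).trace := by
    rw [h1, Matrix.trace_mul_comm, ← h2]
  rw [Matrix.trace_fin_two, Matrix.trace_fin_two] at h3
  exact h3

theorem comp_conj {F : Type*} [Field F] [Fintype F] (hodd : Fintype.card F % 2 = 1)
    (h2 : (2 : F) ≠ 0) (g : Matrix.SpecialLinearGroup (Fin 2) F) (ht : tr2 g ^ 2 ≠ 4) :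
    IsConj (comp (tr2 g)) g := by
  have hd := sl2_det g
  obtain ⟨v1, v2, hv⟩ := binary_form hodd h2 ((g : Matrix (Fin 2) (Fin 2) F) 1 0)
    ((g : Matrix (Fin 2) (Fin 2) F) 1 1 - (g : Matrix (Fin 2) (Fin 2) F) 0 0)
    (-(g : Matrix (Fin 2) (Fin 2) F) 0 1) (by
      intro h
      apply ht
      unfold tr2
      linear_combination h + 4 * hd)
  obtain ⟨x, hx⟩ : ∃ x : Matrix.SpecialLinearGroup (Fin 2) F,
      (x : Matrix (Fin 2) (Fin 2) F) = !![v1, (g : Matrix (Fin 2) (Fin 2) F) 0 0 * v1 +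
        (g : Matrix (Fin 2) (Fin 2) F) 0 1 * v2; v2, (g : Matrix (Fin 2) (Fin 2) F) 1 0 * v1 +
        (g : Matrix (Fin 2) (Fin 2) F) 1 1 * v2] :=
    ⟨⟨_, by rw [Matrix.det_fin_two_of]; linear_combination hv⟩, rfl⟩
  rw [sl2_conj_iff]
  refine ⟨x, ?_⟩
  apply sl2_ext <;>
    simp [comp_val, tr2, hx, Matrix.SpecialLinearGroup.coe_mul, Matrix.mul_apply, Fin.sum_univ_two]
  · linear_combination (v1) * hd
  · linear_combination (v2) * hd

/-- the central elements `±1` -/
def zz {F : Type*} [Field F] (s : Bool) : Matrix.SpecialLinearGroup (Fin 2) F :=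
  ⟨!![(if s then 1 else -1), 0; 0, (if s then 1 else -1)], by
    rw [Matrix.det_fin_two_of]; cases s <;> simp⟩

theorem zz_val {F : Type*} [Field F] (s : Bool) :
    ((zz s : Matrix.SpecialLinearGroup (Fin 2) F) : Matrix (Fin 2) (Fin 2) F) =
      !![(if s then 1 else -1), 0; 0, (if s then 1 else -1)] := rfl

theorem zz_comm {F : Type*} [Field F] (s : Bool) (x : Matrix.SpecialLinearGroup (Fin 2) F) :
    zz s * x = x * zz s := by
  apply sl2_ext <;>
    simp [zz_val, Matrix.SpecialLinearGroup.coe_mul, Matrix.mul_apply, Fin.sum_univ_two, mul_comm]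

theorem zz_sq {F : Type*} [Field F] (s : Bool) :
    zz s * zz s = (1 : Matrix.SpecialLinearGroup (Fin 2) F) := by
  apply sl2_ext <;>
    cases s <;> simp [zz_val, Matrix.SpecialLinearGroup.coe_mul, Matrix.mul_apply, Fin.sum_univ_two]

theorem zz_true {F : Type*} [Field F] : zz true = (1 : Matrix.SpecialLinearGroup (Fin 2) F) := by
  apply sl2_ext <;> simp [zz_val]

theorem tr2_zz_mul {F : Type*} [Field F] (s : Bool) (x : Matrix.SpecialLinearGroup (Fin 2) F) :
    tr2 (zz s * x) = (if s then 1 else -1) * tr2 x := by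
  cases s <;>
    simp [tr2, zz_val, Matrix.SpecialLinearGroup.coe_mul, Matrix.mul_apply, Fin.sum_univ_two] <;>
    ring

theorem zz_conj {F : Type*} [Field F] (s : Bool) (a b : Matrix.SpecialLinearGroup (Fin 2) F) :
    IsConj (zz s * a) (zz s * b) ↔ IsConj a b := by
  rw [sl2_conj_iff, sl2_conj_iff]
  constructor
  · rintro ⟨x, hx⟩
    refine ⟨x, ?_⟩
    rw [← mul_assoc, ← zz_comm, mul_assoc, mul_assoc] at hx
    exact mul_left_cancel hx
  · rintro ⟨x, hx⟩
    refine ⟨x, ?_⟩
    rw [← mul_assoc, ← zz_comm, mul_assoc, mul_assoc, hx]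

def val3 {F : Type*} [Field F] (ε : F) : Option Bool → F
  | none => 0
  | some true => 1
  | some false => ε

theorem tr2_uu {F : Type*} [Field F] (b : F) : tr2 (uu b) = 2 := by
  simp [tr2, uu_val]
  norm_num

theorem uu_eq_one_iff {F : Type*} [Field F] (b : F) :
    uu b = (1 : Matrix.SpecialLinearGroup (Fin 2) F) ↔ b = 0 := by
  constructor
  · intro h
    have := congrArg (fun m : Matrix.SpecialLinearGroup (Fin 2) F =>
      (m : Matrix (Fin 2) (Fin 2) F) 0 1) h
    simpa [uu_val] using this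
  · rintro rfl
    apply sl2_ext <;> simp [uu_val]

theorem val3_inj {F : Type*} [Field F] (ε : F) (hε : ¬ IsSquare ε) (o o' : Option Bool)
    (h : IsConj (uu (val3 ε o)) (uu (val3 ε o'))) : o = o' := by
  have hε0 : ε ≠ 0 := by
    rintro rfl
    exact hε IsSquare.zero
  have hv : ∀ e : Bool, val3 ε (some e) ≠ 0 := by
    intro e
    cases e <;> simp [val3, hε0]
  rcases o with _ | e <;> rcases o' with _ | e'
  · rfl
  · exfalso
    have h1 : uu (val3 ε none) = (1 : Matrix.SpecialLinearGroup (Fin 2) F) :=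
      (uu_eq_one_iff _).2 rfl
    rw [h1, isConj_one_right] at h
    exact hv e' ((uu_eq_one_iff _).1 h)
  · exfalso
    have h1 : uu (val3 ε none) = (1 : Matrix.SpecialLinearGroup (Fin 2) F) :=
      (uu_eq_one_iff _).2 rfl
    rw [h1, isConj_one_left] at h
    exact hv e ((uu_eq_one_iff _).1 h)
  · have hsq := (uu_conj _ _ (hv e) (hv e')).1 h
    cases e <;> cases e' <;> simp [val3] at hsq ⊢
    · exact hε hsq
    · exact hε hsq

def rep {F : Type*} [Field F] (ε : F) :
    {t : F // t ^ 2 ≠ 4} ⊕ (Bool × Option Bool) → Matrix.SpecialLinearGroup (Fin 2) F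
  | Sum.inl t => comp t.1
  | Sum.inr (s, o) => zz s * uu (val3 ε o)

theorem tr2_comp {F : Type*} [Field F] (t : F) : tr2 (comp t) = t := by
  simp [tr2, comp_val]

theorem rep_bij {F : Type*} [Field F] [Fintype F] (hodd : Fintype.card F % 2 = 1)
    (hF : ringChar F ≠ 2) (ε : F) (hε : ¬ IsSquare ε) :
    Function.Bijective (fun t : {t : F // t ^ 2 ≠ 4} ⊕ (Bool × Option Bool) =>
      ConjClasses.mk (rep ε t)) := by
  classical
  have h2 : (2 : F) ≠ 0 := Ring.two_ne_zero hF
  have hε0 : ε ≠ 0 := by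
    rintro rfl
    exact hε IsSquare.zero
  have hsg : ∀ s : Bool, ((if s then 1 else -1 : F) * 2) ^ 2 = 4 := by
    intro s
    cases s <;> norm_num
  constructor
  · intro t t' htt
    have hc : IsConj (rep ε t) (rep ε t') := ConjClasses.mk_eq_mk_iff_isConj.1 htt
    have hT := tr2_conj _ _ hc
    rcases t with t | ⟨s, o⟩ <;> rcases t' with t' | ⟨s', o'⟩
    · simp only [rep, tr2_comp] at hT
      rw [Subtype.ext hT]
    · exfalso
      simp only [rep, tr2_comp, tr2_zz_mul, tr2_uu] at hT
      apply t.2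
      rw [hT]
      exact hsg s'
    · exfalso
      simp only [rep, tr2_comp, tr2_zz_mul, tr2_uu] at hT
      apply t'.2
      rw [← hT]
      exact hsg s
    · simp only [rep, tr2_zz_mul, tr2_uu] at hT
      have hs : s = s' := by
        cases s <;> cases s' <;> simp at hT ⊢
        · have h4 : (2 : F) * 2 = 0 := by linear_combination -hT
          exact h2 (mul_self_eq_zero.1 h4)
        · have h4 : (2 : F) * 2 = 0 := by linear_combination hT
          exact h2 (mul_self_eq_zero.1 h4)
      subst hs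
      simp only [rep] at hc
      rw [zz_conj] at hc
      rw [val3_inj ε hε o o' hc]
  · intro C
    obtain ⟨g, rfl⟩ := ConjClasses.mk_surjective C
    by_cases ht : tr2 g ^ 2 = 4
    · have hs : ∃ s : Bool, tr2 (zz s * g) = 2 := by
        have : (tr2 g - 2) * (tr2 g + 2) = 0 := by linear_combination ht
        rcases mul_eq_zero.1 this with h | h
        · refine ⟨true, ?_⟩
          rw [tr2_zz_mul]
          simp only [if_true, one_mul]
          linear_combination h
        · refine ⟨false, ?_⟩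
          rw [tr2_zz_mul]
          simp only [Bool.false_eq_true, if_false]
          linear_combination -h
      obtain ⟨s, hs⟩ := hs
      have hkey : ∀ o : Option Bool, IsConj (uu (val3 ε o)) (zz s * g) →
          ConjClasses.mk (rep ε (Sum.inr (s, o))) = ConjClasses.mk g := by
        intro o ho
        apply ConjClasses.mk_eq_mk_iff_isConj.2
        have := (zz_conj s _ _).2 ho
        rw [← mul_assoc, zz_sq, one_mul] at this
        exact this
      by_cases h1 : zz s * g = 1
      · refine ⟨Sum.inr (s, none), hkey none ?_⟩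
        rw [h1]
        have : uu (val3 ε none) = (1 : Matrix.SpecialLinearGroup (Fin 2) F) :=
          (uu_eq_one_iff _).2 rfl
        rw [this]
      · obtain ⟨b, hb, hbg⟩ := trace2_conj (zz s * g) hs h1
        by_cases hsq : IsSquare b
        · refine ⟨Sum.inr (s, some true), hkey (some true) ?_⟩
          refine IsConj.trans ?_ hbg
          rw [uu_conj _ _ (by simp [val3]) hb]
          simpa [val3] using hsq
        · refine ⟨Sum.inr (s, some false), hkey (some false) ?_⟩
          refine IsConj.trans ?_ hbg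
          rw [uu_conj _ _ (by simpa [val3] using hε0) hb]
          have h1 : quadraticChar F (ε * b) = 1 := by
            rw [map_mul, quadraticChar_neg_one_iff_not_isSquare.2 hsq,
              quadraticChar_neg_one_iff_not_isSquare.2 hε]
            norm_num
          simpa [val3] using (quadraticChar_one_iff_isSquare (mul_ne_zero hε0 hb)).1 h1
    · refine ⟨Sum.inl ⟨tr2 g, ht⟩, ?_⟩
      apply ConjClasses.mk_eq_mk_iff_isConj.2
      exact comp_conj hodd h2 g ht

theorem result {F : Type*} [Field F] [Fintype F] (hodd : Odd (Fintype.card F)) :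
    Nat.card (ConjClasses (Matrix.SpecialLinearGroup (Fin 2) F)) = Fintype.card F + 4 := by
  classical
  have hodd' : Fintype.card F % 2 = 1 := Nat.odd_iff.1 hodd
  have hF : ringChar F ≠ 2 := by
    intro h
    have := FiniteField.even_card_iff_char_two.1 h
    omega
  have h2 : (2 : F) ≠ 0 := Ring.two_ne_zero hF
  obtain ⟨ε, hε⟩ := FiniteField.exists_nonsquare hF
  rw [← Nat.card_eq_of_bijective _ (rep_bij hodd' hF ε hε)]
  have hset : {t : F | t ^ 2 ≠ 4} = Set.univ \ {2, -2} := by
    ext t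
    simp only [Set.mem_setOf_eq, Set.mem_diff, Set.mem_univ, true_and, Set.mem_insert_iff,
      Set.mem_singleton_iff]
    constructor
    · rintro h (rfl | rfl)
      · apply h; norm_num
      · apply h; norm_num
    · intro h ht
      apply h
      have : (t - 2) * (t + 2) = 0 := by linear_combination ht
      rcases mul_eq_zero.1 this with h' | h'
      · left; linear_combination h'
      · right; linear_combination h'
  have hne : (2 : F) ≠ -2 := by
    intro h
    have h4 : (2 : F) * 2 = 0 := by linear_combination h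
    exact h2 (mul_self_eq_zero.1 h4)
  have hc1 : Nat.card {t : F // t ^ 2 ≠ 4} = Fintype.card F - 2 := by
    have h := Set.ncard_diff (Set.subset_univ ({2, -2} : Set F)) (Set.toFinite _)
    rw [Set.ncard_univ, Set.ncard_pair hne, ← hset, Nat.card_eq_fintype_card] at h
    exact h
  have hq : 2 < Fintype.card F := by
    have h1 := Fintype.one_lt_card (α := F)
    omega
  rw [Nat.card_sum, hc1, Nat.card_prod, Nat.card_eq_fintype_card, Nat.card_eq_fintype_card,
    Fintype.card_bool, Fintype.card_option, Fintype.card_bool]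
  omega

end Cfsg.Agent.S2325
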