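import Cfsg.Statements.S2410
import Cfsg.Agent.Lib.Helper1.Sz10
import Cfsg.Agent.S0324
import Cfsg.Agent.S2247

set_option autoImplicit false
open Cfsg


namespace Cfsg.Agent.S2410

open Cfsg.Agent.Lib.Helper1.Sz

variable {F : Type*} [Field F] [Fintype F] {m : ℕ}

theorem theta_surj (D : Dat F m) (e : F) : ∃ c : F, D.θ c * c = e := by
  by_cases he : e = 0
  · exact ⟨0, by rw [he, mul_zero]⟩
  · refine ⟨e ^ (2 ^ (m + 1) - 1), ?_⟩
    rw [D.hpow, ← pow_mul, ← pow_add]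
    have hr : 2 ≤ 2 ^ (m + 1) := by
      calc 2 = 2 ^ 1 := by norm_num
        _ ≤ 2 ^ (m + 1) := Nat.pow_le_pow_right (by norm_num) (by omega)
    have hq : 2 ^ (m + 1) * 2 ^ (m + 1) = 2 * Fintype.card F := by
      rw [D.hF, ← pow_add]
      have : m + 1 + (m + 1) = 2 * m + 1 + 1 := by ring
      rw [this, pow_succ]; ring
    have hcard : 1 ≤ Fintype.card F := Fintype.card_pos
    have hexp : (2 ^ (m + 1) - 1) * 2 ^ (m + 1) + (2 ^ (m + 1) - 1)
        = (Fintype.card F - 1) * 2 + 1 := by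
      obtain ⟨r, hr'⟩ : ∃ r, 2 ^ (m + 1) = r + 1 := ⟨2 ^ (m + 1) - 1, by omega⟩
      obtain ⟨Q, hQ⟩ : ∃ Q, Fintype.card F = Q + 1 := ⟨Fintype.card F - 1, by omega⟩
      rw [hr', hQ] at hq
      rw [hr', hQ]
      simp only [Nat.add_sub_cancel]
      nlinarith
    rw [hexp, pow_succ, pow_mul, FiniteField.pow_card_sub_one_eq_one e he, one_pow, one_mul]

theorem main (hm : 1 ≤ m) (hF : Fintype.card F = 2 ^ (2 * m + 1)) :
    ∃ a b : ↥(Cfsg.Sz F m), Subgroup.closure ({a, b} : Set ↥(Cfsg.Sz F m)) = ⊤ := by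
  classical
  obtain ⟨D⟩ := exists_dat hm hF
  obtain ⟨t, ht⟩ := IsCyclic.exists_generator (α := Fˣ)
  refine ⟨hG D t, tG D 1 0 * wG D, ?_⟩
  obtain ⟨H, hH⟩ : ∃ H, H = Subgroup.closure ({hG D t, tG D 1 0 * wG D} : Set ↥(Cfsg.Sz F m)) := ⟨_, rfl⟩
  rw [← hH]
  have hhH : hG D t ∈ H := by rw [hH]; exact Subgroup.subset_closure (by simp)
  have hyH : tG D 1 0 * wG D ∈ H := by rw [hH]; exact Subgroup.subset_closure (by simp)
  -- all hG s in H
  have hHs : ∀ s : Fˣ, hG D s ∈ H := by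
    intro s
    obtain ⟨j, hj⟩ := Subgroup.mem_zpowers_iff.mp (ht s)
    have : hG D s = (hG D t) ^ j := by
      rw [← hj]
      exact map_zpow (hGHom D) t j
    rw [this]
    exact H.zpow_mem hhH j
  have hconj : ∀ (s : Fˣ) (a b : F), tG D a b ∈ H →
      tG D ((s : F) ^ 2 * a) (D.θ s ^ 2 * (s : F) ^ 2 * b) ∈ H := by
    intro s a b hab
    rw [← hG_tG]
    exact H.mul_mem (H.mul_mem (hHs s) hab) (H.inv_mem (hHs s))
  -- t ≠ 1
  have ht1 : t ≠ 1 := by
    intro e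
    have hall : ∀ s : Fˣ, s = 1 := by
      intro s
      obtain ⟨j, hj⟩ := Subgroup.mem_zpowers_iff.mp (ht s)
      rw [← hj, e, one_zpow]
    obtain ⟨c, hc0, hc1⟩ := D.exists_ne
    have := hall (Units.mk0 c hc0)
    apply hc1
    have h2 := congrArg Units.val this
    simpa using h2
  -- the element u₁
  have hw_inv : (wG D)⁻¹ = wG D := inv_eq_of_mul_eq_one_right (wG_mul D)
  have hwh : wG D * hG D t * wG D = hG D t⁻¹ := Subtype.ext (Ws_Hs D t)
  have hu₁ : hG D t * (tG D 1 0 * wG D * hG D t * (tG D 1 0 * wG D)⁻¹)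
      = (hG D t * tG D 1 0 * (hG D t)⁻¹) * (tG D 1 0)⁻¹ := by
    have e1 : tG D 1 0 * wG D * hG D t * (tG D 1 0 * wG D)⁻¹
        = tG D 1 0 * (wG D * hG D t * wG D) * (tG D 1 0)⁻¹ := by
      rw [mul_inv_rev, hw_inv]; group
    rw [e1, hwh, ← hG_inv]
    group
  have hu₁H : (hG D t * tG D 1 0 * (hG D t)⁻¹) * (tG D 1 0)⁻¹ ∈ H := by
    rw [← hu₁]
    exact H.mul_mem hhH (H.mul_mem (H.mul_mem hyH hhH) (H.inv_mem hyH))
  rw [hG_tG, tG_inv, tG_mul] at hu₁H
  obtain ⟨a₁, ha₁⟩ : ∃ a₁ : F, a₁ = (t : F) ^ 2 * 1 + 1 := ⟨_, rfl⟩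
  rw [← ha₁] at hu₁H
  have ha₁0 : a₁ ≠ 0 := by
    rw [ha₁, mul_one]
    exact D.unit_sq_ne ht1
  -- claim 1
  have claim1 : ∀ c : F, ∃ d : F, tG D c d ∈ H := by
    intro c
    by_cases hc : c = 0
    · exact ⟨0, by rw [hc, tG_zero]; exact H.one_mem⟩
    · obtain ⟨s, hs⟩ := D.exists_sqrt (c / a₁)
      have hs0 : s ≠ 0 := by
        intro e
        rw [e] at hs
        have : c / a₁ = 0 := by rw [← hs]; ring
        rcases div_eq_zero_iff.mp this with h | h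
        · exact hc h
        · exact ha₁0 h
      have := hconj (Units.mk0 s hs0) _ _ hu₁H
      rw [Units.val_mk0, hs] at this
      have e : c / a₁ * a₁ = c := by field_simp
      rw [e] at this
      exact ⟨_, this⟩
  -- claim 2
  have claim2 : ∀ e : F, tG D 0 e ∈ H := by
    intro e
    obtain ⟨c, hc⟩ := theta_surj D e
    obtain ⟨d, hd⟩ := claim1 c
    have := H.mul_mem hd hd
    rw [tG_sq, hc] at this
    exact this
  -- claim 3
  have claim3 : ∀ c d : F, tG D c d ∈ H := by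
    intro c d
    obtain ⟨d', hd'⟩ := claim1 c
    have := H.mul_mem hd' (claim2 (d - d'))
    rw [tG_mul] at this
    have e1 : c + 0 = c := add_zero c
    have e2 : d' + (d - d') + D.θ c * 0 = d := by ring
    rw [e1, e2] at this
    exact this
  have hwH : wG D ∈ H := by
    have : wG D = (tG D 1 0)⁻¹ * (tG D 1 0 * wG D) := by group
    rw [this]
    exact H.mul_mem (H.inv_mem (claim3 1 0)) hyH
  apply Cfsg.Agent.S2247.top_of D H claim3 (wG D) hwH
  show Ws D • (pI : Projectivization F (Fin 4 → F)) ≠ pI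
  rw [Ws_pI]
  exact pt_ne_pI D 0 0

theorem result {F : Type*} [Field F] [Fintype F] {m : ℕ} (hm : 1 ≤ m) (hF : Fintype.card F = 2 ^ (2 * m + 1)) :
    ∃ a b : ↥(Cfsg.Sz F m), Subgroup.closure ({a, b} : Set ↥(Cfsg.Sz F m)) = ⊤ := by
  exact main hm hF

end Cfsg.Agent.S2410
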