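import Cfsg.Statements.S2475
import Mathlib

set_option autoImplicit false
open Cfsg

namespace Cfsg.Agent.S2475

open QuadraticAlgebra Matrix

theorem exists_irred (F : Type*) [Field F] [Finite F] : ∃ a : F, ∀ r : F, r ^ 2 ≠ a + 1 * r := by
  by_contra hcon
  push_neg at hcon
  have hsurj : Function.Surjective (fun r : F => r ^ 2 - r) := by
    intro a
    obtain ⟨r, hr⟩ := hcon a
    exact ⟨r, by simp [hr]⟩
  have hinj := Finite.injective_iff_surjective.mpr hsurj
  have h01 : (0 : F) = 1 := hinj (by simp)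
  exact zero_ne_one h01

instance finiteK {F : Type*} [Field F] [Finite F] (a b : F) : Finite (QuadraticAlgebra F a b) :=
  Finite.of_equiv _ (QuadraticAlgebra.equivProd a b).symm

theorem card_K {F : Type*} [Field F] [Fintype F] (a b : F) :
    Nat.card (QuadraticAlgebra F a b) = Fintype.card F ^ 2 := by
  rw [Nat.card_congr (QuadraticAlgebra.equivProd a b), Nat.card_prod, Nat.card_eq_fintype_card, sq]

theorem frob_eq_star {F : Type*} [Field F] [Fintype F] {a b : F} [Fact (∀ r, r ^ 2 ≠ a + b * r)]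
    (z : QuadraticAlgebra F a b) : z ^ Fintype.card F = star z := by
  classical
  obtain ⟨p, hp⟩ := CharP.exists F
  have := hp
  have : Fact p.Prime := ⟨CharP.char_is_prime F p⟩
  obtain ⟨n, -, hn⟩ := FiniteField.card F p
  have : CharP (QuadraticAlgebra F a b) p :=
    charP_of_injective_algebraMap (algebraMap F (QuadraticAlgebra F a b)).injective p
  set q := Fintype.card F with hq
  have hq2 : 2 ≤ q := Fintype.one_lt_card
  -- additivity
  have hadd : ∀ x y : QuadraticAlgebra F a b, (x + y) ^ q = x ^ q + y ^ q := by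
    intro x y
    rw [hn]
    exact add_pow_char_pow x y p n
  have halg : ∀ r : F, (algebraMap F (QuadraticAlgebra F a b) r) ^ q = algebraMap F _ r := by
    intro r
    rw [← map_pow, hq, FiniteField.pow_card]
  set u : QuadraticAlgebra F a b := (ω : QuadraticAlgebra F a b) ^ q with hu
  have hform : ∀ w : QuadraticAlgebra F a b, w ^ q = algebraMap F _ w.re + algebraMap F _ w.im * u := by
    intro w
    have hw : w = algebraMap F _ w.re + algebraMap F _ w.im * ω := by
      ext <;> simp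
    conv_lhs => rw [hw]
    rw [hadd, mul_pow, halg, halg]
  have hu2 : u * u = algebraMap F _ a + algebraMap F _ b * u := by
    have h1 : u * u = ((ω : QuadraticAlgebra F a b) * ω) ^ q := by rw [mul_pow]
    rw [h1, hform]
    simp [omega_mul_omega_eq_mk]
  have hω2 : (ω : QuadraticAlgebra F a b) * ω = algebraMap F _ a + algebraMap F _ b * ω := by
    ext <;> simp
  have hprod : (u - ω) * (u - star (ω : QuadraticAlgebra F a b)) = 0 := by
    have hs : star (ω : QuadraticAlgebra F a b) = algebraMap F _ b - ω := by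
      ext <;> simp
    rw [hs]
    have : (u - ω) * (u - (algebraMap F _ b - ω)) = (u * u - algebraMap F _ b * u) - (ω * ω - algebraMap F _ b * ω) := by ring
    rw [this, hu2, hω2]; ring
  have hne : u ≠ ω := by
    intro hEq
    have hall : ∀ w : QuadraticAlgebra F a b, w ^ q = w := by
      intro w
      rw [hform, hEq]
      ext <;> simp
    obtain ⟨ζ, hζ⟩ := IsCyclic.exists_generator (α := (QuadraticAlgebra F a b)ˣ)
    have hord : orderOf ζ = q ^ 2 - 1 := by
      rw [orderOf_eq_card_of_forall_mem_zpowers hζ, Nat.card_units, card_K]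
    have h1 : ζ ^ (q - 1) = 1 := by
      have h2 : (ζ : QuadraticAlgebra F a b) ^ q = ζ := hall _
      have h3 : (ζ : QuadraticAlgebra F a b) ^ (q - 1) * ζ = 1 * ζ := by
        rw [← pow_succ, Nat.sub_add_cancel (by omega), h2, one_mul]
      have h4 := mul_right_cancel₀ (Units.ne_zero ζ) h3
      exact Units.ext (by simpa using h4)
    have h5 := orderOf_dvd_of_pow_eq_one h1
    rw [hord] at h5
    have h6 := Nat.le_of_dvd (by omega) h5
    have h7 : q ^ 2 = q * q := sq q
    have h8 : 2 * q ≤ q * q := Nat.mul_le_mul_right q hq2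
    omega
  have hstar : u = star (ω : QuadraticAlgebra F a b) := by
    rcases mul_eq_zero.mp hprod with h | h
    · exact absurd (sub_eq_zero.mp h) hne
    · exact sub_eq_zero.mp h
  rw [hform, hstar]
  ext <;> simp
  ring

theorem pow_card_add_one {F : Type*} [Field F] [Fintype F] {a b : F} [Fact (∀ r, r ^ 2 ≠ a + b * r)]
    (z : QuadraticAlgebra F a b) : z ^ (Fintype.card F + 1) = algebraMap F _ (norm z) := by
  rw [pow_succ, frob_eq_star, algebraMap_norm_eq_mul_star, mul_comm]

theorem div_gcd_dvd {N k : ℕ} (h : N ∣ 2 * k) : N / Nat.gcd 2 N ∣ k := by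
  rcases Nat.even_or_odd N with hN | hN
  · obtain ⟨r, rfl⟩ := hN
    have h2 : Nat.gcd 2 (r + r) = 2 := by
      rw [← two_mul]; simp
    rw [h2, ← two_mul, Nat.mul_div_cancel_left _ (by norm_num)]
    rw [← two_mul] at h
    exact (Nat.mul_dvd_mul_iff_left (by norm_num : 0 < 2)).mp h
  · have h1 : Nat.gcd 2 N = 1 := Nat.coprime_two_left.mpr hN
    rw [h1, Nat.div_one]
    exact (Nat.Coprime.dvd_of_dvd_mul_left (Nat.coprime_two_right.mpr hN)) h

theorem pm_one {R : Type*} [Field R] {w : R} {d : ℕ} (hd : d = 1 ∨ d = 2) (h : w ^ d = 1) :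
    w = 1 ∨ w = -1 := by
  rcases hd with rfl | rfl
  · left; simpa using h
  · rw [sq] at h
    exact mul_self_eq_one_iff.mp h

theorem exists_orderOf_eq {G : Type*} [Monoid G] (y : G) (m : ℕ) (hm : m ∣ orderOf y)
    (h0 : 0 < orderOf y) : ∃ x : G, orderOf x = m := by
  have hm0 : 0 < m := Nat.pos_of_dvd_of_pos hm h0
  refine ⟨y ^ (orderOf y / m), ?_⟩
  rw [orderOf_pow_of_dvd (Nat.div_pos (Nat.le_of_dvd h0 hm) hm0).ne' (Nat.div_dvd_of_dvd hm),
    Nat.div_div_self hm h0.ne']

theorem arith {q : ℕ} (hq : 2 ≤ q) :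
    (Nat.gcd 2 (q - 1) = 1 ∨ Nat.gcd 2 (q - 1) = 2) ∧
    (q - 1) / Nat.gcd 2 (q - 1) * Nat.gcd 2 (q - 1) = q - 1 ∧
    (q + 1) / Nat.gcd 2 (q - 1) * Nat.gcd 2 (q - 1) = q + 1 ∧
    Nat.gcd 2 (q + 1) = Nat.gcd 2 (q - 1) := by
  have h1 : Nat.gcd 2 (q - 1) ∣ 2 := Nat.gcd_dvd_left _ _
  have h2 : Nat.gcd 2 (q - 1) ∣ q - 1 := Nat.gcd_dvd_right _ _
  have h3 : Nat.gcd 2 (q + 1) = Nat.gcd 2 (q - 1) := by
    have : q + 1 = (q - 1) + 2 := by omega
    rw [this, Nat.gcd_add_self_right]
  have h4 : Nat.gcd 2 (q - 1) ∣ q + 1 := by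
    rw [← h3]; exact Nat.gcd_dvd_right _ _
  refine ⟨(Nat.dvd_prime Nat.prime_two).mp h1, Nat.div_mul_cancel h2, Nat.div_mul_cancel h4, h3⟩


theorem omega_sq {F : Type*} [Field F] (t : F) :
    (ω : QuadraticAlgebra F (-1) t) * ω = -1 + algebraMap F _ t * ω := by
  ext <;> simp

theorem omega_pow_unip {F : Type*} [Field F] (p : ℕ) [Fact p.Prime] [CharP F p] (t ε : F)
    (hε : ε * ε = 1) (ht : t = 2 * ε) :
    (ω : QuadraticAlgebra F (-1) t) ^ p = algebraMap F _ (ε ^ p) := by
  have hω := omega_sq t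
  have : CharP (QuadraticAlgebra F (-1) t) p :=
    charP_of_injective_algebraMap (algebraMap F (QuadraticAlgebra F (-1) t)).injective p
  have hν : ((ω : QuadraticAlgebra F (-1) t) - algebraMap F _ ε) ^ 2 = 0 := by
    have hε' : algebraMap F (QuadraticAlgebra F (-1) t) ε * algebraMap F _ ε = 1 := by
      rw [← map_mul, hε, map_one]
    have ht' : algebraMap F (QuadraticAlgebra F (-1) t) t = 2 * algebraMap F _ ε := by
      have := congrArg (algebraMap F (QuadraticAlgebra F (-1) t)) ht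
      rw [this, map_mul, map_ofNat]
    rw [ht'] at hω
    linear_combination hω + hε'
  have hsum : (ω : QuadraticAlgebra F (-1) t) = algebraMap F _ ε + (ω - algebraMap F _ ε) := by ring
  have hp2 : 2 ≤ p := (Fact.out : p.Prime).two_le
  conv_lhs => rw [hsum]
  rw [add_pow_char, pow_eq_zero_of_le hp2 hν, add_zero, map_pow]

theorem omega_pow_split {F : Type*} [Field F] (t l : F) (hl : l ^ 2 = -1 + t * l)
    (h4 : ¬ (t = 2 ∨ t = -2)) (n : ℕ) (hn : l ^ n = 1 ∨ l ^ n = -1) :
    (ω : QuadraticAlgebra F (-1) t) ^ n = algebraMap F _ (l ^ n) := by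
  have hω := omega_sq t
  have hl0 : l ≠ 0 := by
    rintro rfl
    simp at hl
  obtain ⟨m, hm⟩ : ∃ m : F, m = t - l := ⟨_, rfl⟩
  have hlm : l * m = 1 := by rw [hm]; linear_combination (-1 : F) * hl
  have hne : l - m ≠ 0 := by
    intro h
    have h1 : l = m := sub_eq_zero.mp h
    have ht2 : t = 2 * l := by rw [hm] at h1; linear_combination (-1 : F) * h1
    rw [← h1] at hlm
    rcases mul_self_eq_one_iff.mp hlm with h2 | h2
    · apply h4; left; rw [ht2, h2]; ring
    · apply h4; right; rw [ht2, h2]; ring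
  have hLM : algebraMap F (QuadraticAlgebra F (-1) t) l * algebraMap F _ m = 1 := by
    rw [← map_mul, hlm, map_one]
  have hω' : (ω : QuadraticAlgebra F (-1) t) * ω
      = -1 + (algebraMap F _ l + algebraMap F _ m) * ω := by
    rw [hω, ← map_add]
    congr 3
    rw [hm]; ring
  have key : ∀ n : ℕ, (algebraMap F (QuadraticAlgebra F (-1) t) l - algebraMap F _ m) * ω ^ n
      = algebraMap F _ l ^ n * (ω - algebraMap F _ m)
        - algebraMap F _ m ^ n * (ω - algebraMap F _ l) := by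
    intro n
    induction n with
    | zero => simp
    | succ n ih =>
      rw [pow_succ]
      linear_combination (ω : QuadraticAlgebra F (-1) t) * ih
        + (algebraMap F (QuadraticAlgebra F (-1) t) l ^ n - algebraMap F _ m ^ n) * hω'
        + (algebraMap F (QuadraticAlgebra F (-1) t) l ^ n - algebraMap F _ m ^ n) * hLM
  have hmN : m ^ n = l ^ n := by
    have h1 : m = l⁻¹ := eq_inv_of_mul_eq_one_right hlm
    rw [h1, inv_pow]
    rcases hn with h | h <;> rw [h] <;> simp
  have hu : IsUnit (algebraMap F (QuadraticAlgebra F (-1) t) l - algebraMap F _ m) := by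
    rw [← map_sub]
    exact (isUnit_iff_ne_zero.mpr hne).map _
  apply hu.mul_left_cancel
  rw [key, ← map_pow, ← map_pow, hmN]
  ring

theorem omega_pow {F : Type*} [Field F] [Fintype F] (p : ℕ) [Fact p.Prime] [CharP F p] (t : F) :
    ∃ c : F, (ω : QuadraticAlgebra F (-1) t) ^ p = algebraMap F _ c ∨
      (ω : QuadraticAlgebra F (-1) t) ^ ((Fintype.card F - 1) / Nat.gcd 2 (Fintype.card F - 1))
        = algebraMap F _ c ∨
      (ω : QuadraticAlgebra F (-1) t) ^ ((Fintype.card F + 1) / Nat.gcd 2 (Fintype.card F - 1))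
        = algebraMap F _ c := by
  classical
  set q := Fintype.card F with hq
  have hq2 : 2 ≤ q := Fintype.one_lt_card
  obtain ⟨hd12, hdm, hdp, -⟩ := arith hq2
  set d := Nat.gcd 2 (q - 1) with hd
  by_cases h4 : t = 2 ∨ t = -2
  · -- unipotent case
    obtain ⟨ε, hε, ht⟩ : ∃ ε : F, ε * ε = 1 ∧ t = 2 * ε := by
      rcases h4 with h | h
      · exact ⟨1, by simp, by simp [h]⟩
      · exact ⟨-1, by simp, by simp [h]⟩
    exact ⟨ε ^ p, Or.inl (omega_pow_unip p t ε hε ht)⟩
  · by_cases hroot : ∃ l : F, l ^ 2 = -1 + t * l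
    · obtain ⟨l, hl⟩ := hroot
      have hl0 : l ≠ 0 := by
        rintro rfl
        simp at hl
      have hlq : l ^ (q - 1) = 1 := by
        rw [hq]; exact FiniteField.pow_card_sub_one_eq_one l hl0
      have hlN : l ^ ((q - 1) / d) = 1 ∨ l ^ ((q - 1) / d) = -1 := by
        apply pm_one hd12
        rw [← pow_mul, hdm, hlq]
      exact ⟨l ^ ((q - 1) / d), Or.inr (Or.inl (omega_pow_split t l hl h4 _ hlN))⟩
    · -- field case
      have : Fact (∀ r : F, r ^ 2 ≠ -1 + t * r) := ⟨fun r hr => hroot ⟨r, hr⟩⟩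
      have hn1 : norm (ω : QuadraticAlgebra F (-1) t) = 1 := by
        simp [QuadraticAlgebra.norm_def]
      have h1 : ((ω : QuadraticAlgebra F (-1) t) ^ ((q + 1) / d)) ^ d = 1 := by
        rw [← pow_mul, hdp, hq, pow_card_add_one, hn1, map_one]
      rcases pm_one hd12 h1 with h | h
      · exact ⟨1, Or.inr (Or.inr (by rw [h, map_one]))⟩
      · exact ⟨-1, Or.inr (Or.inr (by rw [h, map_neg, map_one]))⟩

theorem sl2_det' {F : Type*} [Field F] (x : Matrix.SpecialLinearGroup (Fin 2) F) :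
    (x : Matrix (Fin 2) (Fin 2) F) 0 0 * (x : Matrix (Fin 2) (Fin 2) F) 1 1
      - (x : Matrix (Fin 2) (Fin 2) F) 0 1 * (x : Matrix (Fin 2) (Fin 2) F) 1 0 = 1 := by
  have h := x.det_coe
  rw [Matrix.det_fin_two] at h
  exact h

/-- Cayley–Hamilton for `SL₂`. -/
theorem sl2_sq {F : Type*} [Field F] (g : Matrix.SpecialLinearGroup (Fin 2) F) :
    (g : Matrix (Fin 2) (Fin 2) F) * (g : Matrix (Fin 2) (Fin 2) F)
      = (-1 : F) • (1 : Matrix (Fin 2) (Fin 2) F)
        + (g : Matrix (Fin 2) (Fin 2) F).trace • (g : Matrix (Fin 2) (Fin 2) F) := by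
  have hd := sl2_det' g
  ext i j
  fin_cases i <;> fin_cases j <;>
    simp [Matrix.mul_apply, Fin.sum_univ_two, Matrix.trace] <;>
    first | ring1 | linear_combination (-1 : F) * hd

theorem central_of_scalar {F : Type*} [Field F] (g : Matrix.SpecialLinearGroup (Fin 2) F) (c : F)
    (h : (g : Matrix (Fin 2) (Fin 2) F) = c • (1 : Matrix (Fin 2) (Fin 2) F)) :
    g ∈ Subgroup.center (Matrix.SpecialLinearGroup (Fin 2) F) := by
  rw [Matrix.SpecialLinearGroup.mem_center_iff]
  refine ⟨c, ?_, ?_⟩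
  · have hd := g.det_coe
    rw [h] at hd
    simpa [Matrix.det_smul, Fintype.card_fin] using hd
  · rw [h]
    ext i j
    simp [Matrix.scalar_apply, Matrix.one_apply, Matrix.diagonal_apply]

theorem scalar_of_central {F : Type*} [Field F] (g : Matrix.SpecialLinearGroup (Fin 2) F)
    (h : g ∈ Subgroup.center (Matrix.SpecialLinearGroup (Fin 2) F)) :
    ∃ c : F, c ^ 2 = 1 ∧ (g : Matrix (Fin 2) (Fin 2) F) = c • (1 : Matrix (Fin 2) (Fin 2) F) := by
  rw [Matrix.SpecialLinearGroup.mem_center_iff] at h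
  obtain ⟨c, hc, hg⟩ := h
  refine ⟨c, by simpa using hc, ?_⟩
  rw [← hg]
  ext i j
  simp [Matrix.scalar_apply, Matrix.one_apply, Matrix.diagonal_apply]

/-- order of the image in `PSL₂` divides `n` iff `g ^ n` is central. -/
theorem psl_pow_eq_one_iff {F : Type*} [Field F] (g : Matrix.SpecialLinearGroup (Fin 2) F) (n : ℕ) :
    ((QuotientGroup.mk g : Matrix.ProjectiveSpecialLinearGroup (Fin 2) F)) ^ n = 1 ↔
      g ^ n ∈ Subgroup.center (Matrix.SpecialLinearGroup (Fin 2) F) := by
  rw [← QuotientGroup.mk_pow, QuotientGroup.eq_one_iff]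

/-- the matrix of multiplication by an element of a quadratic algebra. -/
def mu {F : Type*} [Field F] (a b : F) :
    QuadraticAlgebra F a b →ₐ[F] Matrix (Fin 2) (Fin 2) F :=
  QuadraticAlgebra.lift ⟨!![0, a; 1, b], by
    ext i j
    fin_cases i <;> fin_cases j <;> simp [Matrix.mul_apply, Fin.sum_univ_two, mul_comm]⟩

theorem mu_apply {F : Type*} [Field F] (a b : F) (z : QuadraticAlgebra F a b) :
    mu a b z = !![z.re, a * z.im; z.im, z.re + b * z.im] := by
  ext i j
  fin_cases i <;> fin_cases j <;> simp [mu, QuadraticAlgebra.lift, mul_comm]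

theorem det_mu {F : Type*} [Field F] (a b : F) (z : QuadraticAlgebra F a b) :
    (mu a b z).det = norm z := by
  rw [mu_apply, Matrix.det_fin_two, QuadraticAlgebra.norm_def]
  simp
  ring

/-- the algebra map attached to an element of `SL₂`. -/
def phi {F : Type*} [Field F] (g : Matrix.SpecialLinearGroup (Fin 2) F) :
    QuadraticAlgebra F (-1) ((g : Matrix (Fin 2) (Fin 2) F).trace) →ₐ[F] Matrix (Fin 2) (Fin 2) F :=
  QuadraticAlgebra.lift ⟨(g : Matrix (Fin 2) (Fin 2) F), sl2_sq g⟩

theorem phi_omega {F : Type*} [Field F] (g : Matrix.SpecialLinearGroup (Fin 2) F) :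
    phi g ω = (g : Matrix (Fin 2) (Fin 2) F) := by
  simp [phi, QuadraticAlgebra.lift]


theorem sl2_pow_central {F : Type*} [Field F] [Fintype F] (p : ℕ) [Fact p.Prime] [CharP F p]
    (g : Matrix.SpecialLinearGroup (Fin 2) F) :
    g ^ p ∈ Subgroup.center (Matrix.SpecialLinearGroup (Fin 2) F) ∨
    g ^ ((Fintype.card F - 1) / Nat.gcd 2 (Fintype.card F - 1))
      ∈ Subgroup.center (Matrix.SpecialLinearGroup (Fin 2) F) ∨
    g ^ ((Fintype.card F + 1) / Nat.gcd 2 (Fintype.card F - 1))
      ∈ Subgroup.center (Matrix.SpecialLinearGroup (Fin 2) F) := by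
  obtain ⟨c, h⟩ := omega_pow p ((g : Matrix (Fin 2) (Fin 2) F).trace)
  have key : ∀ n : ℕ, (ω : QuadraticAlgebra F (-1) ((g : Matrix (Fin 2) (Fin 2) F).trace)) ^ n
      = algebraMap F _ c → g ^ n ∈ Subgroup.center (Matrix.SpecialLinearGroup (Fin 2) F) := by
    intro n hn
    apply central_of_scalar (g ^ n) c
    rw [Matrix.SpecialLinearGroup.coe_pow, ← phi_omega g, ← map_pow, hn, AlgHom.commutes,
      Algebra.algebraMap_eq_smul_one]
  rcases h with h | h | h
  · exact Or.inl (key _ h)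
  · exact Or.inr (Or.inl (key _ h))
  · exact Or.inr (Or.inr (key _ h))

/-- the standard upper unipotent element. -/
def U (F : Type*) [Field F] : Matrix.SpecialLinearGroup (Fin 2) F :=
  ⟨!![1, 1; 0, 1], by simp [Matrix.det_fin_two]⟩

theorem U_pow (F : Type*) [Field F] (n : ℕ) :
    ((U F ^ n : Matrix.SpecialLinearGroup (Fin 2) F) : Matrix (Fin 2) (Fin 2) F)
      = !![1, (n : F); 0, 1] := by
  induction n with
  | zero =>
    ext i j
    fin_cases i <;> fin_cases j <;> simp
  | succ n ih =>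
    rw [pow_succ, Matrix.SpecialLinearGroup.coe_mul, ih]
    ext i j
    fin_cases i <;> fin_cases j <;> simp [U, Matrix.mul_apply, Fin.sum_univ_two, add_comm]

theorem exists_order_p {F : Type*} [Field F] (p : ℕ) [Fact p.Prime] [CharP F p] :
    ∃ x : Matrix.ProjectiveSpecialLinearGroup (Fin 2) F, orderOf x = p := by
  refine ⟨QuotientGroup.mk (U F), orderOf_eq_prime ?_ ?_⟩
  · rw [psl_pow_eq_one_iff]
    apply central_of_scalar _ 1
    rw [U_pow]
    ext i j
    fin_cases i <;> fin_cases j <;> simp [CharP.cast_eq_zero]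
  · intro h
    rw [QuotientGroup.eq_one_iff] at h
    obtain ⟨c, -, hc⟩ := scalar_of_central _ h
    have := congrFun (congrFun hc 0) 1
    simp [U] at this

/-- the diagonal torus. -/
def Dfun {F : Type*} [Field F] (a : Fˣ) : Matrix.SpecialLinearGroup (Fin 2) F :=
  ⟨!![(a : F), 0; 0, ((a⁻¹ : Fˣ) : F)], by simp [Matrix.det_fin_two]⟩

theorem Dfun_val {F : Type*} [Field F] (a : Fˣ) :
    ((Dfun a : Matrix.SpecialLinearGroup (Fin 2) F) : Matrix (Fin 2) (Fin 2) F)
      = !![(a : F), 0; 0, ((a⁻¹ : Fˣ) : F)] := rfl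

/-- the diagonal torus, as a homomorphism. -/
def D {F : Type*} [Field F] : Fˣ →* Matrix.SpecialLinearGroup (Fin 2) F where
  toFun a := Dfun a
  map_one' := by
    apply Subtype.ext
    rw [Dfun_val]
    ext i j
    fin_cases i <;> fin_cases j <;> simp
  map_mul' a b := by
    apply Subtype.ext
    rw [Matrix.SpecialLinearGroup.coe_mul, Dfun_val, Dfun_val, Dfun_val]
    ext i j
    fin_cases i <;> fin_cases j <;> simp [Matrix.mul_apply, Fin.sum_univ_two, mul_comm]

theorem D_val {F : Type*} [Field F] (a : Fˣ) :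
    ((D a : Matrix.SpecialLinearGroup (Fin 2) F) : Matrix (Fin 2) (Fin 2) F)
      = !![(a : F), 0; 0, ((a⁻¹ : Fˣ) : F)] := rfl

theorem order_split {F : Type*} [Field F] [Fintype F] (ζ : Fˣ)
    (hζ : orderOf ζ = Fintype.card F - 1) :
    orderOf (QuotientGroup.mk (D ζ) : Matrix.ProjectiveSpecialLinearGroup (Fin 2) F)
      = (Fintype.card F - 1) / Nat.gcd 2 (Fintype.card F - 1) := by
  have hq2 : 2 ≤ Fintype.card F := Fintype.one_lt_card
  obtain ⟨hd12, hdm, hdp, -⟩ := arith hq2
  apply Nat.dvd_antisymm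
  · apply orderOf_dvd_of_pow_eq_one
    rw [psl_pow_eq_one_iff, ← map_pow]
    have ha : (ζ : F) ^ ((Fintype.card F - 1) / Nat.gcd 2 (Fintype.card F - 1)) = 1 ∨
        (ζ : F) ^ ((Fintype.card F - 1) / Nat.gcd 2 (Fintype.card F - 1)) = -1 := by
      apply pm_one hd12
      rw [← pow_mul, hdm, ← Units.val_pow_eq_pow_val, ← hζ, pow_orderOf_eq_one, Units.val_one]
    apply central_of_scalar _
      ((ζ : F) ^ ((Fintype.card F - 1) / Nat.gcd 2 (Fintype.card F - 1)))
    rw [D_val]
    ext i j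
    fin_cases i <;> fin_cases j <;> simp
    rcases ha with h | h <;> simp [h]
  · have h := pow_orderOf_eq_one
      (QuotientGroup.mk (D ζ) : Matrix.ProjectiveSpecialLinearGroup (Fin 2) F)
    rw [psl_pow_eq_one_iff, ← map_pow] at h
    obtain ⟨c, -, hc⟩ := scalar_of_central _ h
    rw [D_val] at hc
    have h00 := congrFun (congrFun hc 0) 0
    have h11 := congrFun (congrFun hc 1) 1
    simp at h00 h11
    set k := orderOf (QuotientGroup.mk (D ζ) : Matrix.ProjectiveSpecialLinearGroup (Fin 2) F)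
    have e : ζ ^ k = (ζ ^ k)⁻¹ := by
      apply Units.ext
      rw [Units.val_pow_eq_pow_val, Units.val_inv_eq_inv_val, Units.val_pow_eq_pow_val]
      rw [h11]
      exact h00
    have h2 : ζ ^ (2 * k) = 1 := by
      rw [two_mul, pow_add]
      nth_rewrite 2 [e]
      simp
    have h3 := orderOf_dvd_of_pow_eq_one h2
    rw [hζ] at h3
    exact div_gcd_dvd h3

theorem exists_order_split (F : Type*) [Field F] [Fintype F] :
    ∃ x : Matrix.ProjectiveSpecialLinearGroup (Fin 2) F,
      orderOf x = (Fintype.card F - 1) / Nat.gcd 2 (Fintype.card F - 1) := by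
  classical
  obtain ⟨ζ, hζ⟩ := IsCyclic.exists_generator (α := Fˣ)
  have hord : orderOf ζ = Fintype.card F - 1 := by
    rw [orderOf_eq_card_of_forall_mem_zpowers hζ, Nat.card_units, Nat.card_eq_fintype_card]
  exact ⟨_, order_split ζ hord⟩

theorem exists_order_nonsplit (F : Type*) [Field F] [Fintype F] :
    ∃ x : Matrix.ProjectiveSpecialLinearGroup (Fin 2) F,
      orderOf x = (Fintype.card F + 1) / Nat.gcd 2 (Fintype.card F - 1) := by
  classical
  have hq2 : 2 ≤ Fintype.card F := Fintype.one_lt_card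
  obtain ⟨hd12, hdm, hdp, hgcd⟩ := arith hq2
  obtain ⟨a, ha⟩ := exists_irred F
  have : Fact (∀ r : F, r ^ 2 ≠ a + 1 * r) := ⟨ha⟩
  obtain ⟨ζ, hζ⟩ := IsCyclic.exists_generator (α := (QuadraticAlgebra F a 1)ˣ)
  have hord : orderOf ζ = Fintype.card F ^ 2 - 1 := by
    rw [orderOf_eq_card_of_forall_mem_zpowers hζ, Nat.card_units, card_K]
  have hqq : (Fintype.card F - 1) * (Fintype.card F + 1) = Fintype.card F ^ 2 - 1 := by
    have h1 : Fintype.card F ^ 2 = (Fintype.card F - 1) * (Fintype.card F + 1) + 1 := by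
      obtain ⟨r, hr⟩ : ∃ r, Fintype.card F = r + 1 := ⟨Fintype.card F - 1, by omega⟩
      rw [hr]; simp; ring
    omega
  set z : QuadraticAlgebra F a 1 := ((ζ ^ (Fintype.card F - 1) : (QuadraticAlgebra F a 1)ˣ) :
    QuadraticAlgebra F a 1) with hz
  have hz1 : z ^ (Fintype.card F + 1) = 1 := by
    rw [hz, ← Units.val_pow_eq_pow_val, ← pow_mul, hqq, ← hord, pow_orderOf_eq_one]
    simp
  have hnorm : norm z = 1 := by
    apply QuadraticAlgebra.algebraMap_injective (a := a) (b := (1 : F))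
    rw [← pow_card_add_one, hz1, map_one]
  have hzk : ∀ k : ℕ, z ^ k = 1 → (Fintype.card F + 1) ∣ k := by
    intro k hk
    rw [hz, ← Units.val_pow_eq_pow_val, ← pow_mul] at hk
    have h1 : ζ ^ ((Fintype.card F - 1) * k) = 1 := Units.ext (by simpa using hk)
    have h2 := orderOf_dvd_of_pow_eq_one h1
    rw [hord, ← hqq] at h2
    exact Nat.dvd_of_mul_dvd_mul_left (by omega) h2
  obtain ⟨g, hg⟩ : ∃ g : Matrix.SpecialLinearGroup (Fin 2) F,
      (g : Matrix (Fin 2) (Fin 2) F) = mu a 1 z := ⟨⟨mu a 1 z, by rw [det_mu, hnorm]⟩, rfl⟩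
  have hpow : ∀ n : ℕ, ((g ^ n : Matrix.SpecialLinearGroup (Fin 2) F) : Matrix (Fin 2) (Fin 2) F)
      = mu a 1 (z ^ n) := by
    intro n
    rw [Matrix.SpecialLinearGroup.coe_pow, hg, map_pow]
  refine ⟨QuotientGroup.mk g, ?_⟩
  apply Nat.dvd_antisymm
  · apply orderOf_dvd_of_pow_eq_one
    rw [psl_pow_eq_one_iff]
    have h1 : (z ^ ((Fintype.card F + 1) / Nat.gcd 2 (Fintype.card F - 1)))
        ^ (Nat.gcd 2 (Fintype.card F - 1)) = 1 := by
      rw [← pow_mul, hdp, hz1]
    rcases pm_one hd12 h1 with h | h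
    · apply central_of_scalar _ 1
      rw [hpow, h, map_one, one_smul]
    · apply central_of_scalar _ (-1)
      rw [hpow, h, map_neg, map_one, neg_smul, one_smul]
  · have h := pow_orderOf_eq_one
      (QuotientGroup.mk g : Matrix.ProjectiveSpecialLinearGroup (Fin 2) F)
    rw [psl_pow_eq_one_iff] at h
    obtain ⟨c, hc2, hc⟩ := scalar_of_central _ h
    set k := orderOf (QuotientGroup.mk g : Matrix.ProjectiveSpecialLinearGroup (Fin 2) F)
    rw [hpow, mu_apply] at hc
    have h00 := congrFun (congrFun hc 0) 0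
    have h10 := congrFun (congrFun hc 1) 0
    simp at h00 h10
    have hzc : z ^ k = algebraMap F _ c := by
      ext
      · simpa using h00
      · simpa using h10
    have h2 : z ^ (2 * k) = 1 := by
      rw [mul_comm, pow_mul, hzc, ← map_pow, hc2, map_one]
    have h3 := div_gcd_dvd (hzk _ h2)
    rw [hgcd] at h3
    exact h3

theorem result {F : Type*} [Field F] [Fintype F] (p : ℕ) [Fact p.Prime] [CharP F p] (h4 : 4 ≤ Fintype.card F) :
    Set.range (orderOf : Matrix.ProjectiveSpecialLinearGroup (Fin 2) F → ℕ) =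
      {m : ℕ | m ∣ p ∨ m ∣ (Fintype.card F - 1) / Nat.gcd 2 (Fintype.card F - 1) ∨ m ∣ (Fintype.card F + 1) / Nat.gcd 2 (Fintype.card F - 1)} := by
  classical
  have hq2 : 2 ≤ Fintype.card F := by omega
  obtain ⟨hd12, hdm, hdp, hgcd⟩ := arith hq2
  ext m
  simp only [Set.mem_range, Set.mem_ofPred_eq]
  constructor
  · rintro ⟨x, rfl⟩
    obtain ⟨g, rfl⟩ := QuotientGroup.mk_surjective x
    rcases sl2_pow_central p g with h | h | h
    · exact Or.inl (orderOf_dvd_of_pow_eq_one ((psl_pow_eq_one_iff g _).mpr h))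
    · exact Or.inr (Or.inl (orderOf_dvd_of_pow_eq_one ((psl_pow_eq_one_iff g _).mpr h)))
    · exact Or.inr (Or.inr (orderOf_dvd_of_pow_eq_one ((psl_pow_eq_one_iff g _).mpr h)))
  · rintro (h | h | h)
    · rcases (Nat.dvd_prime (Fact.out : p.Prime)).mp h with h1 | h1
      · exact ⟨1, by rw [h1, orderOf_one]⟩
      · rw [h1]
        exact exists_order_p p
    · obtain ⟨y, hy⟩ := exists_order_split F
      refine exists_orderOf_eq y m (hy ▸ h) ?_
      rw [hy]
      apply Nat.pos_of_ne_zero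
      intro h0
      rw [h0] at hdm
      omega
    · obtain ⟨y, hy⟩ := exists_order_nonsplit F
      refine exists_orderOf_eq y m (hy ▸ h) ?_
      rw [hy]
      apply Nat.pos_of_ne_zero
      intro h0
      rw [h0] at hdp
      omega

end Cfsg.Agent.S2475
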