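import Cfsg.Statements.S2429
import Mathlib
import Cfsg.Agent.S2475
import Cfsg.Agent.S2325

set_option autoImplicit false
open Cfsg

namespace Cfsg.Agent.S2429

open QuadraticAlgebra Matrix

/-- commuting relation in a "dicyclic-like" group, in coordinates `Bool × T`. -/
def dcc {G : Type*} [Group G] (T : Subgroup G) (p p' : Bool × T) : Prop :=
  match p.1, p'.1 with
  | true, true => True
  | true, false => (p.2 : G) * p.2 = 1
  | false, true => (p'.2 : G) * p'.2 = 1
  | false, false => (p.2 : G) * p.2 = p'.2 * p'.2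

/-- class number of a group with an abelian subgroup `T` of index two which is inverted by the
elements outside `T` and which has a unique involution. -/
theorem dicyclic_classes {G : Type*} [Group G] [Finite G] (T : Subgroup G) (w : G)
    (hcomm : ∀ a ∈ T, ∀ b ∈ T, a * b = b * a)
    (hw : w ∉ T) (hidx : ∀ g : G, g ∉ T → g * w⁻¹ ∈ T)
    (hinv : ∀ t ∈ T, w * t * w⁻¹ = t⁻¹)
    (ε : G) (hε : ε ∈ T) (hε1 : ε ≠ 1) (hinvol : ∀ t ∈ T, t * t = 1 ↔ t = 1 ∨ t = ε) :
    2 * Nat.card (ConjClasses G) = Nat.card T + 6 ∧ Nat.card G = 2 * Nat.card T := by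
  classical
  haveI : Fintype G := Fintype.ofFinite G
  set e : Bool × T → G := fun p => if p.1 then (p.2 : G) else (p.2 : G) * w with he
  have hwa : ∀ a ∈ T, w * a = a⁻¹ * w := by
    intro a ha
    have := hinv a ha
    rw [← this]; group
  have hbij : Function.Bijective e := by
    constructor
    · rintro ⟨s, a⟩ ⟨s', b⟩ h
      cases s <;> cases s' <;> simp only [he, if_true, if_false, Bool.false_eq_true] at h
      · have : (a : G) = b := mul_right_cancel h
        rw [Subtype.ext this]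
      · exfalso
        apply hw
        have : w = (a : G)⁻¹ * b := by rw [← h]; group
        rw [this]
        exact T.mul_mem (T.inv_mem a.2) b.2
      · exfalso
        apply hw
        have : w = (b : G)⁻¹ * a := by rw [h]; group
        rw [this]
        exact T.mul_mem (T.inv_mem b.2) a.2
      · rw [Subtype.ext h]
    · intro g
      by_cases hg : g ∈ T
      · exact ⟨(true, ⟨g, hg⟩), by simp [he]⟩
      · exact ⟨(false, ⟨g * w⁻¹, hidx g hg⟩), by simp [he]⟩
  have hcc : ∀ p p' : Bool × T, Commute (e p) (e p') ↔ dcc T p p' := by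
    rintro ⟨s, a⟩ ⟨s', b⟩
    have hab : (a : G) * b = b * a := hcomm a a.2 b b.2
    cases s <;> cases s' <;> simp only [he, dcc, if_true, if_false, Bool.false_eq_true, commute_iff_eq]
    · -- (a w)(b w) = (b w)(a w)
      have h1 : (a : G) * w * (b * w) = a * (b : G)⁻¹ * (w * w) := by
        rw [mul_assoc, ← mul_assoc w, hwa b b.2]; group
      have h2 : (b : G) * w * (a * w) = b * (a : G)⁻¹ * (w * w) := by
        rw [mul_assoc, ← mul_assoc w, hwa a a.2]; group
      rw [h1, h2, mul_left_inj]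
      constructor
      · intro h
        have : (a : G) * a = (a * (b : G)⁻¹) * (b * a) := by group
        rw [this, h, ← hab]; group
      · intro h
        have : (a : G) * (b : G)⁻¹ = (a * a) * ((b : G)⁻¹ * (a : G)⁻¹) := by
          rw [← _root_.mul_inv_rev, hab]; group
        rw [this, h]; group
    · -- (a w) b = b (a w)
      have h1 : (a : G) * w * b = a * (b : G)⁻¹ * w := by
        rw [mul_assoc, hwa b b.2]; group
      have h2 : (b : G) * (a * w) = a * b * w := by rw [← mul_assoc, hab]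
      rw [h1, h2, mul_left_inj, mul_right_inj]
      constructor
      · intro h
        have := mul_inv_cancel (b : G)
        rw [h] at this
        exact this
      · intro h
        exact inv_eq_of_mul_eq_one_left h
    · -- a (b w) = (b w) a
      have h1 : (b : G) * w * a = b * (a : G)⁻¹ * w := by
        rw [mul_assoc, hwa a a.2]; group
      have h2 : (a : G) * (b * w) = b * a * w := by rw [← mul_assoc, hab]
      rw [h1, h2, mul_left_inj, mul_right_inj]
      constructor
      · intro h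
        have := mul_inv_cancel (a : G)
        rw [← h] at this
        exact this
      · intro h
        exact (inv_eq_of_mul_eq_one_left h).symm
    · simp [hab]
  -- counting
  set n := Fintype.card T with hn
  have hn0 : 0 < n := Fintype.card_pos
  have hcardG : Nat.card G = 2 * n := by
    rw [← Nat.card_eq_of_bijective e hbij, Nat.card_prod, Nat.card_eq_fintype_card,
      Nat.card_eq_fintype_card, Fintype.card_bool]
  set ε' : T := ⟨ε, hε⟩ with hε'
  have hεne : (1 : T) ≠ ε' := by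
    intro h
    apply hε1
    have := congrArg Subtype.val h
    exact this.symm
  have S3 : ∑ b : T, (if (b : G) * b = 1 then 1 else 0) = 2 := by
    rw [← Finset.card_filter]
    have : (Finset.univ.filter fun b : T => (b : G) * b = 1) = {1, ε'} := by
      ext b
      simp only [Finset.mem_filter, Finset.mem_univ, true_and, Finset.mem_insert,
        Finset.mem_singleton]
      rw [hinvol b b.2]
      constructor
      · rintro (h | h)
        · left; exact Subtype.ext h
        · right; exact Subtype.ext h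
      · rintro (rfl | rfl)
        · left; rfl
        · right; rfl
    rw [this, Finset.card_pair hεne]
  have S4 : ∀ a : T, ∑ b : T, (if (a : G) * a = b * b then 1 else 0) = 2 := by
    intro a
    rw [← Finset.card_filter]
    have : (Finset.univ.filter fun b : T => (a : G) * a = b * b) = {a, ε' * a} := by
      ext b
      simp only [Finset.mem_filter, Finset.mem_univ, true_and, Finset.mem_insert,
        Finset.mem_singleton]
      have hab : (a : G) * b = b * a := hcomm a a.2 b b.2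
      have key : (a : G) * a = b * b ↔ ((b * a⁻¹ : T) : G) * (b * a⁻¹ : T) = 1 := by
        have h1 : ((b * a⁻¹ : T) : G) * (b * a⁻¹ : T) = (b : G) * b * ((a : G) * a)⁻¹ := by
          push_cast
          have : (b : G) * (a : G)⁻¹ * (b * (a : G)⁻¹) = b * ((a : G)⁻¹ * b) * (a : G)⁻¹ := by group
          rw [this]
          have h2 : (a : G)⁻¹ * b = b * (a : G)⁻¹ := by
            rw [inv_mul_eq_iff_eq_mul, ← mul_assoc, hab, mul_assoc, mul_inv_cancel, mul_one]
          rw [h2]; group
        rw [h1, mul_inv_eq_one]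
        exact eq_comm
      rw [key, hinvol _ (b * a⁻¹ : T).2]
      constructor
      · rintro (h | h)
        · left
          have : b * a⁻¹ = 1 := Subtype.ext h
          exact mul_inv_eq_one.mp this
        · right
          have : b * a⁻¹ = ε' := Subtype.ext h
          exact mul_inv_eq_iff_eq_mul.mp this
      · rintro (rfl | rfl)
        · left; simp
        · right; simp [hε']
    rw [this, Finset.card_pair]
    intro h
    apply hεne
    have : (1 : T) * a = ε' * a := by rw [one_mul]; exact h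
    exact mul_right_cancel this
  have hcount : Nat.card {p : (Bool × T) × (Bool × T) // dcc T p.1 p.2} = n * n + 6 * n := by
    rw [Nat.card_eq_fintype_card, Fintype.card_subtype, Finset.card_filter]
    have c_tt : ∀ a b : T, dcc T (true, a) (true, b) ↔ True := fun _ _ => Iff.rfl
    have c_tf : ∀ a b : T, dcc T (true, a) (false, b) ↔ (a : G) * a = 1 := fun _ _ => Iff.rfl
    have c_ft : ∀ a b : T, dcc T (false, a) (true, b) ↔ (b : G) * b = 1 := fun _ _ => Iff.rfl
    have c_ff : ∀ a b : T, dcc T (false, a) (false, b) ↔ (a : G) * a = b * b := fun _ _ => Iff.rfl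
    simp only [Fintype.sum_prod_type, Fintype.sum_bool]
    simp only [c_tt, c_tf, c_ft, c_ff]
    simp only [if_true, Finset.sum_const, Finset.card_univ, smul_eq_mul, mul_one, S3, S4,
      Finset.sum_add_distrib]
    rw [← Finset.mul_sum, S3]
    simp only [← hn]
    ring
  have h1 := card_comm_eq_card_conjClasses_mul_card G
  have h3 : Nat.card {p : (Bool × T) × (Bool × T) // dcc T p.1 p.2} =
      Nat.card { p : G × G // Commute p.1 p.2 } := by
    apply Nat.card_congr
    refine Equiv.subtypeEquiv (Equiv.prodCongr (Equiv.ofBijective _ hbij) (Equiv.ofBijective _ hbij)) ?_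
    rintro ⟨p, p'⟩
    simp only [Equiv.prodCongr_apply, Prod.map_apply, Equiv.ofBijective_apply]
    exact (hcc p p').symm
  rw [← h3, hcount, hcardG] at h1
  have hT : Nat.card T = n := Nat.card_eq_fintype_card
  refine ⟨?_, by rw [hcardG, hT]⟩
  rw [hT]
  have h4 : n * (2 * Nat.card (ConjClasses G)) = n * (n + 6) := by
    have h5 : n * (n + 6) = n * n + 6 * n := by ring
    rw [h5, h1]; ring
  exact Nat.eq_of_mul_eq_mul_left hn0 h4

/-- membership predicate for the non-split torus. -/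
def cm {F : Type*} [Field F] (ν : F) (g : Matrix.SpecialLinearGroup (Fin 2) F) : Prop :=
  g.1 0 0 = g.1 1 1 ∧ g.1 0 1 = ν * g.1 1 0

/-- the elements anticommuting with the generator of the torus algebra. -/
def am {F : Type*} [Field F] (ν : F) (g : Matrix.SpecialLinearGroup (Fin 2) F) : Prop :=
  g.1 1 1 = -g.1 0 0 ∧ g.1 0 1 = -(ν * g.1 1 0)

theorem cm_mul {F : Type*} [Field F] (ν : F) (a b : Matrix.SpecialLinearGroup (Fin 2) F)
    (ha : cm ν a) (hb : cm ν b) : cm ν (a * b) := by
  obtain ⟨ha1, ha2⟩ := ha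
  obtain ⟨hb1, hb2⟩ := hb
  constructor
  · simp only [Matrix.SpecialLinearGroup.coe_mul, Matrix.mul_apply, Fin.sum_univ_two]
    grind
  · simp only [Matrix.SpecialLinearGroup.coe_mul, Matrix.mul_apply, Fin.sum_univ_two]
    grind

theorem inv00 {F : Type*} [Field F] (a : Matrix.SpecialLinearGroup (Fin 2) F) :
    (a⁻¹).1 0 0 = a.1 1 1 := by
  simp [Matrix.SpecialLinearGroup.coe_inv, Matrix.adjugate_fin_two]

theorem inv01 {F : Type*} [Field F] (a : Matrix.SpecialLinearGroup (Fin 2) F) :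
    (a⁻¹).1 0 1 = -a.1 0 1 := by
  simp [Matrix.SpecialLinearGroup.coe_inv, Matrix.adjugate_fin_two]

theorem inv10 {F : Type*} [Field F] (a : Matrix.SpecialLinearGroup (Fin 2) F) :
    (a⁻¹).1 1 0 = -a.1 1 0 := by
  simp [Matrix.SpecialLinearGroup.coe_inv, Matrix.adjugate_fin_two]

theorem inv11 {F : Type*} [Field F] (a : Matrix.SpecialLinearGroup (Fin 2) F) :
    (a⁻¹).1 1 1 = a.1 0 0 := by
  simp [Matrix.SpecialLinearGroup.coe_inv, Matrix.adjugate_fin_two]

theorem mul00 {F : Type*} [Field F] (a b : Matrix.SpecialLinearGroup (Fin 2) F) :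
    (a * b).1 0 0 = a.1 0 0 * b.1 0 0 + a.1 0 1 * b.1 1 0 := by
  simp [Matrix.SpecialLinearGroup.coe_mul, Matrix.mul_apply, Fin.sum_univ_two]

theorem mul01 {F : Type*} [Field F] (a b : Matrix.SpecialLinearGroup (Fin 2) F) :
    (a * b).1 0 1 = a.1 0 0 * b.1 0 1 + a.1 0 1 * b.1 1 1 := by
  simp [Matrix.SpecialLinearGroup.coe_mul, Matrix.mul_apply, Fin.sum_univ_two]

theorem mul10 {F : Type*} [Field F] (a b : Matrix.SpecialLinearGroup (Fin 2) F) :
    (a * b).1 1 0 = a.1 1 0 * b.1 0 0 + a.1 1 1 * b.1 1 0 := by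
  simp [Matrix.SpecialLinearGroup.coe_mul, Matrix.mul_apply, Fin.sum_univ_two]

theorem mul11 {F : Type*} [Field F] (a b : Matrix.SpecialLinearGroup (Fin 2) F) :
    (a * b).1 1 1 = a.1 1 0 * b.1 0 1 + a.1 1 1 * b.1 1 1 := by
  simp [Matrix.SpecialLinearGroup.coe_mul, Matrix.mul_apply, Fin.sum_univ_two]

theorem det2 {F : Type*} [Field F] (x : Matrix.SpecialLinearGroup (Fin 2) F) :
    x.1 0 0 * x.1 1 1 - x.1 0 1 * x.1 1 0 = 1 := S2475.sl2_det' x

theorem cm_inv {F : Type*} [Field F] (ν : F) (a : Matrix.SpecialLinearGroup (Fin 2) F)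
    (ha : cm ν a) : cm ν a⁻¹ := by
  obtain ⟨ha1, ha2⟩ := ha
  constructor
  · rw [inv00, inv11, ha1]
  · rw [inv01, inv10, ha2]; ring

/-- the non-split torus. -/
def Tn {F : Type*} [Field F] (ν : F) : Subgroup (Matrix.SpecialLinearGroup (Fin 2) F) where
  carrier := {g | cm ν g}
  mul_mem' := fun {a b} ha hb => cm_mul ν a b ha hb
  one_mem' := by constructor <;> simp
  inv_mem' := fun {a} ha => cm_inv ν a ha

theorem mem_Tn {F : Type*} [Field F] (ν : F) (g : Matrix.SpecialLinearGroup (Fin 2) F) :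
    g ∈ Tn ν ↔ cm ν g := Iff.rfl

theorem sl2_ext' {F : Type*} [Field F] (g h : Matrix.SpecialLinearGroup (Fin 2) F)
    (h00 : g.1 0 0 = h.1 0 0) (h01 : g.1 0 1 = h.1 0 1)
    (h10 : g.1 1 0 = h.1 1 0) (h11 : g.1 1 1 = h.1 1 1) : g = h := by
  apply Subtype.ext
  ext i j
  fin_cases i <;> fin_cases j <;> assumption

theorem Tn_comm {F : Type*} [Field F] (ν : F) (a b : Matrix.SpecialLinearGroup (Fin 2) F)
    (ha : cm ν a) (hb : cm ν b) : a * b = b * a := by
  obtain ⟨ha1, ha2⟩ := ha
  obtain ⟨hb1, hb2⟩ := hb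
  apply sl2_ext'
  · rw [mul00, mul00]; grind
  · rw [mul01, mul01]; grind
  · rw [mul10, mul10]; grind
  · rw [mul11, mul11]; grind

/-- the element of the quadratic algebra attached to a torus element. -/
def zof {F : Type*} [Field F] (ν : F) (g : Matrix.SpecialLinearGroup (Fin 2) F) :
    QuadraticAlgebra F ν 0 :=
  ⟨g.1 0 0, g.1 1 0⟩

theorem norm_zof {F : Type*} [Field F] (ν : F) (g : Matrix.SpecialLinearGroup (Fin 2) F)
    (hg : cm ν g) : norm (zof ν g) = 1 := by
  have hd := det2 g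
  obtain ⟨h1, h2⟩ := hg
  rw [QuadraticAlgebra.norm_def]
  simp only [zof]
  grind

/-- the embedding of the torus in the multiplicative monoid of the quadratic algebra. -/
def Psi0 {F : Type*} [Field F] (ν : F) : Tn ν →* QuadraticAlgebra F ν 0 where
  toFun g := zof ν g
  map_one' := by
    ext <;> simp [zof]
  map_mul' a b := by
    obtain ⟨ha1, ha2⟩ := a.2
    obtain ⟨hb1, hb2⟩ := b.2
    ext
    · simp only [zof, Subgroup.coe_mul, QuadraticAlgebra.re_mul]
      rw [mul00]; grind
    · simp only [zof, Subgroup.coe_mul, QuadraticAlgebra.im_mul]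
      rw [mul10]; grind

theorem Psi0_inj {F : Type*} [Field F] (ν : F) : Function.Injective (Psi0 ν : Tn ν → _) := by
  intro a b h
  obtain ⟨ha1, ha2⟩ := a.2
  obtain ⟨hb1, hb2⟩ := b.2
  have hre : a.1.1 0 0 = b.1.1 0 0 := congrArg QuadraticAlgebra.re h
  have him : a.1.1 1 0 = b.1.1 1 0 := congrArg QuadraticAlgebra.im h
  apply Subtype.ext
  apply sl2_ext'
  · exact hre
  · rw [ha2, hb2, him]
  · exact him
  · rw [← ha1, ← hb1]; exact hre


theorem Tn_cyclic {F : Type*} [Field F] [Fintype F] (ν : F) [Fact (∀ r : F, r ^ 2 ≠ ν + 0 * r)] :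
    IsCyclic (Tn ν) := by
  have hinj : Function.Injective ((Psi0 ν).toHomUnits) := by
    intro a b h
    apply Psi0_inj ν
    have := congrArg Units.val h
    simpa [MonoidHom.coe_toHomUnits] using this
  exact isCyclic_of_injective _ hinj

theorem mu_mem {F : Type*} [Field F] (ν : F) (g : Matrix.SpecialLinearGroup (Fin 2) F)
    (z : QuadraticAlgebra F ν 0) (hg : g.1 = S2475.mu ν 0 z) : cm ν g ∧ zof ν g = z := by
  rw [S2475.mu_apply] at hg
  refine ⟨⟨?_, ?_⟩, ?_⟩
  · rw [hg]; simp
  · rw [hg]; simp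
  · ext
    · simp [zof, hg]
    · simp [zof, hg]

theorem Tn_card {F : Type*} [Field F] [Fintype F] (ν : F) [Fact (∀ r : F, r ^ 2 ≠ ν + 0 * r)] :
    Nat.card (Tn ν) = Fintype.card F + 1 := by
  classical
  have hq2 : 2 ≤ Fintype.card F := Fintype.one_lt_card
  have hmem : ∀ g : Tn ν, (Psi0 ν).toHomUnits g ∈
      (powMonoidHom (Fintype.card F + 1) : (QuadraticAlgebra F ν 0)ˣ →* _).ker := by
    intro g
    rw [MonoidHom.mem_ker, powMonoidHom_apply]
    apply Units.ext
    rw [Units.val_pow_eq_pow_val, MonoidHom.coe_toHomUnits, S2475.pow_card_add_one]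
    show algebraMap F _ (norm (zof ν g.1)) = _
    rw [norm_zof ν g.1 g.2, map_one, Units.val_one]
  have hbij : Function.Bijective (fun g : Tn ν =>
      (⟨(Psi0 ν).toHomUnits g, hmem g⟩ :
        (powMonoidHom (Fintype.card F + 1) : (QuadraticAlgebra F ν 0)ˣ →* _).ker)) := by
    constructor
    · intro a b h
      apply Psi0_inj ν
      have h1 := congrArg Subtype.val h
      have := congrArg Units.val h1
      simpa [MonoidHom.coe_toHomUnits] using this
    · rintro ⟨z, hz⟩
      rw [MonoidHom.mem_ker, powMonoidHom_apply] at hz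
      have h1 : (z : QuadraticAlgebra F ν 0) ^ (Fintype.card F + 1) = 1 := by
        rw [← Units.val_pow_eq_pow_val, hz, Units.val_one]
      have hnorm : norm (z : QuadraticAlgebra F ν 0) = 1 := by
        apply QuadraticAlgebra.algebraMap_injective (a := ν) (b := (0 : F))
        rw [← S2475.pow_card_add_one, h1, map_one]
      obtain ⟨g, hg⟩ : ∃ g : Matrix.SpecialLinearGroup (Fin 2) F,
          g.1 = S2475.mu ν 0 (z : QuadraticAlgebra F ν 0) :=
        ⟨⟨S2475.mu ν 0 z, by rw [S2475.det_mu, hnorm]⟩, rfl⟩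
      obtain ⟨hc, hzof⟩ := mu_mem ν g _ hg
      refine ⟨⟨g, hc⟩, ?_⟩
      apply Subtype.ext
      apply Units.ext
      show zof ν g = _
      exact hzof
  rw [Nat.card_eq_of_bijective _ hbij, IsCyclic.card_powMonoidHom_ker, Nat.card_units, S2475.card_K]
  have hqq : Fintype.card F ^ 2 - 1 = (Fintype.card F - 1) * (Fintype.card F + 1) := by
    obtain ⟨r, hr⟩ : ∃ r, Fintype.card F = r + 1 := ⟨Fintype.card F - 1, by omega⟩
    rw [hr]
    have : (r + 1) ^ 2 = (r + 1 - 1) * (r + 1 + 1) + 1 := by simp; ring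
    omega
  rw [hqq]
  exact Nat.gcd_mul_left_left _ _


theorem cm_scalar {F : Type*} [Field F] (ν : F) (g : Matrix.SpecialLinearGroup (Fin 2) F)
    (hg : cm ν g) (hy : g.1 1 0 = 0) : g.1 = 1 ∨ g.1 = -1 := by
  obtain ⟨h1, h2⟩ := hg
  have hd := det2 g
  rw [hy, mul_zero] at h2
  rw [h2, zero_mul, sub_zero, ← h1] at hd
  rcases mul_self_eq_one_iff.mp hd with h | h
  · left
    ext i j
    fin_cases i <;> fin_cases j <;> simp [← h1, h, h2, hy]
  · right
    ext i j
    fin_cases i <;> fin_cases j <;> simp [← h1, h, h2, hy]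

theorem cent_Tn {F : Type*} [Field F] (ν : F) (hν0 : ν ≠ 0)
    (g : Matrix.SpecialLinearGroup (Fin 2) F) (hg : cm ν g) (hy : g.1 1 0 ≠ 0) :
    Subgroup.centralizer ({g} : Set (Matrix.SpecialLinearGroup (Fin 2) F)) = Tn ν := by
  ext h
  rw [Subgroup.mem_centralizer_singleton_iff, mem_Tn]
  constructor
  · intro e
    obtain ⟨h1, h2⟩ := hg
    have e00 := congrArg (fun m : Matrix.SpecialLinearGroup (Fin 2) F => m.1 0 0) e
    have e10 := congrArg (fun m : Matrix.SpecialLinearGroup (Fin 2) F => m.1 1 0) e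
    simp only [mul00, mul10] at e00 e10
    constructor
    · have h3 : g.1 1 0 * (h.1 0 0 - h.1 1 1) = 0 := by grind
      rcases mul_eq_zero.mp h3 with h4 | h4
      · exact absurd h4 hy
      · exact sub_eq_zero.mp h4
    · have h3 : g.1 1 0 * (h.1 0 1 - ν * h.1 1 0) = 0 := by grind
      rcases mul_eq_zero.mp h3 with h4 | h4
      · exact absurd h4 hy
      · exact sub_eq_zero.mp h4
  · intro hh
    exact Tn_comm ν _ _ hh hg

theorem am_inv {F : Type*} [Field F] (ν : F) (g : Matrix.SpecialLinearGroup (Fin 2) F)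
    (hg : am ν g) : am ν g⁻¹ := by
  obtain ⟨h1, h2⟩ := hg
  constructor
  · rw [inv00, inv11, h1]; ring
  · rw [inv01, inv10, h2]; ring

theorem am_conj_eq {F : Type*} [Field F] (ν : F) (g n : Matrix.SpecialLinearGroup (Fin 2) F)
    (hg : am ν g) (hn : cm ν n) : g * n * g⁻¹ = n⁻¹ := by
  obtain ⟨h1, h2⟩ := hg
  obtain ⟨h3, h4⟩ := hn
  rw [mul_inv_eq_iff_eq_mul]
  apply sl2_ext'
  · rw [mul00, mul00, inv00, inv01]; grind
  · rw [mul01, mul01, inv00, inv01]; grind
  · rw [mul10, mul10, inv10, inv11]; grind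
  · rw [mul11, mul11, inv10, inv11]; grind

theorem am_mul_am {F : Type*} [Field F] (ν : F) (a b : Matrix.SpecialLinearGroup (Fin 2) F)
    (ha : am ν a) (hb : am ν b) : cm ν (a * b) := by
  obtain ⟨h1, h2⟩ := ha
  obtain ⟨h3, h4⟩ := hb
  constructor
  · rw [mul00, mul11]; grind
  · rw [mul01, mul10]; grind

theorem am_sq {F : Type*} [Field F] (ν : F) (g : Matrix.SpecialLinearGroup (Fin 2) F)
    (hg : am ν g) : g.1 * g.1 = -1 := by
  obtain ⟨h1, h2⟩ := hg
  have hd := det2 g
  ext i j
  fin_cases i <;> fin_cases j <;> simp [Matrix.mul_apply, Fin.sum_univ_two] <;> grind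

theorem am_not_cm {F : Type*} [Field F] (ν : F) (h2 : (2 : F) ≠ 0)
    (g : Matrix.SpecialLinearGroup (Fin 2) F) (hg : am ν g) : ¬ cm ν g := by
  rintro ⟨h3, h4⟩
  obtain ⟨h1, h2'⟩ := hg
  have hd := det2 g
  have h5 : (2 : F) * g.1 0 0 = 0 := by grind
  have h6 : (2 : F) * g.1 0 1 = 0 := by grind
  have h7 : g.1 0 0 = 0 := by
    rcases mul_eq_zero.mp h5 with h | h
    · exact absurd h h2
    · exact h
  have h8 : g.1 0 1 = 0 := by
    rcases mul_eq_zero.mp h6 with h | h
    · exact absurd h h2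
    · exact h
  rw [h7, h8] at hd
  simp at hd

theorem N_mem {F : Type*} [Field F] (ν : F) (hν0 : ν ≠ 0) (h2 : (2 : F) ≠ 0)
    (τ : Matrix.SpecialLinearGroup (Fin 2) F) (hτ : cm ν τ) (hτy : τ.1 1 0 ≠ 0)
    (g : Matrix.SpecialLinearGroup (Fin 2) F) :
    g ∈ Subgroup.normalizer ((Tn ν : Subgroup (Matrix.SpecialLinearGroup (Fin 2) F)) :
      Set (Matrix.SpecialLinearGroup (Fin 2) F)) ↔ cm ν g ∨ am ν g := by
  rw [Subgroup.mem_set_normalizer_iff]
  constructor
  · intro h
    have h1 : cm ν (g * τ * g⁻¹) := (h τ).1 hτ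
    obtain ⟨σ, hσ⟩ : ∃ σ : Matrix.SpecialLinearGroup (Fin 2) F, σ = g * τ * g⁻¹ := ⟨_, rfl⟩
    rw [← hσ] at h1
    have hσg : σ * g = g * τ := by rw [hσ]; group
    have e00 := congrArg (fun m : Matrix.SpecialLinearGroup (Fin 2) F => m.1 0 0) hσg
    have e01 := congrArg (fun m : Matrix.SpecialLinearGroup (Fin 2) F => m.1 0 1) hσg
    have e10 := congrArg (fun m : Matrix.SpecialLinearGroup (Fin 2) F => m.1 1 0) hσg
    have e11 := congrArg (fun m : Matrix.SpecialLinearGroup (Fin 2) F => m.1 1 1) hσg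
    simp only [mul00, mul01, mul10, mul11] at e00 e01 e10 e11
    obtain ⟨s1, s2⟩ := h1
    obtain ⟨t1, t2⟩ := hτ
    have dg := det2 g
    have dσ := det2 σ
    have dτ := det2 τ
    have hx1 : σ.1 0 0 = τ.1 0 0 + τ.1 1 0 * (g.1 0 1 * g.1 1 1 - ν * g.1 0 0 * g.1 1 0) := by
      grind
    have hx2 : σ.1 0 0 = τ.1 0 0 - τ.1 1 0 * (g.1 0 1 * g.1 1 1 - ν * g.1 0 0 * g.1 1 0) := by
      grind
    have hbd : (2 : F) * (τ.1 1 0 * (g.1 0 1 * g.1 1 1 - ν * g.1 0 0 * g.1 1 0)) = 0 := by
      grind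
    have hbd' : τ.1 1 0 * (g.1 0 1 * g.1 1 1 - ν * g.1 0 0 * g.1 1 0) = 0 := by
      rcases mul_eq_zero.mp hbd with h' | h'
      · exact absurd h' h2
      · exact h'
    have hxx : σ.1 0 0 = τ.1 0 0 := by rw [hx1, hbd', add_zero]
    have hyy : ν * (σ.1 1 0 * σ.1 1 0 - τ.1 1 0 * τ.1 1 0) = 0 := by grind
    have hyy' : σ.1 1 0 * σ.1 1 0 = τ.1 1 0 * τ.1 1 0 := by
      rcases mul_eq_zero.mp hyy with h' | h'
      · exact absurd h' hν0
      · exact sub_eq_zero.mp h'
    rcases mul_self_eq_mul_self_iff.mp hyy' with hy | hy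
    · left
      constructor
      · have h3 : τ.1 1 0 * (g.1 0 0 - g.1 1 1) = 0 := by grind
        rcases mul_eq_zero.mp h3 with h4 | h4
        · exact absurd h4 hτy
        · exact sub_eq_zero.mp h4
      · have h3 : τ.1 1 0 * (g.1 0 1 - ν * g.1 1 0) = 0 := by grind
        rcases mul_eq_zero.mp h3 with h4 | h4
        · exact absurd h4 hτy
        · exact sub_eq_zero.mp h4
    · right
      constructor
      · have h3 : τ.1 1 0 * (g.1 1 1 + g.1 0 0) = 0 := by grind
        rcases mul_eq_zero.mp h3 with h4 | h4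
        · exact absurd h4 hτy
        · exact eq_neg_of_add_eq_zero_left h4
      · have h3 : τ.1 1 0 * (g.1 0 1 + ν * g.1 1 0) = 0 := by grind
        rcases mul_eq_zero.mp h3 with h4 | h4
        · exact absurd h4 hτy
        · exact eq_neg_of_add_eq_zero_left h4
  · intro h n
    simp only [SetLike.mem_coe, mem_Tn]
    rcases h with h | h
    · constructor
      · intro hn
        exact cm_mul ν _ _ (cm_mul ν _ _ h hn) (cm_inv ν _ h)
      · intro hn
        have : n = g⁻¹ * (g * n * g⁻¹) * g := by group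
        rw [this]
        exact cm_mul ν _ _ (cm_mul ν _ _ (cm_inv ν _ h) hn) h
    · constructor
      · intro hn
        rw [am_conj_eq ν g n h hn]
        exact cm_inv ν _ hn
      · intro hn
        have h' := am_conj_eq ν g⁻¹ _ (am_inv ν g h) hn
        have : n = g⁻¹ * (g * n * g⁻¹) * g⁻¹⁻¹ := by group
        rw [this, h']
        exact cm_inv ν _ hn


theorem exists_norm_neg_one {F : Type*} [Field F] [Fintype F] (hodd : Fintype.card F % 2 = 1)
    (a b : F) [Fact (∀ r : F, r ^ 2 ≠ a + b * r)] :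
    ∃ z : QuadraticAlgebra F a b, norm z = -1 := by
  classical
  obtain ⟨k, hk⟩ : ∃ k, Fintype.card F = 2 * k + 1 := ⟨Fintype.card F / 2, by omega⟩
  have hq2 : 2 ≤ Fintype.card F := Fintype.one_lt_card
  have hk1 : 1 ≤ k := by omega
  obtain ⟨ζ, hζ⟩ := IsCyclic.exists_generator (α := (QuadraticAlgebra F a b)ˣ)
  have hord : orderOf ζ = Fintype.card F ^ 2 - 1 := by
    rw [orderOf_eq_card_of_forall_mem_zpowers hζ, Nat.card_units, S2475.card_K]
  have hM : Fintype.card F ^ 2 - 1 = 2 * (k * (Fintype.card F + 1)) := by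
    rw [hk]
    have : (2 * k + 1) ^ 2 = 2 * (k * (2 * k + 1 + 1)) + 1 := by ring
    omega
  have hu2 : (ζ ^ (k * (Fintype.card F + 1))) * (ζ ^ (k * (Fintype.card F + 1))) = 1 := by
    rw [← pow_add, ← two_mul, ← hM, ← hord, pow_orderOf_eq_one]
  have hu1 : ζ ^ (k * (Fintype.card F + 1)) ≠ 1 := by
    apply pow_ne_one_of_lt_orderOf
    · have : 0 < k * (Fintype.card F + 1) := Nat.mul_pos hk1 (by omega)
      omega
    · rw [hord, hM]
      have : 0 < k * (Fintype.card F + 1) := Nat.mul_pos hk1 (by omega)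
      omega
  have hu : ((ζ ^ (k * (Fintype.card F + 1)) : (QuadraticAlgebra F a b)ˣ) : QuadraticAlgebra F a b)
      = -1 := by
    have h1 : ((ζ ^ (k * (Fintype.card F + 1)) : (QuadraticAlgebra F a b)ˣ) : QuadraticAlgebra F a b)
        * ((ζ ^ (k * (Fintype.card F + 1)) : (QuadraticAlgebra F a b)ˣ) : QuadraticAlgebra F a b)
        = 1 := by
      rw [← Units.val_mul, hu2, Units.val_one]
    rcases mul_self_eq_one_iff.mp h1 with h | h
    · exact absurd (Units.ext (by rw [h, Units.val_one])) hu1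
    · exact h
  refine ⟨((ζ : QuadraticAlgebra F a b)) ^ k, ?_⟩
  apply QuadraticAlgebra.algebraMap_injective (a := a) (b := b)
  rw [← S2475.pow_card_add_one, ← pow_mul, ← Units.val_pow_eq_pow_val, hu, map_neg, map_one]

theorem exists_anti {F : Type*} [Field F] [Fintype F] (hodd : Fintype.card F % 2 = 1)
    (ν : F) [Fact (∀ r : F, r ^ 2 ≠ ν + 0 * r)] :
    ∃ w : Matrix.SpecialLinearGroup (Fin 2) F, am ν w := by
  obtain ⟨z, hz⟩ := exists_norm_neg_one hodd ν 0
  rw [QuadraticAlgebra.norm_def] at hz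
  obtain ⟨w, hw⟩ : ∃ w : Matrix.SpecialLinearGroup (Fin 2) F,
      w.1 = !![z.re, -(ν * z.im); z.im, -z.re] :=
    ⟨⟨!![z.re, -(ν * z.im); z.im, -z.re], by rw [Matrix.det_fin_two_of]; linear_combination -hz⟩, rfl⟩
  refine ⟨w, ?_, ?_⟩
  · rw [hw]; simp
  · rw [hw]; simp

theorem conj_into_Tn {F : Type*} [Field F] [Fintype F] (hodd : Fintype.card F % 2 = 1)
    (h2 : (2 : F) ≠ 0) (ν : F) (hν : ¬ IsSquare ν)
    (g : Matrix.SpecialLinearGroup (Fin 2) F)
    (hg : ∀ (c : F) (v : Fin 2 → F), v ≠ 0 → g.1.mulVec v ≠ c • v) :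
    ∃ h : Matrix.SpecialLinearGroup (Fin 2) F, h * g * h⁻¹ ∈ Tn ν := by
  classical
  have hν0 : ν ≠ 0 := by
    rintro rfl
    exact hν IsSquare.zero
  have hd := det2 g
  have htr : S2325.tr2 g = g.1 0 0 + g.1 1 1 := rfl
  have hδ : ¬ IsSquare (S2325.tr2 g ^ 2 - 4) := by
    rintro ⟨s, hs⟩
    have hdet : (g.1 - ((S2325.tr2 g + s) / 2) • (1 : Matrix (Fin 2) (Fin 2) F)).det = 0 := by
      rw [Matrix.det_fin_two]
      simp
      field_simp
      rw [htr] at hs ⊢
      linear_combination (-1 : F) * hs + 4 * hd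
    obtain ⟨v, hv0, hv⟩ := Matrix.exists_mulVec_eq_zero_iff.mpr hdet
    apply hg ((S2325.tr2 g + s) / 2) v hv0
    rw [Matrix.sub_mulVec, Matrix.smul_mulVec, Matrix.one_mulVec, sub_eq_zero] at hv
    exact hv
  have hδ0 : S2325.tr2 g ^ 2 ≠ 4 := by
    intro h
    apply hδ
    rw [h, sub_self]
    exact IsSquare.zero
  have hsq : IsSquare ((S2325.tr2 g ^ 2 - 4) * ν) := by
    have h1 := quadraticChar_neg_one_iff_not_isSquare.mpr hδ
    have h3 := quadraticChar_neg_one_iff_not_isSquare.mpr hν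
    have h4 : quadraticChar F ((S2325.tr2 g ^ 2 - 4) * ν) = 1 := by
      rw [map_mul, h1, h3]; norm_num
    have hne : (S2325.tr2 g ^ 2 - 4) * ν ≠ 0 := mul_ne_zero (sub_ne_zero.mpr hδ0) hν0
    exact (quadraticChar_one_iff_isSquare hne).mp h4
  obtain ⟨s, hs⟩ := hsq
  obtain ⟨τ, hτ⟩ : ∃ τ : Matrix.SpecialLinearGroup (Fin 2) F,
      τ.1 = !![S2325.tr2 g / 2, ν * (s / (2 * ν)); s / (2 * ν), S2325.tr2 g / 2] :=
    ⟨⟨!![S2325.tr2 g / 2, ν * (s / (2 * ν)); s / (2 * ν), S2325.tr2 g / 2], by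
      rw [Matrix.det_fin_two_of]
      field_simp
      linear_combination hs⟩, rfl⟩
  have hτc : cm ν τ := by
    constructor
    · rw [hτ]; simp
    · rw [hτ]; simp
  have hτt : S2325.tr2 τ = S2325.tr2 g := by
    have : S2325.tr2 τ = τ.1 0 0 + τ.1 1 1 := rfl
    rw [this, hτ]
    simp
    field_simp
    ring
  have c1 := S2325.comp_conj hodd h2 g hδ0
  have c2 := S2325.comp_conj hodd h2 τ (by rw [hτt]; exact hδ0)
  rw [hτt] at c2
  obtain ⟨c, hc⟩ := isConj_iff.mp (c1.symm.trans c2)
  exact ⟨c, by rw [hc]; exact hτc⟩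


/-- the central element `-1`. -/
def negOne (F : Type*) [Field F] : Matrix.SpecialLinearGroup (Fin 2) F :=
  ⟨!![-1, 0; 0, -1], by simp [Matrix.det_fin_two_of]⟩

theorem negOne_val (F : Type*) [Field F] : (negOne F).1 = -1 := by
  ext i j
  fin_cases i <;> fin_cases j <;> simp [negOne]

theorem negOne_cm {F : Type*} [Field F] (ν : F) : cm ν (negOne F) := by
  constructor <;> simp [negOne]

theorem negOne_sq (F : Type*) [Field F] : negOne F * negOne F = 1 := by
  apply Subtype.ext
  rw [Matrix.SpecialLinearGroup.coe_mul, negOne_val]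
  simp

theorem cm_sq_one {F : Type*} [Field F] (ν : F) (hν0 : ν ≠ 0) (h2 : (2 : F) ≠ 0)
    (t : Matrix.SpecialLinearGroup (Fin 2) F) (ht : cm ν t) (hsq : t * t = 1) :
    t = 1 ∨ t = negOne F := by
  have e00 := congrArg (fun m : Matrix.SpecialLinearGroup (Fin 2) F => m.1 0 0) hsq
  simp only [mul00] at e00
  have e1 : (1 : Matrix.SpecialLinearGroup (Fin 2) F).1 0 0 = 1 := by simp
  rw [e1] at e00
  have hd := det2 t
  obtain ⟨t1, t2⟩ := ht
  have h3 : (2 : F) * (ν * (t.1 1 0 * t.1 1 0)) = 0 := by grind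
  have hy : t.1 1 0 = 0 := by
    rcases mul_eq_zero.mp h3 with h | h
    · exact absurd h h2
    · rcases mul_eq_zero.mp h with h | h
      · exact absurd h hν0
      · exact mul_self_eq_zero.mp h
  rcases cm_scalar ν t ⟨t1, t2⟩ hy with h | h
  · left
    exact Subtype.ext h
  · right
    apply Subtype.ext
    rw [h, negOne_val]

theorem result {F : Type*} [Field F] [Fintype F] (hodd : Odd (Fintype.card F)) :
    ∃ T' : Subgroup (Matrix.SpecialLinearGroup (Fin 2) F), IsCyclic T' ∧ Nat.card T' = Fintype.card F + 1 ∧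
      Subgroup.centralizer ((T' : Set (Matrix.SpecialLinearGroup (Fin 2) F))) = T' ∧
      (∀ g : Matrix.SpecialLinearGroup (Fin 2) F, g ∈ T' → (g : Matrix (Fin 2) (Fin 2) F) ≠ 1 → (g : Matrix (Fin 2) (Fin 2) F) ≠ -1 → Subgroup.centralizer ({g} : Set (Matrix.SpecialLinearGroup (Fin 2) F)) = T') ∧
      (∀ g : Matrix.SpecialLinearGroup (Fin 2) F, (∀ (c : F) (v : Fin 2 → F), v ≠ 0 → (g : Matrix (Fin 2) (Fin 2) F).mulVec v ≠ c • v) → ∃ h : Matrix.SpecialLinearGroup (Fin 2) F, h * g * h⁻¹ ∈ T') ∧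
      Nat.card (Subgroup.normalizer (T' : Set (Matrix.SpecialLinearGroup (Fin 2) F))) = 2 * (Fintype.card F + 1) ∧
      Nat.card (ConjClasses (Subgroup.normalizer (T' : Set (Matrix.SpecialLinearGroup (Fin 2) F)))) = (Fintype.card F + 7) / 2 ∧
      ∀ g : Matrix.SpecialLinearGroup (Fin 2) F, g ∈ Subgroup.normalizer (T' : Set (Matrix.SpecialLinearGroup (Fin 2) F)) → g ∉ T' → ((g * g) : Matrix (Fin 2) (Fin 2) F) = -1 := by
  classical
  have hodd' : Fintype.card F % 2 = 1 := Nat.odd_iff.mp hodd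
  have hF : ringChar F ≠ 2 := by
    intro h
    have := FiniteField.even_card_iff_char_two.1 h
    omega
  have h2 : (2 : F) ≠ 0 := Ring.two_ne_zero hF
  have hq2 : 2 ≤ Fintype.card F := Fintype.one_lt_card
  obtain ⟨ν, hν⟩ := FiniteField.exists_nonsquare hF
  have hν0 : ν ≠ 0 := by
    rintro rfl
    exact hν IsSquare.zero
  have : Fact (∀ r : F, r ^ 2 ≠ ν + 0 * r) := ⟨fun r hr => hν ⟨r, by linear_combination (-1 : F) * hr⟩⟩
  have hcyc := Tn_cyclic ν
  have hcard := Tn_card ν
  obtain ⟨τ, hτ, hτy⟩ : ∃ τ : Matrix.SpecialLinearGroup (Fin 2) F, cm ν τ ∧ τ.1 1 0 ≠ 0 := by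
    obtain ⟨g0, hg0⟩ := IsCyclic.exists_generator (α := Tn ν)
    have hord : orderOf g0 = Fintype.card F + 1 := by
      rw [orderOf_eq_card_of_forall_mem_zpowers hg0, hcard]
    refine ⟨g0.1, g0.2, ?_⟩
    intro hy
    have hsq : g0 ^ 2 = 1 := by
      apply Subtype.ext
      apply Subtype.ext
      rw [pow_two, Subgroup.coe_mul, Matrix.SpecialLinearGroup.coe_mul]
      rcases cm_scalar ν g0.1 g0.2 hy with h | h
      · rw [h]; simp
      · rw [h]; simp
    have h3 := orderOf_dvd_of_pow_eq_one hsq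
    rw [hord] at h3
    have := Nat.le_of_dvd (by norm_num) h3
    omega
  have hN := N_mem ν hν0 h2 τ hτ hτy
  obtain ⟨w, hw⟩ := exists_anti hodd' ν
  have hcent : ∀ g : Matrix.SpecialLinearGroup (Fin 2) F, g ∈ Tn ν →
      (g : Matrix (Fin 2) (Fin 2) F) ≠ 1 → (g : Matrix (Fin 2) (Fin 2) F) ≠ -1 →
      Subgroup.centralizer ({g} : Set (Matrix.SpecialLinearGroup (Fin 2) F)) = Tn ν := by
    intro g hg h1 h1'
    apply cent_Tn ν hν0 g hg
    intro hy
    rcases cm_scalar ν g hg hy with h | h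
    · exact h1 h
    · exact h1' h
  -- the class count
  have hwN : w ∈ Subgroup.normalizer ((Tn ν : Subgroup (Matrix.SpecialLinearGroup (Fin 2) F)) :
      Set (Matrix.SpecialLinearGroup (Fin 2) F)) := (hN w).mpr (Or.inr hw)
  have hTN : Tn ν ≤ Subgroup.normalizer ((Tn ν : Subgroup (Matrix.SpecialLinearGroup (Fin 2) F)) :
      Set (Matrix.SpecialLinearGroup (Fin 2) F)) := fun g hg => (hN g).mpr (Or.inl hg)
  obtain ⟨hk, hcardN⟩ := dicyclic_classes
    ((Tn ν).subgroupOf (Subgroup.normalizer ((Tn ν : Subgroup (Matrix.SpecialLinearGroup (Fin 2) F)) :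
      Set (Matrix.SpecialLinearGroup (Fin 2) F))))
    ⟨w, hwN⟩
    (by
      intro a ha b hb
      rw [Subgroup.mem_subgroupOf] at ha hb
      exact Subtype.ext (Tn_comm ν a.1 b.1 ha hb))
    (by
      rw [Subgroup.mem_subgroupOf]
      exact am_not_cm ν h2 w hw)
    (by
      intro g hg
      rw [Subgroup.mem_subgroupOf] at hg ⊢
      rcases (hN g.1).mp g.2 with h | h
      · exact absurd h hg
      · exact am_mul_am ν g.1 w⁻¹ h (am_inv ν w hw))
    (by
      intro t ht
      rw [Subgroup.mem_subgroupOf] at ht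
      exact Subtype.ext (am_conj_eq ν w t.1 hw ht))
    ⟨negOne F, hTN (negOne_cm ν)⟩
    (by
      rw [Subgroup.mem_subgroupOf]
      exact negOne_cm ν)
    (by
      intro h
      have h3 := congrArg (fun m : Subgroup.normalizer ((Tn ν : Subgroup (Matrix.SpecialLinearGroup (Fin 2) F)) :
        Set (Matrix.SpecialLinearGroup (Fin 2) F)) => m.1.1 0 0) h
      simp [negOne] at h3
      apply h2
      linear_combination (-1 : F) * h3)
    (by
      intro t ht
      rw [Subgroup.mem_subgroupOf] at ht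
      constructor
      · intro hsq
        have hsq' : t.1 * t.1 = 1 := congrArg Subtype.val hsq
        rcases cm_sq_one ν hν0 h2 t.1 ht hsq' with h | h
        · left; exact Subtype.ext h
        · right; exact Subtype.ext h
      · rintro (h | h)
        · rw [h]; simp
        · rw [h]
          exact Subtype.ext (negOne_sq F))
  have hcardT : Nat.card ((Tn ν).subgroupOf (Subgroup.normalizer
      ((Tn ν : Subgroup (Matrix.SpecialLinearGroup (Fin 2) F)) :
      Set (Matrix.SpecialLinearGroup (Fin 2) F)))) = Fintype.card F + 1 := by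
    rw [← hcard]
    exact Nat.card_congr (Subgroup.subgroupOfEquivOfLe hTN).toEquiv
  rw [hcardT] at hk hcardN
  refine ⟨Tn ν, hcyc, hcard, ?_, hcent, ?_, hcardN, ?_, ?_⟩
  · apply le_antisymm
    · intro h hh
      have h3 : h ∈ Subgroup.centralizer ({τ} : Set (Matrix.SpecialLinearGroup (Fin 2) F)) := by
        rw [Subgroup.mem_centralizer_singleton_iff]
        exact (Subgroup.mem_centralizer_iff.mp hh τ hτ).symm
      rw [cent_Tn ν hν0 τ hτ hτy] at h3
      exact h3
    · intro h hh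
      rw [Subgroup.mem_centralizer_iff]
      intro n hn
      exact Tn_comm ν n h hn hh
  · intro g hg
    exact conj_into_Tn hodd' h2 ν hν g hg
  · omega
  · intro g hg hgT
    rcases (hN g).mp hg with h | h
    · exact absurd h hgT
    · exact am_sq ν g h

end Cfsg.Agent.S2429
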