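import Cfsg.Statements.S2507
import Mathlib
import Cfsg.Agent.S2429

set_option autoImplicit false
open Cfsg

namespace Cfsg.Agent.S2507

open QuadraticAlgebra Matrix

/-- number of points on the conic `x² + t x y + y² = 1`. -/
noncomputable def nsol {F : Type*} [Field F] (t : F) : ℕ :=
  Nat.card {p : F × F // p.1 ^ 2 + t * p.1 * p.2 + p.2 ^ 2 = 1}

theorem nsol_field {F : Type*} [Field F] [Fintype F] (t : F) [Fact (∀ r : F, r ^ 2 ≠ -1 + t * r)] :
    nsol t = Fintype.card F + 1 := by
  classical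
  have hq2 : 2 ≤ Fintype.card F := Fintype.one_lt_card
  have hnorm : ∀ p : {p : F × F // p.1 ^ 2 + t * p.1 * p.2 + p.2 ^ 2 = 1},
      norm (⟨p.1.1, p.1.2⟩ : QuadraticAlgebra F (-1) t) = 1 := by
    intro p
    rw [QuadraticAlgebra.norm_def]
    have := p.2
    simp only
    linear_combination this
  have hne : ∀ p : {p : F × F // p.1 ^ 2 + t * p.1 * p.2 + p.2 ^ 2 = 1},
      (⟨p.1.1, p.1.2⟩ : QuadraticAlgebra F (-1) t) ≠ 0 := by
    intro p h
    have := hnorm p
    rw [h, QuadraticAlgebra.norm_zero] at this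
    exact zero_ne_one this
  have hmem : ∀ p : {p : F × F // p.1 ^ 2 + t * p.1 * p.2 + p.2 ^ 2 = 1},
      Units.mk0 (⟨p.1.1, p.1.2⟩ : QuadraticAlgebra F (-1) t) (hne p) ∈
      (powMonoidHom (Fintype.card F + 1) : (QuadraticAlgebra F (-1) t)ˣ →* _).ker := by
    intro p
    rw [MonoidHom.mem_ker, powMonoidHom_apply]
    apply Units.ext
    rw [Units.val_pow_eq_pow_val, Units.val_mk0, S2475.pow_card_add_one, hnorm p, map_one,
      Units.val_one]
  have hbij : Function.Bijective (fun p : {p : F × F // p.1 ^ 2 + t * p.1 * p.2 + p.2 ^ 2 = 1} =>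
      (⟨Units.mk0 _ (hne p), hmem p⟩ :
        (powMonoidHom (Fintype.card F + 1) : (QuadraticAlgebra F (-1) t)ˣ →* _).ker)) := by
    constructor
    · intro p p' h
      have h1 := congrArg Subtype.val h
      have h2 := congrArg Units.val h1
      simp only [Units.val_mk0] at h2
      have hre := congrArg QuadraticAlgebra.re h2
      have him := congrArg QuadraticAlgebra.im h2
      simp only at hre him
      exact Subtype.ext (Prod.ext hre him)
    · rintro ⟨z, hz⟩
      rw [MonoidHom.mem_ker, powMonoidHom_apply] at hz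
      have h1 : (z : QuadraticAlgebra F (-1) t) ^ (Fintype.card F + 1) = 1 := by
        rw [← Units.val_pow_eq_pow_val, hz, Units.val_one]
      have hn : norm (z : QuadraticAlgebra F (-1) t) = 1 := by
        apply QuadraticAlgebra.algebraMap_injective (a := (-1 : F)) (b := t)
        rw [← S2475.pow_card_add_one, h1, map_one]
      rw [QuadraticAlgebra.norm_def] at hn
      refine ⟨⟨((z : QuadraticAlgebra F (-1) t).re, (z : QuadraticAlgebra F (-1) t).im), by
        simp only
        linear_combination hn⟩, ?_⟩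
      apply Subtype.ext
      apply Units.ext
      rfl
  unfold nsol
  rw [Nat.card_eq_of_bijective _ hbij, IsCyclic.card_powMonoidHom_ker, Nat.card_units,
    S2475.card_K]
  have hqq : Fintype.card F ^ 2 - 1 = (Fintype.card F - 1) * (Fintype.card F + 1) := by
    obtain ⟨r, hr⟩ : ∃ r, Fintype.card F = r + 1 := ⟨Fintype.card F - 1, by omega⟩
    rw [hr]
    have : (r + 1) ^ 2 = (r + 1 - 1) * (r + 1 + 1) + 1 := by simp; ring
    omega
  rw [hqq]
  exact Nat.gcd_mul_left_left _ _

theorem nsol_split' {F : Type*} [Field F] [Fintype F] (l m : F) (hlm : l * m = 1) (hne : l ≠ m) :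
    nsol (l + m) = Fintype.card F - 1 := by
  classical
  have hfac : ∀ p : {p : F × F // p.1 ^ 2 + (l + m) * p.1 * p.2 + p.2 ^ 2 = 1},
      (p.1.1 + l * p.1.2) * (p.1.1 + m * p.1.2) = 1 := by
    intro p
    have := p.2
    linear_combination this + p.1.2 ^ 2 * hlm
  have hne0 : ∀ p : {p : F × F // p.1 ^ 2 + (l + m) * p.1 * p.2 + p.2 ^ 2 = 1},
      p.1.1 + l * p.1.2 ≠ 0 := by
    intro p h
    have := hfac p
    rw [h, zero_mul] at this
    exact zero_ne_one this
  have hlm' : l - m ≠ 0 := sub_ne_zero.mpr hne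
  have hbij : Function.Bijective (fun p : {p : F × F // p.1 ^ 2 + (l + m) * p.1 * p.2 + p.2 ^ 2 = 1} =>
      Units.mk0 _ (hne0 p)) := by
    constructor
    · intro p p' h
      have h1 : p.1.1 + l * p.1.2 = p'.1.1 + l * p'.1.2 := by
        have := congrArg Units.val h
        simpa using this
      have h2 : p.1.1 + m * p.1.2 = p'.1.1 + m * p'.1.2 := by
        have e1 := hfac p
        have e2 := hfac p'
        rw [h1] at e1
        have : (p'.1.1 + l * p'.1.2) * (p.1.1 + m * p.1.2) =
            (p'.1.1 + l * p'.1.2) * (p'.1.1 + m * p'.1.2) := by rw [e1, e2]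
        exact mul_left_cancel₀ (hne0 p') this
      have h3 : (l - m) * (p.1.2 - p'.1.2) = 0 := by linear_combination h1 - h2
      have h4 : p.1.2 = p'.1.2 := by
        rcases mul_eq_zero.mp h3 with h | h
        · exact absurd h hlm'
        · exact sub_eq_zero.mp h
      have h5 : p.1.1 = p'.1.1 := by
        rw [h4] at h1
        exact add_right_cancel h1
      exact Subtype.ext (Prod.ext h5 h4)
    · intro u
      have hu : (u : F) ≠ 0 := u.ne_zero
      refine ⟨⟨((u : F) - l * (((u : F) - (u : F)⁻¹) / (l - m)), ((u : F) - (u : F)⁻¹) / (l - m)), ?_⟩, ?_⟩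
      · simp only
        field_simp
        grind
      · apply Units.ext
        simp
  unfold nsol
  rw [Nat.card_eq_of_bijective _ hbij, Nat.card_units, Nat.card_eq_fintype_card]

theorem nsol_split {F : Type*} [Field F] [Fintype F] (t l m : F) (hlm : l * m = 1) (hne : l ≠ m)
    (ht : t = l + m) : nsol t = Fintype.card F - 1 := by
  subst ht
  exact nsol_split' l m hlm hne

theorem nsol_deg' {F : Type*} [Field F] [Fintype F] (ε : F) (hε : ε * ε = 1) :
    nsol (2 * ε) = Fintype.card F * Nat.card {c : F // c * c = 1} := by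
  classical
  have hsq : ∀ p : {p : F × F // p.1 ^ 2 + (2 * ε) * p.1 * p.2 + p.2 ^ 2 = 1},
      (p.1.1 + ε * p.1.2) * (p.1.1 + ε * p.1.2) = 1 := by
    intro p
    have := p.2
    linear_combination this + p.1.2 ^ 2 * hε
  have hbij : Function.Bijective (fun p : {p : F × F // p.1 ^ 2 + (2 * ε) * p.1 * p.2 + p.2 ^ 2 = 1} =>
      ((p.1.2, ⟨p.1.1 + ε * p.1.2, hsq p⟩) : F × {c : F // c * c = 1})) := by
    constructor
    · intro p p' h
      have h1 : p.1.2 = p'.1.2 := congrArg Prod.fst h
      have h2 : p.1.1 + ε * p.1.2 = p'.1.1 + ε * p'.1.2 :=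
        congrArg (fun x : F × {c : F // c * c = 1} => x.2.1) h
      rw [h1] at h2
      exact Subtype.ext (Prod.ext (add_right_cancel h2) h1)
    · rintro ⟨y, ⟨c, hc⟩⟩
      refine ⟨⟨(c - ε * y, y), ?_⟩, ?_⟩
      · simp only
        linear_combination hc - y ^ 2 * hε
      · simp
  unfold nsol
  rw [Nat.card_eq_of_bijective _ hbij, Nat.card_prod, Nat.card_eq_fintype_card]

theorem nsol_deg {F : Type*} [Field F] [Fintype F] (t ε : F) (hε : ε * ε = 1) (ht : t = 2 * ε) :
    nsol t = Fintype.card F * Nat.card {c : F // c * c = 1} := by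
  subst ht
  exact nsol_deg' ε hε


/-- the element `x + y g` of the centralizer of `g`. -/
def lin {F : Type*} [Field F] (g : Matrix.SpecialLinearGroup (Fin 2) F) (x y : F)
    (h : x ^ 2 + (g.1 0 0 + g.1 1 1) * x * y + y ^ 2 = 1) : Matrix.SpecialLinearGroup (Fin 2) F :=
  ⟨!![x + y * g.1 0 0, y * g.1 0 1; y * g.1 1 0, x + y * g.1 1 1], by
    rw [Matrix.det_fin_two_of]
    have hd := S2429.det2 g
    linear_combination h + y ^ 2 * hd⟩

theorem lin_val {F : Type*} [Field F] (g : Matrix.SpecialLinearGroup (Fin 2) F) (x y : F)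
    (h : x ^ 2 + (g.1 0 0 + g.1 1 1) * x * y + y ^ 2 = 1) :
    (lin g x y h).1 = !![x + y * g.1 0 0, y * g.1 0 1; y * g.1 1 0, x + y * g.1 1 1] := rfl

theorem lin_comm {F : Type*} [Field F] (g : Matrix.SpecialLinearGroup (Fin 2) F) (x y : F)
    (h : x ^ 2 + (g.1 0 0 + g.1 1 1) * x * y + y ^ 2 = 1) :
    lin g x y h * g = g * lin g x y h := by
  apply S2429.sl2_ext'
  · rw [S2429.mul00, S2429.mul00, lin_val]; simp; ring
  · rw [S2429.mul01, S2429.mul01, lin_val]; simp; ring
  · rw [S2429.mul10, S2429.mul10, lin_val]; simp; ring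
  · rw [S2429.mul11, S2429.mul11, lin_val]; simp; ring

theorem card_centralizer {F : Type*} [Field F] [Fintype F]
    (g : Matrix.SpecialLinearGroup (Fin 2) F)
    (hns : ¬ (g.1 0 1 = 0 ∧ g.1 1 0 = 0 ∧ g.1 0 0 = g.1 1 1)) :
    Nat.card (Subgroup.centralizer ({g} : Set (Matrix.SpecialLinearGroup (Fin 2) F)))
      = nsol (g.1 0 0 + g.1 1 1) := by
  classical
  have hmem : ∀ p : {p : F × F // p.1 ^ 2 + (g.1 0 0 + g.1 1 1) * p.1 * p.2 + p.2 ^ 2 = 1},
      lin g p.1.1 p.1.2 p.2 ∈
        Subgroup.centralizer ({g} : Set (Matrix.SpecialLinearGroup (Fin 2) F)) := by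
    intro p
    rw [Subgroup.mem_centralizer_singleton_iff]
    exact lin_comm g p.1.1 p.1.2 p.2
  have hbij : Function.Bijective
      (fun p : {p : F × F // p.1 ^ 2 + (g.1 0 0 + g.1 1 1) * p.1 * p.2 + p.2 ^ 2 = 1} =>
        (⟨lin g p.1.1 p.1.2 p.2, hmem p⟩ :
          Subgroup.centralizer ({g} : Set (Matrix.SpecialLinearGroup (Fin 2) F)))) := by
    constructor
    · rintro ⟨⟨x, y⟩, hp⟩ ⟨⟨x', y'⟩, hp'⟩ h
      have h1 : lin g x y hp = lin g x' y' hp' := congrArg Subtype.val h
      have e00 := congrArg (fun m : Matrix.SpecialLinearGroup (Fin 2) F => m.1 0 0) h1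
      have e01 := congrArg (fun m : Matrix.SpecialLinearGroup (Fin 2) F => m.1 0 1) h1
      have e10 := congrArg (fun m : Matrix.SpecialLinearGroup (Fin 2) F => m.1 1 0) h1
      have e11 := congrArg (fun m : Matrix.SpecialLinearGroup (Fin 2) F => m.1 1 1) h1
      simp [lin_val] at e00 e01 e10 e11
      have hy : y = y' := by
        by_cases h01 : g.1 0 1 = 0
        · by_cases h10 : g.1 1 0 = 0
          · have hne : g.1 0 0 - g.1 1 1 ≠ 0 := by
              intro h'
              exact hns ⟨h01, h10, sub_eq_zero.mp h'⟩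
            have h3 : (y - y') * (g.1 0 0 - g.1 1 1) = 0 := by linear_combination e00 - e11
            rcases mul_eq_zero.mp h3 with h4 | h4
            · exact sub_eq_zero.mp h4
            · exact absurd h4 hne
          · rcases e10 with h4 | h4
            · exact h4
            · exact absurd h4 h10
        · rcases e01 with h4 | h4
          · exact h4
          · exact absurd h4 h01
      subst hy
      have hx : x = x' := by linear_combination e00
      subst hx
      rfl
    · rintro ⟨h, hh⟩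
      rw [Subgroup.mem_centralizer_singleton_iff] at hh
      have c00 := congrArg (fun m : Matrix.SpecialLinearGroup (Fin 2) F => m.1 0 0) hh
      have c01 := congrArg (fun m : Matrix.SpecialLinearGroup (Fin 2) F => m.1 0 1) hh
      have c10 := congrArg (fun m : Matrix.SpecialLinearGroup (Fin 2) F => m.1 1 0) hh
      have c11 := congrArg (fun m : Matrix.SpecialLinearGroup (Fin 2) F => m.1 1 1) hh
      simp only [S2429.mul00, S2429.mul01, S2429.mul10, S2429.mul11] at c00 c01 c10 c11
      have hdh := S2429.det2 h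
      have hdg := S2429.det2 g
      -- find x, y with h = x + y g
      obtain ⟨x, y, e00, e01, e10, e11⟩ : ∃ x y : F, h.1 0 0 = x + y * g.1 0 0 ∧
          h.1 0 1 = y * g.1 0 1 ∧ h.1 1 0 = y * g.1 1 0 ∧ h.1 1 1 = x + y * g.1 1 1 := by
        by_cases h10 : g.1 1 0 = 0
        · by_cases h01 : g.1 0 1 = 0
          · have hne : g.1 0 0 - g.1 1 1 ≠ 0 := by
              intro h'
              exact hns ⟨h01, h10, sub_eq_zero.mp h'⟩
            have z01 : h.1 0 1 = 0 := by
              have h3 : h.1 0 1 * (g.1 0 0 - g.1 1 1) = 0 := by grind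
              rcases mul_eq_zero.mp h3 with h4 | h4
              · exact h4
              · exact absurd h4 hne
            have z10 : h.1 1 0 = 0 := by
              have h3 : h.1 1 0 * (g.1 0 0 - g.1 1 1) = 0 := by grind
              rcases mul_eq_zero.mp h3 with h4 | h4
              · exact h4
              · exact absurd h4 hne
            refine ⟨h.1 0 0 - (h.1 0 0 - h.1 1 1) / (g.1 0 0 - g.1 1 1) * g.1 0 0,
              (h.1 0 0 - h.1 1 1) / (g.1 0 0 - g.1 1 1), ?_, ?_, ?_, ?_⟩
            · ring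
            · rw [z01, h01, mul_zero]
            · rw [z10, h10, mul_zero]
            · field_simp
              ring
          · refine ⟨h.1 0 0 - h.1 0 1 / g.1 0 1 * g.1 0 0, h.1 0 1 / g.1 0 1, ?_, ?_, ?_, ?_⟩
            · ring
            · field_simp
            · field_simp
              grind
            · field_simp
              grind
        · refine ⟨h.1 0 0 - h.1 1 0 / g.1 1 0 * g.1 0 0, h.1 1 0 / g.1 1 0, ?_, ?_, ?_, ?_⟩
          · ring
          · field_simp
            grind
          · field_simp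
          · field_simp
            grind
      have hxy : x ^ 2 + (g.1 0 0 + g.1 1 1) * x * y + y ^ 2 = 1 := by
        rw [e00, e01, e10, e11] at hdh
        linear_combination hdh - y ^ 2 * hdg
      refine ⟨⟨(x, y), hxy⟩, ?_⟩
      apply Subtype.ext
      apply S2429.sl2_ext'
      · simp [lin_val, e00]
      · simp [lin_val, e01]
      · simp [lin_val, e10]
      · simp [lin_val, e11]
  unfold nsol
  rw [Nat.card_eq_of_bijective _ hbij]


theorem index_mul_nsol {F : Type*} [Field F] [Fintype F]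
    (g : Matrix.SpecialLinearGroup (Fin 2) F)
    (hns : ¬ (g.1 0 1 = 0 ∧ g.1 1 0 = 0 ∧ g.1 0 0 = g.1 1 1)) :
    (Subgroup.centralizer ({g} : Set (Matrix.SpecialLinearGroup (Fin 2) F))).index
      * nsol (g.1 0 0 + g.1 1 1) = Fintype.card F * (Fintype.card F ^ 2 - 1) := by
  rw [← card_centralizer g hns, mul_comm, Subgroup.card_mul_index, S2325.card_SL2]

theorem arith2 (q : ℕ) (hq : 1 ≤ q) :
    q * (q ^ 2 - 1) = (q * (q - 1)) * (q + 1) ∧ q * (q ^ 2 - 1) = (q * (q + 1)) * (q - 1) := by
  obtain ⟨r, rfl⟩ : ∃ r, q = r + 1 := ⟨q - 1, by omega⟩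
  have h1 : (r + 1) ^ 2 - 1 = r * (r + 2) := by
    have : (r + 1) ^ 2 = r * (r + 2) + 1 := by ring
    omega
  rw [h1]
  simp only [Nat.add_sub_cancel]
  constructor <;> ring

theorem index_nonsplit {F : Type*} [Field F] [Fintype F]
    (g : Matrix.SpecialLinearGroup (Fin 2) F)
    (hns : ¬ (g.1 0 1 = 0 ∧ g.1 1 0 = 0 ∧ g.1 0 0 = g.1 1 1))
    (hroot : ∀ r : F, r ^ 2 ≠ -1 + (g.1 0 0 + g.1 1 1) * r) :
    (Subgroup.centralizer ({g} : Set (Matrix.SpecialLinearGroup (Fin 2) F))).index
      = Fintype.card F * (Fintype.card F - 1) := by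
  have : Fact (∀ r : F, r ^ 2 ≠ -1 + (g.1 0 0 + g.1 1 1) * r) := ⟨hroot⟩
  have h1 := index_mul_nsol g hns
  rw [nsol_field, (arith2 (Fintype.card F) Fintype.card_pos).1] at h1
  exact Nat.eq_of_mul_eq_mul_right (by omega) h1

theorem index_split {F : Type*} [Field F] [Fintype F]
    (g : Matrix.SpecialLinearGroup (Fin 2) F)
    (hns : ¬ (g.1 0 1 = 0 ∧ g.1 1 0 = 0 ∧ g.1 0 0 = g.1 1 1))
    (l : F) (hl : l ^ 2 = -1 + (g.1 0 0 + g.1 1 1) * l) (hne : l ≠ (g.1 0 0 + g.1 1 1) - l) :
    (Subgroup.centralizer ({g} : Set (Matrix.SpecialLinearGroup (Fin 2) F))).index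
      = Fintype.card F * (Fintype.card F + 1) := by
  have hq2 : 2 ≤ Fintype.card F := Fintype.one_lt_card
  have h1 := index_mul_nsol g hns
  rw [nsol_split (g.1 0 0 + g.1 1 1) l ((g.1 0 0 + g.1 1 1) - l) (by linear_combination (-1 : F) * hl)
    hne (by ring), (arith2 (Fintype.card F) Fintype.card_pos).2] at h1
  exact Nat.eq_of_mul_eq_mul_right (by omega) h1

theorem index_deg {F : Type*} [Field F] [Fintype F]
    (g : Matrix.SpecialLinearGroup (Fin 2) F)
    (hns : ¬ (g.1 0 1 = 0 ∧ g.1 1 0 = 0 ∧ g.1 0 0 = g.1 1 1))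
    (ε : F) (hε : ε * ε = 1) (ht : g.1 0 0 + g.1 1 1 = 2 * ε) :
    (Subgroup.centralizer ({g} : Set (Matrix.SpecialLinearGroup (Fin 2) F))).index
      * Nat.card {c : F // c * c = 1} = Fintype.card F ^ 2 - 1 := by
  have h1 := index_mul_nsol g hns
  rw [nsol_deg _ ε hε ht] at h1
  have h2 : Fintype.card F * ((Subgroup.centralizer
      ({g} : Set (Matrix.SpecialLinearGroup (Fin 2) F))).index * Nat.card {c : F // c * c = 1})
      = Fintype.card F * (Fintype.card F ^ 2 - 1) := by
    rw [← h1]; ring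
  exact Nat.eq_of_mul_eq_mul_left Fintype.card_pos h2

/-- the preimage in `SL₂` of the centralizer of an element of `PSL₂`. -/
theorem psl_index {F : Type*} [Field F] [Fintype F] (g : Matrix.SpecialLinearGroup (Fin 2) F) :
    (Subgroup.centralizer ({(QuotientGroup.mk g : Matrix.ProjectiveSpecialLinearGroup (Fin 2) F)} :
      Set (Matrix.ProjectiveSpecialLinearGroup (Fin 2) F))).index
    = ((Subgroup.centralizer ({(QuotientGroup.mk g : Matrix.ProjectiveSpecialLinearGroup (Fin 2) F)} :
      Set (Matrix.ProjectiveSpecialLinearGroup (Fin 2) F))).comap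
        (QuotientGroup.mk' (Subgroup.center (Matrix.SpecialLinearGroup (Fin 2) F)))).index :=
  (Subgroup.index_comap_of_surjective _ (QuotientGroup.mk'_surjective _)).symm

theorem mem_psl_comap {F : Type*} [Field F] (g h : Matrix.SpecialLinearGroup (Fin 2) F) :
    h ∈ ((Subgroup.centralizer ({(QuotientGroup.mk g : Matrix.ProjectiveSpecialLinearGroup (Fin 2) F)} :
      Set (Matrix.ProjectiveSpecialLinearGroup (Fin 2) F))).comap
        (QuotientGroup.mk' (Subgroup.center (Matrix.SpecialLinearGroup (Fin 2) F)))) ↔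
      (h * g)⁻¹ * (g * h) ∈ Subgroup.center (Matrix.SpecialLinearGroup (Fin 2) F) := by
  rw [Subgroup.mem_comap, Subgroup.mem_centralizer_singleton_iff, QuotientGroup.mk'_apply,
    ← QuotientGroup.mk_mul, ← QuotientGroup.mk_mul, QuotientGroup.eq]

theorem center_char2 {F : Type*} [Field F] (h2 : (2 : F) = 0) :
    Subgroup.center (Matrix.SpecialLinearGroup (Fin 2) F) = ⊥ := by
  rw [Subgroup.eq_bot_iff_forall]
  intro x hx
  obtain ⟨c, hc, hxc⟩ := S2475.scalar_of_central x hx
  have hc1 : c = 1 := by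
    have h3 : (c - 1) * (c - 1) = 0 := by linear_combination hc - c * h2 + h2
    have := mul_self_eq_zero.mp h3
    exact sub_eq_zero.mp this
  apply Subtype.ext
  rw [hxc, hc1, one_smul]
  rfl

theorem psl_index_char2 {F : Type*} [Field F] [Fintype F] (h2 : (2 : F) = 0)
    (g : Matrix.SpecialLinearGroup (Fin 2) F) :
    (Subgroup.centralizer ({(QuotientGroup.mk g : Matrix.ProjectiveSpecialLinearGroup (Fin 2) F)} :
      Set (Matrix.ProjectiveSpecialLinearGroup (Fin 2) F))).index
    = (Subgroup.centralizer ({g} : Set (Matrix.SpecialLinearGroup (Fin 2) F))).index := by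
  rw [psl_index]
  congr 1
  ext h
  rw [mem_psl_comap, center_char2 h2, Subgroup.mem_bot, Subgroup.mem_centralizer_singleton_iff,
    inv_mul_eq_one]


theorem index_scalar {F : Type*} [Field F] [Fintype F]
    (g : Matrix.SpecialLinearGroup (Fin 2) F)
    (hs : g.1 0 1 = 0 ∧ g.1 1 0 = 0 ∧ g.1 0 0 = g.1 1 1) :
    (Subgroup.centralizer ({(QuotientGroup.mk g : Matrix.ProjectiveSpecialLinearGroup (Fin 2) F)} :
      Set (Matrix.ProjectiveSpecialLinearGroup (Fin 2) F))).index = 1 := by
  obtain ⟨h01, h10, h00⟩ := hs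
  have hc : g ∈ Subgroup.center (Matrix.SpecialLinearGroup (Fin 2) F) := by
    apply S2475.central_of_scalar g (g.1 0 0)
    ext i j
    fin_cases i <;> fin_cases j <;> simp [h01, h10, ← h00]
  have h1 : (QuotientGroup.mk g : Matrix.ProjectiveSpecialLinearGroup (Fin 2) F) = 1 :=
    (QuotientGroup.eq_one_iff g).mpr hc
  rw [h1]
  have h2 : Subgroup.centralizer ({(1 : Matrix.ProjectiveSpecialLinearGroup (Fin 2) F)} :
      Set (Matrix.ProjectiveSpecialLinearGroup (Fin 2) F)) = ⊤ := by
    rw [Subgroup.centralizer_eq_top_iff_subset, Set.singleton_subset_iff]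
    exact Subgroup.one_mem _
  rw [h2, Subgroup.index_top]

theorem exists_noroot (F : Type*) [Field F] [Fintype F] :
    ∃ t : F, ∀ r : F, r ^ 2 ≠ -1 + t * r := by
  classical
  by_contra hcon
  push_neg at hcon
  have hsurj : Function.Surjective (fun u : Fˣ => (u : F) + (u : F)⁻¹) := by
    intro t
    obtain ⟨r, hr⟩ := hcon t
    have hr0 : r ≠ 0 := by
      rintro rfl
      simp at hr
    refine ⟨Units.mk0 r hr0, ?_⟩
    simp only [Units.val_mk0]
    field_simp
    linear_combination hr
  have h1 := Fintype.card_le_of_surjective _ hsurj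
  rw [Fintype.card_units] at h1
  have : 0 < Fintype.card F := Fintype.card_pos
  omega

theorem result {F : Type*} [Field F] [Fintype F]
    (h2 : 2 ∣ Fintype.card F) (h4 : 4 ≤ Fintype.card F) :
    Set.range (fun g : (Matrix.ProjectiveSpecialLinearGroup (Fin 2) F) => (Subgroup.centralizer ({g} : Set (Matrix.ProjectiveSpecialLinearGroup (Fin 2) F))).index) =
      {1, Fintype.card F * (Fintype.card F - 1), Fintype.card F ^ 2 - 1, Fintype.card F * (Fintype.card F + 1)} := by
  classical
  have hF2 : ringChar F = 2 := FiniteField.even_card_iff_char_two.mpr (by omega)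
  have : CharP F 2 := ringChar.of_eq hF2
  have h2' : (2 : F) = 0 := CharTwo.two_eq_zero
  have hq2 : 2 ≤ Fintype.card F := by omega
  have hone : Nat.card {c : F // c * c = 1} = 1 := by
    rw [Nat.card_eq_one_iff_unique]
    refine ⟨⟨?_⟩, ⟨⟨1, by simp⟩⟩⟩
    rintro ⟨a, ha⟩ ⟨b, hb⟩
    have ha1 : a = 1 := by
      have h3 : (a - 1) * (a - 1) = 0 := by linear_combination ha - a * h2' + h2'
      exact sub_eq_zero.mp (mul_self_eq_zero.mp h3)
    have hb1 : b = 1 := by
      have h3 : (b - 1) * (b - 1) = 0 := by linear_combination hb - b * h2' + h2'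
      exact sub_eq_zero.mp (mul_self_eq_zero.mp h3)
    exact Subtype.ext (ha1.trans hb1.symm)
  have hB : ∀ g : Matrix.SpecialLinearGroup (Fin 2) F,
      ¬ (g.1 0 1 = 0 ∧ g.1 1 0 = 0 ∧ g.1 0 0 = g.1 1 1) → g.1 0 0 + g.1 1 1 = 0 →
      (Subgroup.centralizer ({(QuotientGroup.mk g : Matrix.ProjectiveSpecialLinearGroup (Fin 2) F)} :
        Set (Matrix.ProjectiveSpecialLinearGroup (Fin 2) F))).index = Fintype.card F ^ 2 - 1 := by
    intro g hns ht
    rw [psl_index_char2 h2']
    have h1 := index_deg g hns 1 (by simp) (by rw [ht, h2', zero_mul])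
    rw [hone, mul_one] at h1
    exact h1
  have hC : ∀ g : Matrix.SpecialLinearGroup (Fin 2) F,
      ¬ (g.1 0 1 = 0 ∧ g.1 1 0 = 0 ∧ g.1 0 0 = g.1 1 1) →
      ∀ l : F, l ^ 2 = -1 + (g.1 0 0 + g.1 1 1) * l → l ≠ (g.1 0 0 + g.1 1 1) - l →
      (Subgroup.centralizer ({(QuotientGroup.mk g : Matrix.ProjectiveSpecialLinearGroup (Fin 2) F)} :
        Set (Matrix.ProjectiveSpecialLinearGroup (Fin 2) F))).index
        = Fintype.card F * (Fintype.card F + 1) := by
    intro g hns l hl hne
    rw [psl_index_char2 h2']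
    exact index_split g hns l hl hne
  have hD : ∀ g : Matrix.SpecialLinearGroup (Fin 2) F,
      ¬ (g.1 0 1 = 0 ∧ g.1 1 0 = 0 ∧ g.1 0 0 = g.1 1 1) →
      (∀ r : F, r ^ 2 ≠ -1 + (g.1 0 0 + g.1 1 1) * r) →
      (Subgroup.centralizer ({(QuotientGroup.mk g : Matrix.ProjectiveSpecialLinearGroup (Fin 2) F)} :
        Set (Matrix.ProjectiveSpecialLinearGroup (Fin 2) F))).index
        = Fintype.card F * (Fintype.card F - 1) := by
    intro g hns hr
    rw [psl_index_char2 h2']
    exact index_nonsplit g hns hr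
  ext x
  simp only [Set.mem_range, Set.mem_insert_iff, Set.mem_singleton_iff]
  constructor
  · rintro ⟨y, rfl⟩
    obtain ⟨g, rfl⟩ := QuotientGroup.mk_surjective y
    by_cases hs : g.1 0 1 = 0 ∧ g.1 1 0 = 0 ∧ g.1 0 0 = g.1 1 1
    · left; exact index_scalar g hs
    · by_cases ht : g.1 0 0 + g.1 1 1 = 0
      · right; right; left; exact hB g hs ht
      · by_cases hr : ∃ l : F, l ^ 2 = -1 + (g.1 0 0 + g.1 1 1) * l
        · obtain ⟨l, hl⟩ := hr
          right; right; right
          apply hC g hs l hl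
          intro h
          apply ht
          linear_combination (-1 : F) * h + l * h2'
        · push_neg at hr
          right; left; exact hD g hs hr
  · rintro (rfl | rfl | rfl | rfl)
    · refine ⟨QuotientGroup.mk 1, index_scalar 1 ?_⟩
      simp
    · obtain ⟨t, ht⟩ := exists_noroot F
      obtain ⟨g, hg⟩ : ∃ g : Matrix.SpecialLinearGroup (Fin 2) F, g.1 = !![0, -1; 1, t] :=
        ⟨⟨!![0, -1; 1, t], by simp [Matrix.det_fin_two_of]⟩, rfl⟩
      refine ⟨QuotientGroup.mk g, hD g ?_ ?_⟩
      · rw [hg]; simp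
      · rw [hg]; simpa using ht
    · refine ⟨QuotientGroup.mk (S2475.U F), hB (S2475.U F) ?_ ?_⟩
      · simp [S2475.U]
      · simp [S2475.U]
        linear_combination h2'
    · obtain ⟨ζ, hζ⟩ := IsCyclic.exists_generator (α := Fˣ)
      have hord : orderOf ζ = Fintype.card F - 1 := by
        rw [orderOf_eq_card_of_forall_mem_zpowers hζ, Nat.card_units, Nat.card_eq_fintype_card]
      have hne : (ζ : F) ≠ (ζ : F)⁻¹ := by
        intro h
        have h3 : ζ ^ 2 = 1 := by
          apply Units.ext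
          rw [Units.val_pow_eq_pow_val, Units.val_one, sq]
          nth_rewrite 2 [h]
          exact mul_inv_cancel₀ ζ.ne_zero
        have d1 := orderOf_dvd_of_pow_eq_one h3
        rw [hord] at d1
        have := Nat.le_of_dvd (by norm_num) d1
        omega
      refine ⟨QuotientGroup.mk (S2475.D ζ), hC (S2475.D ζ) ?_ (ζ : F) ?_ ?_⟩
      · simp [S2475.D_val]
        exact hne
      · simp [S2475.D_val]
        field_simp
        ring
      · simp [S2475.D_val]
        exact hne

end Cfsg.Agent.S2507
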