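import Cfsg.Statements.S2508
import Mathlib
import Cfsg.Agent.S2507

set_option autoImplicit false
open Cfsg

namespace Cfsg.Agent.S2508

open QuadraticAlgebra Matrix

/-- centralizers modulo a centre of order two. -/
theorem index_comap_center {G : Type*} [Group G] [Finite G] (g ε : G)
    (hε : ε ∈ Subgroup.center G) (hε1 : ε ≠ 1)
    (hZ : ∀ z ∈ Subgroup.center G, z = 1 ∨ z = ε) (H : Subgroup G)
    (hH : ∀ h, h ∈ H ↔ (h * g)⁻¹ * (g * h) ∈ Subgroup.center G) :
    ((∀ h : G, (h * g)⁻¹ * (g * h) ≠ ε) → H = Subgroup.centralizer ({g} : Set G)) ∧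
    (∀ h₀ : G, (h₀ * g)⁻¹ * (g * h₀) = ε →
      (Subgroup.centralizer ({g} : Set G)).index = 2 * H.index) := by
  have hcomm : ∀ x : G, ε * x = x * ε := fun x => (Subgroup.mem_center_iff.mp hε x).symm
  have hεε : ε * ε = 1 := by
    rcases hZ (ε * ε) (Subgroup.mul_mem _ hε hε) with h | h
    · exact h
    · exfalso
      apply hε1
      have : ε * ε = ε * 1 := by rw [h, mul_one]
      exact mul_left_cancel this
  have hCH : Subgroup.centralizer ({g} : Set G) ≤ H := by
    intro h hh
    rw [Subgroup.mem_centralizer_singleton_iff] at hh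
    rw [hH, hh, inv_mul_cancel]
    exact Subgroup.one_mem _
  have hCmem : ∀ h : G, h ∈ Subgroup.centralizer ({g} : Set G) ↔ (h * g)⁻¹ * (g * h) = 1 := by
    intro h
    rw [Subgroup.mem_centralizer_singleton_iff, inv_mul_eq_one]
  constructor
  · intro hno
    apply le_antisymm
    · intro h hh
      rw [hCmem]
      rcases hZ _ ((hH h).mp hh) with h1 | h1
      · exact h1
      · exact absurd h1 (hno h)
    · exact hCH
  · intro h₀ h0
    have h0H : h₀ ∈ H := by
      rw [hH, h0]; exact hε
    have hmul : ∀ b : G, b ∈ H → (b * h₀ * g)⁻¹ * (g * (b * h₀)) = ε * ((b * g)⁻¹ * (g * b)) := by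
      intro b hb
      obtain ⟨z, hz⟩ : ∃ z, z = (b * g)⁻¹ * (g * b) := ⟨_, rfl⟩
      have hzc : z ∈ Subgroup.center G := by rw [hz]; exact (hH b).mp hb
      have hzcomm : ∀ x : G, z * x = x * z := fun x => (Subgroup.mem_center_iff.mp hzc x).symm
      have e1 : g * b = b * g * z := by rw [hz]; group
      have e2 : g * h₀ = h₀ * g * ε := by rw [← h0]; group
      rw [← hz]
      calc (b * h₀ * g)⁻¹ * (g * (b * h₀)) = (b * h₀ * g)⁻¹ * ((g * b) * h₀) := by group
        _ = (b * h₀ * g)⁻¹ * (b * g * z * h₀) := by rw [e1]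
        _ = (b * h₀ * g)⁻¹ * (b * (g * h₀) * z) := by
            rw [mul_assoc (b * g) z h₀, hzcomm h₀]; group
        _ = (b * h₀ * g)⁻¹ * (b * (h₀ * g * ε) * z) := by rw [e2]
        _ = ε * z := by group
    have hrel : (Subgroup.centralizer ({g} : Set G)).relIndex H = 2 := by
      rw [Subgroup.relIndex, Subgroup.index_eq_two_iff]
      refine ⟨⟨h₀, h0H⟩, ?_⟩
      rintro ⟨b, hb⟩
      simp only [Subgroup.mem_subgroupOf, Subgroup.coe_mul]
      rw [hCmem, hCmem, hmul b hb]
      rcases hZ _ ((hH b).mp hb) with h1 | h1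
      · rw [h1, mul_one]
        right
        exact ⟨rfl, hε1⟩
      · rw [h1, hεε]
        left
        exact ⟨rfl, hε1⟩
    rw [← Subgroup.relIndex_mul_index hCH, hrel]


theorem negOne_central (F : Type*) [Field F] :
    S2429.negOne F ∈ Subgroup.center (Matrix.SpecialLinearGroup (Fin 2) F) := by
  apply S2475.central_of_scalar _ (-1)
  rw [S2429.negOne_val]
  simp

theorem negOne_ne_one {F : Type*} [Field F] (h2 : (2 : F) ≠ 0) : S2429.negOne F ≠ 1 := by
  intro h
  have h3 := congrArg (fun m : Matrix.SpecialLinearGroup (Fin 2) F => m.1 0 0) h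
  simp [S2429.negOne] at h3
  apply h2
  linear_combination (-1 : F) * h3

theorem center_odd {F : Type*} [Field F] (z : Matrix.SpecialLinearGroup (Fin 2) F)
    (hz : z ∈ Subgroup.center (Matrix.SpecialLinearGroup (Fin 2) F)) :
    z = 1 ∨ z = S2429.negOne F := by
  obtain ⟨c, hc, hzc⟩ := S2475.scalar_of_central z hz
  rw [sq] at hc
  rcases mul_self_eq_one_iff.mp hc with h | h
  · left
    apply Subtype.ext
    rw [hzc, h, one_smul]
    rfl
  · right
    apply Subtype.ext
    rw [hzc, h, S2429.negOne_val]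
    simp

theorem tr2_mul_negOne {F : Type*} [Field F] (g : Matrix.SpecialLinearGroup (Fin 2) F) :
    S2325.tr2 (g * S2429.negOne F) = -S2325.tr2 g := by
  have h1 : S2325.tr2 (g * S2429.negOne F) = (g * S2429.negOne F).1 0 0 + (g * S2429.negOne F).1 1 1 := rfl
  have h2 : S2325.tr2 g = g.1 0 0 + g.1 1 1 := rfl
  rw [h1, h2, S2429.mul00, S2429.mul11]
  simp [S2429.negOne]
  ring

/-- the index of the centralizer in `PSL₂` for elements of nonzero trace. -/
theorem psl_index_tr_ne {F : Type*} [Field F] [Fintype F] (h2 : (2 : F) ≠ 0)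
    (g : Matrix.SpecialLinearGroup (Fin 2) F) (ht : g.1 0 0 + g.1 1 1 ≠ 0) :
    (Subgroup.centralizer ({(QuotientGroup.mk g : Matrix.ProjectiveSpecialLinearGroup (Fin 2) F)} :
      Set (Matrix.ProjectiveSpecialLinearGroup (Fin 2) F))).index
    = (Subgroup.centralizer ({g} : Set (Matrix.SpecialLinearGroup (Fin 2) F))).index := by
  rw [S2507.psl_index]
  have h1 := (index_comap_center g (S2429.negOne F) (negOne_central F) (negOne_ne_one h2)
    center_odd _ (S2507.mem_psl_comap g)).1
  rw [h1]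
  intro h hh
  have e : h⁻¹ * g * h⁻¹⁻¹ = g * S2429.negOne F := by
    rw [← hh]; group
  have hc : IsConj g (g * S2429.negOne F) := isConj_iff.mpr ⟨h⁻¹, e⟩
  have h3 := S2325.tr2_conj _ _ hc
  rw [tr2_mul_negOne] at h3
  have h4 : S2325.tr2 g = g.1 0 0 + g.1 1 1 := rfl
  rw [h4] at h3
  apply ht
  have h5 : (2 : F) * (g.1 0 0 + g.1 1 1) = 0 := by linear_combination h3
  rcases mul_eq_zero.mp h5 with h6 | h6
  · exact absurd h6 h2
  · exact h6

/-- the index of the centralizer in `PSL₂` for elements of zero trace. -/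
theorem psl_index_tr_zero {F : Type*} [Field F] [Fintype F] (hodd : Fintype.card F % 2 = 1)
    (h2 : (2 : F) ≠ 0)
    (g : Matrix.SpecialLinearGroup (Fin 2) F) (ht : g.1 0 0 + g.1 1 1 = 0) :
    (Subgroup.centralizer ({g} : Set (Matrix.SpecialLinearGroup (Fin 2) F))).index
    = 2 * (Subgroup.centralizer ({(QuotientGroup.mk g : Matrix.ProjectiveSpecialLinearGroup (Fin 2) F)} :
      Set (Matrix.ProjectiveSpecialLinearGroup (Fin 2) F))).index := by
  rw [S2507.psl_index]
  have h1 := (index_comap_center g (S2429.negOne F) (negOne_central F) (negOne_ne_one h2)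
    center_odd _ (S2507.mem_psl_comap g)).2
  have h4 : S2325.tr2 g = 0 := ht
  have h40 : (4 : F) ≠ 0 := by
    have : (4 : F) = 2 * 2 := by norm_num
    rw [this]
    exact mul_ne_zero h2 h2
  have c1 := S2325.comp_conj hodd h2 g (by rw [h4]; simpa using h40.symm)
  have h5 : S2325.tr2 (g * S2429.negOne F) = 0 := by rw [tr2_mul_negOne, h4, neg_zero]
  have c2 := S2325.comp_conj hodd h2 (g * S2429.negOne F) (by rw [h5]; simpa using h40.symm)
  rw [h4] at c1
  rw [h5] at c2
  obtain ⟨c, hc⟩ := isConj_iff.mp (c1.symm.trans c2)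
  apply h1 c⁻¹
  have : (c⁻¹ * g)⁻¹ * (g * c⁻¹) = g⁻¹ * (c * g * c⁻¹) := by group
  rw [this, hc]
  group

theorem card_sq_one {F : Type*} [Field F] [Fintype F] (h2 : (2 : F) ≠ 0) :
    Nat.card {c : F // c * c = 1} = 2 := by
  classical
  rw [Nat.card_eq_fintype_card, Fintype.card_subtype]
  have : (Finset.univ.filter fun c : F => c * c = 1) = {1, -1} := by
    ext c
    simp only [Finset.mem_filter, Finset.mem_univ, true_and, Finset.mem_insert,
      Finset.mem_singleton]
    exact mul_self_eq_one_iff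
  rw [this, Finset.card_pair]
  intro h
  apply h2
  linear_combination h

theorem exists_noroot_ne_zero (F : Type*) [Field F] [Fintype F] (h4 : 4 ≤ Fintype.card F) :
    ∃ t : F, t ≠ 0 ∧ ∀ r : F, r ^ 2 ≠ -1 + t * r := by
  classical
  by_contra hcon
  push_neg at hcon
  have hsub : (Finset.univ.erase (0 : F)) ⊆ Finset.univ.image (fun u : Fˣ => (u : F) + (u : F)⁻¹) := by
    intro t ht
    rw [Finset.mem_erase] at ht
    obtain ⟨r, hr⟩ := hcon t ht.1
    have hr0 : r ≠ 0 := by
      rintro rfl
      simp at hr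
    rw [Finset.mem_image]
    refine ⟨Units.mk0 r hr0, Finset.mem_univ _, ?_⟩
    simp only [Units.val_mk0]
    field_simp
    linear_combination hr
  have hc1 := Finset.card_le_card hsub
  rw [Finset.card_erase_of_mem (Finset.mem_univ _), Finset.card_univ] at hc1
  have hc2 : (Finset.univ.image (fun u : Fˣ => (u : F) + (u : F)⁻¹)).card ≤
      (Finset.univ : Finset Fˣ).card := Finset.card_image_le
  have hc3 : (Finset.univ : Finset Fˣ).card = Fintype.card F - 1 := by
    rw [Finset.card_univ, Fintype.card_units]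
  have hinj := Finset.card_image_iff.mp (le_antisymm hc2 (by rw [hc3]; exact hc1))
  obtain ⟨ζ, hζ⟩ := IsCyclic.exists_generator (α := Fˣ)
  have hord : orderOf ζ = Fintype.card F - 1 := by
    rw [orderOf_eq_card_of_forall_mem_zpowers hζ, Nat.card_units, Nat.card_eq_fintype_card]
  have h5 : ζ = ζ⁻¹ := by
    apply hinj (Finset.mem_coe.mpr (Finset.mem_univ _)) (Finset.mem_coe.mpr (Finset.mem_univ _))
    simp only [Units.val_inv_eq_inv_val, inv_inv]
    ring
  have h6 : ζ ^ 2 = 1 := by
    rw [sq]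
    nth_rewrite 2 [h5]
    exact mul_inv_cancel ζ
  have d1 := orderOf_dvd_of_pow_eq_one h6
  rw [hord] at d1
  have := Nat.le_of_dvd (by norm_num) d1
  omega

theorem result {F : Type*} [Field F] [Fintype F]
    (hodd : ¬ 2 ∣ Fintype.card F) (h7 : 7 ≤ Fintype.card F) :
    (Fintype.card F % 4 = 1 →
      Set.range (fun g : (Matrix.ProjectiveSpecialLinearGroup (Fin 2) F) => (Subgroup.centralizer ({g} : Set (Matrix.ProjectiveSpecialLinearGroup (Fin 2) F))).index) =
        {1, (Fintype.card F ^ 2 - 1) / 2, Fintype.card F * (Fintype.card F + 1) / 2,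
          Fintype.card F * (Fintype.card F - 1), Fintype.card F * (Fintype.card F + 1)}) ∧
    (Fintype.card F % 4 = 3 →
      Set.range (fun g : (Matrix.ProjectiveSpecialLinearGroup (Fin 2) F) => (Subgroup.centralizer ({g} : Set (Matrix.ProjectiveSpecialLinearGroup (Fin 2) F))).index) =
        {1, (Fintype.card F ^ 2 - 1) / 2, Fintype.card F * (Fintype.card F - 1) / 2,
          Fintype.card F * (Fintype.card F + 1), Fintype.card F * (Fintype.card F - 1)}) := by
  classical
  have hodd' : Fintype.card F % 2 = 1 := by omega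
  have hF : ringChar F ≠ 2 := by
    intro h
    have := FiniteField.even_card_iff_char_two.1 h
    omega
  have h2 : (2 : F) ≠ 0 := Ring.two_ne_zero hF
  have hq2 : 2 ≤ Fintype.card F := by omega
  have htwo := card_sq_one (F := F) h2
  -- the five types
  have hB : ∀ g : Matrix.SpecialLinearGroup (Fin 2) F,
      ¬ (g.1 0 1 = 0 ∧ g.1 1 0 = 0 ∧ g.1 0 0 = g.1 1 1) →
      (g.1 0 0 + g.1 1 1 = 2 ∨ g.1 0 0 + g.1 1 1 = -2) →
      (Subgroup.centralizer ({(QuotientGroup.mk g : Matrix.ProjectiveSpecialLinearGroup (Fin 2) F)} :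
        Set (Matrix.ProjectiveSpecialLinearGroup (Fin 2) F))).index = (Fintype.card F ^ 2 - 1) / 2 := by
    intro g hns ht
    have ht0 : g.1 0 0 + g.1 1 1 ≠ 0 := by
      rcases ht with h | h
      · rw [h]; exact h2
      · rw [h]; exact neg_ne_zero.mpr h2
    rw [psl_index_tr_ne h2 g ht0]
    obtain ⟨ε, hε, hε2⟩ : ∃ ε : F, ε * ε = 1 ∧ g.1 0 0 + g.1 1 1 = 2 * ε := by
      rcases ht with h | h
      · exact ⟨1, by simp, by rw [h]; simp⟩
      · exact ⟨-1, by simp, by rw [h]; simp⟩
    have h1 := S2507.index_deg g hns ε hε hε2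
    rw [htwo] at h1
    omega
  have hC : ∀ g : Matrix.SpecialLinearGroup (Fin 2) F,
      ¬ (g.1 0 1 = 0 ∧ g.1 1 0 = 0 ∧ g.1 0 0 = g.1 1 1) → g.1 0 0 + g.1 1 1 ≠ 0 →
      ∀ l : F, l ^ 2 = -1 + (g.1 0 0 + g.1 1 1) * l → l ≠ (g.1 0 0 + g.1 1 1) - l →
      (Subgroup.centralizer ({(QuotientGroup.mk g : Matrix.ProjectiveSpecialLinearGroup (Fin 2) F)} :
        Set (Matrix.ProjectiveSpecialLinearGroup (Fin 2) F))).index
        = Fintype.card F * (Fintype.card F + 1) := by
    intro g hns ht0 l hl hne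
    rw [psl_index_tr_ne h2 g ht0]
    exact S2507.index_split g hns l hl hne
  have hD : ∀ g : Matrix.SpecialLinearGroup (Fin 2) F,
      ¬ (g.1 0 1 = 0 ∧ g.1 1 0 = 0 ∧ g.1 0 0 = g.1 1 1) → g.1 0 0 + g.1 1 1 ≠ 0 →
      (∀ r : F, r ^ 2 ≠ -1 + (g.1 0 0 + g.1 1 1) * r) →
      (Subgroup.centralizer ({(QuotientGroup.mk g : Matrix.ProjectiveSpecialLinearGroup (Fin 2) F)} :
        Set (Matrix.ProjectiveSpecialLinearGroup (Fin 2) F))).index
        = Fintype.card F * (Fintype.card F - 1) := by
    intro g hns ht0 hr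
    rw [psl_index_tr_ne h2 g ht0]
    exact S2507.index_nonsplit g hns hr
  have hE : ∀ g : Matrix.SpecialLinearGroup (Fin 2) F,
      ¬ (g.1 0 1 = 0 ∧ g.1 1 0 = 0 ∧ g.1 0 0 = g.1 1 1) → g.1 0 0 + g.1 1 1 = 0 →
      ∀ l : F, l ^ 2 = -1 →
      (Subgroup.centralizer ({(QuotientGroup.mk g : Matrix.ProjectiveSpecialLinearGroup (Fin 2) F)} :
        Set (Matrix.ProjectiveSpecialLinearGroup (Fin 2) F))).index
        = Fintype.card F * (Fintype.card F + 1) / 2 := by
    intro g hns ht0 l hl
    have h1 := psl_index_tr_zero hodd' h2 g ht0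
    have h3 := S2507.index_split g hns l (by rw [ht0, zero_mul, add_zero]; exact hl) (by
      rw [ht0, zero_sub]
      intro h
      have h5 : (2 : F) * l = 0 := by linear_combination h
      rcases mul_eq_zero.mp h5 with h6 | h6
      · exact h2 h6
      · rw [h6] at hl
        simp at hl)
    omega
  have hG : ∀ g : Matrix.SpecialLinearGroup (Fin 2) F,
      ¬ (g.1 0 1 = 0 ∧ g.1 1 0 = 0 ∧ g.1 0 0 = g.1 1 1) → g.1 0 0 + g.1 1 1 = 0 →
      (∀ l : F, l ^ 2 ≠ -1) →
      (Subgroup.centralizer ({(QuotientGroup.mk g : Matrix.ProjectiveSpecialLinearGroup (Fin 2) F)} :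
        Set (Matrix.ProjectiveSpecialLinearGroup (Fin 2) F))).index
        = Fintype.card F * (Fintype.card F - 1) / 2 := by
    intro g hns ht0 hl
    have h1 := psl_index_tr_zero hodd' h2 g ht0
    have h3 := S2507.index_nonsplit g hns (by
      intro r
      rw [ht0, zero_mul, add_zero]
      exact hl r)
    omega
  -- existence of elements of each type
  have hex1 : ∃ y : Matrix.ProjectiveSpecialLinearGroup (Fin 2) F,
      (Subgroup.centralizer ({y} : Set (Matrix.ProjectiveSpecialLinearGroup (Fin 2) F))).index = 1 :=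
    ⟨QuotientGroup.mk 1, S2507.index_scalar 1 (by simp)⟩
  have hexU : ∃ y : Matrix.ProjectiveSpecialLinearGroup (Fin 2) F,
      (Subgroup.centralizer ({y} : Set (Matrix.ProjectiveSpecialLinearGroup (Fin 2) F))).index
        = (Fintype.card F ^ 2 - 1) / 2 := by
    refine ⟨QuotientGroup.mk (S2475.U F), hB (S2475.U F) ?_ ?_⟩
    · simp [S2475.U]
    · left
      simp [S2475.U]
      norm_num
  have hexS : ∃ y : Matrix.ProjectiveSpecialLinearGroup (Fin 2) F,
      (Subgroup.centralizer ({y} : Set (Matrix.ProjectiveSpecialLinearGroup (Fin 2) F))).index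
        = Fintype.card F * (Fintype.card F + 1) := by
    obtain ⟨ζ, hζ⟩ := IsCyclic.exists_generator (α := Fˣ)
    have hord : orderOf ζ = Fintype.card F - 1 := by
      rw [orderOf_eq_card_of_forall_mem_zpowers hζ, Nat.card_units, Nat.card_eq_fintype_card]
    have h4 : (ζ : F) ^ 4 ≠ 1 := by
      intro h
      have h3 : ζ ^ 4 = 1 := Units.ext (by simpa using h)
      have d1 := orderOf_dvd_of_pow_eq_one h3
      rw [hord] at d1
      have := Nat.le_of_dvd (by norm_num) d1
      omega
    have hζ0 : (ζ : F) ≠ 0 := ζ.ne_zero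
    have hne : (ζ : F) ≠ (ζ : F)⁻¹ := by
      intro h
      apply h4
      have h5 : (ζ : F) * ζ = 1 := by
        nth_rewrite 2 [h]
        exact mul_inv_cancel₀ hζ0
      have : (ζ : F) ^ 4 = ((ζ : F) * ζ) * ((ζ : F) * ζ) := by ring
      rw [this, h5, one_mul]
    have htr : (ζ : F) + (ζ : F)⁻¹ ≠ 0 := by
      intro h
      apply h4
      have h5 : (ζ : F) * ζ = -1 := by
        have h6 : (ζ : F)⁻¹ = -ζ := by linear_combination h
        have h7 := mul_inv_cancel₀ hζ0
        rw [h6] at h7
        linear_combination (-1 : F) * h7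
      have : (ζ : F) ^ 4 = ((ζ : F) * ζ) * ((ζ : F) * ζ) := by ring
      rw [this, h5]
      ring
    refine ⟨QuotientGroup.mk (S2475.D ζ), hC (S2475.D ζ) ?_ ?_ (ζ : F) ?_ ?_⟩
    · simp [S2475.D_val]
      exact hne
    · simp [S2475.D_val]
      exact htr
    · simp [S2475.D_val]
      field_simp
      ring
    · simp [S2475.D_val]
      exact hne
  have hexN : ∃ y : Matrix.ProjectiveSpecialLinearGroup (Fin 2) F,
      (Subgroup.centralizer ({y} : Set (Matrix.ProjectiveSpecialLinearGroup (Fin 2) F))).index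
        = Fintype.card F * (Fintype.card F - 1) := by
    obtain ⟨t, ht0, ht⟩ := exists_noroot_ne_zero F (by omega)
    obtain ⟨g, hg⟩ : ∃ g : Matrix.SpecialLinearGroup (Fin 2) F, g.1 = !![0, -1; 1, t] :=
      ⟨⟨!![0, -1; 1, t], by simp [Matrix.det_fin_two_of]⟩, rfl⟩
    refine ⟨QuotientGroup.mk g, hD g ?_ ?_ ?_⟩
    · rw [hg]; simp
    · rw [hg]; simpa using ht0
    · rw [hg]; simpa using ht
  obtain ⟨g0, hg0⟩ : ∃ g : Matrix.SpecialLinearGroup (Fin 2) F, g.1 = !![0, -1; 1, 0] :=
    ⟨⟨!![0, -1; 1, 0], by simp [Matrix.det_fin_two_of]⟩, rfl⟩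
  have hg0ns : ¬ (g0.1 0 1 = 0 ∧ g0.1 1 0 = 0 ∧ g0.1 0 0 = g0.1 1 1) := by
    rw [hg0]; simp
  have hg0t : g0.1 0 0 + g0.1 1 1 = 0 := by
    rw [hg0]; simp
  -- classification of a general element
  have hcls : ∀ g : Matrix.SpecialLinearGroup (Fin 2) F,
      (Subgroup.centralizer ({(QuotientGroup.mk g : Matrix.ProjectiveSpecialLinearGroup (Fin 2) F)} :
        Set (Matrix.ProjectiveSpecialLinearGroup (Fin 2) F))).index = 1 ∨
      (Subgroup.centralizer ({(QuotientGroup.mk g : Matrix.ProjectiveSpecialLinearGroup (Fin 2) F)} :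
        Set (Matrix.ProjectiveSpecialLinearGroup (Fin 2) F))).index = (Fintype.card F ^ 2 - 1) / 2 ∨
      (Subgroup.centralizer ({(QuotientGroup.mk g : Matrix.ProjectiveSpecialLinearGroup (Fin 2) F)} :
        Set (Matrix.ProjectiveSpecialLinearGroup (Fin 2) F))).index
          = Fintype.card F * (Fintype.card F + 1) ∨
      (Subgroup.centralizer ({(QuotientGroup.mk g : Matrix.ProjectiveSpecialLinearGroup (Fin 2) F)} :
        Set (Matrix.ProjectiveSpecialLinearGroup (Fin 2) F))).index
          = Fintype.card F * (Fintype.card F - 1) ∨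
      ((∃ l : F, l ^ 2 = -1) ∧
      (Subgroup.centralizer ({(QuotientGroup.mk g : Matrix.ProjectiveSpecialLinearGroup (Fin 2) F)} :
        Set (Matrix.ProjectiveSpecialLinearGroup (Fin 2) F))).index
          = Fintype.card F * (Fintype.card F + 1) / 2) ∨
      ((∀ l : F, l ^ 2 ≠ -1) ∧
      (Subgroup.centralizer ({(QuotientGroup.mk g : Matrix.ProjectiveSpecialLinearGroup (Fin 2) F)} :
        Set (Matrix.ProjectiveSpecialLinearGroup (Fin 2) F))).index
          = Fintype.card F * (Fintype.card F - 1) / 2) := by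
    intro g
    by_cases hs : g.1 0 1 = 0 ∧ g.1 1 0 = 0 ∧ g.1 0 0 = g.1 1 1
    · left; exact S2507.index_scalar g hs
    · by_cases ht0 : g.1 0 0 + g.1 1 1 = 0
      · by_cases hl : ∃ l : F, l ^ 2 = -1
        · obtain ⟨l, hl'⟩ := hl
          right; right; right; right; left
          exact ⟨⟨l, hl'⟩, hE g hs ht0 l hl'⟩
        · push_neg at hl
          right; right; right; right; right
          exact ⟨hl, hG g hs ht0 hl⟩
      · by_cases ht2 : g.1 0 0 + g.1 1 1 = 2 ∨ g.1 0 0 + g.1 1 1 = -2
        · right; left; exact hB g hs ht2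
        · by_cases hr : ∃ l : F, l ^ 2 = -1 + (g.1 0 0 + g.1 1 1) * l
          · obtain ⟨l, hl⟩ := hr
            right; right; left
            apply hC g hs ht0 l hl
            intro h
            have h5 : g.1 0 0 + g.1 1 1 = 2 * l := by linear_combination (-1 : F) * h
            rw [h5] at hl
            have h6 : l * l = 1 := by linear_combination (-1 : F) * hl
            apply ht2
            rcases mul_self_eq_one_iff.mp h6 with h7 | h7
            · left; rw [h5, h7]; ring
            · right; rw [h5, h7]; ring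
          · push_neg at hr
            right; right; right; left
            exact hD g hs ht0 hr
  have hsq : (∃ l : F, l ^ 2 = -1) ↔ Fintype.card F % 4 ≠ 3 := by
    rw [← FiniteField.isSquare_neg_one_iff]
    constructor
    · rintro ⟨l, hl⟩
      exact ⟨l, by rw [← hl]; ring⟩
    · rintro ⟨l, hl⟩
      exact ⟨l, by rw [hl]; ring⟩
  constructor
  · intro hq
    have hl : ∃ l : F, l ^ 2 = -1 := hsq.mpr (by omega)
    ext x
    simp only [Set.mem_range, Set.mem_insert_iff, Set.mem_singleton_iff]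
    constructor
    · rintro ⟨y, rfl⟩
      obtain ⟨g, rfl⟩ := QuotientGroup.mk_surjective y
      rcases hcls g with h | h | h | h | ⟨-, h⟩ | ⟨h', -⟩
      · left; exact h
      · right; left; exact h
      · right; right; right; right; exact h
      · right; right; right; left; exact h
      · right; right; left; exact h
      · obtain ⟨l, hl'⟩ := hl
        exact absurd hl' (h' l)
    · rintro (rfl | rfl | rfl | rfl | rfl)
      · exact hex1
      · exact hexU
      · obtain ⟨l, hl'⟩ := hl
        exact ⟨QuotientGroup.mk g0, hE g0 hg0ns hg0t l hl'⟩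
      · exact hexN
      · exact hexS
  · intro hq
    have hl : ∀ l : F, l ^ 2 ≠ -1 := by
      intro l hl'
      have := hsq.mp ⟨l, hl'⟩
      omega
    ext x
    simp only [Set.mem_range, Set.mem_insert_iff, Set.mem_singleton_iff]
    constructor
    · rintro ⟨y, rfl⟩
      obtain ⟨g, rfl⟩ := QuotientGroup.mk_surjective y
      rcases hcls g with h | h | h | h | ⟨⟨l, hl'⟩, -⟩ | ⟨-, h⟩
      · left; exact h
      · right; left; exact h
      · right; right; right; left; exact h
      · right; right; right; right; exact h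
      · exact absurd hl' (hl l)
      · right; right; left; exact h
    · rintro (rfl | rfl | rfl | rfl | rfl)
      · exact hex1
      · exact hexU
      · exact ⟨QuotientGroup.mk g0, hG g0 hg0ns hg0t hl⟩
      · exact hexS
      · exact hexN

end Cfsg.Agent.S2508
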