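import Cfsg.Statements.S2450
import Mathlib
import Cfsg.Agent.S2508

set_option autoImplicit false
open Cfsg

set_option maxHeartbeats 1000000
namespace Cfsg.Agent.S2450

/-- upper unitriangular element -/
def Ux {F : Type*} [Field F] (x : F) : Matrix.SpecialLinearGroup (Fin 2) F :=
  ⟨!![1, x; 0, 1], by simp [Matrix.det_fin_two_of]⟩

theorem Ux_val {F : Type*} [Field F] (x : F) :
    ((Ux x : Matrix.SpecialLinearGroup (Fin 2) F) : Matrix (Fin 2) (Fin 2) F) = !![1, x; 0, 1] := rfl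

/-- lower unitriangular element -/
def Lx {F : Type*} [Field F] (x : F) : Matrix.SpecialLinearGroup (Fin 2) F :=
  ⟨!![1, 0; x, 1], by simp [Matrix.det_fin_two_of]⟩

theorem Lx_val {F : Type*} [Field F] (x : F) :
    ((Lx x : Matrix.SpecialLinearGroup (Fin 2) F) : Matrix (Fin 2) (Fin 2) F) = !![1, 0; x, 1] := rfl

/-- the Weyl element -/
def Wm (F : Type*) [Field F] : Matrix.SpecialLinearGroup (Fin 2) F :=
  ⟨!![0, -1; 1, 0], by simp [Matrix.det_fin_two_of]⟩

theorem Wm_val (F : Type*) [Field F] :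
    ((Wm F : Matrix.SpecialLinearGroup (Fin 2) F) : Matrix (Fin 2) (Fin 2) F) = !![0, -1; 1, 0] := rfl

theorem exists_conj_ll {F : Type*} [Field F] (A : Matrix.SpecialLinearGroup (Fin 2) F)
    (hA : ¬ (A.1 0 1 = 0 ∧ A.1 1 0 = 0 ∧ A.1 0 0 = A.1 1 1)) :
    ∃ u : Matrix.SpecialLinearGroup (Fin 2) F, (u * A * u⁻¹).1 1 0 ≠ 0 := by
  by_cases h10 : A.1 1 0 = 0
  · by_cases h01 : A.1 0 1 = 0
    · refine ⟨Lx 1, ?_⟩
      have hne : A.1 0 0 ≠ A.1 1 1 := fun h => hA ⟨h01, h10, h⟩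
      rw [S2429.mul10, S2429.mul10, S2429.mul11, S2429.inv00, S2429.inv10]
      simp only [Lx_val, Matrix.of_apply, Matrix.cons_val', Matrix.cons_val_zero,
        Matrix.cons_val_one, Matrix.cons_val_fin_one, h10, h01]
      intro h
      apply hne
      linear_combination h
    · refine ⟨Wm F, ?_⟩
      rw [S2429.mul10, S2429.mul10, S2429.mul11, S2429.inv00, S2429.inv10]
      simp only [Wm_val, Matrix.of_apply, Matrix.cons_val', Matrix.cons_val_zero,
        Matrix.cons_val_one, Matrix.cons_val_fin_one, h10]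
      intro h
      apply h01
      linear_combination -h
  · exact ⟨1, by simpa using h10⟩

theorem nonscalar_of_ne_one {F : Type*} [Field F] (A : Matrix.SpecialLinearGroup (Fin 2) F)
    (h : (QuotientGroup.mk A : Matrix.ProjectiveSpecialLinearGroup (Fin 2) F) ≠ 1) :
    ¬ (A.1 0 1 = 0 ∧ A.1 1 0 = 0 ∧ A.1 0 0 = A.1 1 1) := by
  rintro ⟨h01, h10, h00⟩
  apply h
  rw [QuotientGroup.eq_one_iff]
  apply S2475.central_of_scalar A (A.1 0 0)
  ext i j
  fin_cases i <;> fin_cases j <;> simp [h01, h10, h00]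

/-- conjugate elements of `PSL₂` have lifts whose traces agree up to sign -/
theorem tr_sq_of_conj {F : Type*} [Field F] (C X : Matrix.SpecialLinearGroup (Fin 2) F)
    (h : IsConj (QuotientGroup.mk C : Matrix.ProjectiveSpecialLinearGroup (Fin 2) F)
      (QuotientGroup.mk X)) : S2325.tr2 X ^ 2 = S2325.tr2 C ^ 2 := by
  obtain ⟨k, hk⟩ := isConj_iff.1 h
  obtain ⟨K, rfl⟩ := QuotientGroup.mk_surjective k
  have h1 : (QuotientGroup.mk (K * C * K⁻¹) : Matrix.ProjectiveSpecialLinearGroup (Fin 2) F)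
      = QuotientGroup.mk X := by
    rw [← hk]
    rfl
  rw [QuotientGroup.eq] at h1
  obtain ⟨ε, hε, hz⟩ := S2475.scalar_of_central _ h1
  have hX : X = (K * C * K⁻¹) * ((K * C * K⁻¹)⁻¹ * X) := by group
  have h00 : ((K * C * K⁻¹)⁻¹ * X).1 0 0 = ε := by rw [hz]; simp
  have h01 : ((K * C * K⁻¹)⁻¹ * X).1 0 1 = 0 := by rw [hz]; simp
  have h10 : ((K * C * K⁻¹)⁻¹ * X).1 1 0 = 0 := by rw [hz]; simp
  have h11 : ((K * C * K⁻¹)⁻¹ * X).1 1 1 = ε := by rw [hz]; simp
  have hc : S2325.tr2 C = S2325.tr2 (K * C * K⁻¹) :=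
    S2325.tr2_conj _ _ (isConj_iff.2 ⟨K, rfl⟩)
  have e00 := S2429.mul00 (K * C * K⁻¹) ((K * C * K⁻¹)⁻¹ * X)
  have e11 := S2429.mul11 (K * C * K⁻¹) ((K * C * K⁻¹)⁻¹ * X)
  rw [← hX, h00, h10] at e00
  rw [← hX, h01, h11] at e11
  have ht : S2325.tr2 X = ε * S2325.tr2 C := by
    rw [hc]
    unfold S2325.tr2
    rw [e00, e11]
    ring
  rw [ht, mul_pow, hε, one_mul]

/-- the trace of `A * (Ux x * B * (Ux x)⁻¹)` as a quadratic polynomial in `x` -/
theorem tr_twist {F : Type*} [Field F] (A B : Matrix.SpecialLinearGroup (Fin 2) F) (x : F) :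
    S2325.tr2 (A * (Ux x * B * (Ux x)⁻¹)) =
      (-(A.1 1 0 * B.1 1 0)) * x ^ 2
        + (A.1 0 0 * B.1 1 0 - A.1 1 1 * B.1 1 0 + A.1 1 0 * (B.1 1 1 - B.1 0 0)) * x
        + (A.1 0 0 * B.1 0 0 + A.1 0 1 * B.1 1 0 + A.1 1 0 * B.1 0 1 + A.1 1 1 * B.1 1 1) := by
  unfold S2325.tr2
  simp only [S2429.mul00, S2429.mul11, S2429.mul10, S2429.mul01, S2429.inv00, S2429.inv10,
    S2429.inv01, S2429.inv11]
  simp only [Ux_val, Matrix.of_apply, Matrix.cons_val', Matrix.cons_val_zero,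
    Matrix.cons_val_one, Matrix.cons_val_fin_one]
  ring

theorem quad_not_const {F : Type*} [Field F] [Fintype F] (h4 : 4 ≤ Fintype.card F)
    (α β γ τ : F) (hα : α ≠ 0) (h : ∀ x : F, (α * x ^ 2 + β * x + γ) ^ 2 = τ ^ 2) : False := by
  classical
  have hq : (Polynomial.C α * Polynomial.X ^ 2 + Polynomial.C β * Polynomial.X
      + Polynomial.C γ : Polynomial F).natDegree = 2 := Polynomial.natDegree_quadratic hα
  by_cases h5 : 5 ≤ Fintype.card F
  · set P : Polynomial F := (Polynomial.C α * Polynomial.X ^ 2 + Polynomial.C β * Polynomial.X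
      + Polynomial.C γ) ^ 2 - Polynomial.C (τ ^ 2) with hP
    have hdeg : P.natDegree ≤ 4 := by
      rw [hP]
      refine (Polynomial.natDegree_sub_le _ _).trans ?_
      rw [Polynomial.natDegree_pow, hq, Polynomial.natDegree_C]
      simp
    have hzero : P = 0 := by
      apply Polynomial.eq_zero_of_natDegree_lt_card_of_eval_eq_zero' P (Finset.univ : Finset F)
      · intro x _
        rw [hP]
        simp only [Polynomial.eval_sub, Polynomial.eval_pow, Polynomial.eval_add,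
          Polynomial.eval_mul, Polynomial.eval_C, Polynomial.eval_X]
        rw [h x, sub_self]
      · rw [Finset.card_univ]
        omega
    have h2 : ((Polynomial.C α * Polynomial.X ^ 2 + Polynomial.C β * Polynomial.X
      + Polynomial.C γ : Polynomial F) ^ 2).natDegree = 0 := by
      rw [sub_eq_zero.1 hzero, Polynomial.natDegree_C]
    rw [Polynomial.natDegree_pow, hq] at h2
    omega
  · have hc : Fintype.card F = 4 := by omega
    have hch : ringChar F = 2 := (FiniteField.even_card_iff_char_two).2 (by rw [hc])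
    have : CharP F 2 := ringChar.of_eq hch
    have h20 : (2 : F) = 0 := CharTwo.two_eq_zero
    have h' : ∀ x : F, α * x ^ 2 + β * x + (γ - τ) = 0 := by
      intro x
      have hx := h x
      have : (α * x ^ 2 + β * x + (γ - τ)) ^ 2 = 0 := by
        linear_combination hx + (-(α * x ^ 2 + β * x + γ) * τ + τ ^ 2) * h20
      exact pow_eq_zero_iff (two_ne_zero) |>.1 this
    have hq' : (Polynomial.C α * Polynomial.X ^ 2 + Polynomial.C β * Polynomial.X
      + Polynomial.C (γ - τ) : Polynomial F).natDegree = 2 := Polynomial.natDegree_quadratic hα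
    have hzero : (Polynomial.C α * Polynomial.X ^ 2 + Polynomial.C β * Polynomial.X
      + Polynomial.C (γ - τ) : Polynomial F) = 0 := by
      apply Polynomial.eq_zero_of_natDegree_lt_card_of_eval_eq_zero' _ (Finset.univ : Finset F)
      · intro x _
        simp only [Polynomial.eval_add, Polynomial.eval_pow,
          Polynomial.eval_mul, Polynomial.eval_C, Polynomial.eval_X]
        exact h' x
      · rw [Finset.card_univ, hq']
        omega
    rw [hzero] at hq'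
    simp at hq'

theorem result {F : Type*} [Field F] [Fintype F] (h4 : 4 ≤ Fintype.card F)
    (a b : Matrix.ProjectiveSpecialLinearGroup (Fin 2) F) (ha : a ≠ 1) (hb : b ≠ 1) (c : Matrix.ProjectiveSpecialLinearGroup (Fin 2) F) :
    {g : Matrix.ProjectiveSpecialLinearGroup (Fin 2) F | ∃ u v : Matrix.ProjectiveSpecialLinearGroup (Fin 2) F, g = (u * a * u⁻¹) * (v * b * v⁻¹)} ≠ {g | IsConj c g} := by
  intro hset
  obtain ⟨A, rfl⟩ := QuotientGroup.mk_surjective a
  obtain ⟨B, rfl⟩ := QuotientGroup.mk_surjective b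
  obtain ⟨C, rfl⟩ := QuotientGroup.mk_surjective c
  obtain ⟨uA, huA⟩ := exists_conj_ll A (nonscalar_of_ne_one A ha)
  obtain ⟨uB, huB⟩ := exists_conj_ll B (nonscalar_of_ne_one B hb)
  have key : ∀ x : F, S2325.tr2 ((uA * A * uA⁻¹) * (Ux x * (uB * B * uB⁻¹) * (Ux x)⁻¹)) ^ 2
      = S2325.tr2 C ^ 2 := by
    intro x
    apply tr_sq_of_conj
    have hmem : (QuotientGroup.mk ((uA * A * uA⁻¹) * (Ux x * (uB * B * uB⁻¹) * (Ux x)⁻¹)) :
        Matrix.ProjectiveSpecialLinearGroup (Fin 2) F) ∈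
        {g : Matrix.ProjectiveSpecialLinearGroup (Fin 2) F | ∃ u v : Matrix.ProjectiveSpecialLinearGroup (Fin 2) F, g = (u * (QuotientGroup.mk A) * u⁻¹) * (v * (QuotientGroup.mk B) * v⁻¹)} := by
      refine ⟨QuotientGroup.mk uA, QuotientGroup.mk (Ux x * uB), ?_⟩
      have : (uA * A * uA⁻¹) * (Ux x * (uB * B * uB⁻¹) * (Ux x)⁻¹)
          = (uA * A * uA⁻¹) * ((Ux x * uB) * B * (Ux x * uB)⁻¹) := by group
      rw [this]
      rfl
    rw [hset] at hmem
    exact hmem
  have key2 : ∀ x : F, (-((uA * A * uA⁻¹).1 1 0 * (uB * B * uB⁻¹).1 1 0) * x ^ 2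
      + ((uA * A * uA⁻¹).1 0 0 * (uB * B * uB⁻¹).1 1 0 - (uA * A * uA⁻¹).1 1 1 * (uB * B * uB⁻¹).1 1 0
        + (uA * A * uA⁻¹).1 1 0 * ((uB * B * uB⁻¹).1 1 1 - (uB * B * uB⁻¹).1 0 0)) * x
      + ((uA * A * uA⁻¹).1 0 0 * (uB * B * uB⁻¹).1 0 0 + (uA * A * uA⁻¹).1 0 1 * (uB * B * uB⁻¹).1 1 0
        + (uA * A * uA⁻¹).1 1 0 * (uB * B * uB⁻¹).1 0 1 + (uA * A * uA⁻¹).1 1 1 * (uB * B * uB⁻¹).1 1 1)) ^ 2
      = S2325.tr2 C ^ 2 := by
    intro x
    rw [← tr_twist (uA * A * uA⁻¹) (uB * B * uB⁻¹) x]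
    exact key x
  exact quad_not_const h4 _ _ _ (S2325.tr2 C) (neg_ne_zero.2 (mul_ne_zero huA huB)) key2

end Cfsg.Agent.S2450
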