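import Cfsg.Statements.S2455
import Mathlib
import Cfsg.Agent.S2450

set_option autoImplicit false
open Cfsg

set_option maxHeartbeats 1000000
namespace Cfsg.Agent.S2455

theorem tr2_inv {F : Type*} [Field F] (W : Matrix.SpecialLinearGroup (Fin 2) F) :
    S2325.tr2 W⁻¹ = S2325.tr2 W := by
  unfold S2325.tr2
  rw [S2429.inv00, S2429.inv11]
  ring

theorem W_transfer {F : Type*} [Field F] (G K : Matrix.SpecialLinearGroup (Fin 2) F) (t : F)
    (h : ∃ W : Matrix.SpecialLinearGroup (Fin 2) F, S2325.tr2 W = t ∧ S2325.tr2 (G * W) = t) :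
    ∃ W : Matrix.SpecialLinearGroup (Fin 2) F, S2325.tr2 W = t ∧
      S2325.tr2 (K * G * K⁻¹ * W) = t := by
  obtain ⟨W, h1, h2⟩ := h
  refine ⟨K * W * K⁻¹, ?_, ?_⟩
  · rw [← S2325.tr2_conj W _ (isConj_iff.2 ⟨K, rfl⟩)]
    exact h1
  · have : K * G * K⁻¹ * (K * W * K⁻¹) = K * (G * W) * K⁻¹ := by group
    rw [this, ← S2325.tr2_conj (G * W) _ (isConj_iff.2 ⟨K, rfl⟩)]
    exact h2

theorem prod_of_W {F : Type*} [Field F] [Fintype F] (hodd : Fintype.card F % 2 = 1)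
    (h2 : (2 : F) ≠ 0) (X G : Matrix.SpecialLinearGroup (Fin 2) F) (ht : S2325.tr2 X ^ 2 ≠ 4)
    (h : ∃ W : Matrix.SpecialLinearGroup (Fin 2) F, S2325.tr2 W = S2325.tr2 X ∧
      S2325.tr2 (G * W) = S2325.tr2 X) :
    ∃ K M : Matrix.SpecialLinearGroup (Fin 2) F, G = (K * X * K⁻¹) * (M * X * M⁻¹) := by
  obtain ⟨W, h1, h3⟩ := h
  have hX := S2325.comp_conj hodd h2 X ht
  have hZ := S2325.comp_conj hodd h2 (G * W) (by rw [h3]; exact ht)
  have hW := S2325.comp_conj hodd h2 W⁻¹ (by rw [tr2_inv, h1]; exact ht)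
  rw [h3] at hZ
  rw [tr2_inv, h1] at hW
  obtain ⟨K, hK⟩ := isConj_iff.1 (hX.symm.trans hZ)
  obtain ⟨M, hM⟩ := isConj_iff.1 (hX.symm.trans hW)
  refine ⟨K, M, ?_⟩
  rw [hK, hM]
  group

theorem exists_W_comp {F : Type*} [Field F] [Fintype F] (hodd : Fintype.card F % 2 = 1)
    (h2 : (2 : F) ≠ 0) (s t : F) (hs : s ^ 2 ≠ 4) :
    ∃ W : Matrix.SpecialLinearGroup (Fin 2) F, S2325.tr2 W = t ∧
      S2325.tr2 (S2325.comp s * W) = t := by
  have hs2 : s + 2 ≠ 0 := by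
    intro h
    apply hs
    linear_combination (s - 2) * h
  obtain ⟨δ, hδ⟩ : ∃ δ : F, (s + 2) * δ = 1 := ⟨(s + 2)⁻¹, mul_inv_cancel₀ hs2⟩
  obtain ⟨κ, hκdef⟩ : ∃ κ : F, κ = (t ^ 2 - s - 2) * δ := ⟨_, rfl⟩
  obtain ⟨a, b, hab⟩ : ∃ a b : F, a ^ 2 - s * a * b + b ^ 2 = κ := by
    by_cases hκ : κ = 0
    · exact ⟨0, 0, by rw [hκ]; ring⟩
    · obtain ⟨x, y, hxy⟩ := S2325.binary_form hodd h2 κ⁻¹ (-s * κ⁻¹) κ⁻¹ (by
        intro h
        apply hs
        have h' : (s ^ 2 - 4) * (κ⁻¹) ^ 2 = 0 := by linear_combination h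
        rcases mul_eq_zero.1 h' with h'' | h''
        · linear_combination h''
        · exact absurd (pow_eq_zero_iff two_ne_zero |>.1 h'') (inv_ne_zero hκ))
      refine ⟨x, y, ?_⟩
      calc x ^ 2 - s * x * y + y ^ 2
          = κ * (κ⁻¹ * x ^ 2 + -s * κ⁻¹ * x * y + κ⁻¹ * y ^ 2) := by
            field_simp
            ring
        _ = κ := by rw [hxy, mul_one]
  have hdet : (t - (t * δ + a)) * (t * δ + a)
      - (t + (-(t * δ) + b) - s * (t * δ + a)) * (-(t * δ) + b) = 1 := by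
    rw [hκdef] at hab
    linear_combination (-1 : F) * hab + (-(t ^ 2 * δ) + 1 - t * a + t * b) * hδ
  obtain ⟨W, hW⟩ : ∃ W : Matrix.SpecialLinearGroup (Fin 2) F,
      W.1 = !![t - (t * δ + a), t + (-(t * δ) + b) - s * (t * δ + a); -(t * δ) + b, t * δ + a] :=
    ⟨⟨_, by rw [Matrix.det_fin_two_of]; exact hdet⟩, rfl⟩
  refine ⟨W, ?_, ?_⟩
  · unfold S2325.tr2
    rw [hW]
    simp
  · unfold S2325.tr2
    rw [S2429.mul00, S2429.mul11, hW, S2325.comp_val]
    simp only [Matrix.of_apply, Matrix.cons_val', Matrix.cons_val_zero, Matrix.cons_val_one,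
      Matrix.cons_val_fin_one]
    ring

theorem exists_W_unip {F : Type*} [Field F] (h2 : (2 : F) ≠ 0)
    (G : Matrix.SpecialLinearGroup (Fin 2) F)
    (htr : S2325.tr2 G = -2) (h10 : G.1 1 0 ≠ 0) (t : F) (ht : t ≠ 0) :
    ∃ W : Matrix.SpecialLinearGroup (Fin 2) F, S2325.tr2 W = t ∧ S2325.tr2 (G * W) = t := by
  have hd := S2429.det2 G
  have htr' : G.1 0 0 + G.1 1 1 = -2 := htr
  have h4 : (4 : F) ≠ 0 := by
    have : (4 : F) = 2 * 2 := by norm_num
    rw [this]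
    exact mul_ne_zero h2 h2
  obtain ⟨w3, hw3⟩ : ∃ w3 : F, w3 = -G.1 1 0 / (2 * t) := ⟨_, rfl⟩
  obtain ⟨w1, hw1⟩ : ∃ w1 : F, w1 = -(G.1 0 0 - G.1 1 1) / (4 * t) := ⟨_, rfl⟩
  obtain ⟨w2, hw2⟩ : ∃ w2 : F,
      w2 = (t - G.1 0 0 * w1 - G.1 0 1 * w3 - G.1 1 1 * (t - w1)) / G.1 1 0 := ⟨_, rfl⟩
  have e3 : 2 * t * w3 = -G.1 1 0 := by
    rw [hw3]
    field_simp
  have e1 : 4 * t * w1 = -(G.1 0 0 - G.1 1 1) := by
    rw [hw1]
    field_simp
  have e2 : G.1 1 0 * w2 = t - G.1 0 0 * w1 - G.1 0 1 * w3 - G.1 1 1 * (t - w1) := by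
    rw [hw2]
    field_simp
  have hdet : w1 * (t - w1) - w2 * w3 = 1 := by
    grind
  obtain ⟨W, hW⟩ : ∃ W : Matrix.SpecialLinearGroup (Fin 2) F, W.1 = !![w1, w2; w3, t - w1] :=
    ⟨⟨_, by rw [Matrix.det_fin_two_of]; exact hdet⟩, rfl⟩
  refine ⟨W, ?_, ?_⟩
  · unfold S2325.tr2
    rw [hW]
    simp
  · unfold S2325.tr2
    rw [S2429.mul00, S2429.mul11, hW]
    simp only [Matrix.of_apply, Matrix.cons_val', Matrix.cons_val_zero, Matrix.cons_val_one,
      Matrix.cons_val_fin_one]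
    linear_combination e2

theorem result {F : Type*} [Field F] [Fintype F] (p : ℕ) [Fact p.Prime] [CharP F p] (hp : p ≠ 2) (h5 : 5 ≤ Fintype.card F)
    (x : Matrix.ProjectiveSpecialLinearGroup (Fin 2) F) (hx2 : 2 < orderOf x) (hxp : ¬ p ∣ orderOf x) : ∀ g : Matrix.ProjectiveSpecialLinearGroup (Fin 2) F, g ≠ 1 → ∃ u v : Matrix.ProjectiveSpecialLinearGroup (Fin 2) F, g = (u * x * u⁻¹) * (v * x * v⁻¹) := by
  classical
  intro g hg
  have hF : ringChar F ≠ 2 := by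
    rw [ringChar.eq F p]
    exact hp
  have h2 : (2 : F) ≠ 0 := Ring.two_ne_zero hF
  have hodd : Fintype.card F % 2 = 1 := by
    have h := (FiniteField.even_card_iff_char_two (F := F)).not.1 hF
    omega
  obtain ⟨X, rfl⟩ := QuotientGroup.mk_surjective x
  obtain ⟨G, rfl⟩ := QuotientGroup.mk_surjective g
  have ht0 : S2325.tr2 X ≠ 0 := by
    intro h0
    have hsq : X * X = S2429.negOne F := by
      apply Subtype.ext
      rw [Matrix.SpecialLinearGroup.coe_mul, S2475.sl2_sq, Matrix.trace_fin_two, S2429.negOne_val]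
      have h0' : X.1 0 0 + X.1 1 1 = 0 := h0
      rw [h0']
      simp
    have h1 : (QuotientGroup.mk X : Matrix.ProjectiveSpecialLinearGroup (Fin 2) F) ^ 2 = 1 := by
      rw [S2475.psl_pow_eq_one_iff, pow_two, hsq]
      exact S2508.negOne_central F
    have h3 := Nat.le_of_dvd (by norm_num) (orderOf_dvd_of_pow_eq_one h1)
    omega
  have ht4 : S2325.tr2 X ^ 2 ≠ 4 := by
    intro h4'
    obtain ⟨ε, hε, htε⟩ : ∃ ε : F, ε * ε = 1 ∧ X.1.trace = 2 * ε := by
      have h : (S2325.tr2 X - 2) * (S2325.tr2 X + 2) = 0 := by linear_combination h4'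
      rcases mul_eq_zero.1 h with h | h
      · refine ⟨1, by simp, ?_⟩
        rw [Matrix.trace_fin_two]
        unfold S2325.tr2 at h
        linear_combination h
      · refine ⟨-1, by simp, ?_⟩
        rw [Matrix.trace_fin_two]
        unfold S2325.tr2 at h
        linear_combination h
    have hω := S2475.omega_pow_unip p (X.1.trace) ε hε htε
    have hcent : X ^ p ∈ Subgroup.center (Matrix.SpecialLinearGroup (Fin 2) F) := by
      apply S2475.central_of_scalar (X ^ p) (ε ^ p)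
      rw [Matrix.SpecialLinearGroup.coe_pow, ← S2475.phi_omega X, ← map_pow, hω, AlgHom.commutes,
        Algebra.algebraMap_eq_smul_one]
    have h1 : (QuotientGroup.mk X : Matrix.ProjectiveSpecialLinearGroup (Fin 2) F) ^ p = 1 :=
      (S2475.psl_pow_eq_one_iff X p).2 hcent
    have hdvd := orderOf_dvd_of_pow_eq_one h1
    rcases (Nat.dvd_prime (Fact.out : p.Prime)).1 hdvd with h | h
    · omega
    · exact hxp (dvd_of_eq h.symm)
  have fin : ∀ G' : Matrix.SpecialLinearGroup (Fin 2) F,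
      (∃ W : Matrix.SpecialLinearGroup (Fin 2) F, S2325.tr2 W = S2325.tr2 X ∧
        S2325.tr2 (G' * W) = S2325.tr2 X) →
      (QuotientGroup.mk G' : Matrix.ProjectiveSpecialLinearGroup (Fin 2) F) = QuotientGroup.mk G →
      ∃ u v : Matrix.ProjectiveSpecialLinearGroup (Fin 2) F,
        (QuotientGroup.mk G : Matrix.ProjectiveSpecialLinearGroup (Fin 2) F)
          = (u * QuotientGroup.mk X * u⁻¹) * (v * QuotientGroup.mk X * v⁻¹) := by
    intro G' hW hGG
    obtain ⟨K, M, hKM⟩ := prod_of_W hodd h2 X G' ht4 hW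
    refine ⟨QuotientGroup.mk K, QuotientGroup.mk M, ?_⟩
    rw [← hGG, hKM]
    rfl
  by_cases hs : S2325.tr2 G ^ 2 = 4
  · obtain ⟨G1, hG1, htr1⟩ : ∃ G1 : Matrix.SpecialLinearGroup (Fin 2) F,
        (QuotientGroup.mk G1 : Matrix.ProjectiveSpecialLinearGroup (Fin 2) F) = QuotientGroup.mk G ∧
        S2325.tr2 G1 = -2 := by
      have h : (S2325.tr2 G - 2) * (S2325.tr2 G + 2) = 0 := by linear_combination hs
      rcases mul_eq_zero.1 h with h | h
      · refine ⟨G * S2429.negOne F, ?_, ?_⟩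
        · rw [QuotientGroup.eq]
          have e : (G * S2429.negOne F)⁻¹ * G = (S2429.negOne F)⁻¹ := by group
          rw [e]
          exact inv_mem (S2508.negOne_central F)
        · rw [S2508.tr2_mul_negOne]
          linear_combination -h
      · exact ⟨G, rfl, by linear_combination h⟩
    have hns1 := S2450.nonscalar_of_ne_one G1 (by rw [hG1]; exact hg)
    obtain ⟨u, hu⟩ := S2450.exists_conj_ll G1 hns1
    have htru : S2325.tr2 (u * G1 * u⁻¹) = -2 := by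
      rw [← S2325.tr2_conj G1 _ (isConj_iff.2 ⟨u, rfl⟩)]
      exact htr1
    have hW := exists_W_unip h2 (u * G1 * u⁻¹) htru hu (S2325.tr2 X) ht0
    have hW' := W_transfer (u * G1 * u⁻¹) u⁻¹ _ hW
    have e : u⁻¹ * (u * G1 * u⁻¹) * u⁻¹⁻¹ = G1 := by group
    rw [e] at hW'
    exact fin G1 hW' hG1
  · have hc := S2325.comp_conj hodd h2 G hs
    obtain ⟨K, hK⟩ := isConj_iff.1 hc
    have hW := exists_W_comp hodd h2 (S2325.tr2 G) (S2325.tr2 X) hs
    have hW' := W_transfer _ K _ hW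
    rw [hK] at hW'
    exact fin G hW' rfl

end Cfsg.Agent.S2455
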