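import Cfsg.Statements.S2456
import Mathlib
import Cfsg.Agent.S2455
import Cfsg.Agent.S2331

set_option autoImplicit false
open Cfsg

set_option maxHeartbeats 1000000
namespace Cfsg.Agent.S2456

theorem comp_conj2' {F : Type*} [Field F] [Fintype F] [CharP F 2]
    (g : Matrix.SpecialLinearGroup (Fin 2) F) (ht : S2325.tr2 g ≠ 0) :
    IsConj (S2325.comp (S2325.tr2 g)) g :=
  S2331.comp_conj2 g ht

/-- if `x² - t x + 1` splits, every `G` with nonzero lower-left entry admits `W` of trace `t`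
with `G * W` of trace `t`. -/
theorem exists_W_split {F : Type*} [Field F] (G : Matrix.SpecialLinearGroup (Fin 2) F)
    (h10 : G.1 1 0 ≠ 0) (t l : F) (hl : l ^ 2 = -1 + t * l) :
    ∃ W : Matrix.SpecialLinearGroup (Fin 2) F, S2325.tr2 W = t ∧ S2325.tr2 (G * W) = t := by
  obtain ⟨w2, hw2⟩ : ∃ w2 : F, w2 = (t - G.1 0 0 * l - G.1 1 1 * (t - l)) / G.1 1 0 := ⟨_, rfl⟩
  have e2 : G.1 1 0 * w2 = t - G.1 0 0 * l - G.1 1 1 * (t - l) := by
    rw [hw2]
    field_simp
  obtain ⟨W, hW⟩ : ∃ W : Matrix.SpecialLinearGroup (Fin 2) F, W.1 = !![l, w2; 0, t - l] :=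
    ⟨⟨_, by rw [Matrix.det_fin_two_of]; linear_combination (-1 : F) * hl⟩, rfl⟩
  refine ⟨W, ?_, ?_⟩
  · unfold S2325.tr2
    rw [hW]
    simp
  · unfold S2325.tr2
    rw [S2429.mul00, S2429.mul11, hW]
    simp only [Matrix.of_apply, Matrix.cons_val', Matrix.cons_val_zero, Matrix.cons_val_one,
      Matrix.cons_val_fin_one]
    linear_combination e2

/-- the splitting version of the covering statement: a non-central `G` is a product of two
conjugates of `X` whenever elements of trace `tr X` form one class and `x² - (tr X) x + 1`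
has a root. -/
theorem prod_of_split {F : Type*} [Field F]
    (X G : Matrix.SpecialLinearGroup (Fin 2) F)
    (hconj : ∀ Y : Matrix.SpecialLinearGroup (Fin 2) F, S2325.tr2 Y = S2325.tr2 X → IsConj X Y)
    (hns : ¬ (G.1 0 1 = 0 ∧ G.1 1 0 = 0 ∧ G.1 0 0 = G.1 1 1))
    (l : F) (hl : l ^ 2 = -1 + S2325.tr2 X * l) :
    ∃ K M : Matrix.SpecialLinearGroup (Fin 2) F, G = (K * X * K⁻¹) * (M * X * M⁻¹) := by
  obtain ⟨u, hu⟩ := S2450.exists_conj_ll G hns
  have hW := exists_W_split (u * G * u⁻¹) hu (S2325.tr2 X) l hl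
  have hW' := S2455.W_transfer (u * G * u⁻¹) u⁻¹ _ hW
  have e : u⁻¹ * (u * G * u⁻¹) * u⁻¹⁻¹ = G := by group
  rw [e] at hW'
  obtain ⟨W, h1, h3⟩ := hW'
  obtain ⟨K, hK⟩ := isConj_iff.1 (hconj (G * W) h3)
  obtain ⟨M, hM⟩ := isConj_iff.1 (hconj W⁻¹ (by rw [S2455.tr2_inv, h1]))
  refine ⟨K, M, ?_⟩
  rw [hK, hM]
  group

theorem result {F : Type*} [Field F] [Fintype F] [CharP F 2] (h4 : 4 ≤ Fintype.card F)
    (x : Matrix.ProjectiveSpecialLinearGroup (Fin 2) F) (hx2 : 2 < orderOf x) (hxq : ¬ orderOf x ∣ Fintype.card F + 1) : ∀ g : Matrix.ProjectiveSpecialLinearGroup (Fin 2) F, g ≠ 1 → ∃ u v : Matrix.ProjectiveSpecialLinearGroup (Fin 2) F, g = (u * x * u⁻¹) * (v * x * v⁻¹) := by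
  classical
  intro g hg
  have h20 : (2 : F) = 0 := CharTwo.two_eq_zero
  have hneg : (-1 : F) = 1 := CharTwo.neg_eq 1
  obtain ⟨X, rfl⟩ := QuotientGroup.mk_surjective x
  obtain ⟨G, rfl⟩ := QuotientGroup.mk_surjective g
  have ht0 : S2325.tr2 X ≠ 0 := by
    intro h0
    have hsq : X * X = 1 := by
      apply Subtype.ext
      rw [Matrix.SpecialLinearGroup.coe_mul, S2475.sl2_sq, Matrix.trace_fin_two]
      have h0' : X.1 0 0 + X.1 1 1 = 0 := h0
      rw [h0', zero_smul, add_zero, hneg, one_smul]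
      rfl
    have h1 : (QuotientGroup.mk X : Matrix.ProjectiveSpecialLinearGroup (Fin 2) F) ^ 2 = 1 := by
      rw [← QuotientGroup.mk_pow, pow_two, hsq]
      rfl
    have h3 := Nat.le_of_dvd (by norm_num) (orderOf_dvd_of_pow_eq_one h1)
    omega
  have hroot : ∃ l : F, l ^ 2 = -1 + S2325.tr2 X * l := by
    by_contra hno
    have hfact : Fact (∀ r : F, r ^ 2 ≠ -1 + X.1.trace * r) :=
      ⟨fun r hr => hno ⟨r, by rw [hr, Matrix.trace_fin_two]; rfl⟩⟩
    have hn1 : QuadraticAlgebra.norm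
        (QuadraticAlgebra.omega : QuadraticAlgebra F (-1) (X.1.trace)) = 1 := by
      simp [QuadraticAlgebra.norm_def]
    have hω := S2475.pow_card_add_one
      (QuadraticAlgebra.omega : QuadraticAlgebra F (-1) (X.1.trace))
    rw [hn1, map_one] at hω
    have hX1 : X ^ (Fintype.card F + 1) = 1 := by
      apply Subtype.ext
      rw [Matrix.SpecialLinearGroup.coe_pow, ← S2475.phi_omega X, ← map_pow, hω, map_one]
      rfl
    have h1 : (QuotientGroup.mk X : Matrix.ProjectiveSpecialLinearGroup (Fin 2) F)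
        ^ (Fintype.card F + 1) = 1 := by
      rw [← QuotientGroup.mk_pow, hX1]
      rfl
    exact hxq (orderOf_dvd_of_pow_eq_one h1)
  obtain ⟨l, hl⟩ := hroot
  have hns := S2450.nonscalar_of_ne_one G hg
  have hconj : ∀ Y : Matrix.SpecialLinearGroup (Fin 2) F, S2325.tr2 Y = S2325.tr2 X → IsConj X Y := by
    intro Y hY
    have hX := comp_conj2' X ht0
    have hY' := comp_conj2' Y (by rw [hY]; exact ht0)
    rw [hY] at hY'
    exact hX.symm.trans hY'
  obtain ⟨K, M, hKM⟩ := prod_of_split X G hconj hns l hl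
  refine ⟨QuotientGroup.mk K, QuotientGroup.mk M, ?_⟩
  rw [hKM]
  rfl

end Cfsg.Agent.S2456
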