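import Cfsg.Statements.S2477
import Mathlib

set_option autoImplicit false
open Cfsg

namespace Cfsg.Agent.S2477

/-- reachable triples (sum, lcm, parity) for multisets of parts `≥ 2` with sum `≤ 10` -/
def triples : List (ℕ × ℕ × Bool) := [(0, 1, false), (2, 2, true), (3, 3, false), (4, 2, false), (4, 4, true), (5, 5, false), (5, 6, true), (6, 2, true), (6, 3, false), (6, 4, false), (6, 6, true), (7, 6, false), (7, 7, false), (7, 10, true), (7, 12, true), (8, 2, false), (8, 4, false), (8, 4, true), (8, 6, false), (8, 6, true), (8, 8, true), (8, 15, false), (9, 3, false), (9, 6, true), (9, 9, false), (9, 10, false), (9, 12, false), (9, 14, true), (9, 20, true), (10, 2, true), (10, 4, false), (10, 4, true), (10, 5, false), (10, 6, false), (10, 6, true), (10, 8, false), (10, 10, true), (10, 12, false), (10, 12, true), (10, 21, false), (10, 30, true)]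

theorem triples_closed : ∀ x ∈ triples, ∀ a ∈ List.range 11, 2 ≤ a → x.1 + a ≤ 10 →
    (x.1 + a, Nat.lcm x.2.1 a, xor x.2.2 (decide (a % 2 = 0))) ∈ triples := by decide

theorem triples_even : ∀ x ∈ triples, x.2.2 = false →
    x.2.1 ∈ [1, 2, 3, 4, 5, 6, 7, 8, 9, 10, 12, 15, 21] := by decide

theorem multiset_triple (m : Multiset ℕ) : (∀ a ∈ m, 2 ≤ a) → m.sum ≤ 10 →
    (m.sum, m.lcm, decide ((m.sum + Multiset.card m) % 2 = 1)) ∈ triples := by
  induction m using Multiset.induction_on with
  | empty => intro _ _; decide
  | cons a s ih =>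
    intro h2 h10
    rw [Multiset.sum_cons] at h10
    have ha2 : 2 ≤ a := h2 a (Multiset.mem_cons_self a s)
    have hs := ih (fun b hb => h2 b (Multiset.mem_cons_of_mem hb)) (by omega)
    have hcl := triples_closed _ hs a (List.mem_range.mpr (by omega)) ha2 (by omega)
    have e1 : a + s.sum = s.sum + a := by omega
    have e2 : GCDMonoid.lcm a s.lcm = Nat.lcm s.lcm a := Nat.lcm_comm _ _
    have e3 : decide ((a + s.sum + (Multiset.card s + 1)) % 2 = 1) =
        xor (decide ((s.sum + Multiset.card s) % 2 = 1)) (decide (a % 2 = 0)) := by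
      rcases Nat.mod_two_eq_zero_or_one a with h | h <;>
      rcases Nat.mod_two_eq_zero_or_one (s.sum + Multiset.card s) with h' | h' <;>
      simp [h, h'] <;> omega
    rw [Multiset.sum_cons, Multiset.lcm_cons, Multiset.card_cons, e1, e2]
    rw [e1] at e3
    rw [e3]
    exact hcl

theorem mk_elem (m : Multiset ℕ) (h1 : m.sum ≤ 10) (h2 : ∀ a ∈ m, 2 ≤ a)
    (h3 : Even (m.sum + Multiset.card m)) :
    m.lcm ∈ Set.range (orderOf : alternatingGroup (Fin 10) → ℕ) := by
  obtain ⟨g, hg⟩ := (Equiv.Perm.exists_with_cycleType_iff (α := Fin 10) (m := m)).mpr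
    ⟨by simpa using h1, h2⟩
  have hsign : Equiv.Perm.sign g = 1 := by
    rw [Equiv.Perm.sign_of_cycleType, hg]; exact h3.neg_one_pow
  exact ⟨⟨g, Equiv.Perm.mem_alternatingGroup.mpr hsign⟩, by
    rw [Subgroup.orderOf_mk, ← Equiv.Perm.lcm_cycleType, hg]⟩

theorem result : Set.range (orderOf : alternatingGroup (Fin 10) → ℕ) = {1, 2, 3, 4, 5, 6, 7, 8, 9, 10, 12, 15, 21} := by
  ext n
  constructor
  · rintro ⟨⟨σ, hσ⟩, rfl⟩
    rw [Subgroup.orderOf_mk, ← Equiv.Perm.lcm_cycleType]
    have hsum : σ.cycleType.sum ≤ 10 := by simpa using σ.sum_cycleType_le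
    have ht := multiset_triple σ.cycleType (fun a ha => Equiv.Perm.two_le_of_mem_cycleType ha) hsum
    have hsign : Equiv.Perm.sign σ = 1 := Equiv.Perm.mem_alternatingGroup.mp hσ
    rw [Equiv.Perm.sign_of_cycleType, neg_one_pow_eq_one_iff_even (by decide)] at hsign
    have hpar : decide ((σ.cycleType.sum + Multiset.card σ.cycleType) % 2 = 1) = false := by
      have := Nat.even_iff.mp hsign
      simp [this]
    have hmem := triples_even _ ht hpar
    simp only [List.mem_cons, List.mem_nil_iff, or_false] at hmem
    simp only [Set.mem_insert_iff, Set.mem_singleton_iff]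
    exact hmem
  · intro hn
    simp only [Set.mem_insert_iff, Set.mem_singleton_iff] at hn
    rcases hn with rfl | rfl | rfl | rfl | rfl | rfl | rfl | rfl | rfl | rfl | rfl | rfl | rfl
    · have h := mk_elem (0 : Multiset ℕ) (by decide) (by decide) (by decide)
      have e : (0 : Multiset ℕ).lcm = 1 := by decide
      rw [e] at h
      exact h
    · have h := mk_elem ({2, 2} : Multiset ℕ) (by decide) (by decide) (by decide)
      have e : ({2, 2} : Multiset ℕ).lcm = 2 := by decide
      rw [e] at h
      exact h
    · have h := mk_elem ({3} : Multiset ℕ) (by decide) (by decide) (by decide)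
      have e : ({3} : Multiset ℕ).lcm = 3 := by decide
      rw [e] at h
      exact h
    · have h := mk_elem ({4, 2} : Multiset ℕ) (by decide) (by decide) (by decide)
      have e : ({4, 2} : Multiset ℕ).lcm = 4 := by decide
      rw [e] at h
      exact h
    · have h := mk_elem ({5} : Multiset ℕ) (by decide) (by decide) (by decide)
      have e : ({5} : Multiset ℕ).lcm = 5 := by decide
      rw [e] at h
      exact h
    · have h := mk_elem ({3, 2, 2} : Multiset ℕ) (by decide) (by decide) (by decide)
      have e : ({3, 2, 2} : Multiset ℕ).lcm = 6 := by decide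
      rw [e] at h
      exact h
    · have h := mk_elem ({7} : Multiset ℕ) (by decide) (by decide) (by decide)
      have e : ({7} : Multiset ℕ).lcm = 7 := by decide
      rw [e] at h
      exact h
    · have h := mk_elem ({8, 2} : Multiset ℕ) (by decide) (by decide) (by decide)
      have e : ({8, 2} : Multiset ℕ).lcm = 8 := by decide
      rw [e] at h
      exact h
    · have h := mk_elem ({9} : Multiset ℕ) (by decide) (by decide) (by decide)
      have e : ({9} : Multiset ℕ).lcm = 9 := by decide
      rw [e] at h
      exact h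
    · have h := mk_elem ({5, 2, 2} : Multiset ℕ) (by decide) (by decide) (by decide)
      have e : ({5, 2, 2} : Multiset ℕ).lcm = 10 := by decide
      rw [e] at h
      exact h
    · have h := mk_elem ({4, 3, 2} : Multiset ℕ) (by decide) (by decide) (by decide)
      have e : ({4, 3, 2} : Multiset ℕ).lcm = 12 := by decide
      rw [e] at h
      exact h
    · have h := mk_elem ({5, 3} : Multiset ℕ) (by decide) (by decide) (by decide)
      have e : ({5, 3} : Multiset ℕ).lcm = 15 := by decide
      rw [e] at h
      exact h
    · have h := mk_elem ({7, 3} : Multiset ℕ) (by decide) (by decide) (by decide)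
      have e : ({7, 3} : Multiset ℕ).lcm = 21 := by decide
      rw [e] at h
      exact h

end Cfsg.Agent.S2477
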