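import Cfsg.Statements.S2503
import Mathlib
import Cfsg.Agent.S2507

set_option autoImplicit false
open Cfsg

namespace Cfsg.Agent.S2503

open QuadraticAlgebra Matrix

/-- the matrix of `z ↦ α z + β z̄` on the quadratic algebra, in the basis `1, ω`. -/
def L {F : Type*} [Field F] (a : F) (α β : QuadraticAlgebra F a 1) : Matrix (Fin 2) (Fin 2) F :=
  !![(α + β).re, (α * ω + β * star (ω : QuadraticAlgebra F a 1)).re;
     (α + β).im, (α * ω + β * star (ω : QuadraticAlgebra F a 1)).im]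

theorem L_mul {F : Type*} [Field F] (a : F) (α β γ δ : QuadraticAlgebra F a 1) :
    L a α β * L a γ δ = L a (α * γ + β * star δ) (α * δ + β * star γ) := by
  ext i j
  fin_cases i <;> fin_cases j <;>
    simp [L, Matrix.mul_apply, Fin.sum_univ_two] <;> ring

theorem mu_eq_L {F : Type*} [Field F] (a : F) (c : QuadraticAlgebra F a 1) :
    S2475.mu a 1 c = L a c 0 := by
  rw [S2475.mu_apply]
  ext i j
  fin_cases i <;> fin_cases j <;> simp [L]

theorem U_eq_L {F : Type*} [Field F] (h2 : (2 : F) = 0) (a b : F) :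
    (!![1, b; 0, 1] : Matrix (Fin 2) (Fin 2) F)
      = L a (algebraMap F _ (1 + b)) (algebraMap F _ b) := by
  ext i j
  fin_cases i <;> fin_cases j <;> simp [L]
  linear_combination (-b) * h2

theorem eq_L {F : Type*} [Field F] (h2 : (2 : F) = 0) (a : F)
    (g : Matrix (Fin 2) (Fin 2) F) :
    g = L a ((⟨g 0 0, g 1 0⟩ : QuadraticAlgebra F a 1) +
          ((⟨g 0 1, g 1 1⟩ : QuadraticAlgebra F a 1) + (⟨g 0 0, g 1 0⟩ : QuadraticAlgebra F a 1) * ω))
        ((⟨g 0 1, g 1 1⟩ : QuadraticAlgebra F a 1) + (⟨g 0 0, g 1 0⟩ : QuadraticAlgebra F a 1) * ω) := by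
  ext i j
  fin_cases i <;> fin_cases j <;> simp [L] <;> grind

theorem norm_add_norm {F : Type*} [Field F] (h2 : (2 : F) = 0) (a : F)
    (g : Matrix (Fin 2) (Fin 2) F) :
    QuadraticAlgebra.norm ((⟨g 0 0, g 1 0⟩ : QuadraticAlgebra F a 1) +
          ((⟨g 0 1, g 1 1⟩ : QuadraticAlgebra F a 1) + (⟨g 0 0, g 1 0⟩ : QuadraticAlgebra F a 1) * ω))
      + QuadraticAlgebra.norm ((⟨g 0 1, g 1 1⟩ : QuadraticAlgebra F a 1) + (⟨g 0 0, g 1 0⟩ : QuadraticAlgebra F a 1) * ω)
      = g 0 0 * g 1 1 - g 0 1 * g 1 0 := by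
  simp [QuadraticAlgebra.norm_def]
  grind


theorem exists_unit_factor {F : Type*} [Field F] (a : F) [Fact (∀ r : F, r ^ 2 ≠ a + 1 * r)]
    (x : QuadraticAlgebra F a 1) (e : F) (hx : QuadraticAlgebra.norm x = e * e) :
    ∃ s : QuadraticAlgebra F a 1, QuadraticAlgebra.norm s = 1 ∧ x = s * algebraMap F _ e := by
  by_cases he : e = 0
  · subst he
    have hx0 : x = 0 := QuadraticAlgebra.norm_eq_zero_iff_eq_zero.mp (by simpa using hx)
    exact ⟨1, by simp, by rw [hx0]; simp⟩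
  · refine ⟨x * algebraMap F _ e⁻¹, ?_, ?_⟩
    · rw [map_mul, hx, QuadraticAlgebra.norm_algebraMap]
      field_simp
    · rw [mul_assoc, ← map_mul, inv_mul_cancel₀ he, map_one, mul_one]

theorem decomp {F : Type*} [Field F] [Fintype F] (h2 : (2 : F) = 0) (a : F)
    [Fact (∀ r : F, r ^ 2 ≠ a + 1 * r)] (g : Matrix.SpecialLinearGroup (Fin 2) F) :
    ∃ (z w : QuadraticAlgebra F a 1) (b : F), QuadraticAlgebra.norm z = 1 ∧
      QuadraticAlgebra.norm w = 1 ∧
      g.1 = S2475.mu a 1 z * !![1, b; 0, 1] * S2475.mu a 1 w := by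
  classical
  have hF : ringChar F = 2 := by
    have : CharP F 2 := CharTwo.of_one_ne_zero_of_two_eq_zero one_ne_zero h2
    exact ringChar.eq F 2
  have hq : Fintype.card F % 2 = 0 := FiniteField.even_card_iff_char_two.mp hF
  have hL := eq_L h2 a g.1
  have hN := norm_add_norm h2 a g.1
  rw [S2429.det2 g] at hN
  obtain ⟨α, hα⟩ : ∃ α : QuadraticAlgebra F a 1, α = (⟨g.1 0 0, g.1 1 0⟩ : QuadraticAlgebra F a 1) +
      ((⟨g.1 0 1, g.1 1 1⟩ : QuadraticAlgebra F a 1)
        + (⟨g.1 0 0, g.1 1 0⟩ : QuadraticAlgebra F a 1) * ω) := ⟨_, rfl⟩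
  obtain ⟨β, hβ⟩ : ∃ β : QuadraticAlgebra F a 1, β = (⟨g.1 0 1, g.1 1 1⟩ : QuadraticAlgebra F a 1)
        + (⟨g.1 0 0, g.1 1 0⟩ : QuadraticAlgebra F a 1) * ω := ⟨_, rfl⟩
  rw [← hα, ← hβ] at hL hN
  obtain ⟨e, he⟩ := FiniteField.isSquare_of_char_two hF (QuadraticAlgebra.norm α)
  have hβn : QuadraticAlgebra.norm β = (1 + e) * (1 + e) := by
    linear_combination hN - he - (e * e + e) * h2
  obtain ⟨s, hs1, hs⟩ := exists_unit_factor a α e he
  obtain ⟨r, hr1, hr⟩ := exists_unit_factor a β (1 + e) hβn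
  obtain ⟨k, hk⟩ : ∃ k, 2 * k = Fintype.card F + 2 := ⟨Fintype.card F / 2 + 1, by omega⟩
  have hpow : ∀ x : QuadraticAlgebra F a 1, QuadraticAlgebra.norm x = 1 → (x ^ 2) ^ k = x := by
    intro x hx
    rw [← pow_mul, hk, pow_succ, S2475.pow_card_add_one, hx, map_one, one_mul]
  have hrr : r * star r = 1 := by
    rw [← QuadraticAlgebra.algebraMap_norm_eq_mul_star, hr1, map_one]
  have hss : s * star s = 1 := by
    rw [← QuadraticAlgebra.algebraMap_norm_eq_mul_star, hs1, map_one]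
  have hz1 : QuadraticAlgebra.norm ((s * r) ^ k) = 1 := by
    rw [map_pow, map_mul, hs1, hr1, one_mul, one_pow]
  have hw1 : QuadraticAlgebra.norm ((s * star r) ^ k) = 1 := by
    rw [map_pow, map_mul, hs1, QuadraticAlgebra.norm_star, hr1, one_mul, one_pow]
  have hzw : (s * r) ^ k * (s * star r) ^ k = s := by
    rw [← mul_pow]
    have : s * r * (s * star r) = s ^ 2 * (r * star r) := by ring
    rw [this, hrr, mul_one, hpow s hs1]
  have hzw' : (s * r) ^ k * star ((s * star r) ^ k) = r := by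
    rw [star_pow, star_mul', star_star, ← mul_pow]
    have : s * r * (star s * r) = r ^ 2 * (s * star s) := by ring
    rw [this, hss, mul_one, hpow r hr1]
  have e1 : algebraMap F (QuadraticAlgebra F a 1) (1 + (1 + e)) = algebraMap F _ e := by
    congr 1
    linear_combination h2
  refine ⟨(s * r) ^ k, (s * star r) ^ k, 1 + e, hz1, hw1, ?_⟩
  rw [hL, mu_eq_L, mu_eq_L, U_eq_L h2 a (1 + e), L_mul, L_mul, e1]
  congr 1
  · simp only [star_zero, mul_zero, zero_mul, add_zero]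
    rw [hs]
    linear_combination (-(algebraMap F (QuadraticAlgebra F a 1) e)) * hzw
  · simp only [star_zero, mul_zero, zero_mul, add_zero, zero_add]
    rw [hr]
    linear_combination (-(algebraMap F (QuadraticAlgebra F a 1) (1 + e))) * hzw'


/-- membership predicate for the torus attached to `X² - bX - a`. -/
def cmab {F : Type*} [Field F] (a b : F) (g : Matrix.SpecialLinearGroup (Fin 2) F) : Prop :=
  g.1 0 1 = a * g.1 1 0 ∧ g.1 1 1 = g.1 0 0 + b * g.1 1 0

/-- the torus attached to `X² - bX - a`. -/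
def Tab {F : Type*} [Field F] (a b : F) : Subgroup (Matrix.SpecialLinearGroup (Fin 2) F) where
  carrier := {g | cmab a b g}
  mul_mem' := by
    rintro x y ⟨x1, x2⟩ ⟨y1, y2⟩
    constructor
    · rw [S2429.mul01, S2429.mul10]; grind
    · rw [S2429.mul11, S2429.mul00, S2429.mul10]; grind
  one_mem' := by constructor <;> simp
  inv_mem' := by
    rintro x ⟨x1, x2⟩
    constructor
    · rw [S2429.inv01, S2429.inv10, x1]; ring
    · rw [S2429.inv11, S2429.inv00, S2429.inv10, x2]; ring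

/-- the element of the quadratic algebra attached to a torus element. -/
def zofab {F : Type*} [Field F] (a b : F) (g : Matrix.SpecialLinearGroup (Fin 2) F) :
    QuadraticAlgebra F a b :=
  ⟨g.1 0 0, g.1 1 0⟩

theorem norm_zofab {F : Type*} [Field F] (a b : F) (g : Matrix.SpecialLinearGroup (Fin 2) F)
    (hg : cmab a b g) : QuadraticAlgebra.norm (zofab a b g) = 1 := by
  have hd := S2429.det2 g
  obtain ⟨h1, h2⟩ := hg
  rw [QuadraticAlgebra.norm_def]
  simp only [zofab]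
  grind

/-- the embedding of the torus in the multiplicative monoid of the quadratic algebra. -/
def Psiab {F : Type*} [Field F] (a b : F) : Tab a b →* QuadraticAlgebra F a b where
  toFun g := zofab a b g
  map_one' := by
    ext <;> simp [zofab]
  map_mul' x y := by
    obtain ⟨x1, x2⟩ := x.2
    obtain ⟨y1, y2⟩ := y.2
    ext
    · simp only [zofab, Subgroup.coe_mul, QuadraticAlgebra.re_mul]
      rw [S2429.mul00]; grind
    · simp only [zofab, Subgroup.coe_mul, QuadraticAlgebra.im_mul]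
      rw [S2429.mul10]; grind

theorem Psiab_inj {F : Type*} [Field F] (a b : F) :
    Function.Injective (Psiab a b : Tab a b → _) := by
  intro x y h
  obtain ⟨x1, x2⟩ := x.2
  obtain ⟨y1, y2⟩ := y.2
  have hre : x.1.1 0 0 = y.1.1 0 0 := congrArg QuadraticAlgebra.re h
  have him : x.1.1 1 0 = y.1.1 1 0 := congrArg QuadraticAlgebra.im h
  apply Subtype.ext
  apply S2429.sl2_ext'
  · exact hre
  · rw [x1, y1, him]
  · exact him
  · rw [x2, y2, hre, him]

theorem Tab_cyclic {F : Type*} [Field F] [Fintype F] (a b : F)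
    [Fact (∀ r : F, r ^ 2 ≠ a + b * r)] : IsCyclic (Tab a b) := by
  have hinj : Function.Injective ((Psiab a b).toHomUnits) := by
    intro x y h
    apply Psiab_inj a b
    have := congrArg Units.val h
    simpa [MonoidHom.coe_toHomUnits] using this
  exact isCyclic_of_injective _ hinj

theorem mu_mem_Tab {F : Type*} [Field F] (a b : F) (g : Matrix.SpecialLinearGroup (Fin 2) F)
    (z : QuadraticAlgebra F a b) (hg : g.1 = S2475.mu a b z) : cmab a b g ∧ zofab a b g = z := by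
  rw [S2475.mu_apply] at hg
  refine ⟨⟨?_, ?_⟩, ?_⟩
  · rw [hg]; simp
  · rw [hg]; simp
  · ext
    · simp [zofab, hg]
    · simp [zofab, hg]

theorem Tab_card {F : Type*} [Field F] [Fintype F] (a b : F)
    [Fact (∀ r : F, r ^ 2 ≠ a + b * r)] : Nat.card (Tab a b) = Fintype.card F + 1 := by
  classical
  have hq2 : 2 ≤ Fintype.card F := Fintype.one_lt_card
  have hmem : ∀ g : Tab a b, (Psiab a b).toHomUnits g ∈
      (powMonoidHom (Fintype.card F + 1) : (QuadraticAlgebra F a b)ˣ →* _).ker := by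
    intro g
    rw [MonoidHom.mem_ker, powMonoidHom_apply]
    apply Units.ext
    rw [Units.val_pow_eq_pow_val, MonoidHom.coe_toHomUnits, S2475.pow_card_add_one]
    show algebraMap F _ (QuadraticAlgebra.norm (zofab a b g.1)) = _
    rw [norm_zofab a b g.1 g.2, map_one, Units.val_one]
  have hbij : Function.Bijective (fun g : Tab a b =>
      (⟨(Psiab a b).toHomUnits g, hmem g⟩ :
        (powMonoidHom (Fintype.card F + 1) : (QuadraticAlgebra F a b)ˣ →* _).ker)) := by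
    constructor
    · intro x y h
      apply Psiab_inj a b
      have h1 := congrArg Subtype.val h
      have := congrArg Units.val h1
      simpa [MonoidHom.coe_toHomUnits] using this
    · rintro ⟨z, hz⟩
      rw [MonoidHom.mem_ker, powMonoidHom_apply] at hz
      have h1 : (z : QuadraticAlgebra F a b) ^ (Fintype.card F + 1) = 1 := by
        rw [← Units.val_pow_eq_pow_val, hz, Units.val_one]
      have hnorm : QuadraticAlgebra.norm (z : QuadraticAlgebra F a b) = 1 := by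
        apply QuadraticAlgebra.algebraMap_injective (a := a) (b := b)
        rw [← S2475.pow_card_add_one, h1, map_one]
      obtain ⟨g, hg⟩ : ∃ g : Matrix.SpecialLinearGroup (Fin 2) F,
          g.1 = S2475.mu a b (z : QuadraticAlgebra F a b) :=
        ⟨⟨S2475.mu a b z, by rw [S2475.det_mu, hnorm]⟩, rfl⟩
      obtain ⟨hc, hzof⟩ := mu_mem_Tab a b g _ hg
      refine ⟨⟨g, hc⟩, ?_⟩
      apply Subtype.ext
      apply Units.ext
      show zofab a b g = _
      exact hzof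
  rw [Nat.card_eq_of_bijective _ hbij, IsCyclic.card_powMonoidHom_ker, Nat.card_units, S2475.card_K]
  have hqq : Fintype.card F ^ 2 - 1 = (Fintype.card F - 1) * (Fintype.card F + 1) := by
    obtain ⟨r, hr⟩ : ∃ r, Fintype.card F = r + 1 := ⟨Fintype.card F - 1, by omega⟩
    rw [hr]
    have : (r + 1) ^ 2 = (r + 1 - 1) * (r + 1 + 1) + 1 := by simp; ring
    omega
  rw [hqq]
  exact Nat.gcd_mul_left_left _ _

/-- the upper unitriangular subgroup. -/
def Bu (F : Type*) [Field F] : Subgroup (Matrix.SpecialLinearGroup (Fin 2) F) where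
  carrier := {g | g.1 0 0 = 1 ∧ g.1 1 0 = 0 ∧ g.1 1 1 = 1}
  mul_mem' := by
    rintro x y ⟨x1, x2, x3⟩ ⟨y1, y2, y3⟩
    refine ⟨?_, ?_, ?_⟩
    · rw [S2429.mul00, x1, y1, y2]; ring
    · rw [S2429.mul10, x2, x3, y2]; ring
    · rw [S2429.mul11, x2, x3, y3]; ring
  one_mem' := by
    refine ⟨?_, ?_, ?_⟩ <;> simp
  inv_mem' := by
    rintro x ⟨x1, x2, x3⟩
    refine ⟨?_, ?_, ?_⟩
    · rw [S2429.inv00, x3]
    · rw [S2429.inv10, x2, neg_zero]
    · rw [S2429.inv11, x1]

theorem Bu_comm {F : Type*} [Field F] (x y : Matrix.SpecialLinearGroup (Fin 2) F)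
    (hx : x ∈ Bu F) (hy : y ∈ Bu F) : x * y = y * x := by
  obtain ⟨x1, x2, x3⟩ := hx
  obtain ⟨y1, y2, y3⟩ := hy
  apply S2429.sl2_ext'
  · rw [S2429.mul00, S2429.mul00, x1, y1, y2, x2]; ring
  · rw [S2429.mul01, S2429.mul01, x1, y1, y3, x3]; ring
  · rw [S2429.mul10, S2429.mul10, x2, y2, x3, y3]; ring
  · rw [S2429.mul11, S2429.mul11, x2, y2, x3, y3]; ring

theorem Bu_sq {F : Type*} [Field F] (h2 : (2 : F) = 0) (x : Matrix.SpecialLinearGroup (Fin 2) F)
    (hx : x ∈ Bu F) : x * x = 1 := by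
  obtain ⟨x1, x2, x3⟩ := hx
  apply S2429.sl2_ext'
  · rw [S2429.mul00, x1, x2]; simp
  · rw [S2429.mul01, x1, x3]; simp
    linear_combination x.1 0 1 * h2
  · rw [S2429.mul10, x2, x3]; simp
  · rw [S2429.mul11, x2, x3]; simp

theorem Bu_card (F : Type*) [Field F] [Fintype F] : Nat.card (Bu F) = Fintype.card F := by
  have hbij : Function.Bijective (fun x : Bu F => x.1.1 0 1) := by
    constructor
    · rintro ⟨x, x1, x2, x3⟩ ⟨y, y1, y2, y3⟩ h
      simp only at h
      apply Subtype.ext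
      apply S2429.sl2_ext'
      · rw [x1, y1]
      · exact h
      · rw [x2, y2]
      · rw [x3, y3]
    · intro b
      obtain ⟨u, hu⟩ : ∃ u : Matrix.SpecialLinearGroup (Fin 2) F, u.1 = !![1, b; 0, 1] :=
        ⟨⟨!![1, b; 0, 1], by simp [Matrix.det_fin_two_of]⟩, rfl⟩
      refine ⟨⟨u, ?_, ?_, ?_⟩, ?_⟩
      · rw [hu]; simp
      · rw [hu]; simp
      · rw [hu]; simp
      · simp only
        rw [hu]; simp
  rw [Nat.card_eq_of_bijective _ hbij, Nat.card_eq_fintype_card]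

theorem sl2_ABA {F : Type*} [Field F] [Fintype F] (h2 : (2 : F) = 0) :
    ∃ A B : Subgroup (Matrix.SpecialLinearGroup (Fin 2) F),
      IsCyclic A ∧ Nat.card A = Fintype.card F + 1 ∧ IsMulCommutative B ∧ (∀ b ∈ B, b * b = 1) ∧
        Nat.card B = Fintype.card F ∧
        ∀ g : Matrix.SpecialLinearGroup (Fin 2) F, ∃ a ∈ A, ∃ b ∈ B, ∃ c ∈ A, g = a * b * c := by
  classical
  have hq2 : 2 ≤ Fintype.card F := Fintype.one_lt_card
  obtain ⟨a, ha⟩ := S2475.exists_irred F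
  have : Fact (∀ r : F, r ^ 2 ≠ a + 1 * r) := ⟨ha⟩
  refine ⟨Tab a 1, Bu F, Tab_cyclic a 1, Tab_card a 1, ?_, ?_, Bu_card F, ?_⟩
  · exact ⟨⟨fun x y => Subtype.ext (Bu_comm x.1 y.1 x.2 y.2)⟩⟩
  · intro b hb
    exact Bu_sq h2 b hb
  · intro g
    obtain ⟨z, w, b, hz, hw, hg⟩ := decomp h2 a g
    obtain ⟨x, hx⟩ : ∃ x : Matrix.SpecialLinearGroup (Fin 2) F, x.1 = S2475.mu a 1 z :=
      ⟨⟨S2475.mu a 1 z, by rw [S2475.det_mu, hz]⟩, rfl⟩
    obtain ⟨y, hy⟩ : ∃ y : Matrix.SpecialLinearGroup (Fin 2) F, y.1 = S2475.mu a 1 w :=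
      ⟨⟨S2475.mu a 1 w, by rw [S2475.det_mu, hw]⟩, rfl⟩
    obtain ⟨u, hu⟩ : ∃ u : Matrix.SpecialLinearGroup (Fin 2) F, u.1 = !![1, b; 0, 1] :=
      ⟨⟨!![1, b; 0, 1], by simp [Matrix.det_fin_two_of]⟩, rfl⟩
    refine ⟨x, (mu_mem_Tab a 1 x z hx).1, u, ?_, y, (mu_mem_Tab a 1 y w hy).1, ?_⟩
    · refine ⟨?_, ?_, ?_⟩
      · rw [hu]; simp
      · rw [hu]; simp
      · rw [hu]; simp
    · apply Subtype.ext
      rw [Matrix.SpecialLinearGroup.coe_mul, Matrix.SpecialLinearGroup.coe_mul, hx, hu, hy]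
      exact hg

/-- transport of the factorization along an isomorphism. -/
theorem transfer {G H : Type*} [Group G] [Group H] (e : G ≃* H) (n m : ℕ)
    (h : ∃ A B : Subgroup G, IsCyclic A ∧ Nat.card A = n ∧ IsMulCommutative B ∧
      (∀ b ∈ B, b * b = 1) ∧ Nat.card B = m ∧ ∀ g : G, ∃ a ∈ A, ∃ b ∈ B, ∃ c ∈ A, g = a * b * c) :
    ∃ A B : Subgroup H, IsCyclic A ∧ Nat.card A = n ∧ IsMulCommutative B ∧
      (∀ b ∈ B, b * b = 1) ∧ Nat.card B = m ∧ ∀ g : H, ∃ a ∈ A, ∃ b ∈ B, ∃ c ∈ A, g = a * b * c := by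
  obtain ⟨A, B, hA, hAn, hB, hB2, hBm, hABA⟩ := h
  refine ⟨A.map e.toMonoidHom, B.map e.toMonoidHom, ?_, ?_, ?_, ?_, ?_, ?_⟩
  · exact isCyclic_of_surjective _ (e.subgroupMap A).surjective
  · rw [← hAn]
    exact (Nat.card_congr (e.subgroupMap A).toEquiv).symm
  · refine ⟨⟨?_⟩⟩
    rintro ⟨x, hx⟩ ⟨y, hy⟩
    obtain ⟨x0, hx0, rfl⟩ := hx
    obtain ⟨y0, hy0, rfl⟩ := hy
    apply Subtype.ext
    show e.toMonoidHom x0 * e.toMonoidHom y0 = e.toMonoidHom y0 * e.toMonoidHom x0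
    rw [← map_mul, ← map_mul]
    have := hB.is_comm.comm ⟨x0, hx0⟩ ⟨y0, hy0⟩
    have h' : x0 * y0 = y0 * x0 := congrArg Subtype.val this
    rw [h']
  · rintro b ⟨b0, hb0, rfl⟩
    rw [← map_mul, hB2 b0 hb0, map_one]
  · rw [← hBm]
    exact (Nat.card_congr (e.subgroupMap B).toEquiv).symm
  · intro g
    obtain ⟨a, ha, b, hb, c, hc, habc⟩ := hABA (e.symm g)
    refine ⟨e a, ⟨a, ha, rfl⟩, e b, ⟨b, hb, rfl⟩, e c, ⟨c, hc, rfl⟩, ?_⟩
    rw [← map_mul, ← map_mul, ← habc, MulEquiv.apply_symm_apply]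


theorem result {F : Type*} [Field F] [Fintype F]
    (h2 : 2 ∣ Fintype.card F) (h4 : 4 ≤ Fintype.card F) :
    ∃ A B : Subgroup (Matrix.ProjectiveSpecialLinearGroup (Fin 2) F),
      IsCyclic A ∧ Nat.card A = Fintype.card F + 1 ∧ IsMulCommutative B ∧ (∀ b ∈ B, b * b = 1) ∧
        Nat.card B = Fintype.card F ∧
        ∀ g : Matrix.ProjectiveSpecialLinearGroup (Fin 2) F, ∃ a ∈ A, ∃ b ∈ B, ∃ c ∈ A, g = a * b * c := by
  classical
  have hF2 : ringChar F = 2 := FiniteField.even_card_iff_char_two.mpr (by omega)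
  have : CharP F 2 := ringChar.of_eq hF2
  have h2' : (2 : F) = 0 := CharTwo.two_eq_zero
  exact transfer ((QuotientGroup.quotientMulEquivOfEq (S2507.center_char2 h2')).trans
    QuotientGroup.quotientBot).symm _ _ (sl2_ABA h2')

end Cfsg.Agent.S2503
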