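import Cfsg.Statements.S2530
import Mathlib

set_option autoImplicit false
open Cfsg

set_option maxHeartbeats 1000000
namespace Cfsg.Agent.S2530

def cprod {G : Type*} [Group G] (t : ℕ → G) : ℕ → G
  | 0 => 1
  | k + 1 => cprod t k * t k

theorem cprod_comm {G : Type*} [Group G] (t : ℕ → G)
    (hcomm : ∀ i j, i + 2 ≤ j → t i * t j = t j * t i) (k j : ℕ) (hj : k < j) :
    cprod t k * t j = t j * cprod t k := by
  induction k with
  | zero => simp [cprod]
  | succ k ih =>
    show cprod t k * t k * t j = t j * (cprod t k * t k)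
    rw [mul_assoc, hcomm k j (by omega), ← mul_assoc, ih (by omega), mul_assoc]

theorem cprod_braid {G : Type*} [Group G] (t : ℕ → G) (n : ℕ)
    (hcomm : ∀ i j, i + 2 ≤ j → t i * t j = t j * t i)
    (hbraid : ∀ i, i + 1 ≤ n → t i * t (i + 1) * t i = t (i + 1) * t i * t (i + 1))
    (j k : ℕ) (hjk : j + 2 ≤ k) (hk : k ≤ n + 1) :
    cprod t k * t j = t (j + 1) * cprod t k := by
  induction k with
  | zero => omega
  | succ k ih =>
    rcases Nat.eq_or_lt_of_le hjk with h | h
    · have hk' : k = j + 1 := by omega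
      subst hk'
      show cprod t j * t j * t (j + 1) * t j = t (j + 1) * (cprod t j * t j * t (j + 1))
      have hb := hbraid j (by omega)
      have hc := cprod_comm t hcomm j (j + 1) (by omega)
      calc cprod t j * t j * t (j + 1) * t j = cprod t j * (t j * t (j + 1) * t j) := by group
        _ = cprod t j * (t (j + 1) * t j * t (j + 1)) := by rw [hb]
        _ = (cprod t j * t (j + 1)) * t j * t (j + 1) := by group
        _ = t (j + 1) * cprod t j * t j * t (j + 1) := by rw [hc]
        _ = _ := by group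
    · show cprod t k * t k * t j = t (j + 1) * (cprod t k * t k)
      have := ih (by omega) (by omega)
      rw [mul_assoc, ← hcomm j k (by omega), ← mul_assoc, this, mul_assoc]

theorem cprod_step {G : Type*} [Group G] (t : ℕ → G) (n : ℕ) (H : Subgroup G)
    (hsq : ∀ i, t i * t i = 1)
    (hcomm : ∀ i j, i + 2 ≤ j → t i * t j = t j * t i)
    (hbraid : ∀ i, i + 1 ≤ n → t i * t (i + 1) * t i = t (i + 1) * t i * t (i + 1))
    (hH : ∀ i, 1 ≤ i → t i ∈ H)
    (k j : ℕ) (hk : k ≤ n + 1) (hj : j ≤ n) :
    ∃ k', k' ≤ n + 1 ∧ ∃ h ∈ H, cprod t k * t j = h * cprod t k' := by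
  rcases lt_trichotomy j k with h | h | h
  · rcases Nat.eq_or_lt_of_le (Nat.succ_le_of_lt h) with h' | h'
    · subst h'
      refine ⟨j, by omega, 1, H.one_mem, ?_⟩
      show cprod t j * t j * t j = 1 * cprod t j
      rw [mul_assoc, hsq, mul_one, one_mul]
    · exact ⟨k, hk, t (j + 1), hH _ (by omega), cprod_braid t n hcomm hbraid j k (by omega) hk⟩
  · subst h
    exact ⟨j + 1, by omega, 1, H.one_mem, by rw [one_mul]; rfl⟩
  · exact ⟨k, hk, t j, hH j (by omega), cprod_comm t hcomm k j h⟩

theorem comm_of_sq {G : Type*} [Group G] (a b : G) (ha : a * a = 1) (hb : b * b = 1)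
    (h : (a * b) ^ 2 = 1) : a * b = b * a := by
  have h1 : a * b * (a * b) = 1 := by rw [← pow_two]; exact h
  have ha' : a⁻¹ = a := inv_eq_of_mul_eq_one_left ha
  have hb' : b⁻¹ = b := inv_eq_of_mul_eq_one_left hb
  calc a * b = (a * b)⁻¹ := (inv_eq_of_mul_eq_one_left h1).symm
    _ = b⁻¹ * a⁻¹ := mul_inv_rev a b
    _ = b * a := by rw [ha', hb']

theorem braid_of_cube {G : Type*} [Group G] (a b : G) (ha : a * a = 1) (hb : b * b = 1)
    (h : (a * b) ^ 3 = 1) : a * b * a = b * a * b := by
  have ha' : a⁻¹ = a := inv_eq_of_mul_eq_one_left ha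
  have hb' : b⁻¹ = b := inv_eq_of_mul_eq_one_left hb
  have h1 : a * b * a * (b * a * b) = 1 := by
    rw [← h]; simp only [pow_succ, pow_zero, one_mul, mul_assoc]
  calc a * b * a = (b * a * b)⁻¹ := eq_inv_of_mul_eq_one_left h1
    _ = b⁻¹ * a⁻¹ * b⁻¹ := by group
    _ = b * a * b := by rw [ha', hb']

theorem A_apply (n : ℕ) (i j : Fin n) : CoxeterMatrix.A n i j =
    if i = j then 1 else (if (j : ℕ) + 1 = i ∨ (i : ℕ) + 1 = j then 3 else 2) := rfl

theorem A_far (n : ℕ) (i j : Fin n) (h : (i : ℕ) + 2 ≤ j) : CoxeterMatrix.A n i j = 2 := by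
  rw [A_apply, if_neg, if_neg]
  · omega
  · intro hij; rw [hij] at h; omega

theorem A_adj (n : ℕ) (i j : Fin n) (h : (i : ℕ) + 1 = j) : CoxeterMatrix.A n i j = 3 := by
  rw [A_apply, if_neg, if_pos (Or.inr h)]
  intro hij; rw [hij] at h; omega

theorem A_castSucc (n : ℕ) (i j : Fin n) :
    CoxeterMatrix.A (n + 1) i.castSucc j.castSucc = CoxeterMatrix.A n i j := by
  rw [A_apply, A_apply]
  simp only [Fin.castSucc_inj, Fin.val_castSucc]

noncomputable def iota (n : ℕ) : (CoxeterMatrix.A n).Group →* (CoxeterMatrix.A (n + 1)).Group :=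
  (CoxeterMatrix.A n).toCoxeterSystem.lift
    ⟨fun i => (CoxeterMatrix.A (n + 1)).simple i.castSucc, fun i i' => by
      rw [← A_castSucc]
      exact (CoxeterMatrix.A (n + 1)).toCoxeterSystem.simple_mul_simple_pow _ _⟩

theorem iota_simple (n : ℕ) (i : Fin n) :
    iota n ((CoxeterMatrix.A n).simple i) = (CoxeterMatrix.A (n + 1)).simple i.castSucc :=
  (CoxeterMatrix.A n).toCoxeterSystem.lift_apply_simple _ i

theorem card_bound (n : ℕ) :
    Finite (CoxeterMatrix.A n).Group ∧ Nat.card (CoxeterMatrix.A n).Group ≤ (n + 1).factorial := by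
  induction n with
  | zero =>
    have h1 : ∀ w : (CoxeterMatrix.A 0).Group, w = 1 := by
      intro w
      exact (CoxeterMatrix.A 0).toCoxeterSystem.simple_induction (p := fun w => w = 1) w
        (fun i => i.elim0) rfl (fun w w' h h' => by rw [h, h', one_mul])
    haveI : Subsingleton (CoxeterMatrix.A 0).Group := ⟨fun a b => by rw [h1 a, h1 b]⟩
    refine ⟨inferInstance, ?_⟩
    rw [Nat.card_unique]
    decide
  | succ n ih =>
    obtain ⟨hfin, hcard⟩ := ih
    let cs := (CoxeterMatrix.A (n + 1)).toCoxeterSystem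
    let s := (CoxeterMatrix.A (n + 1)).simple
    have hss : ∀ a, s a * s a = 1 := fun a => cs.simple_mul_simple_self a
    let t : ℕ → (CoxeterMatrix.A (n + 1)).Group :=
      fun i => if h : i ≤ n then s ⟨n - i, by omega⟩ else 1
    have ht : ∀ i (h : i ≤ n), t i = s ⟨n - i, by omega⟩ := fun i h => dif_pos h
    have ht' : ∀ i, ¬ i ≤ n → t i = 1 := fun i h => dif_neg h
    have hsq : ∀ i, t i * t i = 1 := by
      intro i
      by_cases h : i ≤ n
      · rw [ht i h]; exact hss _
      · rw [ht' i h, one_mul]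
    have hcomm : ∀ i j, i + 2 ≤ j → t i * t j = t j * t i := by
      intro i j hij
      by_cases h : j ≤ n
      · rw [ht j h, ht i (by omega)]
        symm
        apply comm_of_sq _ _ (hss _) (hss _)
        have := cs.simple_mul_simple_pow (⟨n - j, by omega⟩ : Fin (n + 1)) ⟨n - i, by omega⟩
        rw [A_far (n + 1) _ _ (by simp only []; omega)] at this
        exact this
      · rw [ht' j h, mul_one, one_mul]
    have hbraid : ∀ i, i + 1 ≤ n → t i * t (i + 1) * t i = t (i + 1) * t i * t (i + 1) := by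
      intro i hi
      rw [ht i (by omega), ht (i + 1) hi]
      symm
      apply braid_of_cube _ _ (hss _) (hss _)
      have := cs.simple_mul_simple_pow (⟨n - (i + 1), by omega⟩ : Fin (n + 1)) ⟨n - i, by omega⟩
      rw [A_adj (n + 1) _ _ (by simp only []; omega)] at this
      exact this
    have hH : ∀ i, 1 ≤ i → t i ∈ (iota n).range := by
      intro i hi
      by_cases h : i ≤ n
      · rw [ht i h]
        refine ⟨(CoxeterMatrix.A n).simple ⟨n - i, by omega⟩, ?_⟩
        rw [iota_simple]
        rfl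
      · rw [ht' i h]; exact one_mem _
    have hst : ∀ a : Fin (n + 1), s a = t (n - a) := by
      intro a
      rw [ht (n - a) (by omega)]
      congr 1
      apply Fin.ext
      show (a : ℕ) = n - (n - a)
      have := a.2
      omega
    have claim : ∀ w : (CoxeterMatrix.A (n + 1)).Group,
        ∃ k, k ≤ n + 1 ∧ ∃ h ∈ (iota n).range, w = h * cprod t k := by
      intro w
      refine cs.simple_induction_right (p := fun w => ∃ k, k ≤ n + 1 ∧ ∃ h ∈ (iota n).range,
        w = h * cprod t k) w ⟨0, by omega, 1, one_mem _, by simp [cprod]⟩ ?_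
      rintro w a ⟨k, hk, h, hh, rfl⟩
      have hsa : cs.simple a = t (n - a) := hst a
      obtain ⟨k', hk', h', hh', e⟩ := cprod_step t n (iota n).range hsq hcomm hbraid hH k (n - a)
        hk (by omega)
      refine ⟨k', hk', h * h', mul_mem hh hh', ?_⟩
      rw [hsa, mul_assoc, e, mul_assoc]
    let φ : (CoxeterMatrix.A n).Group × Fin (n + 2) → (CoxeterMatrix.A (n + 1)).Group :=
      fun p => iota n p.1 * cprod t p.2
    have hφ : Function.Surjective φ := by
      intro w
      obtain ⟨k, hk, h, ⟨x, rfl⟩, rfl⟩ := claim w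
      exact ⟨(x, ⟨k, by omega⟩), rfl⟩
    haveI := hfin
    haveI : Finite (CoxeterMatrix.A (n + 1)).Group := Finite.of_surjective φ hφ
    refine ⟨inferInstance, ?_⟩
    have h1 := Nat.card_le_card_of_surjective φ hφ
    rw [Nat.card_prod, Nat.card_eq_fintype_card (α := Fin (n + 2)), Fintype.card_fin] at h1
    have h2 : (n + 1 + 1).factorial = (n + 2) * (n + 1).factorial := Nat.factorial_succ (n + 1)
    rw [h2]
    calc Nat.card (CoxeterMatrix.A (n + 1)).Group
        ≤ Nat.card (CoxeterMatrix.A n).Group * (n + 2) := h1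
      _ ≤ (n + 1).factorial * (n + 2) := Nat.mul_le_mul_right _ hcard
      _ = (n + 2) * (n + 1).factorial := Nat.mul_comm _ _

theorem ne1 {n : ℕ} (a b : Fin n) (h : (a : ℕ) ≠ b + 1) : a.castSucc ≠ b.succ := by
  intro e
  have := congrArg Fin.val e
  simp only [Fin.val_castSucc, Fin.val_succ] at this
  exact h this

theorem ne2 {n : ℕ} (a b : Fin n) (h : (a : ℕ) ≠ b) : a.castSucc ≠ b.castSucc := by
  intro e
  have := congrArg Fin.val e
  simp only [Fin.val_castSucc] at this
  exact h this

theorem ne3 {n : ℕ} (a b : Fin n) (h : (a : ℕ) ≠ b) : a.succ ≠ b.succ := by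
  intro e
  have := congrArg Fin.val e
  simp only [Fin.val_succ] at this
  omega

theorem ne4 {n : ℕ} (a b : Fin n) (h : (b : ℕ) ≠ a + 1) : a.succ ≠ b.castSucc := by
  intro e
  have := congrArg Fin.val e
  simp only [Fin.val_castSucc, Fin.val_succ] at this
  exact h this.symm

theorem swap_liftable (n : ℕ) : CoxeterMatrix.IsLiftable (CoxeterMatrix.A n)
    (fun i : Fin n => Equiv.swap i.castSucc i.succ) := by
  intro i j
  show (Equiv.swap i.castSucc i.succ * Equiv.swap j.castSucc j.succ) ^ (CoxeterMatrix.A n i j) = 1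
  rw [A_apply]
  by_cases hij : i = j
  · subst hij
    rw [if_pos rfl, pow_one, Equiv.swap_mul_self]
  · rw [if_neg hij]
    by_cases h : (j : ℕ) + 1 = i ∨ (i : ℕ) + 1 = j
    · rw [if_pos h]
      rcases h with h | h
      · -- i = j + 1: swap (j+1) (j+2) * swap j (j+1)
        have e1 : i.castSucc = j.succ := by apply Fin.ext; simp [h]
        rw [e1, Equiv.swap_comm j.castSucc j.succ]
        have h3 := Equiv.Perm.isThreeCycle_swap_mul_swap_same (a := j.succ) (b := i.succ)
          (c := j.castSucc) (ne3 _ _ (by omega)) (ne4 _ _ (by omega)) (ne4 _ _ (by omega))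
        rw [← h3.orderOf]
        exact pow_orderOf_eq_one _
      · have e1 : j.castSucc = i.succ := by apply Fin.ext; simp [h]
        rw [e1, Equiv.swap_comm i.castSucc i.succ]
        have h3 := Equiv.Perm.isThreeCycle_swap_mul_swap_same (a := i.succ) (b := i.castSucc)
          (c := j.succ) (ne4 _ _ (by omega)) (ne3 _ _ (by omega)) (ne1 _ _ (by omega))
        rw [← h3.orderOf]
        exact pow_orderOf_eq_one _
    · rw [if_neg h]
      push_neg at h
      have hne : (i : ℕ) ≠ j := fun e => hij (Fin.ext e)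
      have hd : Equiv.Perm.Disjoint (Equiv.swap i.castSucc i.succ) (Equiv.swap j.castSucc j.succ) := by
        apply Equiv.Perm.disjoint_swap_swap
        simp only [List.nodup_cons, List.mem_cons, List.not_mem_nil, or_false, not_or,
          List.nodup_nil, and_true, not_false_eq_true]
        exact ⟨⟨ne1 _ _ (by omega), ne2 _ _ (by omega), ne1 _ _ (by omega)⟩,
          ⟨ne4 _ _ (by omega), ne3 _ _ (by omega)⟩, ne1 _ _ (by omega)⟩
      rw [pow_two]
      have hc := hd.commute.eq
      calc Equiv.swap i.castSucc i.succ * Equiv.swap j.castSucc j.succ *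
            (Equiv.swap i.castSucc i.succ * Equiv.swap j.castSucc j.succ)
          = Equiv.swap i.castSucc i.succ * (Equiv.swap j.castSucc j.succ *
            Equiv.swap i.castSucc i.succ) * Equiv.swap j.castSucc j.succ := by group
        _ = Equiv.swap i.castSucc i.succ * (Equiv.swap i.castSucc i.succ *
            Equiv.swap j.castSucc j.succ) * Equiv.swap j.castSucc j.succ := by rw [hc]
        _ = (Equiv.swap i.castSucc i.succ * Equiv.swap i.castSucc i.succ) *
            (Equiv.swap j.castSucc j.succ * Equiv.swap j.castSucc j.succ) := by group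
        _ = 1 := by rw [Equiv.swap_mul_self, Equiv.swap_mul_self, one_mul]


theorem result (n : ℕ) :
    ∃ cs : CoxeterSystem (CoxeterMatrix.A n) (Equiv.Perm (Fin (n + 1))), ∀ i : Fin n, cs.simple i = Equiv.swap i.castSucc i.succ := by
  classical
  let cs0 := (CoxeterMatrix.A n).toCoxeterSystem
  let f : (CoxeterMatrix.A n).Group →* Equiv.Perm (Fin (n + 1)) :=
    cs0.lift ⟨fun i : Fin n => Equiv.swap i.castSucc i.succ, swap_liftable n⟩
  have hf : ∀ i, f ((CoxeterMatrix.A n).simple i) = Equiv.swap i.castSucc i.succ :=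
    fun i => cs0.lift_apply_simple _ i
  have hsurj : Function.Surjective f := by
    rw [← MonoidHom.mrange_eq_top]
    apply top_unique
    rw [← Equiv.Perm.mclosure_swap_castSucc_succ n, Submonoid.closure_le]
    rintro _ ⟨i, rfl⟩
    exact ⟨(CoxeterMatrix.A n).simple i, hf i⟩
  obtain ⟨hfin, hcard⟩ := card_bound n
  haveI := hfin
  have hbij : Function.Bijective f := by
    apply hsurj.bijective_of_nat_card_le
    rw [Nat.card_eq_fintype_card (α := Equiv.Perm (Fin (n + 1))), Fintype.card_perm,
      Fintype.card_fin]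
    exact hcard
  refine ⟨⟨(MulEquiv.ofBijective f hbij).symm⟩, fun i => ?_⟩
  exact hf i

end Cfsg.Agent.S2530
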