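import Cfsg.Statements.S2791
import Mathlib
import Cfsg.Agent.Lib.Helper5.SCF

set_option autoImplicit false
open Cfsg

namespace Cfsg.Agent.S2791

theorem result {G : Type*} [Group G] [Finite G] {p : ℕ} [Fact p.Prime] (S : Sylow p G) (A : Subgroup G) (hA : IsMulCommutative ↥A) (hsc : Cfsg.IsStronglyClosed A (S : Subgroup G)) : Cfsg.ControlsStrongFusion p A := by
  have hAab : ∀ a ∈ A, ∀ b ∈ A, a * b = b * a := by
    intro a ha b hb
    exact congrArg Subtype.val (hA.is_comm.comm (⟨a, ha⟩ : A) ⟨b, hb⟩)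
  refine ⟨S, hsc.1, fun X hX => ⟨hX, fun g hg => ?_⟩⟩
  have hD : Subgroup.closure X ≤ (S : Subgroup G) := (Subgroup.closure_le _).mpr hX
  have hgD : ∀ d ∈ Subgroup.closure X, g * d * g⁻¹ ∈ (S : Subgroup G) := by
    intro d hd
    induction hd using Subgroup.closure_induction with
    | mem x hx => exact hg ⟨x, hx, rfl⟩
    | one => simp
    | mul a b _ _ ha hb =>
      have e : g * (a * b) * g⁻¹ = (g * a * g⁻¹) * (g * b * g⁻¹) := by group
      rw [e]
      exact Subgroup.mul_mem _ ha hb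
    | inv a _ ha =>
      have e : g * a⁻¹ * g⁻¹ = (g * a * g⁻¹)⁻¹ := by group
      rw [e]
      exact Subgroup.inv_mem _ ha
  obtain ⟨x, hx, hx'⟩ := Cfsg.Agent.Lib.Helper5.SCF.scf_main S A hAab hsc _
    (Subgroup.closure X) hD rfl g hgD
  exact ⟨x, hx, fun a ha => (hx' a (Subgroup.subset_closure ha)).symm⟩

end Cfsg.Agent.S2791
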