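import Cfsg.Statements.S2809
import Mathlib
import Cfsg.Agent.Lib.Helper5.Coprime

set_option autoImplicit false
open Cfsg

namespace Cfsg.Agent.S2809

open scoped commutatorElement

theorem result {H : Type*} [Group H] [Finite H] {p : ℕ} [Fact p.Prime] (R : Subgroup H) (hR : IsPGroup p ↥R) (hC : Subgroup.centralizer (R : Set H) ≤ R) (L : Subgroup H) (hL : L ≤ Subgroup.normalizer (R : Set H)) (hnil : ∃ n : ℕ, Cfsg.iterCommutator R L n = ⊥) : IsPGroup p ↥L := by
  obtain ⟨n, hn⟩ := hnil
  have hCR : ∀ i, Cfsg.iterCommutator R L i ≤ R := by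
    intro i
    induction i with
    | zero => exact le_refl _
    | succ i ih =>
      show ⁅Cfsg.iterCommutator R L i, L⁆ ≤ R
      rw [Subgroup.commutator_le]
      intro r hr l hl
      have h1 : l * r⁻¹ * l⁻¹ ∈ R :=
        (Subgroup.le_normalizer_iff.mp hL) l hl r⁻¹ (R.inv_mem (ih hr))
      have h2 : ⁅r, l⁆ = r * (l * r⁻¹ * l⁻¹) := by
        rw [commutatorElement_def]
        group
      rw [h2]
      exact R.mul_mem (ih hr) h1
  apply Cfsg.Agent.Lib.Helper5.Coprime.isPGroup_of_pprime_trivial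
  intro y hy m hm hym
  have hcomm := Cfsg.Agent.Lib.Helper5.Coprime.commute_of_chain y m hym
    (Cfsg.iterCommutator R L) n hn
    (fun i r hr => Subgroup.commutator_mem_commutator hr hy)
    (fun i c hc hcm => by
      obtain ⟨a, ha⟩ := hR ⟨c, hCR i hc⟩
      have ha' : c ^ p ^ a = 1 := by simpa using congrArg Subtype.val ha
      exact Cfsg.Agent.Lib.Helper5.Coprime.eq_one_of_pow_of_pow c a m hm ha' hcm)
    0 (Nat.zero_le n)
  have hyC : y ∈ Subgroup.centralizer (R : Set H) := by
    rw [Subgroup.mem_centralizer_iff]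
    intro r hr
    exact hcomm r hr
  have hyR := hC hyC
  obtain ⟨a, ha⟩ := hR ⟨y, hyR⟩
  have ha' : y ^ p ^ a = 1 := by simpa using congrArg Subtype.val ha
  exact Cfsg.Agent.Lib.Helper5.Coprime.eq_one_of_pow_of_pow y a m hm ha' hym

end Cfsg.Agent.S2809
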