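import Cfsg.Statements.S2810
import Mathlib
import Cfsg.Agent.Lib.Helper5.CharP

set_option autoImplicit false
open Cfsg

namespace Cfsg.Agent.S2810

open scoped commutatorElement

def stabChain {H : Type*} [Group H] {n : ℕ} (A : Fin (n + 1) → Subgroup H)
    (hnorm : ∀ i, (A i).Normal) : Subgroup H where
  carrier := {h | ∀ i : Fin n, ∀ a ∈ A i.succ, ⁅a, h⁆ ∈ A i.castSucc}
  mul_mem' := by
    intro h k hh hk i a ha
    have e : ⁅a, h * k⁆ = ⁅a, h⁆ * (h * ⁅a, k⁆ * h⁻¹) := by
      simp only [commutatorElement_def]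
      group
    rw [e]
    exact (A i.castSucc).mul_mem (hh i a ha) ((hnorm _).conj_mem _ (hk i a ha) h)
  one_mem' := by
    intro i a ha
    simp
  inv_mem' := by
    intro h hh i a ha
    have e : ⁅a, h⁻¹⁆ = h⁻¹ * (⁅a, h⁆)⁻¹ * h⁻¹⁻¹ := by
      simp only [commutatorElement_def]
      group
    rw [e]
    exact (hnorm _).conj_mem _ ((A i.castSucc).inv_mem (hh i a ha)) h⁻¹

theorem stabChain_normal {H : Type*} [Group H] {n : ℕ} (A : Fin (n + 1) → Subgroup H)
    (hnorm : ∀ i, (A i).Normal) : (stabChain A hnorm).Normal := by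
  constructor
  intro h hh g i a ha
  have e : ⁅a, g * h * g⁻¹⁆ = g * ⁅g⁻¹ * a * g, h⁆ * g⁻¹ := by
    simp only [commutatorElement_def]
    group
  rw [e]
  have h1 : g⁻¹ * a * g ∈ A i.succ := by
    have h2 := (hnorm i.succ).conj_mem a ha g⁻¹
    simpa using h2
  exact (hnorm _).conj_mem _ (hh i _ h1) g

theorem result {H : Type*} [Group H] [Finite H] {p : ℕ} [Fact p.Prime] (hchar : Subgroup.centralizer (Cfsg.pCore p H : Set H) ≤ Cfsg.pCore p H) (L : Subgroup H) (n : ℕ) (A : Fin (n + 1) → Subgroup H) (h0 : A 0 = ⊥) (hn : A (Fin.last n) = Cfsg.pCore p H) (hmono : Monotone A) (hnorm : ∀ i, (A i).Normal) (hcent : ∀ i : Fin n, ⁅A i.succ, L⁆ ≤ A i.castSucc) : L ≤ Cfsg.pCore p H := by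
  have hLD : L ≤ stabChain A hnorm := by
    intro l hl i a ha
    exact hcent i (Subgroup.commutator_mem_commutator ha hl)
  have hDn : (stabChain A hnorm).Normal := stabChain_normal A hnorm
  have hDp : IsPGroup p (stabChain A hnorm) := by
    apply Cfsg.Agent.Lib.Helper5.Coprime.isPGroup_of_pprime_trivial
    intro y hy m hm hym
    have hAp : ∀ i, ∀ c ∈ A i, c ^ m = 1 → c = 1 := by
      intro i c hc hcm
      have hcp : c ∈ Cfsg.pCore p H := by
        rw [← hn]
        exact hmono (Fin.le_last i) hc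
      obtain ⟨a, ha⟩ := Cfsg.Agent.Lib.Helper5.CharP.pelem_of_mem_pCore _ hcp
      exact Cfsg.Agent.Lib.Helper5.Coprime.eq_one_of_pow_of_pow c a m hm ha hcm
    have key : ∀ k : ℕ, ∀ hk : k ≤ n, ∀ r ∈ A ⟨k, Nat.lt_succ_of_le hk⟩, r * y = y * r := by
      intro k
      induction k with
      | zero =>
        intro hk r hr
        have h00 : (⟨0, Nat.lt_succ_of_le hk⟩ : Fin (n + 1)) = 0 := rfl
        rw [h00, h0, Subgroup.mem_bot] at hr
        rw [hr, one_mul, mul_one]
      | succ k ih =>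
        intro hk r hr
        have hc : ⁅r, y⁆ ∈ A ⟨k, Nat.lt_succ_of_le (Nat.le_of_succ_le hk)⟩ := hy ⟨k, hk⟩ r hr
        apply Cfsg.Agent.Lib.Helper5.Coprime.commute_of_step y r m hym
        · exact ih (Nat.le_of_succ_le hk) _ hc
        · exact hAp _ _ hc
    have hyC : y ∈ Subgroup.centralizer (Cfsg.pCore p H : Set H) := by
      rw [Subgroup.mem_centralizer_iff, ← hn]
      intro r hr
      exact key n le_rfl r hr
    obtain ⟨a, ha⟩ := Cfsg.Agent.Lib.Helper5.CharP.pelem_of_mem_pCore _ (hchar hyC)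
    exact Cfsg.Agent.Lib.Helper5.Coprime.eq_one_of_pow_of_pow y a m hm ha hym
  exact hLD.trans (Cfsg.Agent.Lib.Helper5.PCore.le_pCore _ hDn hDp)

end Cfsg.Agent.S2810
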