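import Cfsg.Statements.S2813
import Mathlib
import Cfsg.Agent.Lib.Helper5.PCore

set_option autoImplicit false
open Cfsg

namespace Cfsg.Agent.S2813

open scoped commutatorElement

theorem result {H : Type*} [Group H] [Finite H] {p : ℕ} [Fact p.Prime] (K : Subgroup H) (hO : Cfsg.pCore p ↥K = ⊥) (Y : Subgroup H) (hY : IsPGroup p ↥Y) (hYK : Y ≤ Subgroup.normalizer (K : Set H)) (hq : ⁅⁅K, Y⁆, Y⁆ = ⊥) : ⁅K, Y⁆ = ⊥ := by
  have hNK : ⁅K, Y⁆ ≤ K := by
    rw [Subgroup.commutator_le]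
    intro k hk y hy
    have h1 : y * k⁻¹ * y⁻¹ ∈ K := (Subgroup.le_normalizer_iff.mp hYK) y hy k⁻¹ (K.inv_mem hk)
    have h2 : ⁅k, y⁆ = k * (y * k⁻¹ * y⁻¹) := by
      rw [commutatorElement_def]
      group
    rw [h2]
    exact K.mul_mem hk h1
  have hcent : ∀ n ∈ ⁅K, Y⁆, ∀ y ∈ Y, y * n = n * y := by
    have h1 := Subgroup.commutator_eq_bot_iff_le_centralizer.mp hq
    intro n hn y hy
    exact (Subgroup.mem_centralizer_iff.mp (h1 hn)) y hy
  have hgen : ∀ k ∈ K, ∀ y ∈ Y, ⁅k, y⁆ ∈ ⁅K, Y⁆ :=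
    fun k hk y hy => Subgroup.commutator_mem_commutator hk hy
  have hnorm : ∀ k ∈ K, ∀ n ∈ ⁅K, Y⁆, k * n * k⁻¹ ∈ ⁅K, Y⁆ := by
    intro k hk n hn
    have h1 : ⁅K, Y⁆ ≤ (⁅K, Y⁆).comap (MulAut.conj k).toMonoidHom := by
      rw [Subgroup.commutator_le]
      intro k' hk' y hy
      show k * ⁅k', y⁆ * k⁻¹ ∈ ⁅K, Y⁆
      have h2 : k * ⁅k', y⁆ * k⁻¹ = ⁅k * k', y⁆ * ⁅k, y⁆⁻¹ := by
        simp only [commutatorElement_def]
        group
      rw [h2]
      exact Subgroup.mul_mem _ (hgen _ (K.mul_mem hk hk') y hy) (Subgroup.inv_mem _ (hgen k hk y hy))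
    exact h1 hn
  have hab : ∀ a ∈ ⁅K, Y⁆, ∀ n ∈ ⁅K, Y⁆, a * n = n * a := by
    have h1 : ⁅K, Y⁆ ≤ Subgroup.centralizer ((⁅K, Y⁆ : Subgroup H) : Set H) := by
      rw [Subgroup.commutator_le]
      intro k hk y hy
      rw [Subgroup.mem_centralizer_iff]
      intro n hn
      have e1 : y⁻¹ * n = n * y⁻¹ := hcent n hn y⁻¹ (Y.inv_mem hy)
      have e2 : y * (k⁻¹ * n * k) = (k⁻¹ * n * k) * y :=
        hcent _ (by simpa using hnorm k⁻¹ (K.inv_mem hk) n hn) y hy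
      calc n * ⁅k, y⁆ = n * (k * y * k⁻¹ * y⁻¹) := by rw [commutatorElement_def]
        _ = k * ((k⁻¹ * n * k) * y) * k⁻¹ * y⁻¹ := by group
        _ = k * (y * (k⁻¹ * n * k)) * k⁻¹ * y⁻¹ := by rw [e2]
        _ = k * y * k⁻¹ * (n * y⁻¹) := by group
        _ = k * y * k⁻¹ * (y⁻¹ * n) := by rw [e1]
        _ = ⁅k, y⁆ * n := by
          rw [commutatorElement_def]
          group
    intro a ha n hn
    exact (Subgroup.mem_centralizer_iff.mp (h1 hn)) a ha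
  have hpow : ∀ n ∈ ⁅K, Y⁆, ∃ a : ℕ, n ^ p ^ a = 1 := by
    intro n hn
    have hn' := hn
    rw [Subgroup.commutator_def] at hn'
    refine Subgroup.closure_induction (p := fun x _ => ∃ a : ℕ, x ^ p ^ a = 1) ?_ ?_ ?_ ?_ hn'
    · intro x hx
      obtain ⟨k, hk, y, hy, rfl⟩ := hx
      obtain ⟨a, ha⟩ := hY ⟨y, hy⟩
      have ha' : y ^ p ^ a = 1 := by simpa using congrArg Subtype.val ha
      refine ⟨a, ?_⟩
      have hc : Commute ⁅k, y⁆ y := (hcent _ (hgen k hk y hy) y hy).symm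
      have e : ⁅k, y⁆ * y = k * y * k⁻¹ := by
        rw [commutatorElement_def]
        group
      have e2 : (⁅k, y⁆ * y) ^ p ^ a = 1 := by
        rw [e, conj_pow, ha']
        group
      rw [hc.mul_pow, ha', mul_one] at e2
      exact e2
    · exact ⟨0, one_pow _⟩
    · intro x y hx hy ihx ihy
      obtain ⟨a, ha⟩ := ihx
      obtain ⟨b, hb⟩ := ihy
      refine ⟨a + b, ?_⟩
      have hx' : x ∈ ⁅K, Y⁆ := by
        rw [Subgroup.commutator_def]
        exact hx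
      have hy' : y ∈ ⁅K, Y⁆ := by
        rw [Subgroup.commutator_def]
        exact hy
      have hc : Commute x y := hab x hx' y hy'
      rw [hc.mul_pow, pow_add, pow_mul, ha, one_pow, mul_comm (p ^ a) (p ^ b), pow_mul, hb,
        one_pow, mul_one]
    · intro x hx ih
      obtain ⟨a, ha⟩ := ih
      exact ⟨a, by rw [inv_pow, ha, inv_one]⟩
  have hNp : IsPGroup p ((⁅K, Y⁆).subgroupOf K) := by
    rintro ⟨⟨n, hnK⟩, hn⟩
    obtain ⟨a, ha⟩ := hpow n hn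
    refine ⟨a, ?_⟩
    ext
    simpa using ha
  have hNn : ((⁅K, Y⁆).subgroupOf K).Normal := by
    constructor
    intro n hn k
    rw [Subgroup.mem_subgroupOf] at hn ⊢
    exact hnorm k k.2 n hn
  have hle := Cfsg.Agent.Lib.Helper5.PCore.le_pCore _ hNn hNp
  rw [hO] at hle
  rw [Subgroup.eq_bot_iff_forall]
  intro n hn
  have h8 : (⟨n, hNK hn⟩ : K) ∈ (⁅K, Y⁆).subgroupOf K := Subgroup.mem_subgroupOf.mpr hn
  have h9 := hle h8
  rw [Subgroup.mem_bot] at h9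
  exact congrArg Subtype.val h9

end Cfsg.Agent.S2813
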