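import Cfsg.Statements.S3027
import Mathlib

set_option autoImplicit false
open Cfsg

namespace Cfsg.Agent.S3027

universe u

theorem sup_iff {G : Type*} [Group G] (D : Subgroup G) [D.Normal] (X : Subgroup G) :
    X ⊔ D = ⊤ ↔ X.map (QuotientGroup.mk' D) = ⊤ := by
  rw [← Subgroup.map_top_of_surjective (QuotientGroup.mk' D) (QuotientGroup.mk'_surjective D),
    Subgroup.map_eq_map_iff, QuotientGroup.ker_mk', top_sup_eq]

theorem comm_supp {G : Type*} [Group G] (D : Subgroup G) [D.Normal]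
    (hperf : ⁅(⊤ : Subgroup G), (⊤ : Subgroup G)⁆ ⊔ D = ⊤)
    (N₁ N₂ : Subgroup G) (hs1 : N₁ ⊔ D = ⊤) (hs2 : N₂ ⊔ D = ⊤) :
    ⁅N₁, N₂⁆ ⊔ D = ⊤ := by
  rw [sup_iff] at hperf hs1 hs2 ⊢
  rw [Subgroup.map_commutator, hs1, hs2]
  rw [Subgroup.map_commutator,
    Subgroup.map_top_of_surjective _ (QuotientGroup.mk'_surjective D)] at hperf
  exact hperf

theorem inf_supp {G : Type*} [Group G] (D : Subgroup G) [D.Normal]
    (hperf : ⁅(⊤ : Subgroup G), (⊤ : Subgroup G)⁆ ⊔ D = ⊤)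
    (N₁ N₂ : Subgroup G) [N₁.Normal] [N₂.Normal] (hs1 : N₁ ⊔ D = ⊤) (hs2 : N₂ ⊔ D = ⊤) :
    (N₁ ⊓ N₂) ⊔ D = ⊤ := by
  rw [eq_top_iff, ← comm_supp D hperf N₁ N₂ hs1 hs2]
  exact sup_le_sup_right (Subgroup.commutator_le_inf N₁ N₂) D

theorem exists_least_normal {G : Type*} [Group G] [Finite G] (D : Subgroup G) [D.Normal]
    (hperf : ⁅(⊤ : Subgroup G), (⊤ : Subgroup G)⁆ ⊔ D = ⊤) :
    ∃ B : Subgroup G, B.Normal ∧ B ⊔ D = ⊤ ∧
      ∀ N : Subgroup G, N.Normal → N ⊔ D = ⊤ → B ≤ N := by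
  obtain ⟨B, ⟨hBn, hBs⟩, hmin⟩ := Set.exists_min_image
    {N : Subgroup G | N.Normal ∧ N ⊔ D = ⊤} (fun N => Nat.card N) (Set.toFinite _)
    ⟨⊤, inferInstance, top_sup_eq _⟩
  refine ⟨B, hBn, hBs, fun N hN hNs => ?_⟩
  have := hBn
  have := hN
  have h1 : (B ⊓ N) ⊔ D = ⊤ := inf_supp D hperf B N hBs hNs
  have h2 := hmin (B ⊓ N) ⟨inferInstance, h1⟩
  have h3 : B ⊓ N = B := Subgroup.eq_of_le_of_card_ge inf_le_left h2
  rw [← h3]
  exact inf_le_right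

theorem main : ∀ (n : ℕ) (G : Type u) [Group G] [Finite G], Nat.card G = n →
    ∀ (D : Subgroup G) [D.Normal], ⁅(⊤ : Subgroup G), (⊤ : Subgroup G)⁆ ⊔ D = ⊤ →
    ∃ B : Subgroup G, B.Normal ∧ B ⊔ D = ⊤ ∧
      ∀ B' : Subgroup G, B'.IsSubnormal → B' ⊔ D = ⊤ → B ≤ B' := by
  intro n
  induction n using Nat.strong_induction_on with
  | _ n ih =>
  intro G _ _ hn D _ hperf
  obtain ⟨B, hBn, hBs, hBmin⟩ := exists_least_normal D hperf
  refine ⟨B, hBn, hBs, fun B' hsn hs => ?_⟩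
  rcases hsn.lt_normal with htop | ⟨N, hN, hB'N, hNlt⟩
  · rw [htop]; exact le_top
  have := hN
  have hNs : N ⊔ D = ⊤ := by
    rw [eq_top_iff, ← hs]; exact sup_le_sup_right hB'N D
  have hcard : Nat.card N < n := by
    rw [← hn]
    exact lt_of_le_of_ne (Subgroup.card_le_card_group N)
      (fun h => hNlt.ne ((Subgroup.card_eq_iff_eq_top N).1 h))
  have hperfN : ⁅(⊤ : Subgroup ↥N), (⊤ : Subgroup ↥N)⁆ ⊔ D.subgroupOf N = ⊤ := by
    rw [eq_top_iff]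
    rintro ⟨n', hn'⟩ _
    have h1 : n' ∈ ⁅N, N⁆ ⊔ D := by
      rw [comm_supp D hperf N N hNs hNs]; exact Subgroup.mem_top _
    obtain ⟨c, hc, d, hd, rfl⟩ := Subgroup.mem_sup_of_normal_right.1 h1
    have hcomm : ⁅N, N⁆ = Subgroup.map N.subtype ⁅(⊤ : Subgroup ↥N), ⊤⁆ := by
      rw [Subgroup.map_commutator, ← MonoidHom.range_eq_map, Subgroup.range_subtype]
    rw [hcomm] at hc
    obtain ⟨c', hc', rfl⟩ := hc
    have hdN : d ∈ N := by
      have e : d = (c' : G)⁻¹ * ((c' : G) * d) := by group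
      rw [e]; exact N.mul_mem (N.inv_mem c'.2) hn'
    have e : (⟨N.subtype c' * d, hn'⟩ : ↥N) = c' * ⟨d, hdN⟩ := Subtype.ext rfl
    rw [e]
    exact Subgroup.mul_mem _ ((le_sup_left : _ ≤ _ ⊔ D.subgroupOf N) hc')
      ((le_sup_right : D.subgroupOf N ≤ _) (Subgroup.mem_subgroupOf.2 hd))
  have hDN : (D.subgroupOf N).Normal := Subgroup.Normal.subgroupOf inferInstance N
  obtain ⟨B₁, hB₁n, hB₁s, hB₁min⟩ := ih (Nat.card N) hcard ↥N rfl (D.subgroupOf N) hperfN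
  have hB's : B'.subgroupOf N ⊔ D.subgroupOf N = ⊤ := by
    rw [eq_top_iff]
    rintro ⟨n', hn'⟩ _
    have h1 : n' ∈ B' ⊔ D := by rw [hs]; exact Subgroup.mem_top _
    obtain ⟨b, hb, d, hd, rfl⟩ := Subgroup.mem_sup_of_normal_right.1 h1
    have hdN : d ∈ N := by
      have e : d = b⁻¹ * (b * d) := by group
      rw [e]; exact N.mul_mem (N.inv_mem (hB'N hb)) hn'
    have e : (⟨b * d, hn'⟩ : ↥N) = ⟨b, hB'N hb⟩ * ⟨d, hdN⟩ := Subtype.ext rfl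
    rw [e]
    exact Subgroup.mul_mem _
      ((le_sup_left : B'.subgroupOf N ≤ _) (Subgroup.mem_subgroupOf.2 hb))
      ((le_sup_right : D.subgroupOf N ≤ _) (Subgroup.mem_subgroupOf.2 hd))
  have hB₁B' : B₁ ≤ B'.subgroupOf N := hB₁min _ hsn.subgroupOf hB's
  have hB₂n : (B₁.map N.subtype).Normal := by
    constructor
    intro y hy g
    obtain ⟨b, hb, rfl⟩ := hy
    set φ : ↥N →* ↥N := (MulAut.conjNormal g⁻¹ : MulAut ↥N).toMonoidHom with hφ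
    have hφs : Function.Surjective φ := (MulAut.conjNormal g⁻¹ : MulAut ↥N).surjective
    have hn1 : (B₁.map φ).Normal := hB₁n.map φ hφs
    have hs1 : B₁.map φ ⊔ D.subgroupOf N = ⊤ := by
      rw [eq_top_iff, ← Subgroup.map_top_of_surjective φ hφs, ← hB₁s, Subgroup.map_sup]
      refine sup_le_sup_left ?_ _
      rintro _ ⟨d, hd, rfl⟩
      have hd' : (d : G) ∈ D := Subgroup.mem_subgroupOf.1 hd
      rw [Subgroup.mem_subgroupOf]
      have e : ((φ d : ↥N) : G) = g⁻¹ * (d : G) * g⁻¹⁻¹ := MulAut.conjNormal_apply g⁻¹ d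
      rw [e]
      exact Subgroup.Normal.conj_mem inferInstance _ hd' _
    have h2 := hB₁min _ hn1.isSubnormal hs1 hb
    obtain ⟨b', hb', hbb'⟩ := h2
    refine ⟨b', hb', ?_⟩
    have e : ((φ b' : ↥N) : G) = g⁻¹ * (b' : G) * g⁻¹⁻¹ := MulAut.conjNormal_apply g⁻¹ b'
    rw [hbb'] at e
    show (b' : G) = g * (b : G) * g⁻¹
    rw [e]; group
  have hB₂s : B₁.map N.subtype ⊔ D = ⊤ := by
    rw [eq_top_iff, ← hNs]
    refine sup_le ?_ le_sup_right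
    intro n' hn'
    have h1 : (⟨n', hn'⟩ : ↥N) ∈ B₁ ⊔ D.subgroupOf N := by rw [hB₁s]; exact Subgroup.mem_top _
    obtain ⟨b, hb, d, hd, hbd⟩ := Subgroup.mem_sup_of_normal_right.1 h1
    have e : n' = (b : G) * (d : G) := by rw [← Subgroup.coe_mul, hbd]
    rw [e]
    exact Subgroup.mul_mem _ ((le_sup_left : B₁.map N.subtype ≤ _) ⟨b, hb, rfl⟩)
      ((le_sup_right : D ≤ _) (Subgroup.mem_subgroupOf.1 hd))
  have h4 : B ≤ B₁.map N.subtype := hBmin _ hB₂n hB₂s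
  refine h4.trans ?_
  rintro _ ⟨b, hb, rfl⟩
  exact Subgroup.mem_subgroupOf.1 (hB₁B' hb)

theorem result {G : Type*} [Group G] [Finite G] (D : Subgroup G) [D.Normal] (hperf : ⁅(⊤ : Subgroup G), (⊤ : Subgroup G)⁆ ⊔ D = ⊤) :
    ∃ B : Subgroup G, B.Normal ∧ B ⊔ D = ⊤ ∧ ∀ B' : Subgroup G, B'.IsSubnormal → B' ⊔ D = ⊤ → B ≤ B' := by
  exact main (Nat.card G) G rfl D hperf

end Cfsg.Agent.S3027
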