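import Cfsg.Statements.S2814
import Mathlib
import Cfsg.Agent.S0026
import Cfsg.Agent.S3027
import Cfsg.Agent.Lib.Helper3.Residual
import Cfsg.Agent.Lib.Helper2.Sub

set_option autoImplicit false
open Cfsg

namespace Cfsg.Agent.S2814

open scoped commutatorElement

theorem closure_mem {H : Type*} [Group H] [Finite H] (A : Subgroup H) :
    A ≤ Cfsg.subnormalClosure A ∧ (Cfsg.subnormalClosure A).IsSubnormal := by
  have hs : InfClosed {K : Subgroup H | A ≤ K ∧ K.IsSubnormal} := by
    intro K hK L hL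
    exact ⟨le_inf hK.1 hL.1, hK.2.inf hL.2⟩
  exact hs.sInf_mem_of_nonempty (Set.toFinite _) ⟨⊤, le_top, Subgroup.IsSubnormal.top⟩
    (Set.Subset.refl _)

theorem sn_of_nilpotent {G : Type*} [Group G] [Finite G] [Group.IsNilpotent G] :
    ∀ (n : ℕ) (L : Subgroup G), Nat.card G - Nat.card L = n → L.IsSubnormal := by
  intro n
  induction n using Nat.strong_induction_on with
  | _ n ih =>
  intro L hn
  by_cases htop : L = ⊤
  · rw [htop]; exact Subgroup.IsSubnormal.top
  have hlt : L < Subgroup.normalizer (L : Set G) :=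
    Group.normalizerCondition_of_isNilpotent L (lt_top_iff_ne_top.2 htop)
  have h1 : Nat.card L < Nat.card (Subgroup.normalizer (L : Set G)) :=
    Cfsg.Agent.Lib.Helper2.Sub.card_lt_of_ne hlt.le hlt.ne
  have h0 := Subgroup.card_le_card_group (Subgroup.normalizer (L : Set G))
  have h2 : (Subgroup.normalizer (L : Set G)).IsSubnormal :=
    ih (Nat.card G - Nat.card (Subgroup.normalizer (L : Set G))) (by omega) _ rfl
  exact Subgroup.IsSubnormal.step L _ hlt.le h2 Subgroup.normal_in_normalizer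

theorem quot_pgroup {N : Type*} [Group N] [Finite N] (p : ℕ) [Fact p.Prime] (R : Subgroup N)
    [R.Normal] (hR : Cfsg.pResidual p N ≤ R) : IsPGroup p (N ⧸ R) := by
  intro q
  obtain ⟨x, rfl⟩ := QuotientGroup.mk_surjective q
  obtain ⟨a, ha⟩ := Cfsg.Agent.Lib.Helper3.Residual.pow_mem_pResidual (p := p) x
  refine ⟨a, ?_⟩
  rw [← QuotientGroup.mk_pow, QuotientGroup.eq_one_iff]
  exact hR ha

theorem result {H : Type*} [Group H] [Finite H] {p : ℕ} [Fact p.Prime] (A : Subgroup H) (K : Subgroup H) (hK : K = Cfsg.subnormalClosure A) : (Subgroup.normalClosure ((A.subgroupOf K : Subgroup ↥K) : Set ↥K)).map K.subtype = K ∧ Subgroup.normalizer (A : Set H) ≤ Subgroup.normalizer (K : Set H) ∧ A ⊔ (Cfsg.pResidual p ↥K).map K.subtype = K ∧ (IsPGroup p ↥A → ⁅(Cfsg.pResidual p ↥K).map K.subtype, A⁆ = (Cfsg.pResidual p ↥K).map K.subtype) := by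
  subst hK
  obtain ⟨hAK, hKsn⟩ := closure_mem A
  set K := Cfsg.subnormalClosure A with hKdef
  have hmin : ∀ K' : Subgroup H, A ≤ K' → K'.IsSubnormal → K ≤ K' :=
    fun K' h1 h2 => sInf_le ⟨h1, h2⟩
  have hR : (Cfsg.pResidual p ↥K).Normal := Cfsg.Agent.Lib.Helper3.Residual.pResidual_normal p
  have htop_of : ∀ L : Subgroup ↥K, L.IsSubnormal → A.subgroupOf K ≤ L → L = ⊤ := by
    intro L hL hAL
    have h1 : K ≤ L.map K.subtype := by
      apply hmin _ _ (Subgroup.IsSubnormal.trans' hL hKsn)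
      intro a ha
      exact ⟨⟨a, hAK ha⟩, hAL (Subgroup.mem_subgroupOf.2 ha), rfl⟩
    rw [eq_top_iff]
    intro k _
    obtain ⟨l, hl, hlk⟩ := h1 k.2
    have : l = k := Subtype.ext hlk
    rw [← this]; exact hl
  have h3' : A.subgroupOf K ⊔ Cfsg.pResidual p ↥K = ⊤ := by
    apply htop_of _ _ le_sup_left
    have hq : IsPGroup p (↥K ⧸ Cfsg.pResidual p ↥K) := quot_pgroup p _ le_rfl
    have hnil : Group.IsNilpotent (↥K ⧸ Cfsg.pResidual p ↥K) := hq.isNilpotent
    have hsn := sn_of_nilpotent (G := ↥K ⧸ Cfsg.pResidual p ↥K) _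
      ((A.subgroupOf K ⊔ Cfsg.pResidual p ↥K).map (QuotientGroup.mk' (Cfsg.pResidual p ↥K))) rfl
    have hsn2 := hsn.comap (QuotientGroup.mk' (Cfsg.pResidual p ↥K))
    rw [Subgroup.comap_map_eq, QuotientGroup.ker_mk', sup_assoc, sup_idem] at hsn2
    exact hsn2
  have p1 : (Subgroup.normalClosure ((A.subgroupOf K : Subgroup ↥K) : Set ↥K)).map K.subtype
      = K := by
    have h1 := htop_of (Subgroup.normalClosure ((A.subgroupOf K : Subgroup ↥K) : Set ↥K))
      (Subgroup.normalClosure_normal.isSubnormal) (fun x hx => Subgroup.subset_normalClosure hx)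
    rw [h1, ← MonoidHom.range_eq_map, Subgroup.range_subtype]
  have p2 : Subgroup.normalizer (A : Set H) ≤ Subgroup.normalizer (K : Set H) := by
    have key : ∀ g ∈ Subgroup.normalizer (A : Set H), ∀ x ∈ K, g⁻¹ * x * g ∈ K := by
      intro g hg x hx
      have h3 : K ≤ K.map (MulAut.conj g).toMonoidHom := by
        apply hmin
        · intro a ha
          refine ⟨g⁻¹ * a * g, hAK ?_, ?_⟩
          · have := (Subgroup.mem_normalizer_iff.1 (Subgroup.inv_mem _ hg) a).1 ha
            simpa using this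
          · show g * (g⁻¹ * a * g) * g⁻¹ = a
            group
        · exact hKsn.map (MulAut.conj g).surjective
      obtain ⟨k, hk, hkx⟩ := h3 hx
      have e : g⁻¹ * x * g = k := by
        rw [← hkx]
        show g⁻¹ * (g * k * g⁻¹) * g = k
        group
      rw [e]; exact hk
    intro g hg
    rw [Subgroup.mem_normalizer_iff]
    intro x
    constructor
    · intro hx
      have := key g⁻¹ (Subgroup.inv_mem _ hg) x hx
      simpa using this
    · intro hx
      have := key g hg _ hx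
      have e : g⁻¹ * (g * x * g⁻¹) * g = x := by group
      rwa [e] at this
  have p3 : A ⊔ (Cfsg.pResidual p ↥K).map K.subtype = K := by
    apply le_antisymm (sup_le hAK (Subgroup.map_subtype_le _))
    intro k hk
    have h1 : (⟨k, hk⟩ : ↥K) ∈ A.subgroupOf K ⊔ Cfsg.pResidual p ↥K := by
      rw [h3']; exact Subgroup.mem_top _
    obtain ⟨a, ha, r, hr, har⟩ := Subgroup.mem_sup_of_normal_right.1 h1
    have e : k = (a : H) * (r : H) := by rw [← Subgroup.coe_mul, har]
    rw [e]
    exact Subgroup.mul_mem _ ((le_sup_left : A ≤ _) (Subgroup.mem_subgroupOf.1 ha))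
      ((le_sup_right : _ ≤ A ⊔ _) ⟨r, hr, rfl⟩)
  refine ⟨p1, p2, p3, ?_⟩
  intro hA
  set O := (Cfsg.pResidual p ↥K).map K.subtype with hO
  have hOK : O ≤ K := Subgroup.map_subtype_le _
  have hKO : K ≤ Subgroup.normalizer (O : Set H) := by
    rw [Subgroup.le_normalizer_iff]
    rintro k hk _ ⟨r, hr, rfl⟩
    exact ⟨⟨k, hk⟩ * r * ⟨k, hk⟩⁻¹, hR.conj_mem r hr ⟨k, hk⟩, rfl⟩
  have hMO : ⁅O, A⁆ ≤ O := Cfsg.Agent.S0026.comm_le_of_normalizes A O (hAK.trans hKO)
  apply le_antisymm hMO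
  set M := ⁅O, A⁆ with hM
  have hOnM : O ≤ Subgroup.normalizer (M : Set H) :=
    Cfsg.Agent.S0567.left_le_normalizer_commutator O A
  have hAnM : A ≤ Subgroup.normalizer (M : Set H) := by
    rw [hM, Subgroup.commutator_comm]
    exact Cfsg.Agent.S0567.left_le_normalizer_commutator A O
  have hKnM : K ≤ Subgroup.normalizer (M : Set H) := by
    rw [← p3]; exact sup_le hAnM hOnM
  have hMK : M ≤ K := hMO.trans hOK
  have hM'n : (M.subgroupOf K).Normal :=
    (Subgroup.normal_subgroupOf_iff_le_normalizer hMK).2 hKnM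
  have hLn : (A.subgroupOf K ⊔ M.subgroupOf K).Normal := by
    rw [← Subgroup.normalizer_eq_top_iff, eq_top_iff, ← h3']
    refine sup_le (le_sup_left.trans Subgroup.le_normalizer) ?_
    rw [Subgroup.le_normalizer_iff]
    intro o ho l hl
    obtain ⟨a, ha, m, hm, rfl⟩ := Subgroup.mem_sup_of_normal_right.1 hl
    have e : o * (a * m) * o⁻¹ = (o * a * o⁻¹ * a⁻¹) * a * (o * m * o⁻¹) := by group
    rw [e]
    refine Subgroup.mul_mem _ (Subgroup.mul_mem _ ((le_sup_right : M.subgroupOf K ≤ _) ?_)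
      ((le_sup_left : A.subgroupOf K ≤ _) ha))
      ((le_sup_right : M.subgroupOf K ≤ _) (hM'n.conj_mem m hm o))
    rw [Subgroup.mem_subgroupOf]
    have : ((o * a * o⁻¹ * a⁻¹ : ↥K) : H) = ⁅(o : H), (a : H)⁆ := by
      rw [commutatorElement_def]; simp
    rw [this]
    exact Subgroup.commutator_mem_commutator ⟨o, ho, rfl⟩ (Subgroup.mem_subgroupOf.1 ha)
  have hLtop : A.subgroupOf K ⊔ M.subgroupOf K = ⊤ := htop_of _ hLn.isSubnormal le_sup_left
  have hmap : (A.subgroupOf K).map (QuotientGroup.mk' (M.subgroupOf K)) = ⊤ :=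
    (Cfsg.Agent.S3027.sup_iff (M.subgroupOf K) (A.subgroupOf K)).1 hLtop
  have hpq : IsPGroup p ((A.subgroupOf K).map (QuotientGroup.mk' (M.subgroupOf K))) :=
    (hA.comap_subtype).map _
  rw [hO, Subgroup.map_le_iff_le_comap]
  unfold Cfsg.pResidual
  rw [Subgroup.closure_le]
  intro g hg
  show (g : H) ∈ M
  have hg' : (orderOf g).Coprime p := hg
  have hmem : QuotientGroup.mk' (M.subgroupOf K) g ∈
      (A.subgroupOf K).map (QuotientGroup.mk' (M.subgroupOf K)) := by
    rw [hmap]; exact Subgroup.mem_top _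
  obtain ⟨k, hk⟩ := hpq ⟨_, hmem⟩
  have hk' : (QuotientGroup.mk' (M.subgroupOf K) g) ^ (p ^ k) = 1 := by
    have := congrArg Subtype.val hk
    simpa using this
  have h1 : orderOf (QuotientGroup.mk' (M.subgroupOf K) g) ∣ p ^ k :=
    orderOf_dvd_of_pow_eq_one hk'
  have h2 : orderOf (QuotientGroup.mk' (M.subgroupOf K) g) ∣ orderOf g := orderOf_map_dvd _ g
  have hc : (orderOf (QuotientGroup.mk' (M.subgroupOf K) g)).Coprime (p ^ k) :=
    Nat.Coprime.coprime_dvd_left h2 (Nat.Coprime.pow_right k hg')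
  have h3 := Nat.Coprime.eq_one_of_dvd hc h1
  rw [orderOf_eq_one_iff] at h3
  have h4 : g ∈ M.subgroupOf K := by
    rw [← QuotientGroup.eq_one_iff]; exact h3
  exact Subgroup.mem_subgroupOf.1 h4

end Cfsg.Agent.S2814
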