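import Cfsg.Statements.S2815
import Mathlib
import Cfsg.Agent.S2824
import Cfsg.Agent.Lib.Helper3.Residual
import Cfsg.Agent.Lib.Helper2.Comp
import Cfsg.Agent.Lib.Helper2.Quasi
import Cfsg.Agent.Lib.Helper2.Fit

set_option autoImplicit false
open Cfsg

namespace Cfsg.Agent.S2815

open Cfsg.Agent.Lib.Helper2 Cfsg.Agent.Lib.Helper3

theorem key {H : Type*} [Group H] [Finite H] {p : ℕ} [Fact p.Prime] (hp : p ∣ Nat.card H)
    (hO : Cfsg.pCore p H = ⊥) (R : Subgroup H) (hR : R = Cfsg.pResidual p H)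
    (hq : Cfsg.IsQuasisimple ↥R) :
    R = Cfsg.generalizedFittingSubgroup H ∧
    (∀ Y : Subgroup H, IsPGroup p ↥Y → Y ≠ ⊥ → ⁅R, Y⁆ = R ∧
      R ≤ ⨆ k : ↥R, Y.map (MulAut.conj (k : H)).toMonoidHom) ∧
    (∀ C : Subgroup H, C.Normal → ¬ R ≤ C → (Nat.card ↥C).Coprime p) ∧
    (¬ Cfsg.IsPClosed p H ∧ ∀ N : Subgroup H, N.Normal → ¬ Cfsg.IsPClosed p ↥N → R ≤ N) := by
  have hp' : p.Prime := Fact.out
  have hRn : R.Normal := by rw [hR]; exact Residual.pResidual_normal p
  have hRc : Cfsg.IsComponent R := ⟨hRn.isSubnormal, hq⟩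
  have hRF : R ≤ Cfsg.generalizedFittingSubgroup H := (Comp.le_layer hRc).trans le_sup_left
  have hmemR : ∀ x : H, Nat.Coprime (orderOf x) p → x ∈ R := fun x hx => by
    rw [hR]
    exact Subgroup.subset_closure hx
  have hperfR : ⁅R, R⁆ = R := Quasi.perfect_subgroup R hq
  have hquot : IsPGroup p (H ⧸ R) := by
    intro x
    obtain ⟨y, rfl⟩ := QuotientGroup.mk_surjective x
    obtain ⟨k, hk⟩ := Residual.pow_mem_pResidual (p := p) y
    refine ⟨k, ?_⟩
    rw [← QuotientGroup.mk_pow, QuotientGroup.eq_one_iff, hR]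
    exact hk
  have hsolv : ∃ n, derivedSeries H n ≤ R := by
    haveI := hRn
    haveI h1 : Group.IsNilpotent (H ⧸ R) := hquot.isNilpotent
    have h2 : Group.IsSolvable (H ⧸ R) := inferInstance
    obtain ⟨n, hn⟩ := h2.solvable
    refine ⟨n, ?_⟩
    have h3 := map_derivedSeries_eq (QuotientGroup.mk'_surjective R) n
    rw [hn, Subgroup.map_eq_bot_iff, QuotientGroup.ker_mk'] at h3
    exact h3
  have hperf : ∀ L : Subgroup H, ⁅L, L⁆ = L → L ≤ R := by
    intro L hL
    obtain ⟨n, hn⟩ := hsolv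
    have h1 : ∀ k, L ≤ derivedSeries H k := by
      intro k
      induction k with
      | zero => exact le_top
      | succ k ih =>
        exact hL.symm.le.trans ((Subgroup.commutator_mono ih ih).trans
          (le_of_eq (derivedSeries_succ H k).symm))
    exact (h1 n).trans hn
  have hlayer : Cfsg.layer H ≤ R :=
    sSup_le fun L hL => hperf L (Quasi.perfect_subgroup L hL.2)
  have hfit : Cfsg.fittingSubgroup H ≤ R := by
    rw [Fit.fitting_eq_iSup_pCore]
    refine iSup_le fun q => ?_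
    by_cases hqp : (q : ℕ) = p
    · have h1 : Cfsg.pCore (q : ℕ) H = ⊥ := by rw [hqp]; exact hO
      rw [h1]
      exact bot_le
    · intro x hx
      apply hmemR
      have h1 : IsPGroup (q : ℕ) ↥(Cfsg.pCore (q : ℕ) H) := Fit.pCore_isPGroup (q : ℕ)
      obtain ⟨k, hk⟩ := h1 ⟨x, hx⟩
      have hk' : x ^ (q : ℕ) ^ k = 1 := by simpa using congrArg Subtype.val hk
      have h2 : orderOf x ∣ (q : ℕ) ^ k := orderOf_dvd_of_pow_eq_one hk'
      exact Nat.Coprime.coprime_dvd_left h2
        (Nat.Coprime.pow_left k ((Nat.coprime_primes q.2 hp').2 hqp))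
  have hFR : Cfsg.generalizedFittingSubgroup H = R := le_antisymm (sup_le hlayer hfit) hRF
  have hcp : ∀ Y : Subgroup H, IsPGroup p ↥Y → Y ≤ Subgroup.centralizer (R : Set H) → Y = ⊥ := by
    intro Y hY hYc
    have hYR : Y ≤ R := by
      have h1 := Comp.centralizer_genFitting_le (G := H)
      rw [hFR] at h1
      exact hYc.trans h1
    have hYn : (Y.subgroupOf R).Normal := by
      rw [Subgroup.normal_subgroupOf_iff_le_normalizer hYR]
      apply Cfsg.Agent.S2824.le_norm_of_conj
      intro r hr y hy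
      have h1 := Subgroup.mem_centralizer_iff.1 (hYc hy) r hr
      rw [h1, mul_inv_cancel_right]
      exact hy
    have hYsn : Y.IsSubnormal := Subgroup.IsSubnormal.trans hYR hYn.isSubnormal hRn.isSubnormal
    have h2 := Fit.sn_pgroup_le_pCore hYsn hY
    rw [hO] at h2
    exact le_bot_iff.1 h2
  have three : ∀ X : Subgroup H, ⁅X, R⁆ ≤ Subgroup.centralizer (R : Set H) →
      X ≤ Subgroup.centralizer (R : Set H) := by
    intro X hX
    have h1 : ⁅⁅X, R⁆, R⁆ = ⊥ := Subgroup.commutator_eq_bot_iff_le_centralizer.2 hX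
    have h2 : ⁅⁅R, X⁆, R⁆ = ⊥ := by rw [Subgroup.commutator_comm R X]; exact h1
    have h3 : ⁅⁅R, R⁆, X⁆ = ⊥ := Subgroup.commutator_commutator_eq_bot_of_rotate h2 h1
    rw [hperfR, Subgroup.commutator_comm] at h3
    exact Subgroup.commutator_eq_bot_iff_le_centralizer.1 h3
  have hcenter : ∀ N : Subgroup H, N ≤ R → (N.subgroupOf R) ≤ Subgroup.center ↥R →
      N ≤ Subgroup.centralizer (R : Set H) := by
    intro N hNR hN n hn
    rw [Subgroup.mem_centralizer_iff]
    intro r hr
    have h1 : (⟨n, hNR hn⟩ : ↥R) ∈ Subgroup.center ↥R := hN (Subgroup.mem_subgroupOf.2 hn)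
    have h2 := Subgroup.mem_center_iff.1 h1 ⟨r, hr⟩
    exact congrArg Subtype.val h2
  have hY1 : ∀ Y : Subgroup H, IsPGroup p ↥Y → Y ≠ ⊥ → ⁅R, Y⁆ = R := by
    intro Y hY hYne
    have hN : ⁅R, Y⁆ ≤ R := by
      haveI := hRn
      exact Subgroup.commutator_le_left R Y
    have hNn : (⁅R, Y⁆.subgroupOf R).Normal := by
      rw [Subgroup.normal_subgroupOf_iff_le_normalizer hN]
      exact Subgroup.normalizer_commutator_ge_left R Y
    rcases Quasi.normal_eq_top_or_le_center hq _ hNn with h | h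
    · exact le_antisymm hN (Subgroup.subgroupOf_eq_top.1 h)
    · exfalso
      have h1 : ⁅R, Y⁆ ≤ Subgroup.centralizer (R : Set H) := hcenter _ hN h
      rw [Subgroup.commutator_comm] at h1
      exact hYne (hcp Y hY (three Y h1))
  refine ⟨hFR.symm, ?_, ?_, ?_⟩
  · intro Y hY hYne
    refine ⟨hY1 Y hY hYne, ?_⟩
    have h1 : ⁅R, Y⁆ ≤ ⨆ k : ↥R, Y.map (MulAut.conj (k : H)).toMonoidHom := by
      rw [Subgroup.commutator_le]
      intro r hr y hy
      rw [commutatorElement_def]
      have h2 : r * y * r⁻¹ ∈ ⨆ k : ↥R, Y.map (MulAut.conj (k : H)).toMonoidHom :=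
        (le_iSup (fun k : ↥R => Y.map (MulAut.conj (k : H)).toMonoidHom) ⟨r, hr⟩) ⟨y, hy, rfl⟩
      have h3 : y⁻¹ ∈ ⨆ k : ↥R, Y.map (MulAut.conj (k : H)).toMonoidHom :=
        (le_iSup (fun k : ↥R => Y.map (MulAut.conj (k : H)).toMonoidHom) ⟨1, R.one_mem⟩)
          ⟨y⁻¹, Y.inv_mem hy, by simp⟩
      exact Subgroup.mul_mem _ h2 h3
    rw [hY1 Y hY hYne] at h1
    exact h1
  · intro C hCn hRC
    rcases Quasi.normal_eq_top_or_le_center hq (C.subgroupOf R) (hCn.subgroupOf R) with h | h
    · exact absurd (Subgroup.subgroupOf_eq_top.1 h) hRC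
    · have h1 : ⁅C, R⁆ ≤ Subgroup.centralizer (R : Set H) := by
        have h2 : ⁅C, R⁆ ≤ C ⊓ R := by
          haveI := hCn
          haveI := hRn
          exact Subgroup.commutator_le_inf C R
        refine h2.trans (hcenter _ inf_le_right ?_)
        rw [Subgroup.inf_subgroupOf_right]
        exact h
      have hCc : C ≤ Subgroup.centralizer (R : Set H) := three C h1
      rw [Nat.coprime_comm, Nat.Prime.coprime_iff_not_dvd hp']
      intro hd
      obtain ⟨c, hc⟩ := exists_prime_orderOf_dvd_card' (G := ↥C) p hd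
      have hz : Subgroup.zpowers (c : H) = ⊥ := by
        apply hcp
        · have h3 : orderOf (c : H) = p := by rw [Subgroup.orderOf_coe]; exact hc
          rw [IsPGroup.iff_card, Nat.card_zpowers, h3]
          exact ⟨1, (pow_one p).symm⟩
        · rw [Subgroup.zpowers_le]
          exact hCc c.2
      have hc1 : (c : H) = 1 := by
        have h3 : (c : H) ∈ Subgroup.zpowers (c : H) := Subgroup.mem_zpowers _
        rw [hz, Subgroup.mem_bot] at h3
        exact h3
      have h4 : orderOf (c : H) = p := by rw [Subgroup.orderOf_coe]; exact hc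
      rw [hc1, orderOf_one] at h4
      exact hp'.one_lt.ne h4
  · have hCp : ∀ C : Subgroup H, C.Normal → ¬ R ≤ C → (Nat.card ↥C).Coprime p := by
      intro C hCn hRC
      rcases Quasi.normal_eq_top_or_le_center hq (C.subgroupOf R) (hCn.subgroupOf R) with h | h
      · exact absurd (Subgroup.subgroupOf_eq_top.1 h) hRC
      · have h1 : ⁅C, R⁆ ≤ Subgroup.centralizer (R : Set H) := by
          have h2 : ⁅C, R⁆ ≤ C ⊓ R := by
            haveI := hCn
            haveI := hRn
            exact Subgroup.commutator_le_inf C R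
          refine h2.trans (hcenter _ inf_le_right ?_)
          rw [Subgroup.inf_subgroupOf_right]
          exact h
        have hCc : C ≤ Subgroup.centralizer (R : Set H) := three C h1
        rw [Nat.coprime_comm, Nat.Prime.coprime_iff_not_dvd hp']
        intro hd
        obtain ⟨c, hc⟩ := exists_prime_orderOf_dvd_card' (G := ↥C) p hd
        have hz : Subgroup.zpowers (c : H) = ⊥ := by
          apply hcp
          · have h3 : orderOf (c : H) = p := by rw [Subgroup.orderOf_coe]; exact hc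
            rw [IsPGroup.iff_card, Nat.card_zpowers, h3]
            exact ⟨1, (pow_one p).symm⟩
          · rw [Subgroup.zpowers_le]
            exact hCc c.2
        have hc1 : (c : H) = 1 := by
          have h3 : (c : H) ∈ Subgroup.zpowers (c : H) := Subgroup.mem_zpowers _
          rw [hz, Subgroup.mem_bot] at h3
          exact h3
        have h4 : orderOf (c : H) = p := by rw [Subgroup.orderOf_coe]; exact hc
        rw [hc1, orderOf_one] at h4
        exact hp'.one_lt.ne h4
    constructor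
    · intro hcl
      obtain ⟨S⟩ := (inferInstance : Nonempty (Sylow p H))
      have h1 := Fit.le_pCore (S : Subgroup H) (hcl S) S.isPGroup'
      rw [hO] at h1
      exact S.ne_bot_of_dvd_card hp (le_bot_iff.1 h1)
    · intro N hN hNcl
      by_contra hRN
      apply hNcl
      intro P
      have hcop := hCp N hN hRN
      have hPb : (P : Subgroup ↥N) = ⊥ := by
        rcases P.isPGroup'.card_eq_or_dvd with h1 | h1
        · exact Subgroup.eq_bot_of_card_eq _ h1
        · exfalso
          have h2 : p ∣ Nat.card ↥N := h1.trans (Subgroup.card_subgroup_dvd_card _)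
          rw [Nat.coprime_comm, Nat.Prime.coprime_iff_not_dvd hp'] at hcop
          exact hcop h2
      rw [hPb]
      exact Subgroup.normal_bot

theorem result {H : Type*} [Group H] [Finite H] {p : ℕ} [Fact p.Prime] (hp : p ∣ Nat.card H) (hO : Cfsg.pCore p H = ⊥) (hq : Cfsg.IsQuasisimple ↥(Cfsg.pResidual p H)) : Cfsg.pResidual p H = Cfsg.generalizedFittingSubgroup H ∧ (∀ Y : Subgroup H, IsPGroup p ↥Y → Y ≠ ⊥ → ⁅Cfsg.pResidual p H, Y⁆ = Cfsg.pResidual p H ∧ Cfsg.pResidual p H ≤ ⨆ k : ↥(Cfsg.pResidual p H), Y.map (MulAut.conj (k : H)).toMonoidHom) ∧ (∀ C : Subgroup H, C.Normal → ¬ Cfsg.pResidual p H ≤ C → (Nat.card ↥C).Coprime p) ∧ Cfsg.IsPIrreducible p H := by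
  obtain ⟨h1, h2, h3, h4⟩ := key hp hO (Cfsg.pResidual p H) rfl hq
  exact ⟨h1, h2, h3, h4⟩

end Cfsg.Agent.S2815
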