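import Cfsg.Statements.S2818
import Mathlib
import Cfsg.Agent.Lib.Helper1.Crit

set_option autoImplicit false
open Cfsg

namespace Cfsg.Agent.S2818

open scoped commutatorElement

theorem omega_mem {G : Type*} [Group G] {p : ℕ} (P : Subgroup G) (z : G)
    (hz : z ∈ Cfsg.omegaOne p (P ⊓ Subgroup.centralizer (P : Set G))) :
    z ∈ P ⊓ Subgroup.centralizer (P : Set G) ∧ z ^ p = 1 := by
  have h1 : Cfsg.omegaOne p (P ⊓ Subgroup.centralizer (P : Set G)) ≤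
      P ⊓ Subgroup.centralizer (P : Set G) := by
    unfold Cfsg.omegaOne
    rw [Subgroup.closure_le]
    intro x hx
    exact hx.1
  refine ⟨h1 hz, ?_⟩
  have hz' := hz
  unfold Cfsg.omegaOne at hz'
  have key : ∀ y ∈ Subgroup.closure {x : G | x ∈ P ⊓ Subgroup.centralizer (P : Set G) ∧ x ^ p = 1},
      y ∈ Cfsg.omegaOne p (P ⊓ Subgroup.centralizer (P : Set G)) → y ^ p = 1 := by
    intro y hy
    induction hy using Subgroup.closure_induction with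
    | mem x hx => intro _; exact hx.2
    | one => intro _; exact one_pow p
    | mul a b ha hb iha ihb =>
      intro _
      have ha' : a ∈ Cfsg.omegaOne p (P ⊓ Subgroup.centralizer (P : Set G)) := ha
      have hb' : b ∈ Cfsg.omegaOne p (P ⊓ Subgroup.centralizer (P : Set G)) := hb
      have hab : Commute a b := by
        have h2 := (h1 ha').2
        have h3 := (h1 hb').1
        exact (Subgroup.mem_centralizer_iff.1 h2 b h3).symm
      rw [hab.mul_pow, iha ha', ihb hb', one_mul]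
    | inv a ha iha =>
      intro _
      have ha' : a ∈ Cfsg.omegaOne p (P ⊓ Subgroup.centralizer (P : Set G)) := ha
      rw [inv_pow, iha ha', inv_one]
  exact key z hz' hz

theorem conj_eq {G : Type*} [Group G] (x h z : G) (hz : x * h * x⁻¹ * h⁻¹ = z) :
    h * x * h⁻¹ = z⁻¹ * x := by
  rw [← hz]; group

theorem comm_conj {G : Type*} [Group G] (a b h za zb : G) (ha : h * a * h⁻¹ = za⁻¹ * a)
    (hb : h * b * h⁻¹ = zb⁻¹ * b) (h1 : Commute za a) (h2 : Commute za b) (h3 : Commute zb a)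
    (h4 : Commute zb b) (h5 : Commute za zb) :
    h * (a * b * a⁻¹ * b⁻¹) * h⁻¹ = a * b * a⁻¹ * b⁻¹ := by
  have e : h * (a * b * a⁻¹ * b⁻¹) * h⁻¹ =
      (h * a * h⁻¹) * (h * b * h⁻¹) * (h * a * h⁻¹)⁻¹ * (h * b * h⁻¹)⁻¹ := by group
  rw [e, ha, hb]
  have h1' : Commute za⁻¹ a := h1.inv_left
  have h2' : Commute za⁻¹ b := h2.inv_left
  have h3' : Commute zb⁻¹ a := h3.inv_left
  have h4' : Commute zb⁻¹ b := h4.inv_left
  have h5' : Commute za⁻¹ zb⁻¹ := h5.inv_inv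
  have e1 : za⁻¹ * a * (zb⁻¹ * b) = (za⁻¹ * zb⁻¹) * (a * b) := by
    rw [mul_assoc, ← mul_assoc a, ← h3'.eq]; group
  have e2 : (za⁻¹ * a)⁻¹ * (zb⁻¹ * b)⁻¹ = (a⁻¹ * b⁻¹) * (za⁻¹ * zb⁻¹)⁻¹ := by
    have e3 : (za⁻¹ * a)⁻¹ * (zb⁻¹ * b)⁻¹ = (zb⁻¹ * b * (za⁻¹ * a))⁻¹ := by group
    have e4 : (a⁻¹ * b⁻¹) * (za⁻¹ * zb⁻¹)⁻¹ = (za⁻¹ * zb⁻¹ * (b * a))⁻¹ := by group
    rw [e3, e4]
    congr 1
    rw [mul_assoc, ← mul_assoc b, ← h2'.eq, h5'.eq]; group
  have hc : Commute (za⁻¹ * zb⁻¹) (a * b) :=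
    (h1'.mul_right h2').mul_left (h3'.mul_right h4')
  calc za⁻¹ * a * (zb⁻¹ * b) * (za⁻¹ * a)⁻¹ * (zb⁻¹ * b)⁻¹
      = (za⁻¹ * a * (zb⁻¹ * b)) * ((za⁻¹ * a)⁻¹ * (zb⁻¹ * b)⁻¹) := by group
    _ = (za⁻¹ * zb⁻¹) * (a * b) * ((a⁻¹ * b⁻¹) * (za⁻¹ * zb⁻¹)⁻¹) := by rw [e1, e2]
    _ = (za⁻¹ * zb⁻¹) * (a * b * a⁻¹ * b⁻¹) * (za⁻¹ * zb⁻¹)⁻¹ := by group
    _ = a * b * a⁻¹ * b⁻¹ := by
      have hc2 : Commute (za⁻¹ * zb⁻¹) (a * b * a⁻¹ * b⁻¹) :=
        ((h1'.mul_right h2').mul_right h1'.inv_right).mul_right h2'.inv_right |>.mul_left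
          (((h3'.mul_right h4').mul_right h3'.inv_right).mul_right h4'.inv_right)
      rw [hc2.eq]; group

theorem result {G : Type*} [Group G] [Finite G] {p : ℕ} [Fact p.Prime] (P : Subgroup G) (hP : IsPGroup p ↥P) (H : Subgroup G) (hH : H ≤ Subgroup.normalizer (P : Set G)) (h : ⁅P, H⁆ ≤ Cfsg.omegaOne p (P ⊓ Subgroup.centralizer (P : Set G))) : ⁅(frattini ↥P).map P.subtype, H⁆ = ⊥ := by
  classical
  have hp : p.Prime := Fact.out
  rw [eq_bot_iff, Subgroup.commutator_le]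
  intro t ht g hg
  obtain ⟨t', ht', rfl⟩ := ht
  rw [Subgroup.mem_bot]
  have hz : ∀ x ∈ P, ∃ z : G, g * x * g⁻¹ = z⁻¹ * x ∧ z ^ p = 1 ∧ z ∈ P ∧
      ∀ y ∈ P, Commute z y := by
    intro x hx
    have h1 : ⁅x, g⁆ ∈ ⁅P, H⁆ := Subgroup.commutator_mem_commutator hx hg
    have h2 := omega_mem P _ (h h1)
    refine ⟨x * g * x⁻¹ * g⁻¹, conj_eq x g _ rfl, ?_, ?_, ?_⟩
    · exact h2.2
    · exact h2.1.1
    · intro y hy
      exact (Subgroup.mem_centralizer_iff.1 h2.1.2 y hy).symm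
  let N : Subgroup ↥P := (Subgroup.centralizer ({g} : Set G)).subgroupOf P
  have hN : ∀ x : ↥P, x ∈ N ↔ g * (x : G) * g⁻¹ = (x : G) := by
    intro x
    show (x : G) ∈ Subgroup.centralizer ({g} : Set G) ↔ _
    rw [Subgroup.mem_centralizer_singleton_iff]
    constructor
    · intro h1
      rw [← h1]; group
    · intro h1
      calc (x : G) * g = g * (x : G) * g⁻¹ * g := by rw [h1]
        _ = g * (x : G) := by group
  have hfr : frattini ↥P ≤ N := by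
    apply Cfsg.Agent.Lib.Helper1.Crit.frattini_le_of_elementary N p hp
    · intro a b
      rw [hN]
      obtain ⟨za, hza, -, hzaP, hzac⟩ := hz a a.2
      obtain ⟨zb, hzb, -, hzbP, hzbc⟩ := hz b b.2
      have := comm_conj (a : G) (b : G) g za zb hza hzb (hzac _ a.2) (hzac _ b.2) (hzbc _ a.2)
        (hzbc _ b.2) (hzac _ hzbP)
      simpa using this
    · intro x
      rw [hN]
      obtain ⟨z, hz1, hz2, hzP, hzc⟩ := hz x x.2
      have e : g * ((x ^ p : ↥P) : G) * g⁻¹ = (g * (x : G) * g⁻¹) ^ p := by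
        rw [Subgroup.coe_pow, conj_pow]
      rw [e, hz1, ((hzc _ x.2).inv_left).mul_pow, inv_pow, hz2, inv_one, one_mul, Subgroup.coe_pow]
  have h3 := (hN t').1 (hfr ht')
  rw [commutatorElement_def]
  have e : (P.subtype t') * g * (P.subtype t')⁻¹ * g⁻¹ =
      (P.subtype t') * (g * (t' : G) * g⁻¹)⁻¹ := by
    simp only [Subgroup.coe_subtype]; group
  rw [e, h3]; simp

end Cfsg.Agent.S2818
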