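import Cfsg.Statements.S2820
import Mathlib
import Cfsg.Agent.Lib.Helper5.PIrr
import Cfsg.Agent.Lib.Helper3.Core
import Cfsg.Agent.Lib.Helper2.Fit
import Cfsg.Agent.Lib.Helper8.Hyp

set_option autoImplicit false
open Cfsg

namespace Cfsg.Agent.S2820

open Cfsg.Agent.Lib.Helper5.PIrr

theorem pres_top_of_surj {A B : Type*} [Group A] [Group B] (p : ℕ) (f : A →* B)
    (hf : Function.Surjective f) (h : Cfsg.pResidual p A = ⊤) : Cfsg.pResidual p B = ⊤ := by
  rw [eq_top_iff]
  intro b _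
  obtain ⟨a, rfl⟩ := hf b
  exact Cfsg.Agent.Lib.Helper8.Hyp.map_mem_pResidual p f (by rw [h]; exact Subgroup.mem_top a)

theorem pres_top_subgroupOf {H : Type*} [Group H] (p : ℕ) (B K : Subgroup H) (hBK : B ≤ K)
    (h : Cfsg.pResidual p ↥B = ⊤) : Cfsg.pResidual p ↥(B.subgroupOf K) = ⊤ :=
  pres_top_of_surj p (Subgroup.subgroupOfEquivOfLe hBK).symm.toMonoidHom
    (Subgroup.subgroupOfEquivOfLe hBK).symm.surjective h

theorem subgroupOf_le_pres {H : Type*} [Group H] (p : ℕ) (B K : Subgroup H) (hBK : B ≤ K)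
    (h : Cfsg.pResidual p ↥B = ⊤) : B.subgroupOf K ≤ Cfsg.pResidual p ↥K := by
  intro x hx
  rw [Subgroup.mem_subgroupOf] at hx
  have h1 : (⟨(x : H), hx⟩ : ↥B) ∈ Cfsg.pResidual p ↥B := by rw [h]; exact Subgroup.mem_top _
  have h2 := Cfsg.Agent.Lib.Helper8.Hyp.map_mem_pResidual p (Subgroup.inclusion hBK) h1
  have e : Subgroup.inclusion hBK ⟨(x : H), hx⟩ = x := Subtype.ext rfl
  rw [e] at h2
  exact h2

theorem pres_map_normal {H : Type*} [Group H] (p : ℕ) (M : Subgroup H) [M.Normal] :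
    ((Cfsg.pResidual p ↥M).map M.subtype).Normal := by
  constructor
  rintro _ ⟨x, hx, rfl⟩ g
  refine ⟨MulAut.conjNormal g x, ?_, ?_⟩
  · exact Cfsg.Agent.Lib.Helper8.Hyp.map_mem_pResidual p
      (MulAut.conjNormal g : MulAut ↥M).toMonoidHom hx
  · simp

theorem mem_normalizer_of_subgroupOf {H : Type*} [Group H] (B K : Subgroup H) (hBK : B ≤ K)
    (x : ↥K) (hx : x ∈ Subgroup.normalizer ((B.subgroupOf K : Subgroup ↥K) : Set ↥K)) :
    (x : H) ∈ Subgroup.normalizer (B : Set H) := by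
  rw [Subgroup.mem_normalizer_iff] at hx ⊢
  intro b
  constructor
  · intro hb
    exact Subgroup.mem_subgroupOf.1 ((hx ⟨b, hBK hb⟩).1 (Subgroup.mem_subgroupOf.2 hb))
  · intro hb
    have hbK : b ∈ K := by
      have e : b = (x : H)⁻¹ * ((x : H) * b * (x : H)⁻¹) * (x : H) := by group
      rw [e]
      exact K.mul_mem (K.mul_mem (K.inv_mem x.2) (hBK hb)) x.2
    exact Subgroup.mem_subgroupOf.1 ((hx ⟨b, hbK⟩).2 (Subgroup.mem_subgroupOf.2 hb))

theorem pcore_inf_le_normalizer {H : Type*} [Group H] [Finite H] {p : ℕ} [Fact p.Prime]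
    (B K : Subgroup H) (hBK : B ≤ K)
    (h : Cfsg.pCore p ↥K ≤ Subgroup.normalizer ((B.subgroupOf K : Subgroup ↥K) : Set ↥K)) :
    K ⊓ Cfsg.pCore p H ≤ Subgroup.normalizer (B : Set H) := by
  intro x hx
  obtain ⟨hxK, hxP⟩ := Subgroup.mem_inf.1 hx
  haveI : (Cfsg.pCore p H).Normal := Cfsg.pCore_normal p _
  have h1 : (Cfsg.pCore p H).subgroupOf K ≤ Cfsg.pCore p ↥K :=
    Cfsg.Agent.Lib.Helper3.Core.le_pCore _ (Subgroup.Normal.subgroupOf inferInstance K)
      ((Cfsg.Agent.Lib.Helper3.Core.pCore_isPGroup (G := H) p).comap_of_injective K.subtype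
        K.subtype_injective)
  exact mem_normalizer_of_subgroupOf B K hBK ⟨x, hxK⟩ (h (h1 (Subgroup.mem_subgroupOf.2 hxP)))

theorem key.{v} (p : ℕ) [Fact p.Prime] : ∀ n : ℕ, ∀ (H : Type v) [Group H] [Finite H],
    Nat.card H = n → ∀ B : Subgroup H, B.IsSubnormal → Cfsg.pResidual p ↥B = ⊤ →
    Cfsg.pCore p H ≤ Subgroup.normalizer (B : Set H) := by
  intro n
  induction n using Nat.strong_induction_on with
  | _ n ih =>
    intro H _ _ hn B hBsn hB
    haveI hPn : (Cfsg.pCore p H).Normal := Cfsg.pCore_normal p _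
    by_cases hK : B ⊔ Cfsg.pCore p H = ⊤
    · by_cases hBtop : B = ⊤
      · rw [hBtop, Subgroup.normalizer_eq_top_iff.2 inferInstance]; exact le_top
      · obtain ⟨M, hMn, hBM, hMlt⟩ := hBsn.exists_normal_and_le_and_lt_top_of_ne hBtop
        haveI := hMn
        have hcard : Nat.card ↥M < n := by
          rw [← hn]
          by_contra hc
          push Not at hc
          exact hMlt.ne (Subgroup.eq_top_of_le_card M hc)
        have h1 := ih _ hcard ↥M rfl (B.subgroupOf M) hBsn.subgroupOf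
          (pres_top_subgroupOf p B M hBM hB)
        have h2 := pcore_inf_le_normalizer B M hBM h1
        have hdec : ∀ x ∈ M, ∃ b ∈ B, ∃ q ∈ M ⊓ Cfsg.pCore p H, x = b * q := by
          intro x hx
          have hx' : x ∈ ((B ⊔ Cfsg.pCore p H : Subgroup H) : Set H) := by
            rw [hK]; exact Set.mem_univ x
          rw [Subgroup.mul_normal] at hx'
          obtain ⟨b, hb, q, hq, hbq⟩ := Set.mem_mul.1 hx'
          refine ⟨b, hb, q, Subgroup.mem_inf.2 ⟨?_, hq⟩, hbq.symm⟩
          have e : q = b⁻¹ * x := by rw [← hbq]; group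
          rw [e]
          exact M.mul_mem (M.inv_mem (hBM hb)) hx
        have hMN : M ≤ Subgroup.normalizer (B : Set H) := by
          intro x hx
          obtain ⟨b, hb, q, hq, rfl⟩ := hdec x hx
          exact Subgroup.mul_mem _ (Subgroup.le_normalizer hb) (h2 hq)
        haveI hBMn : (B.subgroupOf M).Normal :=
          (Subgroup.normal_subgroupOf_iff_le_normalizer hBM).2 hMN
        have hPp : IsPGroup p ↥((Cfsg.pCore p H).subgroupOf M) :=
          (Cfsg.Agent.Lib.Helper3.Core.pCore_isPGroup (G := H) p).comap_of_injective M.subtype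
            M.subtype_injective
        have hsup : B.subgroupOf M ⊔ (Cfsg.pCore p H).subgroupOf M = ⊤ := by
          rw [eq_top_iff]
          intro x _
          obtain ⟨b, hb, q, hq, hbq⟩ := hdec x x.2
          have e : x = (⟨b, hBM hb⟩ : ↥M) * ⟨q, (Subgroup.mem_inf.1 hq).1⟩ := Subtype.ext hbq
          rw [e]
          exact Subgroup.mul_mem _
            ((le_sup_left : B.subgroupOf M ≤ _) (Subgroup.mem_subgroupOf.2 hb))
            ((le_sup_right : (Cfsg.pCore p H).subgroupOf M ≤ _)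
              (Subgroup.mem_subgroupOf.2 (Subgroup.mem_inf.1 hq).2))
        have h3 : Cfsg.pResidual p ↥M = B.subgroupOf M :=
          le_antisymm (pres_le_of_sup _ _ hPp hsup) (subgroupOf_le_pres p B M hBM hB)
        have h4 : (Cfsg.pResidual p ↥M).map M.subtype = B := by
          rw [h3, Subgroup.subgroupOf_map_subtype, inf_of_le_left hBM]
        have h5 : B.Normal := h4 ▸ pres_map_normal p M
        rw [Subgroup.normalizer_eq_top_iff.2 h5]; exact le_top
    · have hcard : Nat.card ↥(B ⊔ Cfsg.pCore p H) < n := by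
        rw [← hn]
        by_contra hc
        push Not at hc
        exact hK (Subgroup.eq_top_of_le_card _ hc)
      have h1 := ih _ hcard ↥(B ⊔ Cfsg.pCore p H) rfl (B.subgroupOf (B ⊔ Cfsg.pCore p H))
        hBsn.subgroupOf (pres_top_subgroupOf p B _ le_sup_left hB)
      have h2 := pcore_inf_le_normalizer B (B ⊔ Cfsg.pCore p H) le_sup_left h1
      rw [inf_of_le_right le_sup_right] at h2
      exact h2

theorem result {H : Type*} [Group H] [Finite H] {p : ℕ} [Fact p.Prime] (A B : Subgroup H) (hA : A.IsSubnormal) (hB : B.IsSubnormal) (hAp : IsPGroup p ↥A) (hBres : (Cfsg.pResidual p ↥B).map B.subtype = B) : A ≤ Subgroup.normalizer (B : Set H) ∧ (Cfsg.pResidual p ↥(A ⊔ B)).map (A ⊔ B).subtype = B := by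
  classical
  have hB' : Cfsg.pResidual p ↥B = ⊤ := by
    rw [eq_top_iff]
    intro b _
    have hb : (b : H) ∈ (Cfsg.pResidual p ↥B).map B.subtype := by rw [hBres]; exact b.2
    obtain ⟨b', hb', hbb⟩ := hb
    have e : b' = b := Subtype.ext hbb
    rw [← e]; exact hb'
  have h1 : A ≤ Subgroup.normalizer (B : Set H) :=
    (Cfsg.Agent.Lib.Helper2.Fit.sn_pgroup_le_pCore hA hAp).trans (key p _ H rfl B hB hB')
  refine ⟨h1, ?_⟩
  have hJ : A ⊔ B ≤ Subgroup.normalizer (B : Set H) := sup_le h1 Subgroup.le_normalizer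
  haveI hBn : (B.subgroupOf (A ⊔ B)).Normal :=
    (Subgroup.normal_subgroupOf_iff_le_normalizer le_sup_right).2 hJ
  have hAp' : IsPGroup p ↥(A.subgroupOf (A ⊔ B)) :=
    hAp.comap_of_injective (A ⊔ B).subtype (A ⊔ B).subtype_injective
  have hsup : B.subgroupOf (A ⊔ B) ⊔ A.subgroupOf (A ⊔ B) = ⊤ := by
    rw [← Subgroup.subgroupOf_sup le_sup_right le_sup_left, sup_comm, Subgroup.subgroupOf_self]
  have h3 : Cfsg.pResidual p ↥(A ⊔ B) = B.subgroupOf (A ⊔ B) :=
    le_antisymm (pres_le_of_sup _ _ hAp' hsup) (subgroupOf_le_pres p B _ le_sup_right hB')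
  rw [h3, Subgroup.subgroupOf_map_subtype, inf_of_le_left le_sup_right]

end Cfsg.Agent.S2820
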