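import Cfsg.Statements.S2821
import Mathlib
import Cfsg.Agent.Lib.Helper5.PRed
import Cfsg.Agent.Lib.Helper3.Core
import Cfsg.Agent.Lib.Helper2.Local2

set_option autoImplicit false
open Cfsg

namespace Cfsg.Agent.S2821

open Cfsg.Agent.Lib.Helper5.PRed

theorem result {H : Type*} [Group H] [Finite H] {p : ℕ} [Fact p.Prime] (T : Sylow p H) (L : Subgroup H) (hTL : (T : Subgroup H) ≤ L) (hL : Subgroup.centralizer (Cfsg.pCore p ↥L : Set ↥L) ≤ Cfsg.pCore p ↥L) (T₀ : Subgroup H) (hT₀ : T₀ = (T : Subgroup H) ⊓ Subgroup.centralizer (((Cfsg.largestPReducedOf p L) : Subgroup H) : Set H)) : (∃ P : Sylow p ↥(Subgroup.centralizer (((Cfsg.largestPReducedOf p L) : Subgroup H) : Set H)), (P : Subgroup ↥(Subgroup.centralizer (((Cfsg.largestPReducedOf p L) : Subgroup H) : Set H))) = T₀.subgroupOf (Subgroup.centralizer (((Cfsg.largestPReducedOf p L) : Subgroup H) : Set H))) ∧ (Cfsg.pCoreOf p L) ≤ T₀ ∧ T₀ ≤ L ⊓ Subgroup.centralizer (((Cfsg.largestPReducedOf p L) : Subgroup H)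 : Set H) ∧ (Cfsg.omegaOne p ((T : Subgroup H) ⊓ Subgroup.centralizer (((T : Subgroup H) : Subgroup H) : Set H))) ≤ Cfsg.sylowCenterClosure p L ∧ Cfsg.sylowCenterClosure p L ≤ (Cfsg.largestPReducedOf p L) ∧ (Cfsg.largestPReducedOf p L) ≤ (Cfsg.omegaOne p ((Cfsg.pCoreOf p L) ⊓ Subgroup.centralizer (((Cfsg.pCoreOf p L) : Subgroup H) : Set H))) := by
  classical
  subst hT₀
  set Y := Cfsg.largestPReduced p ↥L with hY
  have hYL : Cfsg.largestPReducedOf p L = Y.map L.subtype := rfl
  have hYred := largest_reduced hL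
  have hYn : Y.Normal := hYred.1
  have h6 : Cfsg.largestPReducedOf p L ≤ Cfsg.omegaOne p (Cfsg.pCoreOf p L ⊓
      Subgroup.centralizer ((Cfsg.pCoreOf p L : Subgroup H) : Set H)) := by
    rw [hYL]
    unfold Cfsg.pCoreOf
    rw [← omega_map]
    exact Subgroup.map_mono (largest_le_omega hL)
  have hOC : Cfsg.pCoreOf p L ≤ Subgroup.centralizer ((Cfsg.largestPReducedOf p L : Subgroup H) : Set H) := by
    rw [Subgroup.le_centralizer_iff]
    intro y hy
    exact ((mem_omega_iff p _ y).1 (h6 hy)).1.2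
  have hOT : Cfsg.pCoreOf p L ≤ (T : Subgroup H) := by
    have h1 := Cfsg.Agent.Lib.Helper3.Core.pCore_le_sylow (T.subtype hTL)
    rw [Sylow.coe_subtype] at h1
    rintro _ ⟨x, hx, rfl⟩
    exact Subgroup.mem_subgroupOf.1 (h1 hx)
  have h4 : Cfsg.omegaOne p ((T : Subgroup H) ⊓ Subgroup.centralizer ((T : Subgroup H) : Set H)) ≤
      Cfsg.sylowCenterClosure p L := by
    unfold Cfsg.sylowCenterClosure
    have e : ((T.subtype hTL : Sylow p ↥L) : Subgroup ↥L).map L.subtype = (T : Subgroup H) := by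
      rw [Sylow.coe_subtype, Subgroup.subgroupOf_map_subtype, inf_of_le_left hTL]
    have h := le_iSup (fun S : Sylow p ↥L => Cfsg.omegaOne p (((S : Subgroup ↥L).map L.subtype) ⊓
      Subgroup.centralizer (((S : Subgroup ↥L).map L.subtype : Subgroup H) : Set H))) (T.subtype hTL)
    simp only [e] at h
    exact h
  have h5 : Cfsg.sylowCenterClosure p L ≤ Cfsg.largestPReducedOf p L := by
    unfold Cfsg.sylowCenterClosure
    apply iSup_le
    intro S
    rw [← omega_map, hYL]
    exact Subgroup.map_mono (omega_sylow_le hL S)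
  have hTN : (T : Subgroup H) ≤ Subgroup.normalizer
      ((Subgroup.centralizer ((Cfsg.largestPReducedOf p L : Subgroup H) : Set H) : Subgroup H) : Set H) := by
    refine hTL.trans ((le_normalizer_map_subtype L Y hYn).trans ?_)
    rw [hYL]
    exact Cfsg.Agent.Lib.Helper2.Local2.normalizer_le_normalizer_centralizer _
  refine ⟨sylow_inf_of_le_normalizer T _ hTN, le_inf hOT hOC, ?_, h4, h5, h6⟩
  exact le_inf (inf_le_left.trans hTL) inf_le_right

end Cfsg.Agent.S2821
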