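import Cfsg.Statements.S2822
import Mathlib
import Cfsg.Agent.Lib.Helper5.PRed
import Cfsg.Agent.Lib.Helper3.Core

set_option autoImplicit false
open Cfsg

namespace Cfsg.Agent.S2822

open Cfsg.Agent.Lib.Helper5.PRed

theorem pcore_bot_equiv {A B : Type*} [Group A] [Group B] {p : ℕ} (e : A ≃* B)
    (h : Cfsg.pCore p A = ⊥) : Cfsg.pCore p B = ⊥ := by
  rw [eq_bot_iff]
  apply sSup_le
  rintro N ⟨hN1, hN2⟩
  have h1 : N.comap e.toMonoidHom ≤ Cfsg.pCore p A :=
    Cfsg.Agent.Lib.Helper3.Core.le_pCore _ (hN1.comap _)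
      (hN2.comap_of_injective e.toMonoidHom e.injective)
  rw [h] at h1
  rw [← Subgroup.map_comap_eq_self_of_surjective (f := e.toMonoidHom) e.surjective N]
  rw [le_bot_iff.1 h1, Subgroup.map_bot]

theorem core_quot_iff {H : Type*} [Group H] {p : ℕ} (Y : Subgroup H) (K : Subgroup H)
    (hK : K ≤ Subgroup.normalizer (Y : Set H)) (W : Subgroup ↥K) (hW : W.map K.subtype = Y)
    (hn : (Subgroup.centralizer (W : Set ↥K)).Normal) :
    Cfsg.pCore p (↥K ⧸ Subgroup.centralizer (W : Set ↥K)) = ⊥ ↔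
      Cfsg.pCore p ↥((K.subgroupOf (Subgroup.normalizer (Y : Set H))).map
        (QuotientGroup.mk' ((Subgroup.centralizer (Y : Set H)).subgroupOf
          (Subgroup.normalizer (Y : Set H))))) = ⊥ := by
  set ψ : ↥K →* ↥(Subgroup.normalizer (Y : Set H)) ⧸
      ((Subgroup.centralizer (Y : Set H)).subgroupOf (Subgroup.normalizer (Y : Set H))) :=
    (QuotientGroup.mk' _).comp (Subgroup.inclusion hK) with hψ
  have hker : ψ.ker = Subgroup.centralizer (W : Set ↥K) := by
    ext k
    rw [MonoidHom.mem_ker]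
    show (QuotientGroup.mk (Subgroup.inclusion hK k) : _ ⧸ _) = 1 ↔ _
    rw [QuotientGroup.eq_one_iff, Subgroup.mem_subgroupOf, Subgroup.mem_centralizer_iff,
      Subgroup.mem_centralizer_iff]
    constructor
    · intro h w hw
      apply Subtype.ext
      exact h (w : H) (hW ▸ ⟨w, hw, rfl⟩)
    · intro h y hy
      rw [← hW] at hy
      obtain ⟨w, hw, rfl⟩ := hy
      exact congrArg Subtype.val (h w hw)
  have hrange : ψ.range = (K.subgroupOf (Subgroup.normalizer (Y : Set H))).map
      (QuotientGroup.mk' ((Subgroup.centralizer (Y : Set H)).subgroupOf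
        (Subgroup.normalizer (Y : Set H)))) := by
    ext q
    constructor
    · rintro ⟨k, rfl⟩
      exact ⟨Subgroup.inclusion hK k, Subgroup.mem_subgroupOf.2 k.2, rfl⟩
    · rintro ⟨g, hg, rfl⟩
      exact ⟨⟨g, Subgroup.mem_subgroupOf.1 hg⟩, rfl⟩
  haveI := hn
  have e : (↥K ⧸ Subgroup.centralizer (W : Set ↥K)) ≃*
      ↥((K.subgroupOf (Subgroup.normalizer (Y : Set H))).map
        (QuotientGroup.mk' ((Subgroup.centralizer (Y : Set H)).subgroupOf
          (Subgroup.normalizer (Y : Set H))))) :=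
    (QuotientGroup.quotientMulEquivOfEq hker.symm).trans
      ((QuotientGroup.quotientKerEquivRange ψ).trans (MulEquiv.subgroupCongr hrange))
  exact ⟨pcore_bot_equiv e, pcore_bot_equiv e.symm⟩

theorem result {H : Type*} [Group H] [Finite H] {p : ℕ} [Fact p.Prime] (T : Sylow p H) (L M : Subgroup H) (hTL : (T : Subgroup H) ≤ L) (hTM : (T : Subgroup H) ≤ M) (hL : Subgroup.centralizer (Cfsg.pCore p ↥L : Set ↥L) ≤ Cfsg.pCore p ↥L) (hM : Subgroup.centralizer (Cfsg.pCore p ↥M : Set ↥M) ≤ Cfsg.pCore p ↥M) : L ⊔ Subgroup.centralizer (((Cfsg.largestPReducedOf p M) : Subgroup H) : Set H) = M ⊔ Subgroup.centralizer (((Cfsg.largestPReducedOf p M) : Subgroup H) : Set H) → (Cfsg.largestPReducedOf p M) ≤ (Cfsg.largestPReducedOf p L) := by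
  classical
  intro heq
  set Y' := Cfsg.largestPReduced p ↥M with hY'
  set Y := Cfsg.largestPReducedOf p M with hYdef
  have hYmap : Y'.map M.subtype = Y := rfl
  obtain ⟨hY'n, ⟨hY'c, hY'e⟩, hC'n, hbot⟩ := largest_reduced hM
  have hYT : Y ≤ (T : Subgroup H) := by
    have h6 : Y ≤ Cfsg.omegaOne p (Cfsg.pCoreOf p M ⊓
        Subgroup.centralizer ((Cfsg.pCoreOf p M : Subgroup H) : Set H)) := by
      rw [← hYmap]
      unfold Cfsg.pCoreOf
      rw [← omega_map]
      exact Subgroup.map_mono (largest_le_omega hM)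
    have hOT : Cfsg.pCoreOf p M ≤ (T : Subgroup H) := by
      have h1 := Cfsg.Agent.Lib.Helper3.Core.pCore_le_sylow (T.subtype hTM)
      rw [Sylow.coe_subtype] at h1
      rintro _ ⟨x, hx, rfl⟩
      exact Subgroup.mem_subgroupOf.1 (h1 hx)
    intro y hy
    exact hOT ((mem_omega_iff p _ y).1 (h6 hy)).1.1
  have hYL : Y ≤ L := hYT.trans hTL
  have hMN : M ≤ Subgroup.normalizer (Y : Set H) := le_normalizer_map_subtype M Y' hY'n
  have hCN : Subgroup.centralizer (Y : Set H) ≤ Subgroup.normalizer (Y : Set H) :=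
    Subgroup.centralizer_le_normalizer _
  have hLN : L ≤ Subgroup.normalizer (Y : Set H) :=
    le_sup_left.trans (heq ▸ sup_le hMN hCN)
  set W : Subgroup ↥L := Y.subgroupOf L with hW
  have hWmap : W.map L.subtype = Y := by
    rw [hW, Subgroup.subgroupOf_map_subtype, inf_of_le_left hYL]
  have hWn : W.Normal := (Subgroup.normal_subgroupOf_iff_le_normalizer hYL).2 hLN
  have hCWn : (Subgroup.centralizer (W : Set ↥L)).Normal := by
    haveI := hWn; infer_instance
  have himg : (L.subgroupOf (Subgroup.normalizer (Y : Set H))).map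
      (QuotientGroup.mk' ((Subgroup.centralizer (Y : Set H)).subgroupOf
        (Subgroup.normalizer (Y : Set H)))) =
      (M.subgroupOf (Subgroup.normalizer (Y : Set H))).map
      (QuotientGroup.mk' ((Subgroup.centralizer (Y : Set H)).subgroupOf
        (Subgroup.normalizer (Y : Set H)))) := by
    have e1 : ∀ K : Subgroup H, K ≤ Subgroup.normalizer (Y : Set H) →
        (K.subgroupOf (Subgroup.normalizer (Y : Set H))).map
          (QuotientGroup.mk' ((Subgroup.centralizer (Y : Set H)).subgroupOf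
            (Subgroup.normalizer (Y : Set H)))) =
        ((K ⊔ Subgroup.centralizer (Y : Set H)).subgroupOf (Subgroup.normalizer (Y : Set H))).map
          (QuotientGroup.mk' ((Subgroup.centralizer (Y : Set H)).subgroupOf
            (Subgroup.normalizer (Y : Set H)))) := by
      intro K hK
      rw [Subgroup.subgroupOf_sup hK hCN, Subgroup.map_sup]
      have e2 : (((Subgroup.centralizer (Y : Set H)).subgroupOf
          (Subgroup.normalizer (Y : Set H)))).map
          (QuotientGroup.mk' ((Subgroup.centralizer (Y : Set H)).subgroupOf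
            (Subgroup.normalizer (Y : Set H)))) = ⊥ := by
        rw [eq_bot_iff]
        rintro _ ⟨c, hc, rfl⟩
        rw [Subgroup.mem_bot]
        exact (QuotientGroup.eq_one_iff c).2 hc
      rw [e2, sup_bot_eq]
    rw [e1 L hLN, e1 M hMN, heq]
  have h1 := (core_quot_iff Y M hMN Y' hYmap hC'n).1 hbot
  rw [← himg] at h1
  have h2 := (core_quot_iff Y L hLN W hWmap hCWn).2 h1
  have hWred : Cfsg.IsPReducedNormal p W := by
    refine ⟨hWn, ⟨?_, ?_⟩, hCWn, h2⟩
    · constructor
      constructor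
      intro a b
      have ha : ((a : ↥L) : H) ∈ Y'.map M.subtype := Subgroup.mem_subgroupOf.1 a.2
      have hb : ((b : ↥L) : H) ∈ Y'.map M.subtype := Subgroup.mem_subgroupOf.1 b.2
      obtain ⟨a', ha', haa⟩ := ha
      obtain ⟨b', hb', hbb⟩ := hb
      have hc := hY'c.is_comm.comm (⟨a', ha'⟩ : ↥Y') ⟨b', hb'⟩
      have hc' : (a' : H) * (b' : H) = (b' : H) * (a' : H) :=
        congrArg (fun z : ↥Y' => ((z : ↥M) : H)) hc
      apply Subtype.ext
      apply Subtype.ext
      show ((a : ↥L) : H) * ((b : ↥L) : H) = ((b : ↥L) : H) * ((a : ↥L) : H)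
      rw [← haa, ← hbb]
      exact hc'
    · intro a ha
      have ha2 : (a : H) ∈ Y'.map M.subtype := Subgroup.mem_subgroupOf.1 ha
      obtain ⟨a', ha', haa⟩ := ha2
      have h3 := hY'e a' ha'
      apply Subtype.ext
      have h4 : ((a' ^ p : ↥M) : H) = 1 := by rw [h3]; rfl
      rw [Subgroup.coe_pow] at h4
      rw [Subgroup.coe_pow, ← haa]
      exact h4
  calc Y = W.map L.subtype := hWmap.symm
    _ ≤ Cfsg.largestPReducedOf p L := Subgroup.map_mono (le_largest W hWred)

end Cfsg.Agent.S2822
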