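import Cfsg.Statements.S2823
import Mathlib
import Cfsg.Agent.Lib.Helper5.PRed
import Cfsg.Agent.Lib.Helper3.Core
import Cfsg.Agent.Lib.Helper3.Residual
import Cfsg.Agent.Lib.Helper1.Nil
import Cfsg.Agent.S2821
import Cfsg.Agent.S2819
import Cfsg.Agent.S0028

set_option autoImplicit false
open Cfsg

namespace Cfsg.Agent.S2823

open Cfsg.Agent.Lib.Helper5.PRed
open scoped commutatorElement

open scoped IsMulCommutative in
theorem avg {H : Type*} [Group H] [Finite H] (L : Subgroup H) (S : Subgroup ↥L) (V W : Subgroup H)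
    [IsMulCommutative ↥V]
    (hVn : ∀ g ∈ L, ∀ v ∈ V, g * v * g⁻¹ ∈ V)
    (hcomm : ∀ v ∈ V, ∀ g ∈ L, g * v * g⁻¹ * v⁻¹ ∈ W)
    (z : H) (hzV : z ∈ V) (hzS : ∀ s ∈ S, (s : H) * z = z * (s : H)) :
    ∃ c ∈ V, (∀ g ∈ L, g * c * g⁻¹ = c) ∧ c * (z ^ S.index)⁻¹ ∈ W := by
  classical
  letI : Fintype (↥L ⧸ S) := Fintype.ofFinite _
  let F : ↥L ⧸ S → ↥V := fun q => ⟨(q.out : H) * z * (q.out : H)⁻¹, hVn _ q.out.2 z hzV⟩
  have key : ∀ g : ↥L, ((F (QuotientGroup.mk g) : ↥V) : H) = (g : H) * z * (g : H)⁻¹ := by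
    intro g
    obtain ⟨s, hs⟩ := QuotientGroup.mk_out_eq_mul S g
    show ((QuotientGroup.mk g : ↥L ⧸ S).out : H) * z * ((QuotientGroup.mk g : ↥L ⧸ S).out : H)⁻¹ = _
    rw [hs, Subgroup.coe_mul]
    have h1 := hzS s s.2
    calc (g : H) * ((s : ↥L) : H) * z * ((g : H) * ((s : ↥L) : H))⁻¹
        = (g : H) * (((s : ↥L) : H) * z) * ((s : ↥L) : H)⁻¹ * (g : H)⁻¹ := by group
      _ = (g : H) * (z * ((s : ↥L) : H)) * ((s : ↥L) : H)⁻¹ * (g : H)⁻¹ := by rw [h1]
      _ = (g : H) * z * (g : H)⁻¹ := by group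
  refine ⟨((∏ q, F q : ↥V) : H), (∏ q, F q : ↥V).2, ?_, ?_⟩
  · intro g hg
    let φ : ↥V →* ↥V :=
      { toFun := fun v => ⟨g * (v : H) * g⁻¹, hVn g hg v v.2⟩
        map_one' := by apply Subtype.ext; simp
        map_mul' := by intro a b; apply Subtype.ext; simp }
    have h1 : φ (∏ q, F q) = ∏ q, φ (F q) := map_prod φ F Finset.univ
    have h2 : ∏ q, φ (F q) = ∏ q, F q := by
      apply Fintype.prod_bijective (fun q : ↥L ⧸ S => (⟨g, hg⟩ : ↥L) • q) (MulAction.bijective _)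
      intro q
      obtain ⟨a, rfl⟩ := QuotientGroup.mk_surjective q
      apply Subtype.ext
      show g * ((F (QuotientGroup.mk a) : ↥V) : H) * g⁻¹ =
        ((F ((⟨g, hg⟩ : ↥L) • (QuotientGroup.mk a : ↥L ⧸ S)) : ↥V) : H)
      have e : ((⟨g, hg⟩ : ↥L) • (QuotientGroup.mk a : ↥L ⧸ S)) =
          QuotientGroup.mk ((⟨g, hg⟩ : ↥L) * a) := rfl
      rw [e, key, key, Subgroup.coe_mul]
      group
    have h3 := congrArg (fun v : ↥V => (v : H)) (h1.trans h2)
    exact h3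
  · have h1 : (∏ q, F q) * (⟨z, hzV⟩ : ↥V)⁻¹ ^ (Fintype.card (↥L ⧸ S)) =
        ∏ q, (F q * (⟨z, hzV⟩ : ↥V)⁻¹) := by
      rw [Finset.prod_mul_distrib, Finset.prod_const, Finset.card_univ]
    have h2 : ∏ q, (F q * (⟨z, hzV⟩ : ↥V)⁻¹) ∈ W.subgroupOf V := by
      apply Subgroup.prod_mem
      intro q _
      rw [Subgroup.mem_subgroupOf]
      exact hcomm z hzV _ q.out.2
    rw [← h1, Subgroup.mem_subgroupOf] at h2
    have e : Fintype.card (↥L ⧸ S) = S.index := by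
      rw [Subgroup.index, Nat.card_eq_fintype_card]
    rw [e] at h2
    simpa using h2

theorem result {H : Type*} [Group H] [Finite H] {p : ℕ} [Fact p.Prime] (T : Sylow p H) (L : Subgroup H) (hTL : (T : Subgroup H) ≤ L) (hL : Subgroup.centralizer (Cfsg.pCore p ↥L : Set ↥L) ≤ Cfsg.pCore p ↥L) : Cfsg.sylowCenterClosure p L = (Cfsg.omegaOne p (L ⊓ Subgroup.centralizer ((L : Subgroup H) : Set H))) ⊔ ⁅Cfsg.sylowCenterClosure p L, (Cfsg.pResidual p ↥L).map L.subtype⁆ ∧ ⁅Cfsg.sylowCenterClosure p L, L⁆ = ⁅Cfsg.sylowCenterClosure p L, (Cfsg.pResidual p ↥L).map L.subtype⁆ := by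
  classical
  have hp : p.Prime := Fact.out
  obtain ⟨V, hV⟩ : ∃ V, V = Cfsg.sylowCenterClosure p L := ⟨_, rfl⟩
  obtain ⟨R, hR⟩ : ∃ R, R = (Cfsg.pResidual p ↥L).map L.subtype := ⟨_, rfl⟩
  obtain ⟨W, hW⟩ : ∃ W : Subgroup H, W = ⁅V, R⁆ := ⟨_, rfl⟩
  rw [← hV, ← hR, ← hW]
  obtain ⟨-, -, -, h4, h5, -⟩ := Cfsg.Agent.S2821.result T L hTL hL _ rfl
  rw [← hV] at h4 h5
  obtain ⟨hY'n, ⟨hY'c, hY'e⟩, -, -⟩ := largest_reduced hL
  have hVL : V ≤ L := h5.trans (Subgroup.map_subtype_le _)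
  have hVcomm : ∀ a ∈ V, ∀ b ∈ V, a * b = b * a := by
    intro a ha b hb
    obtain ⟨a', ha', rfl⟩ := h5 ha
    obtain ⟨b', hb', rfl⟩ := h5 hb
    have hc := hY'c.is_comm.comm (⟨a', ha'⟩ : ↥(Cfsg.largestPReduced p ↥L)) ⟨b', hb'⟩
    exact congrArg (fun z : ↥(Cfsg.largestPReduced p ↥L) => ((z : ↥L) : H)) hc
  have hVexp : ∀ a ∈ V, a ^ p = 1 := by
    intro a ha
    obtain ⟨a', ha', rfl⟩ := h5 ha
    have h3 := hY'e a' ha'
    have h4' : ((a' ^ p : ↥L) : H) = 1 := by rw [h3]; rfl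
    simpa using h4'
  obtain ⟨V₀, hV₀⟩ : ∃ V₀ : Subgroup ↥L, V₀ = ⨆ S : Sylow p ↥L, Cfsg.omegaOne p
      ((S : Subgroup ↥L) ⊓ Subgroup.centralizer ((S : Subgroup ↥L) : Set ↥L)) := ⟨_, rfl⟩
  have hVV₀ : V = V₀.map L.subtype := by
    rw [hV₀, Subgroup.map_iSup, hV]
    unfold Cfsg.sylowCenterClosure
    congr 1
    funext S
    rw [omega_map]
  have hV₀n : V₀.Normal := by
    constructor
    intro n hn g
    have h1 : V₀.map (MulAut.conj g).toMonoidHom ≤ V₀ := by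
      rw [hV₀, Subgroup.map_iSup]
      apply iSup_le
      intro S
      refine le_trans ?_ (le_iSup _ (g • S))
      rintro _ ⟨x, hx, rfl⟩
      rw [SetLike.mem_coe, mem_omega_iff] at hx
      rw [mem_omega_iff]
      obtain ⟨⟨hxS, hxC⟩, hxp⟩ := hx
      simp only [MulEquiv.coe_toMonoidHom, MulAut.conj_apply]
      refine ⟨⟨?_, ?_⟩, ?_⟩
      · show g * x * g⁻¹ ∈ g • S
        rw [Cfsg.Agent.Lib.Helper1.sylow_smul_mem_iff]
        have e : g⁻¹ * (g * x * g⁻¹) * g = x := by group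
        rw [e]; exact hxS
      · rw [Subgroup.mem_centralizer_iff]
        intro y hy
        have hy' : y ∈ g • S := hy
        rw [Cfsg.Agent.Lib.Helper1.sylow_smul_mem_iff] at hy'
        have h2 := Subgroup.mem_centralizer_iff.1 hxC _ hy'
        calc y * (g * x * g⁻¹) = g * ((g⁻¹ * y * g) * x) * g⁻¹ := by group
          _ = g * (x * (g⁻¹ * y * g)) * g⁻¹ := by rw [h2]
          _ = g * x * g⁻¹ * y := by group
      · rw [conj_pow, hxp]; group
    have h2 := h1 ⟨n, hn, rfl⟩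
    simpa using h2
  have hRL : R ≤ L := by rw [hR]; exact Subgroup.map_subtype_le _
  have hRn0 : (Cfsg.pResidual p ↥L).Normal := Cfsg.Agent.Lib.Helper3.Residual.pResidual_normal p
  have hLNR : L ≤ Subgroup.normalizer (R : Set H) := by
    rw [hR]; exact le_normalizer_map_subtype L _ hRn0
  have hLNV : L ≤ Subgroup.normalizer (V : Set H) := by
    rw [hVV₀]; exact le_normalizer_map_subtype L V₀ hV₀n
  have hLNW : L ≤ Subgroup.normalizer (W : Set H) := by
    intro l hl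
    rw [hW]
    exact Cfsg.Agent.S0028.mem_normalizer_commutator V R l (hLNV hl) (hLNR hl)
  have hWV : W ≤ V := by
    rw [hW, Subgroup.commutator_le]
    intro v hv r hr
    have e : ⁅v, r⁆ = v * (r * v⁻¹ * r⁻¹) := by rw [commutatorElement_def]; group
    rw [e]
    exact V.mul_mem hv ((Subgroup.mem_normalizer_iff.1 (hLNV (hRL hr)) v⁻¹).1 (V.inv_mem hv))
  have hdecomp : ∀ S : Sylow p ↥L, ∀ l ∈ L, ∃ r ∈ R, ∃ s : ↥L, s ∈ S ∧ l = r * (s : H) := by
    intro S l hl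
    have h1 := Cfsg.Agent.Lib.Helper3.Residual.sup_pResidual_eq_top (S : Subgroup ↥L) S.not_dvd_index
    have hx : (⟨l, hl⟩ : ↥L) ∈ ((Cfsg.pResidual p ↥L ⊔ (S : Subgroup ↥L) : Subgroup ↥L) : Set ↥L) := by
      rw [sup_comm, h1]; exact Set.mem_univ _
    haveI := hRn0
    rw [Subgroup.normal_mul] at hx
    obtain ⟨r, hr, s, hs, hrs⟩ := Set.mem_mul.1 hx
    refine ⟨(r : H), ?_, s, hs, ?_⟩
    · rw [hR]; exact ⟨r, hr, rfl⟩
    · have := congrArg Subtype.val hrs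
      simpa using this.symm
  have hZV : ∀ S : Sylow p ↥L, Cfsg.omegaOne p (((S : Subgroup ↥L).map L.subtype) ⊓
      Subgroup.centralizer (((S : Subgroup ↥L).map L.subtype : Subgroup H) : Set H)) ≤ V := by
    intro S
    rw [hV]
    unfold Cfsg.sylowCenterClosure
    exact le_iSup (fun S : Sylow p ↥L => Cfsg.omegaOne p (((S : Subgroup ↥L).map L.subtype) ⊓
      Subgroup.centralizer (((S : Subgroup ↥L).map L.subtype : Subgroup H) : Set H))) S
  have hgen : ∀ S : Sylow p ↥L, ∀ z, z ∈ Cfsg.omegaOne p (((S : Subgroup ↥L).map L.subtype) ⊓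
      Subgroup.centralizer (((S : Subgroup ↥L).map L.subtype : Subgroup H) : Set H)) →
      ∀ l ∈ L, ⁅l, z⁆ ∈ W := by
    intro S z hz l hl
    have hzV : z ∈ V := hZV S hz
    obtain ⟨⟨hzS, hzC⟩, hzp⟩ := (mem_omega_iff p _ z).1 hz
    obtain ⟨r, hr, s, hs, rfl⟩ := hdecomp S l hl
    have hsz : (s : H) * z = z * (s : H) :=
      Subgroup.mem_centralizer_iff.1 hzC (s : H) ⟨s, hs, rfl⟩
    have e : ⁅r * (s : H), z⁆ = (⁅z, r⁆)⁻¹ := by
      rw [commutatorElement_def, commutatorElement_def]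
      calc r * (s : H) * z * (r * (s : H))⁻¹ * z⁻¹
          = r * ((s : H) * z) * (s : H)⁻¹ * r⁻¹ * z⁻¹ := by group
        _ = r * (z * (s : H)) * (s : H)⁻¹ * r⁻¹ * z⁻¹ := by rw [hsz]
        _ = (z * r * z⁻¹ * r⁻¹)⁻¹ := by group
    rw [e, hW]
    exact Subgroup.inv_mem _ (Subgroup.commutator_mem_commutator hzV hr)
  have hVK : V ≤ Cfsg.Agent.S2819.kD L W := by
    have h1 : Cfsg.sylowCenterClosure p L ≤ Cfsg.Agent.S2819.kD L W := by
      unfold Cfsg.sylowCenterClosure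
      apply iSup_le
      intro S z hz
      exact ⟨hLNW (hVL (hZV S hz)), fun e he => hgen S z hz e he⟩
    rw [hV]; exact h1
  have hcomm : ∀ v ∈ V, ∀ g ∈ L, g * v * g⁻¹ * v⁻¹ ∈ W := fun v hv g hg => (hVK hv).2 g hg
  have hsecond : ⁅V, L⁆ = W := by
    apply le_antisymm
    · rw [Subgroup.commutator_le]
      intro v hv l hl
      have h1 := W.inv_mem (hcomm v hv l hl)
      have e : ⁅v, l⁆ = (l * v * l⁻¹ * v⁻¹)⁻¹ := by rw [commutatorElement_def]; group
      rw [e]; exact h1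
    · rw [hW]; exact Subgroup.commutator_mono le_rfl hRL
  refine ⟨?_, hsecond⟩
  apply le_antisymm
  · have h1 : Cfsg.sylowCenterClosure p L ≤
        Cfsg.omegaOne p (L ⊓ Subgroup.centralizer ((L : Subgroup H) : Set H)) ⊔ W := by
      unfold Cfsg.sylowCenterClosure
      apply iSup_le
      intro S z hz
      have hzV : z ∈ V := hZV S hz
      obtain ⟨⟨hzS, hzC⟩, hzp⟩ := (mem_omega_iff p _ z).1 hz
      haveI : IsMulCommutative ↥V := ⟨⟨fun a b => Subtype.ext (hVcomm a a.2 b b.2)⟩⟩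
      obtain ⟨c, hcV, hcL, hcW⟩ := avg L (S : Subgroup ↥L) V W
        (fun g hg v hv => (Subgroup.mem_normalizer_iff.1 (hLNV hg) v).1 hv) hcomm z hzV
        (fun s hs => Subgroup.mem_centralizer_iff.1 hzC (s : H) ⟨s, hs, rfl⟩)
      have hcΩ : c ∈ Cfsg.omegaOne p (L ⊓ Subgroup.centralizer ((L : Subgroup H) : Set H)) := by
        rw [mem_omega_iff]
        refine ⟨⟨hVL hcV, ?_⟩, hVexp c hcV⟩
        rw [Subgroup.mem_centralizer_iff]
        intro g hg
        have h2 := hcL g hg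
        calc g * c = g * c * g⁻¹ * g := by group
          _ = c * g := by rw [h2]
      have hzn : z ^ (S : Subgroup ↥L).index ∈
          Cfsg.omegaOne p (L ⊓ Subgroup.centralizer ((L : Subgroup H) : Set H)) ⊔ W := by
        have e : z ^ (S : Subgroup ↥L).index =
            (c * (z ^ (S : Subgroup ↥L).index)⁻¹)⁻¹ * c := by group
        rw [e]
        exact Subgroup.mul_mem _ ((le_sup_right : W ≤ _) (W.inv_mem hcW))
          ((le_sup_left : _ ≤ Cfsg.omegaOne p (L ⊓ Subgroup.centralizer ((L : Subgroup H) : Set H)) ⊔ W) hcΩ)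
      have hcop : Nat.Coprime (S : Subgroup ↥L).index (orderOf z) := by
        have h1 : orderOf z ∣ p := orderOf_dvd_of_pow_eq_one hzp
        have h2 : Nat.Coprime (S : Subgroup ↥L).index p :=
          ((Nat.Prime.coprime_iff_not_dvd hp).2 S.not_dvd_index).symm
        exact Nat.Coprime.coprime_dvd_right h1 h2
      obtain ⟨m, hm⟩ := exists_pow_eq_self_of_coprime hcop
      rw [← hm]; exact Subgroup.pow_mem _ hzn m
    rw [hV]; exact h1
  · refine sup_le ?_ hWV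
    intro a ha
    obtain ⟨⟨haL, haC⟩, hap⟩ := (mem_omega_iff p L a).1 ha
    apply h4
    rw [mem_omega_iff]
    refine ⟨⟨?_, Subgroup.centralizer_le hTL haC⟩, hap⟩
    have hn : (Subgroup.zpowers (⟨a, haL⟩ : ↥L)).Normal := by
      constructor
      intro x hx g
      have hgx : g * x * g⁻¹ = x := by
        obtain ⟨k, rfl⟩ := Subgroup.mem_zpowers_iff.1 hx
        have hc : Commute g (⟨a, haL⟩ : ↥L) :=
          Subtype.ext (Subgroup.mem_centralizer_iff.1 haC (g : H) g.2)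
        have h2 := (hc.zpow_right k).eq
        rw [h2]; group
      rw [hgx]; exact hx
    have hpg : IsPGroup p (Subgroup.zpowers (⟨a, haL⟩ : ↥L)) := by
      rintro ⟨x, hx⟩
      obtain ⟨k, rfl⟩ := Subgroup.mem_zpowers_iff.1 hx
      refine ⟨1, Subtype.ext ?_⟩
      show ((⟨a, haL⟩ : ↥L) ^ k) ^ p ^ 1 = 1
      have hap' : (⟨a, haL⟩ : ↥L) ^ p = 1 := Subtype.ext (by simpa using hap)
      rw [pow_one, ← zpow_natCast, ← zpow_mul, mul_comm, zpow_mul, zpow_natCast, hap', one_zpow]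
    have h1 := (Cfsg.Agent.Lib.Helper3.Core.le_pCore _ hn hpg).trans
      (Cfsg.Agent.Lib.Helper3.Core.pCore_le_sylow (T.subtype hTL))
    have h2 := h1 (Subgroup.mem_zpowers _)
    rw [Sylow.coe_subtype, Subgroup.mem_subgroupOf] at h2
    exact h2

end Cfsg.Agent.S2823
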