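import Cfsg.Statements.S2826
import Mathlib
import Cfsg.Agent.Lib.Helper3.Residual

set_option autoImplicit false
open Cfsg

namespace Cfsg.Agent.S2826

open scoped IsMulCommutative commutatorElement
open Cfsg.Agent.Lib.Helper3.Residual

theorem result {H : Type*} [Group H] [Finite H] {p : ℕ} [Fact p.Prime] (hH : Subgroup.centralizer (Cfsg.pCore p H : Set H) ≤ Cfsg.pCore p H) (T : Sylow p H) (V : Subgroup H) [V.Normal] (hV : Cfsg.IsElementaryAbelian p V) (hZV : (Cfsg.omegaOne p ((T : Subgroup H) ⊓ Subgroup.centralizer (((T : Subgroup H) : Subgroup H) : Set H))) ≤ V) : Subgroup.centralizer ((Cfsg.omegaOne p ((T : Subgroup H) ⊓ Subgroup.centralizer (((T : Subgroup H) : Subgroup H) : Set H))) : Set H) = Subgroup.centralizer (((⁅V, Cfsg.pResidual p H⁆ ⊓ (Cfsg.omegaOne p ((T : Subgroup H) ⊓ Subgroup.centralizer (((T : Subgroup H) : Subgroup H) : Set H)))) : Subgroup H) : Set H) := by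
  classical
  haveI : IsMulCommutative V := hV.1
  obtain ⟨Z, hZ⟩ : ∃ Z : Subgroup H, Z = Cfsg.omegaOne p ((T : Subgroup H) ⊓
      Subgroup.centralizer (((T : Subgroup H) : Subgroup H) : Set H)) := ⟨_, rfl⟩
  obtain ⟨R, hR⟩ : ∃ R : Subgroup H, R = Cfsg.pResidual p H := ⟨_, rfl⟩
  rw [← hZ, ← hR]
  rw [← hZ] at hZV
  have hVp : IsPGroup p V := by
    intro v
    exact ⟨1, by apply Subtype.ext; simpa using hV.2 v v.2⟩
  apply le_antisymm
  · exact Subgroup.centralizer_le (fun z hz => hz.2)
  · intro x hx
    have hZx : Z ≤ Subgroup.centralizer ({x} : Set H) := by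
      rw [hZ]; unfold Cfsg.omegaOne
      rw [Subgroup.closure_le]
      rintro z ⟨hzT, hzp⟩
      have hzZ : z ∈ Z := by rw [hZ]; exact Subgroup.subset_closure ⟨hzT, hzp⟩
      have hzV : z ∈ V := hZV hzZ
      obtain ⟨v', hv'⟩ : ∃ v' : V, v' = ⟨z, hzV⟩ := ⟨_, rfl⟩
      haveI : Fintype (H ⧸ (T : Subgroup H)) := Fintype.ofFinite _
      have hzc : ∀ t ∈ (T : Subgroup H), t * z = z * t :=
        fun t ht => Subgroup.mem_centralizer_iff.1 hzT.2 t ht
      have hfixT : ∀ t : H, t ∈ (T : Subgroup H) →
          (MulAut.conjNormal t : MulAut V) v' = v' := by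
        intro t ht
        apply Subtype.ext
        rw [MulAut.conjNormal_apply, hv']
        show t * z * t⁻¹ = z
        rw [hzc t ht, mul_inv_cancel_right]
      have hcoset : ∀ h₁ h₂ : H, h₁⁻¹ * h₂ ∈ (T : Subgroup H) →
          (MulAut.conjNormal h₂ : MulAut V) v' = (MulAut.conjNormal h₁ : MulAut V) v' := by
        intro h₁ h₂ h12
        have h1 : h₂ = h₁ * (h₁⁻¹ * h₂) := by group
        rw [h1, map_mul, MulAut.mul_apply, hfixT _ h12]
      obtain ⟨w, hw⟩ : ∃ w : V,
          w = ∏ q : H ⧸ (T : Subgroup H), (MulAut.conjNormal q.out : MulAut V) v' := ⟨_, rfl⟩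
      have hwfix : ∀ s : H, (MulAut.conjNormal s : MulAut V) w = w := by
        intro s
        rw [hw, map_prod]
        refine Fintype.prod_equiv (MulAction.toPerm s) _ _ (fun q => ?_)
        rw [← MulAut.mul_apply, ← map_mul]
        apply hcoset
        apply QuotientGroup.eq.1
        rw [MulAction.toPerm_apply, QuotientGroup.out_eq']
        conv_lhs => rw [← QuotientGroup.out_eq' q]
        rfl
      have hwc : ∀ s : H, s * (w : H) = (w : H) * s := by
        intro s
        have h1 := congrArg Subtype.val (hwfix s)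
        rw [MulAut.conjNormal_apply] at h1
        exact mul_inv_eq_iff_eq_mul.1 h1
      have hRT : ∀ h : H, ∃ r ∈ R, r⁻¹ * h ∈ (T : Subgroup H) := by
        intro h
        haveI : R.Normal := by rw [hR]; exact pResidual_normal p
        have h1 : (T : Subgroup H) ⊔ R = ⊤ := by
          rw [hR]; exact sup_pResidual_eq_top _ T.not_dvd_index
        have h2 : h ∈ ((R ⊔ (T : Subgroup H) : Subgroup H) : Set H) := by
          rw [sup_comm, h1]; trivial
        rw [Subgroup.normal_mul] at h2
        obtain ⟨r, hr, t, ht, rfl⟩ := Set.mem_mul.1 h2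
        exact ⟨r, hr, by rw [inv_mul_cancel_left]; exact ht⟩
      obtain ⟨d, hd⟩ : ∃ d : V, d = ∏ q : H ⧸ (T : Subgroup H),
          ((MulAut.conjNormal q.out : MulAut V) v' * v'⁻¹) := ⟨_, rfl⟩
      obtain ⟨k, hk⟩ : ∃ k : ℕ, k = Fintype.card (H ⧸ (T : Subgroup H)) := ⟨_, rfl⟩
      have hdw : d = w * (v'⁻¹) ^ k := by
        rw [hd, Finset.prod_mul_distrib, ← hw, Finset.prod_const, Finset.card_univ, hk]
      have hdW : (d : H) ∈ ⁅V, R⁆ := by
        have h1 : d ∈ (⁅V, R⁆).subgroupOf V := by
          rw [hd]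
          refine Subgroup.prod_mem _ (fun q _ => ?_)
          obtain ⟨r, hr, hrq⟩ := hRT q.out
          rw [hcoset r q.out hrq, Subgroup.mem_subgroupOf, Subgroup.commutator_comm]
          have h2 : (((MulAut.conjNormal r : MulAut V) v' * v'⁻¹ : V) : H) = ⁅r, z⁆ := by
            rw [commutatorElement_def, Subgroup.coe_mul, MulAut.conjNormal_apply,
              Subgroup.coe_inv, hv']
          rw [h2]
          exact Subgroup.commutator_mem_commutator hr hzV
        exact Subgroup.mem_subgroupOf.1 h1
      have hdT : ∀ t ∈ (T : Subgroup H), t * (d : H) = (d : H) * t := by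
        intro t ht
        have h1 : (d : H) = (w : H) * (z⁻¹) ^ k := by
          have h0 := congrArg Subtype.val hdw
          rw [hv'] at h0
          simpa using h0
        rw [h1]
        have h2 : Commute t (w : H) := hwc t
        have h3 : Commute t z := hzc t ht
        exact (h2.mul_right (h3.inv_right.pow_right k)).eq
      have hdZ : (d : H) ∈ Z := by
        rw [hZ]
        apply Subgroup.subset_closure
        refine ⟨⟨?_, ?_⟩, ?_⟩
        · exact (hVp.le_sylow_of_normal T) d.2
        · exact Subgroup.mem_centralizer_iff.2 hdT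
        · exact hV.2 _ d.2
      have hxd : x * (d : H) = (d : H) * x := by
        have h0 := Subgroup.mem_centralizer_iff.1 hx (d : H) (Subgroup.mem_inf.2 ⟨hdW, hdZ⟩)
        exact h0.symm
      have hzk : z ^ k = (d : H)⁻¹ * (w : H) := by
        have h1 : v' ^ k = d⁻¹ * w := by rw [hdw, inv_pow]; group
        have h2 := congrArg Subtype.val h1
        rw [hv'] at h2
        simpa using h2
      have hxzk : Commute x (z ^ k) := by
        rw [hzk]
        exact (Commute.inv_right (show Commute x (d : H) from hxd)).mul_right (hwc x)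
      have hkp : Nat.Coprime k p := by
        have h1 : k = (T : Subgroup H).index := by
          rw [hk, Subgroup.index_eq_card, Nat.card_eq_fintype_card]
        rw [h1]
        exact ((Nat.Prime.coprime_iff_not_dvd Fact.out).2 T.not_dvd_index).symm
      have hcop : Nat.Coprime k (orderOf z) :=
        Nat.Coprime.coprime_dvd_right (orderOf_dvd_of_pow_eq_one hzp) hkp
      obtain ⟨m, hm⟩ := exists_pow_eq_self_of_coprime hcop
      rw [SetLike.mem_coe, Subgroup.mem_centralizer_iff]
      intro y hy
      rw [Set.mem_singleton_iff] at hy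
      rw [hy, ← hm]
      exact (hxzk.pow_right m).eq
    rw [Subgroup.mem_centralizer_iff]
    intro z hz
    have h0 := Subgroup.mem_centralizer_iff.1 (hZx hz) x (Set.mem_singleton x)
    exact h0.symm

end Cfsg.Agent.S2826
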