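import Cfsg.Statements.S2827
import Mathlib
import Cfsg.Agent.Lib.Helper5.PIrr
import Cfsg.Agent.Lib.Helper3.Core
import Cfsg.Agent.S0567
import Cfsg.Agent.S0028

set_option autoImplicit false
open Cfsg

namespace Cfsg.Agent.S2827

open Cfsg.Agent.Lib.Helper5.PIrr
open scoped commutatorElement

theorem normal_of_commutator_le {H : Type*} [Group H] (K : Subgroup H) (h : commutator H ≤ K) :
    K.Normal := by
  constructor
  intro k hk g
  have e : g * k * g⁻¹ = ⁅g, k⁆ * k := by rw [commutatorElement_def]; group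
  rw [e]
  refine K.mul_mem (h ?_) hk
  rw [commutator_def]
  exact Subgroup.commutator_mem_commutator (Subgroup.mem_top g) (Subgroup.mem_top k)

theorem top_of_sylow_le {H : Type*} [Group H] [Finite H] {p : ℕ} [Fact p.Prime]
    (hH : Cfsg.IsPIrreducible p H) (T : Sylow p H) (N : Subgroup H) (hN : N.Normal)
    (hTN : (T : Subgroup H) ≤ N) : N = ⊤ := by
  haveI := hN
  have h1 : ¬ Cfsg.IsPClosed p ↥N := by
    rw [pclosed_subgroup_iff N T, inf_of_le_left hTN]
    intro h
    exact hH.1 (pclosed_of_normal T h)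
  have h2 := hH.2 N hN h1
  have h3 := Cfsg.Agent.Lib.Helper3.Residual.sup_pResidual_eq_top (T : Subgroup H) T.not_dvd_index
  rw [eq_top_iff, ← h3]
  exact sup_le hTN h2

theorem conj_eq_comm_mul {H : Type*} [Group H] (r t y : H) :
    (r * t) * y * (r * t)⁻¹ = ⁅r, t * y * t⁻¹⁆ * (t * y * t⁻¹) := by
  rw [commutatorElement_def]; group

theorem result {H : Type*} [Group H] [Finite H] {p : ℕ} [Fact p.Prime] (hH : Cfsg.IsPIrreducible p H) (T : Sylow p H) : Subgroup.normalClosure ((T : Subgroup H) : Set H) = ⊤ ∧ commutator H ⊔ (T : Subgroup H) = ⊤ ∧ Cfsg.pResidual p H ≤ commutator H ∧ ∀ Y : Subgroup H, Y ≤ (T : Subgroup H) → (T : Subgroup H) ≤ Subgroup.normalizer (Y : Set H) → ¬ Y ≤ Cfsg.pCore p H → ⁅Cfsg.pResidual p H, Y⁆ = Cfsg.pResidual p H ∧ Cfsg.pResidual p H ≤ Subgroup.normalClosure (Y : Set H) := by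
  classical
  have hp : p.Prime := Fact.out
  have h1 : Subgroup.normalClosure ((T : Subgroup H) : Set H) = ⊤ :=
    top_of_sylow_le hH T _ Subgroup.normalClosure_normal Subgroup.le_normalClosure
  have h2 : commutator H ⊔ (T : Subgroup H) = ⊤ :=
    top_of_sylow_le hH T _ (normal_of_commutator_le _ le_sup_left) le_sup_right
  have h3 : Cfsg.pResidual p H ≤ commutator H := pres_le_of_sup (commutator H) T T.2 h2
  refine ⟨h1, h2, h3, ?_⟩
  intro Y hYT hTY hYO
  have hRn : (Cfsg.pResidual p H).Normal := Cfsg.Agent.Lib.Helper3.Residual.pResidual_normal p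
  have hRT : Cfsg.pResidual p H ⊔ (T : Subgroup H) = ⊤ := by
    rw [sup_comm]
    exact Cfsg.Agent.Lib.Helper3.Residual.sup_pResidual_eq_top (T : Subgroup H) T.not_dvd_index
  have h4 : Cfsg.pResidual p H ≤ Subgroup.normalClosure (Y : Set H) := by
    apply hH.2 _ Subgroup.normalClosure_normal
    haveI : (Subgroup.normalClosure (Y : Set H)).Normal := Subgroup.normalClosure_normal
    rw [pclosed_subgroup_iff (Subgroup.normalClosure (Y : Set H)) T]
    intro hn
    apply hYO
    have h5 : Y ≤ (T : Subgroup H) ⊓ Subgroup.normalClosure (Y : Set H) :=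
      le_inf hYT Subgroup.le_normalClosure
    exact h5.trans (Cfsg.Agent.Lib.Helper3.Core.le_pCore _ hn (T.2.to_le inf_le_left))
  refine ⟨?_, h4⟩
  set R := Cfsg.pResidual p H with hR
  set K : Subgroup H := ⁅R, Y⁆ with hK
  have hKR : K ≤ R := Subgroup.commutator_le_left R Y
  have hKn : K.Normal := by
    rw [← Subgroup.normalizer_eq_top_iff, eq_top_iff, ← hRT]
    refine sup_le (Cfsg.Agent.S0567.left_le_normalizer_commutator R Y) ?_
    intro t ht
    refine Cfsg.Agent.S0028.mem_normalizer_commutator R Y t ?_ (hTY ht)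
    rw [Subgroup.normalizer_eq_top_iff.2 hRn]
    exact Subgroup.mem_top t
  have h5 : Subgroup.normalClosure (Y : Set H) ≤ K ⊔ Y := by
    rw [Subgroup.normalClosure, Subgroup.closure_le]
    intro a ha
    rw [Group.mem_conjugatesOfSet_iff] at ha
    obtain ⟨y, hy, hya⟩ := ha
    rw [isConj_iff] at hya
    obtain ⟨c, rfl⟩ := hya
    have hc : c ∈ ((R ⊔ (T : Subgroup H) : Subgroup H) : Set H) := by
      rw [hRT]; exact Set.mem_univ c
    rw [Subgroup.normal_mul] at hc
    obtain ⟨r, hr, t, ht, rfl⟩ := Set.mem_mul.1 hc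
    have hy' : t * y * t⁻¹ ∈ Y := (Subgroup.mem_normalizer_iff.1 (hTY ht) y).1 hy
    rw [conj_eq_comm_mul]
    exact Subgroup.mul_mem _ ((le_sup_left : K ≤ K ⊔ Y)
      (Subgroup.commutator_mem_commutator hr hy')) ((le_sup_right : Y ≤ K ⊔ Y) hy')
  have h6 : R ≤ K ⊔ Y := h4.trans h5
  haveI : (K.subgroupOf R).Normal := hKn.subgroupOf R
  have hYp : IsPGroup p ↥(Y.subgroupOf R) :=
    (T.2.to_le hYT).comap_of_injective R.subtype R.subtype_injective
  have h7 : K.subgroupOf R ⊔ Y.subgroupOf R = ⊤ := by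
    rw [eq_top_iff]
    intro x _
    have hx : (x : H) ∈ ((K ⊔ Y : Subgroup H) : Set H) := h6 x.2
    rw [Subgroup.normal_mul] at hx
    obtain ⟨k, hk, y, hy, hky⟩ := Set.mem_mul.1 hx
    have hyR : y ∈ R := by
      have e : y = k⁻¹ * (x : H) := by rw [← hky]; group
      rw [e]
      exact R.mul_mem (R.inv_mem (hKR hk)) x.2
    have e : x = (⟨k, hKR hk⟩ : ↥R) * ⟨y, hyR⟩ := Subtype.ext hky.symm
    rw [e]
    exact Subgroup.mul_mem _ ((le_sup_left : K.subgroupOf R ≤ _) (Subgroup.mem_subgroupOf.2 hk))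
      ((le_sup_right : Y.subgroupOf R ≤ _) (Subgroup.mem_subgroupOf.2 hy))
  have h8 := pres_le_of_sup (K.subgroupOf R) (Y.subgroupOf R) hYp h7
  rw [Cfsg.Agent.Lib.Helper8.HypGroup.pResidual_top_of, top_le_iff, Subgroup.subgroupOf_eq_top] at h8
  exact le_antisymm hKR h8

end Cfsg.Agent.S2827
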