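import Cfsg.Statements.S2828
import Mathlib
import Cfsg.Agent.Lib.Helper5.PIrr2
import Cfsg.Agent.S2820

set_option autoImplicit false
open Cfsg

namespace Cfsg.Agent.S2828

open Cfsg.Agent.Lib.Helper5.PIrr

theorem pres_le_of_le_sup {H : Type*} [Group H] {p : ℕ} [Fact p.Prime] (N D : Subgroup H)
    [N.Normal] (hD : IsPGroup p D) (h : Cfsg.pResidual p H ≤ N ⊔ D) : Cfsg.pResidual p H ≤ N := by
  have h1 : (Cfsg.pResidual p H).subgroupOf (N ⊔ D) ≤ Cfsg.pResidual p ↥(N ⊔ D) :=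
    Cfsg.Agent.S2820.subgroupOf_le_pres p (Cfsg.pResidual p H) (N ⊔ D) h
      (Cfsg.Agent.Lib.Helper8.HypGroup.pResidual_top_of p)
  haveI : (N.subgroupOf (N ⊔ D)).Normal := Subgroup.Normal.subgroupOf inferInstance _
  have hDp : IsPGroup p ↥(D.subgroupOf (N ⊔ D)) :=
    hD.comap_of_injective _ (Subgroup.subtype_injective _)
  have hsup : N.subgroupOf (N ⊔ D) ⊔ D.subgroupOf (N ⊔ D) = ⊤ := by
    rw [← Subgroup.subgroupOf_sup le_sup_left le_sup_right, Subgroup.subgroupOf_self]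
  have h2 := pres_le_of_sup _ _ hDp hsup
  intro x hx
  have h3 : (⟨x, h hx⟩ : ↥(N ⊔ D)) ∈ (Cfsg.pResidual p H).subgroupOf (N ⊔ D) :=
    Subgroup.mem_subgroupOf.2 hx
  exact Subgroup.mem_subgroupOf.1 (h2 (h1 h3))

theorem result {H : Type*} [Group H] [Finite H] {p : ℕ} [Fact p.Prime] (D : Subgroup H) [D.Normal] (hD : IsPGroup p ↥D) : (Cfsg.IsPIrreducible p H ↔ Cfsg.IsPIrreducible p (H ⧸ D)) ∧ (Cfsg.IsStronglyPIrreducible p H ↔ Cfsg.IsStronglyPIrreducible p (H ⧸ D)) := by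
  classical
  set π := QuotientGroup.mk' D with hπ
  have hsurj : Function.Surjective π := QuotientGroup.mk'_surjective D
  have hker : π.ker = D := QuotientGroup.ker_mk' D
  obtain ⟨T⟩ : Nonempty (Sylow p H) := inferInstance
  have hDT : D ≤ (T : Subgroup H) := hD.le_sylow_of_normal T
  set Tb : Sylow p (H ⧸ D) := T.mapSurjective hsurj with hTbdef
  have hTb : (Tb : Subgroup (H ⧸ D)) = (T : Subgroup H).map π := Sylow.coe_mapSurjective hsurj T
  have hRmap : Cfsg.pResidual p (H ⧸ D) = (Cfsg.pResidual p H).map π := by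
    apply le_antisymm (Cfsg.Agent.Lib.Helper8.HypGroup.pResidual_le_map π hsurj)
    rintro _ ⟨x, hx, rfl⟩
    exact Cfsg.Agent.Lib.Helper8.Hyp.map_mem_pResidual p π hx
  have hcm : ∀ K : Subgroup H, D ≤ K → (K.map π).comap π = K := fun K hK =>
    Subgroup.comap_map_eq_self (by rw [hker]; exact hK)
  have hnorm_iff : ∀ K : Subgroup H, D ≤ K → ((K.map π).Normal ↔ K.Normal) := by
    intro K hK
    constructor
    · intro h; rw [← hcm K hK]; exact h.comap π
    · intro h; exact h.map π hsurj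
  have hcl0 : Cfsg.IsPClosed p H ↔ Cfsg.IsPClosed p (H ⧸ D) := by
    rw [pclosed_iff T, pclosed_iff Tb, hTb, hnorm_iff _ hDT]
  have hcl : ∀ N : Subgroup H, N.Normal → D ≤ N →
      (Cfsg.IsPClosed p ↥N ↔ Cfsg.IsPClosed p ↥(N.map π)) := by
    intro N hN hDN
    haveI := hN
    haveI : (N.map π).Normal := hN.map π hsurj
    rw [pclosed_subgroup_iff N T, pclosed_subgroup_iff (N.map π) Tb, hTb]
    have e : (T : Subgroup H).map π ⊓ N.map π = ((T : Subgroup H) ⊓ N).map π := by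
      apply le_antisymm
      · intro x hx
        obtain ⟨⟨t, ht, rfl⟩, ⟨n, hn, hnt⟩⟩ := Subgroup.mem_inf.1 hx
        refine ⟨n, Subgroup.mem_inf.2 ⟨?_, hn⟩, hnt⟩
        have h1 : t⁻¹ * n ∈ D := by
          rw [← hker, MonoidHom.mem_ker, map_mul, map_inv, hnt, inv_mul_cancel]
        have e2 : n = t * (t⁻¹ * n) := by group
        rw [e2]; exact (T : Subgroup H).mul_mem ht (hDT h1)
      · exact le_inf (Subgroup.map_mono inf_le_left) (Subgroup.map_mono inf_le_right)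
    rw [e, hnorm_iff _ (le_inf hDT hDN)]
  have hF4 : ∀ N : Subgroup H, N.Normal → ¬ Cfsg.IsPClosed p ↥N →
      ¬ Cfsg.IsPClosed p ↥(N ⊔ D : Subgroup H) := by
    intro N hN hncl h
    apply hncl
    haveI := hN
    haveI : (N ⊔ D).Normal := inferInstance
    rw [pclosed_subgroup_iff _ T] at h ⊢
    have e : (T : Subgroup H) ⊓ N = ((T : Subgroup H) ⊓ (N ⊔ D)) ⊓ N := by
      rw [inf_assoc, inf_of_le_right (le_sup_left : N ≤ N ⊔ D)]
    rw [e]
    haveI := h
    infer_instance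
  haveI hPn : (Cfsg.pCore p H).Normal := Cfsg.pCore_normal p _
  have hDP : D ≤ Cfsg.pCore p H := Cfsg.Agent.Lib.Helper3.Core.le_pCore D inferInstance hD
  have hcore : Cfsg.pCore p (H ⧸ D) = (Cfsg.pCore p H).map π := by
    apply le_antisymm
    · have h1 : (Cfsg.pCore p (H ⧸ D)).comap π ≤ Cfsg.pCore p H := by
        apply Cfsg.Agent.Lib.Helper3.Core.le_pCore _ ((Cfsg.pCore_normal p _).comap π)
        exact (Cfsg.Agent.Lib.Helper3.Core.pCore_isPGroup p).comap_of_ker_isPGroup π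
          (by rw [hker]; exact hD)
      rw [← Subgroup.map_comap_eq_self_of_surjective hsurj (Cfsg.pCore p (H ⧸ D))]
      exact Subgroup.map_mono h1
    · exact Cfsg.Agent.Lib.Helper3.Core.le_pCore _ (hPn.map π hsurj)
        ((Cfsg.Agent.Lib.Helper3.Core.pCore_isPGroup p).map π)
  have hG2 : ∀ N : Subgroup H, (⁅N.map π, (⊤ : Subgroup (H ⧸ D))⁆ ≤ Cfsg.pCore p (H ⧸ D) ↔
      ⁅N, (⊤ : Subgroup H)⁆ ≤ Cfsg.pCore p H) := by
    intro N
    rw [hcore, ← Subgroup.map_top_of_surjective π hsurj, ← Subgroup.map_commutator,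
      Subgroup.map_le_iff_le_comap, hcm _ hDP]
  refine ⟨⟨?_, ?_⟩, ⟨?_, ?_⟩⟩
  · rintro ⟨h1, h2⟩
    refine ⟨fun h => h1 (hcl0.2 h), ?_⟩
    intro Nb hNb hNbcl
    have hN : (Nb.comap π).Normal := hNb.comap π
    have hDN : D ≤ Nb.comap π := by
      intro d hd
      rw [Subgroup.mem_comap]
      have : π d = 1 := by rw [← MonoidHom.mem_ker, hker]; exact hd
      rw [this]; exact Nb.one_mem
    have hmap : (Nb.comap π).map π = Nb := Subgroup.map_comap_eq_self_of_surjective hsurj Nb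
    have h3 : ¬ Cfsg.IsPClosed p ↥(Nb.comap π) := by
      rw [hcl _ hN hDN, hmap]
      exact hNbcl
    have h4 := h2 _ hN h3
    rw [hRmap, ← hmap]
    exact Subgroup.map_mono h4
  · rintro ⟨h1, h2⟩
    refine ⟨fun h => h1 (hcl0.1 h), ?_⟩
    intro N hN hNcl
    haveI := hN
    have hND : (N ⊔ D).Normal := inferInstance
    have h3 : ¬ Cfsg.IsPClosed p ↥((N ⊔ D).map π) := by
      rw [← hcl _ hND le_sup_right]; exact hF4 N hN hNcl
    have h4 := h2 _ (hND.map π hsurj) h3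
    rw [hRmap, Subgroup.map_le_iff_le_comap, hcm _ le_sup_right] at h4
    exact pres_le_of_le_sup N D hD h4
  · rintro ⟨h1, h2⟩
    refine ⟨fun h => h1 (hcl0.2 h), ?_⟩
    intro Nb hNb hNbc
    have hN : (Nb.comap π).Normal := hNb.comap π
    have hmap : (Nb.comap π).map π = Nb := Subgroup.map_comap_eq_self_of_surjective hsurj Nb
    have h3 : ¬ ⁅Nb.comap π, (⊤ : Subgroup H)⁆ ≤ Cfsg.pCore p H := by
      rw [← hG2, hmap]; exact hNbc
    have h4 := h2 _ hN h3
    rw [hRmap, ← hmap]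
    exact Subgroup.map_mono h4
  · rintro ⟨h1, h2⟩
    refine ⟨fun h => h1 (hcl0.1 h), ?_⟩
    intro N hN hNc
    haveI := hN
    have h3 : ¬ ⁅N.map π, (⊤ : Subgroup (H ⧸ D))⁆ ≤ Cfsg.pCore p (H ⧸ D) := by
      rw [hG2]; exact hNc
    have h4 := h2 _ (hN.map π hsurj) h3
    rw [hRmap, Subgroup.map_le_iff_le_comap, Subgroup.comap_map_eq, hker] at h4
    exact pres_le_of_le_sup N D hD h4

end Cfsg.Agent.S2828
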