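import Cfsg.Statements.S2829
import Mathlib
import Cfsg.Agent.Lib.Helper5.PCore

set_option autoImplicit false
open Cfsg

namespace Cfsg.Agent.S2829

theorem result {H : Type*} [Group H] [Finite H] {p : ℕ} [Fact p.Prime] (hH : Cfsg.IsStronglyPIrreducible p H) : Cfsg.IsPIrreducible p H := by
  obtain ⟨h1, h2⟩ := hH
  refine ⟨h1, ?_⟩
  intro N hN hNcl
  apply h2 N hN
  intro hcomm
  apply hNcl
  intro P
  have hQP := Cfsg.Agent.Lib.Helper5.PCore.pCore_subgroupOf_le_sylow N P
  constructor
  intro x hx n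
  have hc : n * x * n⁻¹ * x⁻¹ ∈ (Cfsg.pCore p H).subgroupOf N := by
    rw [Subgroup.mem_subgroupOf]
    have h3 := Subgroup.commutator_mem_commutator n.2 (Subgroup.mem_top (x : H))
    have h4 := hcomm h3
    simpa [commutatorElement_def] using h4
  have h5 := (P : Subgroup N).mul_mem (hQP hc) hx
  simpa using h5

end Cfsg.Agent.S2829
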