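import Cfsg.Statements.S2830
import Mathlib
import Cfsg.Agent.Lib.Helper5.PIrr2

set_option autoImplicit false
open Cfsg

namespace Cfsg.Agent.S2830

open Cfsg.Agent.Lib.Helper5.PIrr

theorem result {G : Type*} [Group G] [Finite G] {p : ℕ} [Fact p.Prime] (V H : Subgroup G) (hV : Cfsg.IsElementaryAbelian p V) (hHV : H ≤ Subgroup.normalizer (V : Set G)) (hH : Cfsg.IsPIrreducible p ↥H) (hnc : ¬ (Cfsg.pResidual p ↥H).map H.subtype ≤ Subgroup.centralizer (V : Set G)) [hn : ((Subgroup.centralizer (V : Set G)).subgroupOf H).Normal] : Cfsg.IsPClosed p ↥(H ⊓ Subgroup.centralizer (V : Set G)) ∧ (∀ T : Subgroup G, T ≤ H → IsPGroup p ↥T → T ⊓ Subgroup.centralizer (V : Set G) ≤ Cfsg.pCoreOf p H) ∧ (Cfsg.pCoreOf p H ≤ Subgroup.centralizer (V : Set G) → (∀ T : Subgroup G, T ≤ H → IsPGroup p ↥T → T ⊓ Subgroup.centralizer (V : Set G) = T ⊓ Cfsg.pCoreOf p H) ∧ Cfsg.pCore p (↥H ⧸ (Subgroup.centralizer (V : Set G)).subgroupOf H) = ⊥) := by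
  classical
  set C : Subgroup ↥H := (Subgroup.centralizer (V : Set G)).subgroupOf H with hC
  have hRC : ¬ Cfsg.pResidual p ↥H ≤ C := by
    intro h
    apply hnc
    rintro _ ⟨x, hx, rfl⟩
    exact Subgroup.mem_subgroupOf.1 (h hx)
  have hCcl : Cfsg.IsPClosed p ↥C := by
    by_contra h
    exact hRC (hH.2 C hn h)
  have hkey : ∀ T' : Subgroup ↥H, IsPGroup p T' → T' ≤ C → T' ≤ Cfsg.pCore p ↥H := by
    intro T' hT' hT'C
    obtain ⟨S, hS⟩ := hT'.exists_le_sylow
    have h1 := (pclosed_subgroup_iff C S).1 hCcl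
    exact (le_inf hS hT'C).trans
      (Cfsg.Agent.Lib.Helper3.Core.le_pCore _ h1 (S.2.to_le inf_le_left))
  have h2 : ∀ T : Subgroup G, T ≤ H → IsPGroup p ↥T →
      T ⊓ Subgroup.centralizer (V : Set G) ≤ Cfsg.pCoreOf p H := by
    intro T hTH hT x hx
    obtain ⟨hxT, hxC⟩ := Subgroup.mem_inf.1 hx
    have h3 : (T ⊓ Subgroup.centralizer (V : Set G)).subgroupOf H ≤ Cfsg.pCore p ↥H := by
      apply hkey
      · exact (hT.to_le inf_le_left).comap_of_injective H.subtype H.subtype_injective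
      · intro y hy
        exact Subgroup.mem_subgroupOf.2 (Subgroup.mem_inf.1 (Subgroup.mem_subgroupOf.1 hy)).2
    exact ⟨⟨x, hTH hxT⟩, h3 (Subgroup.mem_subgroupOf.2 hx), rfl⟩
  refine ⟨?_, h2, ?_⟩
  · have e1 : C = (H ⊓ Subgroup.centralizer (V : Set G)).subgroupOf H := by
      rw [hC, Subgroup.inf_subgroupOf_left]
    have e2 : ↥C ≃* ↥(H ⊓ Subgroup.centralizer (V : Set G)) :=
      (MulEquiv.subgroupCongr e1).trans (Subgroup.subgroupOfEquivOfLe inf_le_left)
    exact pclosed_of_equiv e2 hCcl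
  · intro hO
    refine ⟨?_, ?_⟩
    · intro T hTH hT
      apply le_antisymm
      · exact le_inf inf_le_left (h2 T hTH hT)
      · exact le_inf inf_le_left (inf_le_right.trans hO)
    · rw [eq_bot_iff]
      intro q hq
      rw [Subgroup.mem_bot]
      obtain ⟨S⟩ : Nonempty (Sylow p ↥H) := inferInstance
      have hsurj := QuotientGroup.mk'_surjective C
      have hq' : q ∈ ((S.mapSurjective hsurj : Sylow p (↥H ⧸ C)) : Subgroup (↥H ⧸ C)) :=
        Cfsg.Agent.Lib.Helper3.Core.pCore_le_sylow _ hq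
      rw [Sylow.coe_mapSurjective] at hq'
      obtain ⟨s, hs, rfl⟩ := hq'
      set D : Subgroup ↥H := (Cfsg.pCore p (↥H ⧸ C)).comap (QuotientGroup.mk' C) with hD
      have hDn : D.Normal := (Cfsg.pCore_normal p _).comap _
      have hDcl : Cfsg.IsPClosed p ↥D := by
        by_contra h
        apply hRC
        have h3 := hH.2 D hDn h
        intro x hx
        have hx' : x ∈ Subgroup.closure {g : ↥H | Nat.Coprime (orderOf g) p} := hx
        revert hx'
        apply (Subgroup.closure_le C).2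
        intro y hy
        have hyD : y ∈ D := h3 (Subgroup.subset_closure hy)
        exact mk_eq_one_of_coprime C (Cfsg.pCore p (↥H ⧸ C))
          (Cfsg.Agent.Lib.Helper3.Core.pCore_isPGroup p) y hy hyD
      haveI := hDn
      have h3 := (pclosed_subgroup_iff D S).1 hDcl
      have h4 : (S : Subgroup ↥H) ⊓ D ≤ Cfsg.pCore p ↥H :=
        Cfsg.Agent.Lib.Helper3.Core.le_pCore _ h3 (S.2.to_le inf_le_left)
      have h5 : Cfsg.pCore p ↥H ≤ C := by
        intro x hx
        exact Subgroup.mem_subgroupOf.2 (hO ⟨x, hx, rfl⟩)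
      have hsD : s ∈ D := hq
      exact (QuotientGroup.eq_one_iff s).2 (h5 (h4 ⟨hs, hsD⟩))

end Cfsg.Agent.S2830
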