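import Cfsg.Statements.S2831
import Mathlib
import Cfsg.Agent.Lib.Helper5.PIrr

set_option autoImplicit false
open Cfsg

namespace Cfsg.Agent.S2831

open Cfsg.Agent.Lib.Helper5.PIrr

theorem result {H : Type*} [Group H] [Finite H] {p : ℕ} [Fact p.Prime] (T : Sylow p H) (hmin : Cfsg.IsMinimalOver (T : Subgroup H)) : Cfsg.IsPIrreducible p H := by
  classical
  obtain ⟨M, hM, hTM, hle⟩ := le_of_minimal hmin
  refine ⟨?_, ?_⟩
  · intro hcl
    have hn : (T : Subgroup H).Normal := hcl T
    have hnc := hmin.1
    rw [Subgroup.normalClosure_eq_self] at hnc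
    exact hM.1 (top_le_iff.1 (hnc ▸ hTM))
  · intro N hN hNcl
    haveI := hN
    rw [pclosed_subgroup_iff N T] at hNcl
    have hTnorm : (T : Subgroup H) ≤ Subgroup.normalizer ((((T : Subgroup H) ⊓ N : Subgroup H)) : Set H) := by
      intro t ht
      rw [Subgroup.mem_normalizer_iff]
      intro x
      simp only [Subgroup.mem_inf]
      constructor
      · rintro ⟨h1, h2⟩
        exact ⟨(T : Subgroup H).mul_mem ((T : Subgroup H).mul_mem ht h1) ((T : Subgroup H).inv_mem ht), hN.conj_mem x h2 t⟩
      · rintro ⟨h1, h2⟩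
        refine ⟨?_, ?_⟩
        · have := (T : Subgroup H).mul_mem ((T : Subgroup H).mul_mem ((T : Subgroup H).inv_mem ht) h1) ht
          simpa [mul_assoc] using this
        · have := hN.conj_mem _ h2 t⁻¹
          simpa [mul_assoc] using this
    by_cases hNT : N ⊔ (T : Subgroup H) = ⊤
    · exact pres_le_of_sup N T T.2 hNT
    · exfalso
      have h1 : N ⊔ (T : Subgroup H) ≤ M := hle _ le_sup_right hNT
      obtain ⟨Q, hQ⟩ := Cfsg.Agent.S0542.result p N (Subgroup.Normal.isSubnormal hN) T
      have hQmap : (Q : Subgroup N).map N.subtype = (T : Subgroup H) ⊓ N := by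
        rw [hQ, Subgroup.subgroupOf_map_subtype]
      have hfr := Sylow.normalizer_sup_eq_top Q
      rw [hQmap] at hfr
      by_cases hnt : Subgroup.normalizer ((((T : Subgroup H) ⊓ N : Subgroup H)) : Set H) = ⊤
      · exact hNcl (Subgroup.normalizer_eq_top_iff.1 hnt)
      · have h2 := hle _ hTnorm hnt
        apply hM.1
        rw [eq_top_iff, ← hfr]
        exact sup_le h2 (le_sup_left.trans h1)

end Cfsg.Agent.S2831
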