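import Cfsg.Statements.S2832
import Mathlib
import Cfsg.Agent.Lib.Helper5.PIrr

set_option autoImplicit false
open Cfsg

namespace Cfsg.Agent.S2832

open Cfsg.Agent.Lib.Helper5.PIrr

theorem coatom_map {H : Type*} [Group H] (N : Subgroup H) [N.Normal] (M : Subgroup H)
    (hM : IsCoatom M) (hNM : N ≤ M) : IsCoatom (M.map (QuotientGroup.mk' N)) := by
  have hker : (QuotientGroup.mk' N).ker ≤ M := by rw [QuotientGroup.ker_mk']; exact hNM
  have hcm : (M.map (QuotientGroup.mk' N)).comap (QuotientGroup.mk' N) = M :=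
    Subgroup.comap_map_eq_self hker
  refine ⟨?_, ?_⟩
  · intro h
    apply hM.1
    rw [← hcm, h, Subgroup.comap_top]
  · intro L hL
    have h1 : M ≤ L.comap (QuotientGroup.mk' N) := by
      rw [← hcm]; exact Subgroup.comap_mono hL.le
    have h2 : M ≠ L.comap (QuotientGroup.mk' N) := by
      intro h
      apply hL.ne
      rw [h, Subgroup.map_comap_eq_self_of_surjective (QuotientGroup.mk'_surjective N)]
    have h3 := hM.2 _ (lt_of_le_of_ne h1 h2)
    rw [← Subgroup.map_comap_eq_self_of_surjective (QuotientGroup.mk'_surjective N) L, h3,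
      Subgroup.map_top_of_surjective _ (QuotientGroup.mk'_surjective N)]

theorem coatom_comap {H : Type*} [Group H] (N : Subgroup H) [N.Normal] (K : Subgroup (H ⧸ N))
    (hK : IsCoatom K) : IsCoatom (K.comap (QuotientGroup.mk' N)) := by
  have hmc : (K.comap (QuotientGroup.mk' N)).map (QuotientGroup.mk' N) = K :=
    Subgroup.map_comap_eq_self_of_surjective (QuotientGroup.mk'_surjective N) K
  refine ⟨?_, ?_⟩
  · intro h
    apply hK.1
    rw [← hmc, h, Subgroup.map_top_of_surjective _ (QuotientGroup.mk'_surjective N)]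
  · intro L hL
    have hker : (QuotientGroup.mk' N).ker ≤ L := by
      refine le_trans ?_ hL.le
      intro x hx
      rw [MonoidHom.mem_ker] at hx
      rw [Subgroup.mem_comap, hx]
      exact K.one_mem
    have hcm : (L.map (QuotientGroup.mk' N)).comap (QuotientGroup.mk' N) = L :=
      Subgroup.comap_map_eq_self hker
    have h1 : K ≤ L.map (QuotientGroup.mk' N) := by
      rw [← hmc]; exact Subgroup.map_mono hL.le
    have h2 : K ≠ L.map (QuotientGroup.mk' N) := by
      intro h
      apply hL.ne
      rw [h, hcm]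
    have h3 := hK.2 _ (lt_of_le_of_ne h1 h2)
    rw [← hcm, h3, Subgroup.comap_top]

theorem result {H : Type*} [Group H] [Finite H] {p : ℕ} [Fact p.Prime] (T : Sylow p H) (hmin : Cfsg.IsMinimalOver (T : Subgroup H)) (N : Subgroup H) [N.Normal] : IsPGroup p (H ⧸ N) ∨ Cfsg.IsMinimalOver ((T : Subgroup H).map (QuotientGroup.mk' N)) := by
  classical
  obtain ⟨M, hM, hTM, hle⟩ := le_of_minimal hmin
  by_cases hNT : N ⊔ (T : Subgroup H) = ⊤
  · left; exact quot_pgroup_of_sup N T T.2 hNT
  · right
    have h1 : N ⊔ (T : Subgroup H) ≤ M := hle _ le_sup_right hNT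
    have hNM : N ≤ M := le_sup_left.trans h1
    have hker : (QuotientGroup.mk' N).ker ≤ M := by rw [QuotientGroup.ker_mk']; exact hNM
    refine ⟨?_, (M.map (QuotientGroup.mk' N)), ⟨coatom_map N M hM hNM, Subgroup.map_mono hTM⟩, ?_⟩
    · have := Subgroup.map_normalClosure ((T : Subgroup H) : Set H) (QuotientGroup.mk' N)
        (QuotientGroup.mk'_surjective N)
      rw [hmin.1, Subgroup.map_top_of_surjective _ (QuotientGroup.mk'_surjective N)] at this
      rw [Subgroup.coe_map]; exact this.symm
    · rintro K ⟨hK, hTK⟩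
      have h2 := coatom_comap N K hK
      have h3 : (T : Subgroup H) ≤ K.comap (QuotientGroup.mk' N) := by
        rw [← Subgroup.map_le_iff_le_comap]; exact hTK
      have h4 := hle _ h3 h2.1
      have h5 : K.comap (QuotientGroup.mk' N) = M := by
        by_contra hne
        exact hM.1 (h2.2 M (lt_of_le_of_ne h4 hne))
      rw [← h5, Subgroup.map_comap_eq_self_of_surjective (QuotientGroup.mk'_surjective N)]

end Cfsg.Agent.S2832
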