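import Cfsg.Statements.S2833
import Mathlib
import Cfsg.Agent.Lib.Helper1.Nil
import Cfsg.Agent.S0567
import Cfsg.Agent.S2819

set_option autoImplicit false
open Cfsg

namespace Cfsg.Agent.S2833

open scoped commutatorElement

theorem mem_normalizer_of_map_le {G : Type*} [Group G] [Finite G] (K : Subgroup G) (x : G)
    (h : K.map (MulAut.conj x).toMonoidHom ≤ K) : x ∈ Subgroup.normalizer (K : Set G) := by
  apply Cfsg.Agent.Lib.Helper1.mem_normalizer_of_map_conj_eq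
  apply Subgroup.eq_of_le_of_card_ge h
  rw [Subgroup.card_map_of_injective (MulAut.conj x).injective]

theorem comm_le {G : Type*} [Group G] (V L X : Subgroup G)
    (hLV : L ≤ Subgroup.normalizer (V : Set G)) (hXL : X ≤ L) : ⁅V, X⁆ ≤ V := by
  rw [Subgroup.commutator_le]
  intro v hv x hx
  have e : ⁅v, x⁆ = v * (x * v⁻¹ * x⁻¹) := by rw [commutatorElement_def]; group
  rw [e]
  exact V.mul_mem hv ((Subgroup.mem_normalizer_iff.1 (hLV (hXL hx)) v⁻¹).1 (V.inv_mem hv))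

theorem norm_sup {G : Type*} [Group G] [Finite G] (V X A B : Subgroup G)
    (hAX : A ≤ Subgroup.centralizer (X : Set G)) (hBV : B ≤ V)
    (hA : ∀ v ∈ V, ∀ x ∈ X, ⁅v, x⁆ ∈ A) :
    X ≤ Subgroup.normalizer ((A ⊔ B : Subgroup G) : Set G) := by
  intro x hx
  apply mem_normalizer_of_map_le
  rw [Subgroup.map_sup]
  refine sup_le ?_ ?_
  · rintro _ ⟨a, ha, rfl⟩
    have h1 := Subgroup.mem_centralizer_iff.1 (hAX ha) x hx
    have e : (MulAut.conj x).toMonoidHom a = a := by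
      simp only [MulEquiv.coe_toMonoidHom, MulAut.conj_apply]
      rw [h1]; group
    rw [e]; exact (le_sup_left : A ≤ A ⊔ B) ha
  · rintro _ ⟨b, hb, rfl⟩
    have e : (MulAut.conj x).toMonoidHom b = (⁅b, x⁆)⁻¹ * b := by
      simp only [MulEquiv.coe_toMonoidHom, MulAut.conj_apply, commutatorElement_def]; group
    rw [e]
    exact Subgroup.mul_mem _ ((le_sup_left : A ≤ A ⊔ B) (A.inv_mem (hA b (hBV hb) x hx)))
      ((le_sup_right : B ≤ A ⊔ B) hb)

theorem half {G : Type*} [Group G] [Finite G] (V L X X₂ : Subgroup G)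
    (hLV : L ≤ Subgroup.normalizer (V : Set G)) (hgen : X ⊔ X₂ = L)
    (hq : ⁅⁅V, X⁆, X⁆ = ⊥) (hq₂ : ⁅⁅V, X₂⁆, X₂⁆ = ⊥)
    (hBA : ∀ b ∈ ⁅V, X₂⁆, b ∈ Subgroup.centralizer (L : Set G) → b ∈ ⁅V, X⁆) :
    ⁅V, X⁆ ⊔ ⁅V, X₂⁆ = ⁅V, L⁆ ∧ ⁅V, L⁆ ⊓ Subgroup.centralizer (X : Set G) = ⁅V, X⁆ := by
  have hXL : X ≤ L := hgen ▸ le_sup_left
  have hX₂L : X₂ ≤ L := hgen ▸ le_sup_right
  have hAV : ⁅V, X⁆ ≤ V := comm_le V L X hLV hXL
  have hBV : ⁅V, X₂⁆ ≤ V := comm_le V L X₂ hLV hX₂L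
  have hVA : V ≤ Subgroup.normalizer ((⁅V, X⁆ : Subgroup G) : Set G) :=
    Cfsg.Agent.S0567.left_le_normalizer_commutator V X
  have hAX : ⁅V, X⁆ ≤ Subgroup.centralizer (X : Set G) :=
    Subgroup.commutator_eq_bot_iff_le_centralizer.1 hq
  have hBX₂ : ⁅V, X₂⁆ ≤ Subgroup.centralizer (X₂ : Set G) :=
    Subgroup.commutator_eq_bot_iff_le_centralizer.1 hq₂
  have hXN : X ≤ Subgroup.normalizer ((⁅V, X⁆ ⊔ ⁅V, X₂⁆ : Subgroup G) : Set G) :=
    norm_sup V X _ _ hAX hBV (fun v hv x hx => Subgroup.commutator_mem_commutator hv hx)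
  have hX₂N : X₂ ≤ Subgroup.normalizer ((⁅V, X⁆ ⊔ ⁅V, X₂⁆ : Subgroup G) : Set G) := by
    rw [sup_comm]
    exact norm_sup V X₂ _ _ hBX₂ hAV (fun v hv x hx => Subgroup.commutator_mem_commutator hv hx)
  have hLK : L ≤ Cfsg.Agent.S2819.kD V (⁅V, X⁆ ⊔ ⁅V, X₂⁆) := by
    rw [← hgen]
    refine sup_le ?_ ?_
    · intro x hx
      exact ⟨hXN hx, fun v hv => (le_sup_left : ⁅V, X⁆ ≤ _)
        (Subgroup.commutator_mem_commutator hv hx)⟩
    · intro x hx
      exact ⟨hX₂N hx, fun v hv => (le_sup_right : ⁅V, X₂⁆ ≤ _)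
        (Subgroup.commutator_mem_commutator hv hx)⟩
  have h1 : ⁅V, X⁆ ⊔ ⁅V, X₂⁆ = ⁅V, L⁆ := by
    apply le_antisymm
    · exact sup_le (Subgroup.commutator_mono le_rfl hXL) (Subgroup.commutator_mono le_rfl hX₂L)
    · rw [Subgroup.commutator_le]
      intro v hv l hl
      exact (hLK hl).2 v hv
  refine ⟨h1, ?_⟩
  rw [← h1]
  apply le_antisymm
  · intro w hw
    obtain ⟨hwAB, hwC⟩ := Subgroup.mem_inf.1 hw
    haveI : ((⁅V, X⁆ : Subgroup G).subgroupOf V).Normal :=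
      (Subgroup.normal_subgroupOf_iff_le_normalizer hAV).2 hVA
    have hwV : w ∈ V := (sup_le hAV hBV) hwAB
    have h2 : (⟨w, hwV⟩ : ↥V) ∈ (((⁅V, X⁆ : Subgroup G).subgroupOf V ⊔
        (⁅V, X₂⁆ : Subgroup G).subgroupOf V : Subgroup ↥V) : Set ↥V) := by
      rw [← Subgroup.subgroupOf_sup hAV hBV]; exact Subgroup.mem_subgroupOf.2 hwAB
    rw [Subgroup.normal_mul] at h2
    obtain ⟨a, ha, b, hb, hab⟩ := Set.mem_mul.1 h2
    have ha' : (a : G) ∈ ⁅V, X⁆ := Subgroup.mem_subgroupOf.1 ha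
    have hb' : (b : G) ∈ ⁅V, X₂⁆ := Subgroup.mem_subgroupOf.1 hb
    have hw' : w = (a : G) * (b : G) := by
      have := congrArg Subtype.val hab
      simpa using this.symm
    have hbX : (b : G) ∈ Subgroup.centralizer (X : Set G) := by
      have e : (b : G) = (a : G)⁻¹ * w := by rw [hw']; group
      rw [e]; exact Subgroup.mul_mem _ (Subgroup.inv_mem _ (hAX ha')) hwC
    have hbL : (b : G) ∈ Subgroup.centralizer (L : Set G) := by
      have h3 : X ⊔ X₂ ≤ Subgroup.centralizer ({(b : G)} : Set G) := by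
        refine sup_le ?_ ?_
        · intro x hx
          rw [Subgroup.mem_centralizer_singleton_iff]
          exact Subgroup.mem_centralizer_iff.1 hbX x hx
        · intro x hx
          rw [Subgroup.mem_centralizer_singleton_iff]
          exact Subgroup.mem_centralizer_iff.1 (hBX₂ hb') x hx
      rw [Subgroup.mem_centralizer_iff]
      intro l hl
      rw [← hgen] at hl
      exact Subgroup.mem_centralizer_singleton_iff.1 (h3 hl)
    rw [hw']; exact Subgroup.mul_mem _ ha' (hBA _ hb' hbL)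
  · exact le_inf le_sup_left hAX

theorem result {G : Type*} [Group G] [Finite G] (V L : Subgroup G) (hLV : L ≤ Subgroup.normalizer (V : Set G)) (X : Subgroup G) (hX : X ≤ L) (g : G) (hg : g ∈ L) (hq : ⁅⁅V, X⁆, X⁆ = ⊥) (hgen : X ⊔ X.map (MulAut.conj g).toMonoidHom = L) (W : Subgroup G) (hW : W = ⁅V, L⁆) : ⁅V, X⁆ ⊔ ⁅V, X.map (MulAut.conj g).toMonoidHom⁆ = W ∧ W ⊓ Subgroup.centralizer (X : Set G) = ⁅V, X⁆ ∧ W ⊓ Subgroup.centralizer (L : Set G) = ⁅V, X⁆ ⊓ ⁅V, X.map (MulAut.conj g).toMonoidHom⁆ := by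
  classical
  subst hW
  obtain ⟨X₂, hX₂⟩ : ∃ X₂, X₂ = X.map (MulAut.conj g).toMonoidHom := ⟨_, rfl⟩
  rw [← hX₂] at hgen ⊢
  have hgV : g ∈ Subgroup.normalizer (V : Set G) := hLV hg
  have hVg : V.map (MulAut.conj g).toMonoidHom = V :=
    Cfsg.Agent.Lib.Helper1.map_conj_eq_of_mem_normalizer V g hgV
  have hB : ⁅V, X₂⁆ = (⁅V, X⁆).map (MulAut.conj g).toMonoidHom := by
    rw [Subgroup.map_commutator, hVg, hX₂]
  have hq₂ : ⁅⁅V, X₂⁆, X₂⁆ = ⊥ := by
    rw [hB, hX₂, ← Subgroup.map_commutator, hq, Subgroup.map_bot]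
  have hcen : ∀ c ∈ Subgroup.centralizer (L : Set G), g * c * g⁻¹ = c := by
    intro c hc
    have h1 := Subgroup.mem_centralizer_iff.1 hc g hg
    rw [h1]; group
  have hBA : ∀ b ∈ ⁅V, X₂⁆, b ∈ Subgroup.centralizer (L : Set G) → b ∈ ⁅V, X⁆ := by
    intro b hb hbc
    rw [hB] at hb
    obtain ⟨a, ha, hab⟩ := hb
    have h1 : g * a * g⁻¹ = b := by simpa using hab
    have h2 := hcen b hbc
    have h3 : a = b := by
      have h4 : g * a * g⁻¹ = g * b * g⁻¹ := by rw [h1, h2]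
      simpa using h4
    rw [← h3]; exact ha
  have hAB : ∀ a ∈ ⁅V, X⁆, a ∈ Subgroup.centralizer (L : Set G) → a ∈ ⁅V, X₂⁆ := by
    intro a ha hac
    rw [hB]
    exact ⟨a, ha, by simpa using hcen a hac⟩
  obtain ⟨h1, h2⟩ := half V L X X₂ hLV hgen hq hq₂ hBA
  obtain ⟨h1', h2'⟩ := half V L X₂ X hLV (by rw [sup_comm]; exact hgen) hq₂ hq hAB
  have hXL : X ≤ L := hgen ▸ le_sup_left
  have hX₂L : X₂ ≤ L := hgen ▸ le_sup_right
  refine ⟨h1, h2, ?_⟩
  apply le_antisymm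
  · intro w hw
    obtain ⟨hwW, hwC⟩ := Subgroup.mem_inf.1 hw
    refine Subgroup.mem_inf.2 ⟨?_, ?_⟩
    · rw [← h2]; exact Subgroup.mem_inf.2 ⟨hwW, Subgroup.centralizer_le hXL hwC⟩
    · rw [← h2']; exact Subgroup.mem_inf.2 ⟨hwW, Subgroup.centralizer_le hX₂L hwC⟩
  · intro w hw
    obtain ⟨hwA, hwB⟩ := Subgroup.mem_inf.1 hw
    have hwA' := hwA
    have hwB' := hwB
    rw [← h2] at hwA'
    rw [← h2'] at hwB'
    refine Subgroup.mem_inf.2 ⟨(Subgroup.mem_inf.1 hwA').1, ?_⟩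
    have h3 : X ⊔ X₂ ≤ Subgroup.centralizer ({w} : Set G) := by
      refine sup_le ?_ ?_
      · intro x hx
        rw [Subgroup.mem_centralizer_singleton_iff]
        exact Subgroup.mem_centralizer_iff.1 (Subgroup.mem_inf.1 hwA').2 x hx
      · intro x hx
        rw [Subgroup.mem_centralizer_singleton_iff]
        exact Subgroup.mem_centralizer_iff.1 (Subgroup.mem_inf.1 hwB').2 x hx
    rw [Subgroup.mem_centralizer_iff]
    intro l hl
    rw [← hgen] at hl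
    exact Subgroup.mem_centralizer_singleton_iff.1 (h3 hl)

end Cfsg.Agent.S2833
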