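import Cfsg.Statements.S2835
import Mathlib
import Cfsg.Agent.Lib.Helper5.PIrr
import Cfsg.Agent.Lib.Helper2.SylowAux
import Cfsg.Agent.Lib.Helper1.Nil
import Cfsg.Agent.Lib.Helper3.Core

set_option autoImplicit false
open Cfsg

namespace Cfsg.Agent.S2835

open Cfsg.Agent.Lib.Helper5.PIrr

theorem conj_mem_map {L : Type*} [Group L] (Y : Subgroup L) (g y : L) (hy : y ∈ Y) :
    g * y * g⁻¹ ∈ Y.map (MulAut.conj g).toMonoidHom :=
  ⟨y, hy, by simp⟩

theorem comm_of_mem {L : Type*} [Group L] (Y : Subgroup L) (hc : ∀ a ∈ Y, ∀ b ∈ Y, a * b = b * a)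
    (g z : L) (hz1 : z ∈ Y) (hz2 : z ∈ Y.map (MulAut.conj g).toMonoidHom) :
    Y ⊔ Y.map (MulAut.conj g).toMonoidHom ≤ Subgroup.centralizer ({z} : Set L) := by
  refine sup_le ?_ ?_
  · intro y hy
    rw [Subgroup.mem_centralizer_singleton_iff]
    exact hc y hy z hz1
  · rintro _ ⟨y, hy, rfl⟩
    obtain ⟨z', hz', rfl⟩ := hz2
    rw [Subgroup.mem_centralizer_singleton_iff]
    simp only [MulEquiv.coe_toMonoidHom, MulAut.conj_apply]
    have := hc y hy z' hz'
    calc g * y * g⁻¹ * (g * z' * g⁻¹) = g * (y * z') * g⁻¹ := by group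
      _ = g * (z' * y) * g⁻¹ := by rw [this]
      _ = g * z' * g⁻¹ * (g * y * g⁻¹) := by group

theorem result {L : Type*} [Group L] [Finite L] {p : ℕ} [Fact p.Prime] (L₀ : Subgroup L) (hL₀ : IsCoatom L₀) (T : Sylow p ↥L₀) (Y : Subgroup L) (hYT : Y ≤ (T : Subgroup ↥L₀).map L₀.subtype) (hmin : Cfsg.IsMinimalOver Y) : Subgroup.normalizer (((T : Subgroup ↥L₀).map L₀.subtype : Subgroup L) : Set L) ≤ L₀ ∧ Cfsg.pCore p L ≤ L₀ ∧ (∃ P : Sylow p L, (P : Subgroup L) = (T : Subgroup ↥L₀).map L₀.subtype) ∧ Subgroup.normalizer (L₀ : Set L) = L₀ ∧ (∀ g : L, g ∉ L₀ → Y ⊔ Y.map (MulAut.conj g).toMonoidHom = ⊤) ∧ (IsMulCommutative ↥Y → ∀ g : L, g ∉ L₀ → Y ⊓ Y.map (MulAut.conj g).toMonoidHom = Y ⊓ Subgroup.center L) := by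
  classical
  obtain ⟨M, hM, hYM, hle0⟩ := le_of_minimal hmin
  have hTL : (T : Subgroup ↥L₀).map L₀.subtype ≤ L₀ := Subgroup.map_subtype_le _
  have hYL : Y ≤ L₀ := hYT.trans hTL
  have hML : L₀ = M := by
    by_contra hne
    have h1 := hle0 L₀ hYL hL₀.1
    exact hM.1 (hL₀.2 M (lt_of_le_of_ne h1 hne))
  subst hML
  have hnc := hmin.1
  have hnorm : ∀ K : Subgroup L, K.Normal → Y ≤ K → K = ⊤ := by
    intro K hK hYK
    rw [eq_top_iff, ← hnc]
    exact Subgroup.normalClosure_le_normal hYK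
  have hd : Subgroup.normalizer (L₀ : Set L) = L₀ := by
    by_contra hne
    have h1 : L₀ < Subgroup.normalizer (L₀ : Set L) :=
      lt_of_le_of_ne Subgroup.le_normalizer (Ne.symm hne)
    have h2 := hL₀.2 _ h1
    exact hL₀.1 (hnorm L₀ (Subgroup.normalizer_eq_top_iff.1 h2) hYL)
  have ha : Subgroup.normalizer (((T : Subgroup ↥L₀).map L₀.subtype : Subgroup L) : Set L) ≤ L₀ := by
    apply hle0 _ (hYT.trans Subgroup.le_normalizer)
    intro h
    have h2 := hnorm _ (Subgroup.normalizer_eq_top_iff.1 h) hYT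
    exact hL₀.1 (top_le_iff.1 (h2 ▸ hTL))
  have hTp : IsPGroup p ↥((T : Subgroup ↥L₀).map L₀.subtype) := T.2.map _
  have hc : ∃ P : Sylow p L, (P : Subgroup L) = (T : Subgroup ↥L₀).map L₀.subtype := by
    obtain ⟨P, hP⟩ := hTp.exists_le_sylow
    refine ⟨P, ?_⟩
    by_contra hne
    obtain ⟨x, hxP, hxT, hxn⟩ := Cfsg.Agent.Lib.Helper2.SylowAux.exists_normalizing_not_mem
      P.2 hP (Ne.symm hne)
    have hxN : x ∈ Subgroup.normalizer (((T : Subgroup ↥L₀).map L₀.subtype : Subgroup L) : Set L) := by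
      rw [Subgroup.mem_normalizer_iff]; exact hxn
    have hxL : x ∈ L₀ := ha hxN
    let K : Subgroup L := (T : Subgroup ↥L₀).map L₀.subtype ⊔ Subgroup.zpowers x
    have hKP : K ≤ (P : Subgroup L) := sup_le hP (by rw [Subgroup.zpowers_le]; exact hxP)
    have hKL : K ≤ L₀ := sup_le hTL (by rw [Subgroup.zpowers_le]; exact hxL)
    have hKp : IsPGroup p ↥K := P.2.to_le hKP
    have hKp' : IsPGroup p ↥(K.subgroupOf L₀) :=
      hKp.comap_of_injective L₀.subtype L₀.subtype_injective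
    have hTK : (T : Subgroup ↥L₀) ≤ K.subgroupOf L₀ := by
      intro t ht
      rw [Subgroup.mem_subgroupOf]
      exact (le_sup_left : _ ≤ K) ⟨t, ht, rfl⟩
    have h3 := T.3 hKp' hTK
    apply hxT
    have hxK : (⟨x, hxL⟩ : ↥L₀) ∈ K.subgroupOf L₀ := by
      rw [Subgroup.mem_subgroupOf]
      exact (le_sup_right : _ ≤ K) (Subgroup.mem_zpowers x)
    rw [h3] at hxK
    exact ⟨⟨x, hxL⟩, hxK, rfl⟩
  have he : ∀ g : L, g ∉ L₀ → Y ⊔ Y.map (MulAut.conj g).toMonoidHom = ⊤ := by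
    intro g hg
    by_contra hne
    have h1 := hle0 _ le_sup_left hne
    have h2 : Y.map (MulAut.conj g).toMonoidHom ≤ L₀ := le_sup_right.trans h1
    have h3 : Y ≤ L₀.map (MulAut.conj g⁻¹).toMonoidHom := by
      intro y hy
      rw [Cfsg.Agent.Lib.Helper1.mem_map_conj_iff]
      have := h2 (conj_mem_map Y g y hy)
      simpa using this
    have h4 : L₀.map (MulAut.conj g⁻¹).toMonoidHom ≠ ⊤ := by
      intro h
      apply hL₀.1
      have h5 := Subgroup.comap_map_eq_self_of_injective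
        (f := (MulAut.conj g⁻¹).toMonoidHom) (MulAut.conj g⁻¹).injective L₀
      rw [← h5, h, Subgroup.comap_top]
    have h5 := hle0 _ h3 h4
    have h6 : L₀.map (MulAut.conj g⁻¹).toMonoidHom = L₀ := by
      apply Subgroup.eq_of_le_of_card_ge h5
      rw [Subgroup.card_map_of_injective (MulAut.conj g⁻¹).injective]
    have h7 := Cfsg.Agent.Lib.Helper1.mem_normalizer_of_map_conj_eq L₀ g⁻¹ h6
    rw [hd] at h7
    exact hg (by simpa using L₀.inv_mem h7)
  refine ⟨ha, ?_, hc, hd, he, ?_⟩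
  · obtain ⟨P, hP⟩ := hc
    exact (Cfsg.Agent.Lib.Helper3.Core.pCore_le_sylow P).trans (hP ▸ hTL)
  · intro hcomm g hg
    have hcm : ∀ a ∈ Y, ∀ b ∈ Y, a * b = b * a := by
      intro a ha' b hb'
      have := hcomm.is_comm.comm (⟨a, ha'⟩ : ↥Y) ⟨b, hb'⟩
      exact congrArg Subtype.val this
    apply le_antisymm
    · intro z hz
      obtain ⟨hz1, hz2⟩ := Subgroup.mem_inf.1 hz
      refine Subgroup.mem_inf.2 ⟨hz1, ?_⟩
      have h1 := comm_of_mem Y hcm g z hz1 hz2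
      rw [he g hg] at h1
      rw [Subgroup.mem_center_iff]
      intro w
      have := Subgroup.mem_centralizer_singleton_iff.1 (h1 (Subgroup.mem_top w))
      exact this
    · intro z hz
      obtain ⟨hz1, hz2⟩ := Subgroup.mem_inf.1 hz
      refine Subgroup.mem_inf.2 ⟨hz1, ?_⟩
      rw [Subgroup.mem_center_iff] at hz2
      have e : z = g * z * g⁻¹ := by
        rw [hz2 g]; group
      rw [e]
      exact conj_mem_map Y g z hz1

end Cfsg.Agent.S2835
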