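import Cfsg.Statements.S2836
import Mathlib
import Cfsg.Agent.Lib.Helper3.Core
import Cfsg.Agent.Lib.Helper5.PRed
import Cfsg.Agent.Lib.Helper2.Local
import Cfsg.Agent.Lib.Helper2.CoprimeAct2

set_option autoImplicit false
open Cfsg

namespace Cfsg.Agent.S2836

open Cfsg.Agent.Lib.Helper5.PRed

theorem pclosed_of_normal_sylow {G : Type*} [Group G] [Finite G] {p : ℕ} [Fact p.Prime]
    (P : Sylow p G) (hP : (P : Subgroup G).Normal) : Cfsg.IsPClosed p G := by
  intro Q
  haveI := hP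
  obtain ⟨g, hg⟩ := MulAction.exists_smul_eq G P Q
  rw [Sylow.smul_eq_of_normal] at hg
  rw [← hg]; exact hP

theorem pcore_eq_of_normal_sylow {G : Type*} [Group G] [Finite G] {p : ℕ} [Fact p.Prime]
    (P : Sylow p G) (hP : (P : Subgroup G).Normal) : Cfsg.pCore p G = (P : Subgroup G) :=
  le_antisymm (Cfsg.Agent.Lib.Helper3.Core.pCore_le_sylow P)
    (Cfsg.Agent.Lib.Helper3.Core.le_pCore _ hP P.2)

theorem le_normal_sylow {G : Type*} [Group G] {p : ℕ} [Fact p.Prime]
    (P : Sylow p G) (hP : (P : Subgroup G).Normal) (R : Subgroup G) (hR : IsPGroup p R) :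
    R ≤ (P : Subgroup G) := by
  haveI := hP
  have h1 : IsPGroup p (R ⊔ (P : Subgroup G) : Subgroup G) :=
    IsPGroup.to_sup_of_normal_right hR P.2
  have h2 := P.is_maximal' h1 le_sup_right
  exact le_sup_left.trans (le_of_eq h2)

theorem coatom_map_mk {L : Type*} [Group L] (O : Subgroup L) [O.Normal] (K : Subgroup L)
    (hK : IsCoatom K) (hOK : O ≤ K) : IsCoatom (K.map (QuotientGroup.mk' O)) := by
  have hsurj : Function.Surjective (QuotientGroup.mk' O) := QuotientGroup.mk'_surjective O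
  have hcomap : (K.map (QuotientGroup.mk' O)).comap (QuotientGroup.mk' O) = K := by
    rw [Subgroup.comap_map_eq, QuotientGroup.ker_mk', sup_of_le_left hOK]
  constructor
  · intro h
    apply hK.1
    rw [← hcomap, h, Subgroup.comap_top]
  · intro J hJ
    have h1 : K ≤ J.comap (QuotientGroup.mk' O) := Subgroup.map_le_iff_le_comap.1 hJ.le
    have h2 : K ≠ J.comap (QuotientGroup.mk' O) := by
      intro h
      apply hJ.ne
      rw [h, Subgroup.map_comap_eq_self_of_surjective hsurj]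
    have h3 := hK.2 _ (lt_of_le_of_ne h1 h2)
    rw [← Subgroup.map_comap_eq_self_of_surjective hsurj J, h3]
    exact Subgroup.map_top_of_surjective _ hsurj

theorem main_aux {L : Type*} [Group L] [Finite L] {p : ℕ} [Fact p.Prime] (L₀ : Subgroup L)
    (hL₀ : IsCoatom L₀) (Y : Subgroup L) (hYp : IsPGroup p Y) (hYL₀ : Y ≤ L₀)
    (hgen : Subgroup.normalClosure (Y : Set L) = ⊤)
    (huL₀ : ∀ X : Subgroup L, IsCoatom X → Y ≤ X → X = L₀)
    (O : Subgroup L) [hOn : O.Normal] (hOdef : O = Cfsg.pCore p L) :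
    O ≤ L₀.normalCore ∧ (L₀.normalCore).map (QuotientGroup.mk' O) = frattini (L ⧸ O) ∧
      ∃ P : Sylow p ↥(L₀.normalCore),
        (P : Subgroup ↥(L₀.normalCore)) = O.subgroupOf L₀.normalCore := by
  classical
  have hp : p.Prime := Fact.out
  have hprop : ∀ X : Subgroup L, Y ≤ X → X ≠ ⊤ → X ≤ L₀ := by
    intro X hYX hX
    rcases eq_top_or_exists_le_coatom X with h | ⟨K, hK, hXK⟩
    · exact absurd h hX
    · rw [← huL₀ K hK (hYX.trans hXK)]; exact hXK
  have hL₀nn : ¬ L₀.Normal := by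
    intro hn
    haveI := hn
    have h1 : Subgroup.normalClosure (Y : Set L) ≤ L₀ :=
      Subgroup.normalClosure_le_normal (fun y hy => hYL₀ hy)
    rw [hgen] at h1
    exact hL₀.1 (top_le_iff.1 h1)
  have hOp : IsPGroup p O := by rw [hOdef]; exact Cfsg.Agent.Lib.Helper3.Core.pCore_isPGroup p
  have hOL₀ : O ≤ L₀ := by
    have h1 : IsPGroup p (Y ⊔ O : Subgroup L) := IsPGroup.to_sup_of_normal_right hYp hOp
    have h2 : Y ⊔ O ≠ ⊤ := by
      intro h
      rw [h] at h1
      have h3 : IsPGroup p L := by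
        intro g
        obtain ⟨k, hk⟩ := h1 ⟨g, Subgroup.mem_top g⟩
        refine ⟨k, ?_⟩
        have h4 := congrArg Subtype.val hk
        simpa only [Subgroup.coe_pow, Subgroup.coe_one] using h4
      haveI := h3.isNilpotent
      exact hL₀nn (Subgroup.NormalizerCondition.normal_of_coatom L₀
        Group.normalizerCondition_of_isNilpotent hL₀)
    exact le_sup_right.trans (hprop _ le_sup_left h2)
  obtain ⟨D, hDdef⟩ : ∃ D : Subgroup L, D = L₀.normalCore := ⟨_, rfl⟩
  rw [← hDdef]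
  have hDn : D.Normal := by rw [hDdef]; infer_instance
  haveI := hDn
  have hDL₀ : D ≤ L₀ := by rw [hDdef]; exact Subgroup.normalCore_le L₀
  have hOD : O ≤ D := by rw [hDdef]; exact Subgroup.normal_le_normalCore.2 hOL₀
  obtain ⟨S, hYS⟩ := hYp.exists_le_sylow
  have hOS : O ≤ (S : Subgroup L) := by
    rw [hOdef]; exact Cfsg.Agent.Lib.Helper3.Core.pCore_le_sylow S
  have hnD : ∀ g : L, g ∈ Subgroup.normalizer (D : Set L) := by
    intro g; rw [Subgroup.normalizer_eq_top_iff.2 hDn]; exact Subgroup.mem_top g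
  obtain ⟨P, hP⟩ := sylow_inf_of_le_normalizer S D (fun t _ => hnD t)
  have hSD : (S : Subgroup L) ⊓ D = O := by
    have hfr : Subgroup.normalizer ((((S : Subgroup L) ⊓ D : Subgroup L)) : Set L) ⊔ D = ⊤ := by
      have h1 := Sylow.normalizer_sup_eq_top P
      have h2 : (P : Subgroup D).map D.subtype = (S : Subgroup L) ⊓ D := by
        rw [hP, Subgroup.subgroupOf_map_subtype, inf_of_le_left inf_le_right]
      rw [h2] at h1
      exact h1
    have hYN : Y ≤ Subgroup.normalizer ((((S : Subgroup L) ⊓ D : Subgroup L)) : Set L) := by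
      intro y hy
      exact Cfsg.Agent.Lib.Helper2.Local.normalizer_inf_mem (Subgroup.le_normalizer (hYS hy))
        (hnD y)
    have hNtop : Subgroup.normalizer ((((S : Subgroup L) ⊓ D : Subgroup L)) : Set L) = ⊤ := by
      by_contra hne
      have h1 := hprop _ hYN hne
      have h2 : (⊤ : Subgroup L) ≤ L₀ := by
        rw [← hfr]; exact sup_le h1 hDL₀
      exact hL₀.1 (top_le_iff.1 h2)
    have hSDn : ((S : Subgroup L) ⊓ D).Normal := Subgroup.normalizer_eq_top_iff.1 hNtop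
    apply le_antisymm
    · rw [hOdef]
      exact Cfsg.Agent.Lib.Helper3.Core.le_pCore _ hSDn (S.2.to_le inf_le_left)
    · exact le_inf hOS hOD
  rw [hSD] at hP
  have hPidx : ¬ p ∣ O.relIndex D := by
    have h1 := Sylow.not_dvd_index P
    rw [hP] at h1
    exact h1
  refine ⟨hOD, ?_, P, hP⟩
  have hsurj : Function.Surjective (QuotientGroup.mk' O) := QuotientGroup.mk'_surjective O
  apply le_antisymm
  · unfold frattini Order.radical
    refine le_iInf₂ ?_
    intro X' hX'
    have hX'c : IsCoatom X' := hX'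
    by_contra hnot
    have htop : X' ⊔ D.map (QuotientGroup.mk' O) = ⊤ :=
      hX'c.2 _ (lt_of_le_of_ne le_sup_left
        (fun h => hnot (le_sup_right.trans (le_of_eq h.symm))))
    obtain ⟨X, hXdef⟩ : ∃ X : Subgroup L, X = X'.comap (QuotientGroup.mk' O) := ⟨_, rfl⟩
    have hOX : O ≤ X := by
      rw [hXdef]
      intro o ho
      rw [Subgroup.mem_comap]
      have h1 : (QuotientGroup.mk' O) o = 1 := (QuotientGroup.eq_one_iff o).2 ho
      rw [h1]; exact Subgroup.one_mem _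
    have hXmap : X.map (QuotientGroup.mk' O) = X' := by
      rw [hXdef]; exact Subgroup.map_comap_eq_self_of_surjective hsurj X'
    have hXne : X ≠ ⊤ := by
      intro h
      apply hX'c.1
      rw [← hXmap, h]; exact Subgroup.map_top_of_surjective _ hsurj
    have hXD : X ⊔ D = ⊤ := by
      have h1 : (X ⊔ D).map (QuotientGroup.mk' O) = ⊤ := by
        rw [Subgroup.map_sup, hXmap]; exact htop
      have h2 : ((X ⊔ D).map (QuotientGroup.mk' O)).comap (QuotientGroup.mk' O) = X ⊔ D := by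
        rw [Subgroup.comap_map_eq, QuotientGroup.ker_mk',
          sup_of_le_left (hOX.trans le_sup_left)]
      rw [← h2, h1, Subgroup.comap_top]
    have hidx : ¬ p ∣ Nat.card (L ⧸ X) := by
      rw [← Subgroup.index_eq_card]
      have e1 : D.relIndex (X ⊔ D) = D.relIndex X := Subgroup.relIndex_sup_right X D
      rw [hXD, Subgroup.relIndex_top_right] at e1
      have e2 : (D ⊓ X).relIndex X = D.relIndex X := Subgroup.inf_relIndex_right D X
      have e3 : (D ⊓ X).relIndex X * X.index = (D ⊓ X).index :=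
        Subgroup.relIndex_mul_index inf_le_right
      have e4 : (D ⊓ X).relIndex D * D.index = (D ⊓ X).index :=
        Subgroup.relIndex_mul_index inf_le_left
      have e5 : O.relIndex (D ⊓ X) * (D ⊓ X).relIndex D = O.relIndex D :=
        Subgroup.relIndex_mul_relIndex O (D ⊓ X) D (le_inf hOD hOX) inf_le_left
      have hD0 : D.index ≠ 0 := Subgroup.index_ne_zero_of_finite
      have e6 : X.index = (D ⊓ X).relIndex D := by
        have h7 : D.index * X.index = D.index * (D ⊓ X).relIndex D := by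
          rw [e2, ← e1] at e3
          rw [e3, ← e4, mul_comm]
        exact Nat.eq_of_mul_eq_mul_left (Nat.pos_of_ne_zero hD0) h7
      intro hdvd
      apply hPidx
      rw [← e5, ← e6]
      exact Dvd.dvd.mul_left hdvd _
    obtain ⟨q, hq⟩ := IsPGroup.nonempty_fixed_point_of_prime_not_dvd_card hYp (L ⧸ X) hidx
    obtain ⟨g, rfl⟩ := QuotientGroup.mk_surjective q
    rw [MulAction.mem_fixedPoints] at hq
    have hYg : ∀ y ∈ Y, g⁻¹ * y * g ∈ X := by
      intro y hy
      have h1 := hq ⟨y, hy⟩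
      have h2 : ((y * g : L) : L ⧸ X) = (g : L ⧸ X) := h1
      have h3 := QuotientGroup.eq.1 h2
      have h4 := X.inv_mem h3
      have e : ((y * g)⁻¹ * g)⁻¹ = g⁻¹ * y * g := by group
      rwa [e] at h4
    obtain ⟨φ, hφ⟩ : ∃ φ : L →* L, φ = (MulAut.conj g).toMonoidHom := ⟨_, rfl⟩
    have hφa : ∀ x, φ x = g * x * g⁻¹ := by intro x; rw [hφ]; rfl
    have hYX : Y ≤ X.map φ := by
      intro y hy
      refine ⟨g⁻¹ * y * g, hYg y hy, ?_⟩
      rw [hφa]; group
    have hXφne : X.map φ ≠ ⊤ := by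
      intro h
      apply hXne
      rw [eq_top_iff]
      intro x _
      have h1 : φ x ∈ X.map φ := by rw [h]; exact Subgroup.mem_top _
      obtain ⟨a, ha, hax⟩ := h1
      rw [hφa, hφa] at hax
      have h5 : a = x := mul_left_cancel (mul_right_cancel hax)
      rw [← h5]; exact ha
    have h1 := hprop _ hYX hXφne
    have h2 : (⊤ : Subgroup L) ≤ L₀ := by
      intro x _
      have hx : g⁻¹ * x * g ∈ X ⊔ D := by rw [hXD]; exact Subgroup.mem_top _
      obtain ⟨d, hd, a, ha, hda⟩ :=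
        Cfsg.Agent.Lib.Helper2.CoprimeAct.mem_sup_of_le_normalizer D X (fun a _ => hnD a)
          (by rw [sup_comm]; exact hx)
      have e : x = (g * d * g⁻¹) * (g * a * g⁻¹) := by
        have h5 : x = g * (g⁻¹ * x * g) * g⁻¹ := by group
        rw [h5, hda]; group
      rw [e]
      apply L₀.mul_mem
      · exact hDL₀ (hDn.conj_mem d hd g)
      · exact h1 ⟨a, ha, hφa a⟩
    exact hL₀.1 (top_le_iff.1 h2)
  · have h1 : frattini (L ⧸ O) ≤ L₀.map (QuotientGroup.mk' O) :=
      frattini_le_coatom (coatom_map_mk O L₀ hL₀ hOL₀)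
    have h2 : (frattini (L ⧸ O)).comap (QuotientGroup.mk' O) ≤ L₀ := by
      intro x hx
      obtain ⟨y, hy, hyx⟩ := h1 (Subgroup.mem_comap.1 hx)
      have hyx' : (y : L ⧸ O) = (x : L ⧸ O) := hyx
      have h3 : y⁻¹ * x ∈ O := QuotientGroup.eq.1 hyx'
      have e : x = y * (y⁻¹ * x) := by group
      rw [e]; exact L₀.mul_mem hy (hOL₀ h3)
    haveI hfn : ((frattini (L ⧸ O)).comap (QuotientGroup.mk' O)).Normal :=
      (Subgroup.normal_of_characteristic _).comap _
    have h3 : (frattini (L ⧸ O)).comap (QuotientGroup.mk' O) ≤ D := by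
      rw [hDdef]; exact Subgroup.normal_le_normalCore.2 h2
    rw [← Subgroup.map_comap_eq_self_of_surjective hsurj (frattini (L ⧸ O))]
    exact Subgroup.map_mono h3

theorem result {L : Type*} [Group L] [Finite L] {p : ℕ} [Fact p.Prime] (L₀ : Subgroup L) (hL₀ : IsCoatom L₀) (T : Sylow p ↥L₀) (Y : Subgroup L) (hYT : Y ≤ (T : Subgroup ↥L₀).map L₀.subtype) (hmin : Cfsg.IsMinimalOver Y) : (Cfsg.pCore p L ≤ L₀.normalCore ∧ (L₀.normalCore).map (QuotientGroup.mk' (Cfsg.pCore p L)) = frattini (L ⧸ Cfsg.pCore p L) ∧ Cfsg.IsPClosed p ↥(L₀.normalCore)) ∧ ∀ (N : Subgroup L) [N.Normal], N ≤ L₀ → Cfsg.IsPClosed p ↥N ∧ Group.IsNilpotent (↥N ⧸ Cfsg.pCore p ↥N) ∧ (Nat.card (↥N ⧸ Cfsg.pCore p ↥N)).Coprime p := by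
  classical
  have hp : p.Prime := Fact.out
  obtain ⟨hgen, M₀, ⟨hM₀c, hYM₀⟩, huniq⟩ := hmin
  have hYL₀ : Y ≤ L₀ := by
    intro y hy
    obtain ⟨t, -, rfl⟩ := hYT hy
    exact t.2
  have huL₀ : ∀ X : Subgroup L, IsCoatom X → Y ≤ X → X = L₀ := by
    intro X hX hYX
    rw [huniq X ⟨hX, hYX⟩, huniq L₀ ⟨hL₀, hYL₀⟩]
  have hYp : IsPGroup p Y := by
    have h1 : IsPGroup p ((T : Subgroup L₀).map L₀.subtype) := T.2.map _
    exact h1.to_le hYT
  obtain ⟨h1, h2, P, hP⟩ := main_aux L₀ hL₀ Y hYp hYL₀ hgen huL₀ (Cfsg.pCore p L) rfl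
  have hPn : (P : Subgroup ↥(L₀.normalCore)).Normal := by rw [hP]; infer_instance
  refine ⟨⟨h1, h2, pclosed_of_normal_sylow P hPn⟩, ?_⟩
  intro N hN hNL₀
  have hND : N ≤ L₀.normalCore := Subgroup.normal_le_normalCore.2 hNL₀
  have hpsub : ∀ R : Subgroup L, IsPGroup p R → R ≤ L₀.normalCore → R ≤ Cfsg.pCore p L := by
    intro R hR hRD
    have h3 := le_normal_sylow P hPn (R.subgroupOf L₀.normalCore) hR.comap_subtype
    rw [hP] at h3
    intro r hr
    have h4 : (⟨r, hRD hr⟩ : L₀.normalCore) ∈ R.subgroupOf L₀.normalCore :=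
      Subgroup.mem_subgroupOf.2 hr
    exact Subgroup.mem_subgroupOf.1 (h3 h4)
  obtain ⟨Q⟩ : Nonempty (Sylow p ↥N) := inferInstance
  have hQ : (Q : Subgroup ↥N) = (Cfsg.pCore p L).subgroupOf N := by
    have h3 : (Q : Subgroup ↥N) ≤ (Cfsg.pCore p L).subgroupOf N := by
      intro x hx
      rw [Subgroup.mem_subgroupOf]
      exact hpsub ((Q : Subgroup ↥N).map N.subtype) (Q.2.map _) (by
        rintro _ ⟨y, -, rfl⟩; exact hND y.2) ⟨x, hx, rfl⟩
    have h4 : IsPGroup p ((Cfsg.pCore p L).subgroupOf N) :=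
      (Cfsg.Agent.Lib.Helper3.Core.pCore_isPGroup p).comap_subtype
    exact (Q.is_maximal' h4 h3).symm
  have hQn : (Q : Subgroup ↥N).Normal := by rw [hQ]; infer_instance
  have hcore : Cfsg.pCore p ↥N = (Cfsg.pCore p L).subgroupOf N := by
    rw [pcore_eq_of_normal_sylow Q hQn, hQ]
  refine ⟨pclosed_of_normal_sylow Q hQn, ?_, ?_⟩
  · haveI : Group.IsNilpotent ↥(frattini (L ⧸ Cfsg.pCore p L)) := frattini_nilpotent
    obtain ⟨f, hf⟩ : ∃ f : ↥N →* ↥(frattini (L ⧸ Cfsg.pCore p L)),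
        ∀ n : ↥N, ((f n : ↥(frattini (L ⧸ Cfsg.pCore p L))) : L ⧸ Cfsg.pCore p L) =
          QuotientGroup.mk' (Cfsg.pCore p L) (n : L) := by
      refine ⟨((QuotientGroup.mk' (Cfsg.pCore p L)).comp N.subtype).codRestrict _ ?_,
        fun n => rfl⟩
      intro n
      rw [← h2]
      exact ⟨(n : L), hND n.2, rfl⟩
    have hker : Cfsg.pCore p ↥N ≤ f.ker := by
      intro n hn
      rw [hcore, Subgroup.mem_subgroupOf] at hn
      rw [MonoidHom.mem_ker]
      apply Subtype.ext
      rw [hf n]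
      exact (QuotientGroup.eq_one_iff _).2 hn
    apply Subgroup.isNilpotent_of_ker_le_center (QuotientGroup.lift (Cfsg.pCore p ↥N) f hker)
    intro q hq
    obtain ⟨n, rfl⟩ := QuotientGroup.mk_surjective q
    rw [MonoidHom.mem_ker, QuotientGroup.lift_mk] at hq
    have h5 : QuotientGroup.mk' (Cfsg.pCore p L) (n : L) = 1 := by
      rw [← hf n, hq]; rfl
    have h6 : n ∈ Cfsg.pCore p ↥N := by
      rw [hcore, Subgroup.mem_subgroupOf]
      exact (QuotientGroup.eq_one_iff _).1 h5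
    have h7 : (n : ↥N ⧸ Cfsg.pCore p ↥N) = 1 := (QuotientGroup.eq_one_iff n).2 h6
    rw [h7]; exact Subgroup.one_mem _
  · have h3 := Sylow.not_dvd_index Q
    rw [← pcore_eq_of_normal_sylow Q hQn, Subgroup.index_eq_card] at h3
    exact ((Nat.Prime.coprime_iff_not_dvd hp).2 h3).symm

end Cfsg.Agent.S2836
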