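import Cfsg.Statements.S2839
import Mathlib
import Cfsg.Agent.Lib.Helper5.WC
import Cfsg.Agent.Lib.Helper5.PIrr
import Cfsg.Agent.Lib.Helper3.Residual
import Cfsg.Agent.S2820

set_option autoImplicit false
open Cfsg

namespace Cfsg.Agent.S2839

open Cfsg.Agent.Lib.Helper5.WC Cfsg.Agent.Lib.Helper5.PIrr

theorem map_cj {H G' : Type*} [Group H] [Group G'] (π : H →* G') (Q : Subgroup H) (g : H) :
    (cj Q g).map π = cj (Q.map π) (π g) := by
  ext y
  constructor
  · rintro ⟨_, ⟨q, hq, rfl⟩, rfl⟩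
    exact ⟨π q, ⟨q, hq, rfl⟩, by simp⟩
  · rintro ⟨_, ⟨q, hq, rfl⟩, rfl⟩
    exact ⟨g * q * g⁻¹, ⟨q, hq, by simp⟩, by simp⟩

theorem conj_in {H : Type*} [Group H] [Finite H] {p : ℕ} [Fact p.Prime] {Q : Subgroup H}
    (hwc : Cfsg.IsWeaklyClosedSubgroup p Q) (K : Subgroup H) (S : Sylow p ↥K)
    (hQS : Q.subgroupOf K ≤ (S : Subgroup ↥K)) (hQK : Q ≤ K) (g : H) (k : ↥K) (hg : cj Q g ≤ K)
    (hk : (cj Q g).subgroupOf K ≤ ((k • S : Sylow p ↥K) : Subgroup ↥K)) :
    cj Q ((k : H)⁻¹ * g) = Q := by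
  have hRp : IsPGroup p ↥((S : Subgroup ↥K).map K.subtype) := S.2.map _
  have hQR : Q ≤ (S : Subgroup ↥K).map K.subtype := by
    intro q hq
    exact ⟨⟨q, hQK hq⟩, hQS (Subgroup.mem_subgroupOf.2 hq), rfl⟩
  apply wc_pgroup hwc _ hRp _ hQR
  rw [← cj_mul]
  intro y hy
  rw [mem_cj, inv_inv] at hy
  have h1 : (⟨(k : H) * y * (k : H)⁻¹, hg hy⟩ : ↥K) ∈ k • S := hk (Subgroup.mem_subgroupOf.2 hy)
  rw [Cfsg.Agent.Lib.Helper1.sylow_smul_mem_iff] at h1
  refine ⟨_, h1, ?_⟩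
  simp only [Subgroup.coe_subtype, Subgroup.coe_mul, Subgroup.coe_inv]
  group

theorem result {H : Type*} [Group H] [Finite H] {p : ℕ} [Fact p.Prime] (Q : Subgroup H) (hQp : IsPGroup p ↥Q) (hQ1 : Q ≠ ⊥) (hwc : Cfsg.IsWeaklyClosedSubgroup p Q) (K : Subgroup H) (hQK : Q ≤ K) (N' : Subgroup H) [N'.Normal] : Cfsg.IsWeaklyClosedSubgroup p (Q.subgroupOf K) ∧ (∀ g : H, ((Q : Subgroup H).map (MulAut.conj (g : H)).toMonoidHom) ≤ K → ∃ k ∈ K, ((Q : Subgroup H).map (MulAut.conj (g : H)).toMonoidHom) = ((Q : Subgroup H).map (MulAut.conj (k : H)).toMonoidHom)) ∧ Cfsg.IsParabolic p ((Subgroup.normalizer ((Q : Subgroup H) : Set H)).subgroupOf K) ∧ (N' ⊓ Subgroup.normalizer ((Q : Subgroup H) : Set H)) ⊔ (Cfsg.pResidual p ↥N').map N'.subtype = N' ∧ Cfsg.IsWeaklyClosedSubgroup p (Q.map (QuotientGroup.mk' N')) := by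
  classical
  have hQKp : IsPGroup p ↥(Q.subgroupOf K) :=
    hQp.comap_of_injective _ (Subgroup.subtype_injective _)
  obtain ⟨S, hQS⟩ := hQKp.exists_le_sylow
  have hRp : IsPGroup p ↥((S : Subgroup ↥K).map K.subtype) := S.2.map _
  have hQR : Q ≤ (S : Subgroup ↥K).map K.subtype := by
    intro q hq
    exact ⟨⟨q, hQK hq⟩, hQS (Subgroup.mem_subgroupOf.2 hq), rfl⟩
  refine ⟨?_, ?_, ?_, ?_, ?_⟩
  · apply wc_of_B _ hQKp
    intro R' hR' hQR' x hx
    have hRp' : IsPGroup p ↥(R'.map K.subtype) := hR'.map _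
    have hQR'' : Q ≤ R'.map K.subtype := by
      intro q hq
      exact ⟨⟨q, hQK hq⟩, hQR' (Subgroup.mem_subgroupOf.2 hq), rfl⟩
    have hxN : (x : H) ∈ Subgroup.normalizer ((R'.map K.subtype : Subgroup H) : Set H) := by
      rw [Subgroup.mem_normalizer_iff] at hx ⊢
      intro y
      constructor
      · rintro ⟨r, hr, rfl⟩
        exact ⟨x * r * x⁻¹, (hx r).1 hr, rfl⟩
      · rintro ⟨r, hr, hry⟩
        refine ⟨x⁻¹ * r * x, ?_, ?_⟩
        · have e : x * (x⁻¹ * r * x) * x⁻¹ = r := by group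
          have h2 := (hx (x⁻¹ * r * x)).2 (by rw [e]; exact hr)
          exact h2
        · simp only [Subgroup.coe_subtype, Subgroup.coe_mul, Subgroup.coe_inv] at hry ⊢
          rw [hry]; group
    have h1 := wc_normalizer_le hwc _ hRp' hQR'' hxN
    rw [Subgroup.mem_normalizer_iff] at h1 ⊢
    intro y
    rw [Subgroup.mem_subgroupOf, Subgroup.mem_subgroupOf]
    exact h1 (y : H)
  · intro g hg
    have hgp : IsPGroup p ↥((cj Q g).subgroupOf K) :=
      (cj_isPGroup hQp g).comap_of_injective _ (Subgroup.subtype_injective _)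
    obtain ⟨S₂, hS₂⟩ := hgp.exists_le_sylow
    obtain ⟨k, rfl⟩ := MulAction.exists_smul_eq ↥K S S₂
    have h1 := conj_in hwc K S hQS hQK g k hg hS₂
    refine ⟨(k : H), k.2, ?_⟩
    calc cj Q g = cj (cj Q ((k : H)⁻¹ * g)) (k : H) := by rw [cj_mul]; congr 1; group
      _ = cj Q (k : H) := by rw [h1]
  · refine ⟨S, ?_⟩
    intro x hx
    rw [Subgroup.mem_subgroupOf]
    have h1 : (x : H) ∈ (S : Subgroup ↥K).map K.subtype := ⟨x, hx, rfl⟩
    exact wc_normalizer_le hwc _ hRp hQR (Subgroup.le_normalizer h1)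
  · obtain ⟨K₄, hK₄⟩ : ∃ K₄ : Subgroup H, K₄ = Q ⊔ N' := ⟨_, rfl⟩
    have hQK₄ : Q ≤ K₄ := hK₄ ▸ le_sup_left
    have hNK₄ : N' ≤ K₄ := hK₄ ▸ le_sup_right
    have hQ4p : IsPGroup p ↥(Q.subgroupOf K₄) :=
      hQp.comap_of_injective _ (Subgroup.subtype_injective _)
    obtain ⟨S₄, hQS₄⟩ := hQ4p.exists_le_sylow
    obtain ⟨RH, hRH⟩ : ∃ RH : Subgroup H, RH = (Cfsg.pResidual p ↥N').map N'.subtype := ⟨_, rfl⟩
    rw [← hRH]
    have hRHn : RH.Normal := hRH ▸ Cfsg.Agent.S2820.pres_map_normal p N'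
    have hRHN : RH ≤ N' := hRH ▸ Subgroup.map_subtype_le _
    haveI : (N'.subgroupOf K₄).Normal := Subgroup.Normal.subgroupOf inferInstance K₄
    have hres : Cfsg.pResidual p ↥K₄ ≤ RH.subgroupOf K₄ := by
      have h1 : Cfsg.pResidual p ↥K₄ ≤ N'.subgroupOf K₄ := pres_le_of_sup _ _ hQ4p (by
        rw [← Subgroup.subgroupOf_sup hNK₄ hQK₄, sup_comm, ← hK₄, Subgroup.subgroupOf_self])
      show Subgroup.closure {g : ↥K₄ | Nat.Coprime (orderOf g) p} ≤ _
      rw [Subgroup.closure_le]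
      intro x hx
      have hx' : Nat.Coprime (orderOf x) p := hx
      have hxN : (x : H) ∈ N' := Subgroup.mem_subgroupOf.1 (h1 (Subgroup.subset_closure hx))
      show (x : H) ∈ RH
      rw [hRH]
      refine ⟨⟨(x : H), hxN⟩, Subgroup.subset_closure ?_, rfl⟩
      show Nat.Coprime (orderOf (⟨(x : H), hxN⟩ : ↥N')) p
      have e1 : orderOf (⟨(x : H), hxN⟩ : ↥N') = orderOf (x : H) :=
        (Subgroup.orderOf_coe (⟨(x : H), hxN⟩ : ↥N')).symm
      rw [e1, Subgroup.orderOf_coe]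
      exact hx'
    apply le_antisymm
    · exact sup_le inf_le_left hRHN
    · intro n hn
      have hnK : n ∈ K₄ := hNK₄ hn
      have hgK : cj Q n ≤ K₄ := by
        rintro _ ⟨q, hq, rfl⟩
        simp only [MulEquiv.coe_toMonoidHom, MulAut.conj_apply]
        exact K₄.mul_mem (K₄.mul_mem hnK (hQK₄ hq)) (K₄.inv_mem hnK)
      have hgp : IsPGroup p ↥((cj Q n).subgroupOf K₄) :=
        (cj_isPGroup hQp n).comap_of_injective _ (Subgroup.subtype_injective _)
      obtain ⟨S₂, hS₂⟩ := hgp.exists_le_sylow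
      obtain ⟨x, rfl⟩ := MulAction.exists_smul_eq ↥K₄ S₄ S₂
      have htop : (RH.subgroupOf K₄) ⊔ (S₄ : Subgroup ↥K₄) = ⊤ := by
        have h2 := Cfsg.Agent.Lib.Helper3.Residual.sup_pResidual_eq_top (S₄ : Subgroup ↥K₄)
          S₄.not_dvd_index
        rw [eq_top_iff, ← h2]
        exact sup_le le_sup_right (hres.trans le_sup_left)
      haveI : (RH.subgroupOf K₄).Normal := hRHn.subgroupOf K₄
      have hx : x ∈ ((RH.subgroupOf K₄ ⊔ (S₄ : Subgroup ↥K₄) : Subgroup ↥K₄) : Set ↥K₄) := by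
        rw [htop]; exact Set.mem_univ x
      rw [Subgroup.normal_mul] at hx
      obtain ⟨r, hr, t, ht, rfl⟩ := Set.mem_mul.1 hx
      have e : (r * t) • S₄ = r • S₄ := by
        rw [mul_smul]
        congr 1
        exact Sylow.smul_eq_iff_mem_normalizer.2 (Subgroup.le_normalizer ht)
      rw [e] at hS₂
      have h1 := conj_in hwc K₄ S₄ hQS₄ hQK₄ n r hgK hS₂
      have hrR : (r : H) ∈ RH := Subgroup.mem_subgroupOf.1 hr
      have h2 : (r : H)⁻¹ * n ∈ N' ⊓ Subgroup.normalizer (Q : Set H) :=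
        Subgroup.mem_inf.2 ⟨N'.mul_mem (N'.inv_mem (hRHN hrR)) hn, (cj_eq_iff Q _).1 h1⟩
      have e2 : n = (r : H) * ((r : H)⁻¹ * n) := by group
      rw [e2]
      exact Subgroup.mul_mem _ ((le_sup_right : RH ≤ _) hrR)
        ((le_sup_left : N' ⊓ Subgroup.normalizer (Q : Set H) ≤ _) h2)
  · obtain ⟨T, hQT, hT⟩ := id hwc
    have hsurj : Function.Surjective (QuotientGroup.mk' N') := QuotientGroup.mk'_surjective N'
    refine ⟨T.mapSurjective hsurj, ?_, ?_⟩
    · rw [Sylow.coe_mapSurjective]; exact Subgroup.map_mono hQT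
    · intro gb hgb
      obtain ⟨g, rfl⟩ := hsurj gb
      rw [Sylow.coe_mapSurjective] at hgb
      have hgb' : (cj Q g).map (QuotientGroup.mk' N') ≤ (T : Subgroup H).map (QuotientGroup.mk' N') := by
        rw [map_cj]; exact hgb
      have h1 : cj Q g ≤ (T : Subgroup H) ⊔ N' := by
        have h2 := Subgroup.comap_mono (f := QuotientGroup.mk' N') hgb'
        rw [Subgroup.comap_map_eq, Subgroup.comap_map_eq, QuotientGroup.ker_mk'] at h2
        exact le_sup_left.trans h2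
      have hTK : (T : Subgroup H) ≤ (T : Subgroup H) ⊔ N' := le_sup_left
      have hQS₅ : Q.subgroupOf ((T : Subgroup H) ⊔ N') ≤
          ((T.subtype hTK : Sylow p ↥((T : Subgroup H) ⊔ N')) : Subgroup ↥((T : Subgroup H) ⊔ N')) := by
        intro x hx
        rw [Sylow.coe_subtype, Subgroup.mem_subgroupOf]
        exact hQT (Subgroup.mem_subgroupOf.1 hx)
      have hgp : IsPGroup p ↥((cj Q g).subgroupOf ((T : Subgroup H) ⊔ N')) :=
        (cj_isPGroup hQp g).comap_of_injective _ (Subgroup.subtype_injective _)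
      obtain ⟨S₂, hS₂⟩ := hgp.exists_le_sylow
      obtain ⟨k, rfl⟩ := MulAction.exists_smul_eq ↥((T : Subgroup H) ⊔ N') (T.subtype hTK) S₂
      have h2 := conj_in hwc _ (T.subtype hTK) hQS₅ (hQT.trans hTK) g k h1 hS₂
      have hk : (k : H) ∈ ((N' ⊔ (T : Subgroup H) : Subgroup H) : Set H) := by
        rw [sup_comm]; exact k.2
      rw [Subgroup.normal_mul] at hk
      obtain ⟨n, hn, t, ht, hnt⟩ := Set.mem_mul.1 hk
      have h3 : cj Q t = Q := (cj_eq_iff Q t).2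
        (wc_normalizer_le hwc T T.2 hQT (Subgroup.le_normalizer ht))
      have h4 : cj Q g = cj Q n := by
        calc cj Q g = cj (cj Q ((k : H)⁻¹ * g)) (k : H) := by rw [cj_mul]; congr 1; group
          _ = cj Q (k : H) := by rw [h2]
          _ = cj (cj Q t) n := by rw [cj_mul, hnt]
          _ = cj Q n := by rw [h3]
      show cj (Q.map (QuotientGroup.mk' N')) ((QuotientGroup.mk' N') g) = Q.map (QuotientGroup.mk' N')
      rw [← map_cj, h4, map_cj]
      have h5 : (QuotientGroup.mk' N') n = 1 := (QuotientGroup.eq_one_iff n).2 hn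
      rw [h5, cj_one]

end Cfsg.Agent.S2839
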