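import Cfsg.Statements.S2840
import Mathlib
import Cfsg.Agent.Lib.Helper5.WC
import Cfsg.Agent.S2839

set_option autoImplicit false
open Cfsg

namespace Cfsg.Agent.S2840

open Cfsg.Agent.Lib.Helper5.WC

theorem sn_contains {K : Type*} [Group K] [Finite K] {p : ℕ} [Fact p.Prime] (Q : Subgroup K)
    (hQp : IsPGroup p Q) (hQ1 : Q ≠ ⊥) (hwc : Cfsg.IsWeaklyClosedSubgroup p Q) (S : Subgroup K)
    (hS : S.IsSubnormal) : Q ≤ S → ∀ k : K, cj Q k ≤ S := by
  induction hS with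
  | top => intro _ k; exact le_top
  | step S M hSM hM hN ih =>
    intro hQS k
    have h1 := ih (hQS.trans hSM) k
    obtain ⟨m, hm, hkm⟩ := (Cfsg.Agent.S2839.result Q hQp hQ1 hwc M (hQS.trans hSM) ⊥).2.1 k h1
    have hMN : M ≤ Subgroup.normalizer (S : Set K) :=
      (Subgroup.normal_subgroupOf_iff_le_normalizer hSM).1 hN
    have h2 : cj Q k = cj Q m := hkm
    rw [h2]
    calc cj Q m ≤ cj S m := cj_mono hQS m
      _ = S := (cj_eq_iff S m).2 (hMN hm)

theorem result {H : Type*} [Group H] [Finite H] {p : ℕ} [Fact p.Prime] (Q : Subgroup H) (hQp : IsPGroup p ↥Q) (hQ1 : Q ≠ ⊥) (hwc : Cfsg.IsWeaklyClosedSubgroup p Q) (K : Subgroup H) (hQK : Q ≤ K) (Kc : Subgroup H) (hKc : Kc = Cfsg.weakClosure Q K) : Kc = ⨆ k : ↥K, ((Q : Subgroup H).map (MulAut.conj ((k : H) : H)).toMonoidHom) ∧ Kc = (Cfsg.subnormalClosure (Q.subgroupOf K)).map K.subtype := by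
  classical
  subst hKc
  have h1 : Cfsg.weakClosure Q K = ⨆ k : ↥K, cj Q (k : H) := by
    unfold Cfsg.weakClosure
    apply le_antisymm
    · apply iSup_le
      rintro ⟨g, hg⟩
      obtain ⟨k, hk, hgk⟩ := (Cfsg.Agent.S2839.result Q hQp hQ1 hwc K hQK ⊥).2.1 g hg
      show cj Q g ≤ _
      rw [show cj Q g = cj Q k from hgk]
      exact le_iSup (fun k : ↥K => cj Q (k : H)) ⟨k, hk⟩
    · apply iSup_le
      intro k
      have hk : cj Q (k : H) ≤ K := by
        rintro _ ⟨q, hq, rfl⟩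
        simp only [MulEquiv.coe_toMonoidHom, MulAut.conj_apply]
        exact K.mul_mem (K.mul_mem k.2 (hQK hq)) (K.inv_mem k.2)
      exact le_iSup (fun g : {g : H // Q.map (MulAut.conj g).toMonoidHom ≤ K} =>
        Q.map (MulAut.conj (g : H)).toMonoidHom) ⟨(k : H), hk⟩
  refine ⟨h1, ?_⟩
  rw [h1]
  obtain ⟨Q', hQ'⟩ : ∃ Q' : Subgroup ↥K, Q' = Q.subgroupOf K := ⟨_, rfl⟩
  rw [← hQ']
  have hQ'p : IsPGroup p ↥Q' := by
    rw [hQ']; exact hQp.comap_of_injective _ (Subgroup.subtype_injective _)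
  have hQ'1 : Q' ≠ ⊥ := by
    intro h
    apply hQ1
    rw [hQ', Subgroup.subgroupOf_eq_bot, disjoint_iff, inf_of_le_left hQK] at h
    exact h
  have hwc' : Cfsg.IsWeaklyClosedSubgroup p Q' := by
    rw [hQ']; exact (Cfsg.Agent.S2839.result Q hQp hQ1 hwc K hQK ⊥).1
  obtain ⟨NC, hNC⟩ : ∃ NC : Subgroup ↥K, NC = ⨆ k : ↥K, cj Q' k := ⟨_, rfl⟩
  have hNCn : NC.Normal := by
    constructor
    intro n hn g
    have h2 : cj NC g ≤ NC := by
      rw [hNC]
      show (⨆ k : ↥K, cj Q' k).map _ ≤ _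
      rw [Subgroup.map_iSup]
      apply iSup_le
      intro k
      show cj (cj Q' k) g ≤ _
      rw [cj_mul]
      exact le_iSup (fun k : ↥K => cj Q' k) (g * k)
    exact h2 (conj_mem_cj NC g n hn)
  have hQNC : Q' ≤ NC := by
    have h2 := le_iSup (fun k : ↥K => cj Q' k) 1
    simp only [cj_one] at h2
    rw [hNC]; exact h2
  have hsn : Cfsg.subnormalClosure Q' = NC := by
    unfold Cfsg.subnormalClosure
    apply le_antisymm
    · exact sInf_le ⟨hQNC, hNCn.isSubnormal⟩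
    · apply le_sInf
      rintro S ⟨hQS, hS⟩
      rw [hNC]
      apply iSup_le
      intro k
      exact sn_contains Q' hQ'p hQ'1 hwc' S hS hQS k
  rw [hsn, hNC, Subgroup.map_iSup]
  congr 1
  funext k
  rw [Cfsg.Agent.S2839.map_cj]
  have e : Q'.map K.subtype = Q := by
    rw [hQ', Subgroup.subgroupOf_map_subtype, inf_of_le_left hQK]
  rw [e]
  rfl

end Cfsg.Agent.S2840
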