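import Cfsg.Statements.S2841
import Mathlib
import Cfsg.Agent.S0028
import Cfsg.Agent.Lib.Helper2.SylowAux
import Cfsg.Agent.Lib.Helper5.SylowAux

set_option autoImplicit false
open Cfsg

namespace Cfsg.Agent.S2841

open scoped commutatorElement

theorem result {H : Type*} [Group H] [Finite H] {p : ℕ} [Fact p.Prime] (Q : Subgroup H) (hQp : IsPGroup p ↥Q) (hQ1 : Q ≠ ⊥) (hwc : Cfsg.IsWeaklyClosedSubgroup p Q) (N' : Subgroup H) [N'.Normal] : (∀ n : H, n ∈ N' → ∃ a ∈ N' ⊓ Subgroup.normalizer ((Q : Subgroup H) : Set H), ∃ b ∈ ⁅N', Q⁆, n = a * b) ∧ (∀ c : H, c ∈ ⁅N', Q⁆ → ∃ a ∈ Q ⊓ ⁅N', Q⁆, ∃ b ∈ ⁅⁅N', Q⁆, Q⁆, c = a * b) := by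
  obtain ⟨T, hQT, hT⟩ := hwc
  have hMN : ⁅N', Q⁆ ≤ N' := Subgroup.commutator_le_left N' Q
  have hQnM : Q ≤ Subgroup.normalizer ((⁅N', Q⁆ : Subgroup H) : Set H) :=
    Cfsg.Agent.S0567.right_le_normalizer_commutator N' Q
  have key1 : ∀ n : H, n ∈ N' → ∃ a ∈ N' ⊓ Subgroup.normalizer ((Q : Subgroup H) : Set H),
      ∃ b ∈ ⁅N', Q⁆, n = a * b := by
    intro n hn
    have hQK : Q ≤ ⁅N', Q⁆ ⊔ Q := le_sup_right
    have hW2 : Q.map (MulAut.conj n⁻¹).toMonoidHom ≤ ⁅N', Q⁆ ⊔ Q := by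
      rintro _ ⟨q, hq, rfl⟩
      have e : (MulAut.conj n⁻¹).toMonoidHom q = ⁅n⁻¹, q⁆ * q := by
        simp [commutatorElement_def]
      rw [e]
      exact mul_mem (Subgroup.mem_sup_left (Subgroup.commutator_mem_commutator (N'.inv_mem hn) hq))
        (Subgroup.mem_sup_right hq)
    have hp2 : IsPGroup p (Q.map (MulAut.conj n⁻¹).toMonoidHom) := hQp.map _
    obtain ⟨k, hk, R, hR, hQR, hkR⟩ :=
      Cfsg.Agent.Lib.Helper2.SylowAux.exists_conj_common hQK hW2 hQp hp2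
    obtain ⟨g, hg⟩ := Cfsg.Agent.Lib.Helper5.SylowAux.sylow_conj_le T R hR
    have hg1 : Q.map (MulAut.conj g).toMonoidHom = Q := by
      apply hT
      rintro _ ⟨q, hq, rfl⟩
      exact hg q (hQR hq)
    have hg2 : Q.map (MulAut.conj (g * k * n⁻¹)).toMonoidHom = Q := by
      apply hT
      rintro _ ⟨q, hq, rfl⟩
      have h1 := hg _ (hkR _ ⟨q, hq, rfl⟩)
      have e : (MulAut.conj (g * k * n⁻¹)).toMonoidHom q =
          g * (k * (MulAut.conj n⁻¹).toMonoidHom q * k⁻¹) * g⁻¹ := by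
        simp only [MulEquiv.coe_toMonoidHom, MulAut.conj_apply]
        group
      rw [e]
      exact h1
    have hgN : g ∈ Subgroup.normalizer (Q : Set H) := Subgroup.mem_normalizer_iff_map_conj_eq.mpr hg1
    have hgkn : g * k * n⁻¹ ∈ Subgroup.normalizer (Q : Set H) :=
      Subgroup.mem_normalizer_iff_map_conj_eq.mpr hg2
    have hkn : k * n⁻¹ ∈ Subgroup.normalizer (Q : Set H) := by
      have h1 := mul_mem (inv_mem hgN) hgkn
      have e : g⁻¹ * (g * k * n⁻¹) = k * n⁻¹ := by group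
      rwa [e] at h1
    obtain ⟨c, hc, q, hq, hcq⟩ := Cfsg.Agent.S0023.mem_sup_of_le_normalizer ⁅N', Q⁆ Q hQnM
      (inv_mem hk)
    have hk' : k = q⁻¹ * c⁻¹ := by
      rw [← inv_inv k, hcq]; group
    have hnc : n * c ∈ Subgroup.normalizer (Q : Set H) := by
      have h1 := mul_mem (Subgroup.le_normalizer hq) hkn
      have e : q * (k * n⁻¹) = (n * c)⁻¹ := by rw [hk']; group
      rw [e] at h1
      have h2 := inv_mem h1
      rwa [inv_inv] at h2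
    refine ⟨n * c, Subgroup.mem_inf.mpr ⟨N'.mul_mem hn (hMN hc), hnc⟩, c⁻¹, inv_mem hc, by group⟩
  refine ⟨key1, ?_⟩
  have hQn2 : Q ≤ Subgroup.normalizer ((⁅⁅N', Q⁆, Q⁆ : Subgroup H) : Set H) :=
    Cfsg.Agent.S0567.right_le_normalizer_commutator _ Q
  have hL : ⁅N', Q⁆ ≤ ⁅⁅N', Q⁆, Q⁆ ⊔ Q := by
    rw [Subgroup.commutator_le]
    intro n hn q hq
    obtain ⟨a, ha, b, hb, rfl⟩ := key1 n hn
    have haQ := (Subgroup.mem_inf.mp ha).2
    have haN' : a ∈ Subgroup.normalizer ((N' : Subgroup H) : Set H) := by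
      rw [Subgroup.normalizer_eq_top]; trivial
    have haM : a ∈ Subgroup.normalizer ((⁅N', Q⁆ : Subgroup H) : Set H) :=
      Cfsg.Agent.S0028.mem_normalizer_commutator N' Q a haN' haQ
    have haM2 : a ∈ Subgroup.normalizer ((⁅⁅N', Q⁆, Q⁆ : Subgroup H) : Set H) :=
      Cfsg.Agent.S0028.mem_normalizer_commutator _ Q a haM haQ
    have haL : a ∈ Subgroup.normalizer ((⁅⁅N', Q⁆, Q⁆ ⊔ Q : Subgroup H) : Set H) :=
      Subgroup.normalizer_inf_normalizer_le_normalizer_sup _ _ (Subgroup.mem_inf.mpr ⟨haM2, haQ⟩)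
    have e : ⁅a * b, q⁆ = a * (⁅b, q⁆ * q) * a⁻¹ * q⁻¹ := by
      simp only [commutatorElement_def]; group
    rw [e]
    refine mul_mem ?_ (inv_mem (Subgroup.mem_sup_right hq))
    exact (Subgroup.mem_normalizer_iff.mp haL _).mp (mul_mem
      (Subgroup.mem_sup_left (Subgroup.commutator_mem_commutator hb hq)) (Subgroup.mem_sup_right hq))
  intro c hc
  obtain ⟨d, hd, q, hq, hcq⟩ := Cfsg.Agent.S0023.mem_sup_of_le_normalizer _ Q hQn2 (inv_mem (hL hc))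
  have hle : ⁅⁅N', Q⁆, Q⁆ ≤ ⁅N', Q⁆ := Cfsg.Agent.S0026.comm_le_of_normalizes Q ⁅N', Q⁆ hQnM
  have hc' : c = q⁻¹ * d⁻¹ := by
    rw [← inv_inv c, hcq]; group
  refine ⟨q⁻¹, Subgroup.mem_inf.mpr ⟨inv_mem hq, ?_⟩, d⁻¹, inv_mem hd, hc'⟩
  have e : q⁻¹ = c * d := by rw [hc']; group
  rw [e]
  exact mul_mem hc (hle hd)

end Cfsg.Agent.S2841
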