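import Cfsg.Statements.S2844
import Mathlib
import Cfsg.Agent.Lib.Helper5.WC
import Cfsg.Agent.Lib.Helper5.PRed
import Cfsg.Agent.Lib.Helper3.Core

set_option autoImplicit false
open Cfsg

namespace Cfsg.Agent.S2844

open Cfsg.Agent.Lib.Helper5.WC

theorem result {H : Type*} [Group H] [Finite H] {p : ℕ} [Fact p.Prime] (Q : Subgroup H) (hQp : IsPGroup p ↥Q) (hQ1 : Q ≠ ⊥) (hL : Cfsg.IsLarge Q) (Qb : Subgroup H) (hQb : Qb = Cfsg.largeBullet p Q) : (∀ g : H, g ∉ Subgroup.normalizer ((Q : Subgroup H) : Set H) → Subgroup.centralizer ((Q : Subgroup H) : Set H) ⊓ Subgroup.centralizer ((((Q : Subgroup H).map (MulAut.conj (g : H)).toMonoidHom) : Subgroup H) : Set H) = ⊥ ∧ Subgroup.centralizer ((Qb : Subgroup H) : Set H) ⊓ Subgroup.centralizer ((((Qb : Subgroup H).map (MulAut.conj (g : H)).toMonoidHom) : Subgroup H) : Set H) = ⊥ ∧ (Q ⊓ Subgroup.centralizer ((Q : Subgroup H) : Set H)) ⊓ (((Q : Subgroup H).map (MulAut.conj (g : H)).toMonoidHom) ⊓ Subgroup.centralizer ((((Q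 : Subgroup H).map (MulAut.conj (g : H)).toMonoidHom) : Subgroup H) : Set H)) = ⊥ ∧ (Qb ⊓ Subgroup.centralizer ((Qb : Subgroup H) : Set H)) ⊓ (((Qb : Subgroup H).map (MulAut.conj (g : H)).toMonoidHom) ⊓ Subgroup.centralizer ((((Qb : Subgroup H).map (MulAut.conj (g : H)).toMonoidHom) : Subgroup H) : Set H)) = ⊥) ∧ Subgroup.normalizer ((Q : Subgroup H) : Set H) = Subgroup.normalizer ((Qb : Subgroup H) : Set H) ∧ Cfsg.IsLarge Qb := by
  classical
  subst hQb
  have hwc := large_wc Q hQp hQ1 hL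
  have hQQb : Q ≤ Cfsg.largeBullet p Q := by
    have h1 : Q.subgroupOf (Subgroup.normalizer (Q : Set H)) ≤
        Cfsg.pCore p ↥(Subgroup.normalizer (Q : Set H)) :=
      Cfsg.Agent.Lib.Helper3.Core.le_pCore _ inferInstance
        (hQp.comap_of_injective _ (Subgroup.subtype_injective _))
    intro x hx
    exact ⟨⟨x, Subgroup.le_normalizer hx⟩, h1 (Subgroup.mem_subgroupOf.2 hx), rfl⟩
  have hQbp : IsPGroup p ↥(Cfsg.largeBullet p Q) :=
    (Cfsg.Agent.Lib.Helper3.Core.pCore_isPGroup p).map _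
  have h5 : Subgroup.normalizer (Q : Set H) =
      Subgroup.normalizer ((Cfsg.largeBullet p Q : Subgroup H) : Set H) := by
    apply le_antisymm
    · exact Cfsg.Agent.Lib.Helper5.PRed.le_normalizer_map_subtype _ _ (Cfsg.pCore_normal p _)
    · exact large_B Q hQ1 hL _ hQbp hQQb
  have key1 : ∀ g : H, g ∉ Subgroup.normalizer (Q : Set H) →
      Subgroup.centralizer (Q : Set H) ⊓ Subgroup.centralizer ((cj Q g : Subgroup H) : Set H) = ⊥ := by
    intro g hg
    by_contra hU
    apply hg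
    have hN := hL.2 _ inf_le_left hU
    have h1 : cj Q g ≤ Subgroup.normalizer (Q : Set H) := by
      refine le_trans ?_ hN
      refine le_trans ?_ (Subgroup.centralizer_le_normalizer _)
      rw [Subgroup.le_centralizer_iff]
      exact inf_le_right
    have h2 : IsPGroup p ↥(Q ⊔ cj Q g) :=
      IsPGroup.to_sup_of_normal_left' hQp (cj_isPGroup hQp g) h1
    rw [← cj_eq_iff]
    exact wc_pgroup hwc _ h2 g le_sup_left le_sup_right
  refine ⟨?_, h5, ?_⟩
  · intro g hg
    have h1 := key1 g hg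
    have hc1 : Subgroup.centralizer ((Cfsg.largeBullet p Q : Subgroup H) : Set H) ≤
        Subgroup.centralizer (Q : Set H) := Subgroup.centralizer_le hQQb
    have hc2 : Subgroup.centralizer ((cj (Cfsg.largeBullet p Q) g : Subgroup H) : Set H) ≤
        Subgroup.centralizer ((cj Q g : Subgroup H) : Set H) :=
      Subgroup.centralizer_le (cj_mono hQQb g)
    refine ⟨h1, ?_, ?_, ?_⟩
    · rw [eq_bot_iff, ← h1]
      exact inf_le_inf hc1 hc2
    · rw [eq_bot_iff, ← h1]
      exact inf_le_inf inf_le_right inf_le_right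
    · rw [eq_bot_iff, ← h1]
      exact inf_le_inf (inf_le_right.trans hc1) (inf_le_right.trans hc2)
  · refine ⟨?_, ?_⟩
    · exact (Subgroup.centralizer_le hQQb).trans (hL.1.trans hQQb)
    · intro U hU hU1
      rw [← h5]
      exact hL.2 U (hU.trans (Subgroup.centralizer_le hQQb)) hU1

end Cfsg.Agent.S2844
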