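import Cfsg.Statements.S3014
import Mathlib
import Cfsg.Agent.Lib.Helper5.TransferAux

set_option autoImplicit false
open Cfsg

namespace Cfsg.Agent.S3014

theorem conj_mem_H {G : Type*} [Group G] (H M : Subgroup G)
    (hcl : ∀ g : G, (H ⊔ H.map (MulAut.conj g).toMonoidHom) ⊓ M = H)
    (g x : G) (hx : x ∈ H) (hgx : g * x * g⁻¹ ∈ M) : g * x * g⁻¹ ∈ H := by
  have h1 := hcl g
  have h2 : g * x * g⁻¹ ∈ (H ⊔ H.map (MulAut.conj g).toMonoidHom) ⊓ M := by
    rw [Subgroup.mem_inf]
    exact ⟨(le_sup_right : H.map (MulAut.conj g).toMonoidHom ≤ _) ⟨x, hx, rfl⟩, hgx⟩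
  rw [h1] at h2
  exact h2

theorem quot_comm {M : Type*} [Group M] (H' : Subgroup M) [H'.Normal] (hmax : IsCoatom H') :
    ∀ a b : M ⧸ H', a * b = b * a := by
  intro a b
  by_cases ha : a = 1
  · rw [ha, one_mul, mul_one]
  · have hK : (Subgroup.zpowers a).comap (QuotientGroup.mk' H') = ⊤ := by
      apply hmax.2
      refine lt_of_le_of_ne ?_ ?_
      · intro m hm
        rw [Subgroup.mem_comap]
        have h0 : QuotientGroup.mk' H' m = 1 := (QuotientGroup.eq_one_iff m).mpr hm
        rw [h0]; exact Subgroup.one_mem _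
      · intro heq
        obtain ⟨m, rfl⟩ := QuotientGroup.mk_surjective a
        have hm : m ∈ (Subgroup.zpowers (QuotientGroup.mk m : M ⧸ H')).comap (QuotientGroup.mk' H') := by
          rw [Subgroup.mem_comap]; exact Subgroup.mem_zpowers _
        rw [← heq] at hm
        exact ha ((QuotientGroup.eq_one_iff m).mpr hm)
    obtain ⟨m, rfl⟩ := QuotientGroup.mk_surjective b
    have hm : m ∈ (Subgroup.zpowers a).comap (QuotientGroup.mk' H') := by rw [hK]; trivial
    rw [Subgroup.mem_comap] at hm
    obtain ⟨k, hk⟩ := Subgroup.mem_zpowers_iff.mp hm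
    change a * QuotientGroup.mk' H' m = QuotientGroup.mk' H' m * a
    rw [← hk]
    exact ((Commute.refl a).zpow_right k).eq

theorem main {G : Type*} [Group G] [Finite G] (H M : Subgroup G) (hHM : H ≤ M)
    (hcl : ∀ g : G, (H ⊔ H.map (MulAut.conj g).toMonoidHom) ⊓ M = H)
    (hmaxH : IsCoatom (H.subgroupOf M)) (hmaxM : IsCoatom M) :
    Subgroup.normalClosure (H : Set G) ⊓ M = H := by
  classical
  have hL1 := conj_mem_H H M hcl
  have hMN : M ≤ Subgroup.normalizer (H : Set G) := by
    intro m hm
    rw [Subgroup.mem_normalizer_iff]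
    intro h
    constructor
    · intro hh
      exact hL1 m h hh (M.mul_mem (M.mul_mem hm (hHM hh)) (M.inv_mem hm))
    · intro hh
      have h1 := hL1 m⁻¹ (m * h * m⁻¹) hh (M.mul_mem (M.mul_mem (M.inv_mem hm) (hHM hh)) (by simpa using hm))
      simpa [mul_assoc] using h1
  have hnormal : (H.subgroupOf M).Normal := (Subgroup.normal_subgroupOf_iff_le_normalizer hHM).mpr hMN
  have hL3 : ∀ X : Subgroup G, H ≤ X → X ≤ M → X = H ∨ X = M := by
    intro X hHX hXM
    by_cases h : X.subgroupOf M = H.subgroupOf M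
    · left
      have h0 := Subgroup.subgroupOf_inj.mp h
      rw [inf_eq_left.mpr hXM, inf_eq_left.mpr hHM] at h0
      exact h0
    · right
      have hlt : H.subgroupOf M < X.subgroupOf M :=
        lt_of_le_of_ne (Subgroup.comap_mono hHX) (Ne.symm h)
      have h0 := hmaxH.2 _ hlt
      exact le_antisymm hXM (Subgroup.subgroupOf_eq_top.mp h0)
  by_cases hnorm : H.Normal
  · rw [Subgroup.normalClosure_eq_self]; exact inf_eq_left.mpr hHM
  · have hNM : Subgroup.normalizer (H : Set G) = M := by
      by_contra hne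
      have hlt : M < Subgroup.normalizer (H : Set G) := lt_of_le_of_ne hMN (Ne.symm hne)
      have h0 := hmaxM.2 _ hlt
      exact hnorm (Subgroup.normalizer_eq_top_iff.mp h0)
    have hconjM : ∀ g : G, H.map (MulAut.conj g).toMonoidHom ≤ H → g ∈ M := by
      intro g hg
      have h4 : H.map (MulAut.conj g).toMonoidHom = H :=
        Subgroup.eq_of_le_of_card_ge hg (by rw [Subgroup.card_map_of_injective (MulAut.conj g).injective])
      rw [← hNM]
      exact Subgroup.mem_normalizer_iff_map_conj_eq.mpr h4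
    apply le_antisymm _ (le_inf Subgroup.le_normalClosure hHM)
    by_cases hB : ∃ g, g ∉ M ∧ ∃ y ∈ M, g⁻¹ * y * g ∈ M ∧ y ∉ H
    · obtain ⟨g, hgM, y, hyM, hgy, hyH⟩ := hB
      have hTM : ¬ (H ⊔ H.map (MulAut.conj g).toMonoidHom) ≤ M := by
        intro hT
        have h1 := hcl g
        rw [inf_eq_left.mpr hT] at h1
        exact hgM (hconjM g (le_sup_right.trans h1.le))
      have hyN : y ∈ Subgroup.normalizer ((H ⊔ H.map (MulAut.conj g).toMonoidHom : Subgroup G) : Set G) := by
        apply Subgroup.normalizer_inf_normalizer_le_normalizer_sup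
        rw [Subgroup.mem_inf]
        refine ⟨hMN hyM, ?_⟩
        apply Subgroup.le_normalizer_map
        refine ⟨g⁻¹ * y * g, hMN hgy, ?_⟩
        simp [mul_assoc]
      have hMle : M ≤ Subgroup.normalizer ((H ⊔ H.map (MulAut.conj g).toMonoidHom : Subgroup G) : Set G) := by
        have h1 : H ⊔ Subgroup.zpowers y = M := by
          rcases hL3 (H ⊔ Subgroup.zpowers y) le_sup_left (sup_le hHM (Subgroup.zpowers_le.mpr hyM)) with h | h
          · exfalso; apply hyH; rw [← h]
            exact (le_sup_right : Subgroup.zpowers y ≤ _) (Subgroup.mem_zpowers y)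
          · exact h
        rw [← h1]
        exact sup_le (le_sup_left.trans Subgroup.le_normalizer) (Subgroup.zpowers_le.mpr hyN)
      have hNtop : Subgroup.normalizer ((H ⊔ H.map (MulAut.conj g).toMonoidHom : Subgroup G) : Set G) = ⊤ := by
        apply hmaxM.2
        refine lt_of_le_of_ne hMle ?_
        intro h
        apply hTM
        rw [h]; exact Subgroup.le_normalizer
      haveI : (H ⊔ H.map (MulAut.conj g).toMonoidHom).Normal := Subgroup.normalizer_eq_top_iff.mp hNtop
      have h5 : Subgroup.normalClosure (H : Set G) ≤ H ⊔ H.map (MulAut.conj g).toMonoidHom :=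
        Subgroup.normalClosure_le_normal (le_sup_left : H ≤ _)
      calc Subgroup.normalClosure (H : Set G) ⊓ M ≤ (H ⊔ H.map (MulAut.conj g).toMonoidHom) ⊓ M := inf_le_inf_right M h5
        _ = H := hcl g
    · push Not at hB
      haveI := hnormal
      have hcomm := quot_comm (H.subgroupOf M) hmaxH
      letI : CommGroup (M ⧸ H.subgroupOf M) :=
        { (inferInstance : Group (M ⧸ H.subgroupOf M)) with mul_comm := hcomm }
      have hV : ∀ y (hy : y ∈ M), MonoidHom.transfer (QuotientGroup.mk' (H.subgroupOf M)) y = QuotientGroup.mk' (H.subgroupOf M) ⟨y, hy⟩ := by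
        intro y hy
        apply Cfsg.Agent.Lib.Helper5.TransferAux.transfer_eq_of_trivial
        intro k hk y' n hk' hy'
        have h1 : y' ^ n ∈ H := hB k hk (y' ^ n) (M.pow_mem hy' n) hk'
        have h2 : k⁻¹ * y' ^ n * k ∈ H := by
          have h3 := hL1 k⁻¹ (y' ^ n) h1 (by simpa using hk')
          simpa using h3
        exact (QuotientGroup.eq_one_iff _).mpr (Subgroup.mem_subgroupOf.mpr h2)
      have hker : Subgroup.normalClosure (H : Set G) ≤ (MonoidHom.transfer (QuotientGroup.mk' (H.subgroupOf M))).ker := by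
        apply Subgroup.normalClosure_le_normal
        intro h hh
        rw [SetLike.mem_coe, MonoidHom.mem_ker, hV h (hHM hh)]
        exact (QuotientGroup.eq_one_iff _).mpr (Subgroup.mem_subgroupOf.mpr hh)
      intro x hx
      rw [Subgroup.mem_inf] at hx
      have h1 := hker hx.1
      rw [MonoidHom.mem_ker, hV x hx.2] at h1
      have h2 := (QuotientGroup.eq_one_iff _).mp h1
      exact Subgroup.mem_subgroupOf.mp h2

theorem result {G : Type*} [Group G] [Finite G] (H M : Subgroup G) (hHM : H ≤ M) (hcl : ∀ g : G, (H ⊔ H.map (MulAut.conj g).toMonoidHom) ⊓ M = H) (hmaxH : IsCoatom (H.subgroupOf M)) (hmaxM : IsCoatom M) : Subgroup.normalClosure (H : Set G) ⊓ M = H := by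
  exact main H M hHM hcl hmaxH hmaxM

end Cfsg.Agent.S3014
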