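import Cfsg.Statements.S3015
import Mathlib
import Cfsg.Agent.S3014
import Cfsg.Agent.Lib.Helper5.NormalComplement

set_option autoImplicit false
open Cfsg

namespace Cfsg.Agent.S3015

theorem coatom_of_prime_index {M : Type*} [Group M] (H' : Subgroup M) (hp : H'.index.Prime) :
    IsCoatom H' := by
  constructor
  · intro h; rw [h, Subgroup.index_top] at hp; exact Nat.not_prime_one hp
  · intro X hX
    have hdvd : X.index ∣ H'.index := Subgroup.index_dvd_of_le hX.le
    rcases (Nat.dvd_prime hp).mp hdvd with h | h
    · exact Subgroup.index_eq_one.mp h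
    · exfalso
      have h2 := Subgroup.relIndex_mul_index hX.le
      rw [h] at h2
      have h3 : H'.relIndex X = 1 := by
        have hpos : 0 < H'.index := hp.pos
        nlinarith
      exact hX.not_ge (Subgroup.relIndex_eq_one.mp h3)

theorem map_conj_card {G : Type*} [Group G] (X : Subgroup G) (g : G) :
    Nat.card (X.map (MulAut.conj g).toMonoidHom) = Nat.card X :=
  Subgroup.card_map_of_injective (MulAut.conj g).injective

theorem mem_normalizer_of_map_le {G : Type*} [Group G] [Finite G] (X : Subgroup G) (g : G)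
    (h : X.map (MulAut.conj g).toMonoidHom ≤ X) : g ∈ Subgroup.normalizer (X : Set G) := by
  have h4 : X.map (MulAut.conj g).toMonoidHom = X :=
    Subgroup.eq_of_le_of_card_ge h (by rw [map_conj_card])
  exact Subgroup.mem_normalizer_iff_map_conj_eq.mpr h4

theorem map_conj_mul {G : Type*} [Group G] (X : Subgroup G) (a b : G) :
    (X.map (MulAut.conj b).toMonoidHom).map (MulAut.conj a).toMonoidHom =
      X.map (MulAut.conj (a * b)).toMonoidHom := by
  rw [Subgroup.map_map]
  congr 1
  ext x
  simp [mul_assoc]

open scoped Pointwise in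
theorem main {G : Type*} [Group G] [Finite G] [IsSimpleGroup G] (hG : ¬ IsMulCommutative G)
    (M H : Subgroup G) (hmaxM : IsCoatom M) (hHM : H ≤ M) (hHn : (H.subgroupOf M).Normal)
    (hidx : (H.relIndex M).Prime) : ∃ g : G, H ⊔ H.map (MulAut.conj g).toMonoidHom = ⊤ := by
  classical
  by_contra hcon
  push Not at hcon
  have hmaxH : IsCoatom (H.subgroupOf M) := coatom_of_prime_index _ hidx
  have hMN : M ≤ Subgroup.normalizer (H : Set G) :=
    (Subgroup.normal_subgroupOf_iff_le_normalizer hHM).mp hHn
  have hL3 : ∀ X : Subgroup G, H ≤ X → X ≤ M → X = H ∨ X = M := by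
    intro X hHX hXM
    by_cases h : X.subgroupOf M = H.subgroupOf M
    · left
      have h0 := Subgroup.subgroupOf_inj.mp h
      rw [inf_eq_left.mpr hXM, inf_eq_left.mpr hHM] at h0
      exact h0
    · right
      have hlt : H.subgroupOf M < X.subgroupOf M :=
        lt_of_le_of_ne (Subgroup.comap_mono hHX) (Ne.symm h)
      have h0 := hmaxH.2 _ hlt
      exact le_antisymm hXM (Subgroup.subgroupOf_eq_top.mp h0)
  have hHneM : ¬ M ≤ H := fun h => hmaxH.1 (Subgroup.subgroupOf_eq_top.mpr h)
  have hMtop : M ≠ ⊤ := hmaxM.1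
  have hsimple : ∀ N : Subgroup G, N.Normal → N = ⊥ ∨ N = ⊤ := fun N hN => hN.eq_bot_or_eq_top
  have hMbot : M ≠ ⊥ := by
    intro h; apply hHneM; rw [h]; exact bot_le
  have hNMM : Subgroup.normalizer (M : Set G) = M := by
    by_contra hne
    have hlt : M < Subgroup.normalizer (M : Set G) :=
      lt_of_le_of_ne Subgroup.le_normalizer (Ne.symm hne)
    have h0 := hmaxM.2 _ hlt
    rcases hsimple M (Subgroup.normalizer_eq_top_iff.mp h0) with h | h
    · exact hMbot h
    · exact hMtop h
  have hconjMM : ∀ g : G, M.map (MulAut.conj g).toMonoidHom ≤ M → g ∈ M := by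
    intro g hg
    have h0 := mem_normalizer_of_map_le M g hg
    rwa [hNMM] at h0
  by_cases hHbot : H = ⊥
  · subst hHbot
    have hcard : Nat.card M = (⊥ : Subgroup G).relIndex M := by
      rw [Subgroup.relIndex_bot_left]
    haveI : Fact ((⊥ : Subgroup G).relIndex M).Prime := ⟨hidx⟩
    have hMp : IsPGroup ((⊥ : Subgroup G).relIndex M) M :=
      IsPGroup.of_card (n := 1) (by rw [pow_one]; exact hcard)
    have hcyc : IsCyclic M := isCyclic_of_prime_card hcard
    have hab : ∀ a ∈ M, ∀ b ∈ M, a * b = b * a := by
      intro a ha b hb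
      letI := IsCyclic.commGroup (α := M)
      have h0 := mul_comm (⟨a, ha⟩ : M) ⟨b, hb⟩
      exact congrArg Subtype.val h0
    obtain ⟨K, hKn, hKc, -, -⟩ :=
      Cfsg.Agent.Lib.Helper5.NormalComplement.exists_normal_complement M hMp hab hNMM
    rcases hsimple K hKn with h | h
    · rw [h, Subgroup.isComplement'_bot_left] at hKc; exact hMtop hKc
    · rw [h, Subgroup.isComplement'_top_left] at hKc; exact hMbot hKc
  · have hHtop : H ≠ ⊤ := fun h => hMtop (top_le_iff.mp (h ▸ hHM))
    have hNM : Subgroup.normalizer (H : Set G) = M := by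
      by_contra hne
      have hlt : M < Subgroup.normalizer (H : Set G) := lt_of_le_of_ne hMN (Ne.symm hne)
      have h0 := hmaxM.2 _ hlt
      rcases hsimple H (Subgroup.normalizer_eq_top_iff.mp h0) with h | h
      · exact hHbot h
      · exact hHtop h
    have hconjM : ∀ g : G, H.map (MulAut.conj g).toMonoidHom ≤ H → g ∈ M := by
      intro g hg
      have h0 := mem_normalizer_of_map_le H g hg
      rwa [hNM] at h0
    have hconjM' : ∀ g : G, g ∈ M → H.map (MulAut.conj g).toMonoidHom = H := by
      intro g hg
      exact Subgroup.mem_normalizer_iff_map_conj_eq.mp (hMN hg)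
    by_cases hA : ∃ g : G, H.map (MulAut.conj g).toMonoidHom ≤ M ∧
        H.map (MulAut.conj g).toMonoidHom ≠ H
    · obtain ⟨g, hKM, hKH⟩ := hA
      have hgM : g ∉ M := fun hg => hKH (hconjM' g hg)
      have hcl1 : ∀ m ∈ M, H.map (MulAut.conj g).toMonoidHom ⊓
          H.map (MulAut.conj (g * m * g)).toMonoidHom ≤ H := by
        intro m hm
        by_contra hX
        have h1 : H ⊔ (H.map (MulAut.conj g).toMonoidHom ⊓
            H.map (MulAut.conj (g * m * g)).toMonoidHom) = M := by
          rcases hL3 (H ⊔ (H.map (MulAut.conj g).toMonoidHom ⊓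
            H.map (MulAut.conj (g * m * g)).toMonoidHom)) le_sup_left
            (sup_le hHM (inf_le_left.trans hKM)) with h | h
          · exfalso; exact hX (le_sup_right.trans h.le)
          · exact h
        have h2 : M ≤ H ⊔ H.map (MulAut.conj (g * m * g)).toMonoidHom :=
          h1.ge.trans (sup_le_sup_left inf_le_right H)
        have h3 : H ⊔ H.map (MulAut.conj (g * m * g)).toMonoidHom = M := by
          by_contra hne
          exact hcon (g * m * g) (hmaxM.2 _ (lt_of_le_of_ne h2 (Ne.symm hne)))
        have h4 : H.map (MulAut.conj (g * m * g)).toMonoidHom ≤ M := le_sup_right.trans h3.le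
        have hK'M : H.map (MulAut.conj (m * g)).toMonoidHom ≤ M := by
          rw [← map_conj_mul]
          rintro y ⟨k, hk, rfl⟩
          have h0 : (MulAut.conj m).toMonoidHom k = m * k * m⁻¹ := by simp
          rw [h0]
          exact M.mul_mem (M.mul_mem hm (hKM hk)) (M.inv_mem hm)
        have hK'H : ¬ H.map (MulAut.conj (m * g)).toMonoidHom ≤ H := by
          intro h
          have h0 := hconjM _ h
          apply hgM
          have h' : g = m⁻¹ * (m * g) := by group
          rw [h']; exact M.mul_mem (M.inv_mem hm) h0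
        have h5 : H ⊔ H.map (MulAut.conj (m * g)).toMonoidHom = M := by
          rcases hL3 _ le_sup_left (sup_le hHM hK'M) with h | h
          · exfalso; exact hK'H (le_sup_right.trans h.le)
          · exact h
        have h6 : (H ⊔ H.map (MulAut.conj (m * g)).toMonoidHom).map (MulAut.conj g).toMonoidHom ≤ M := by
          rw [Subgroup.map_sup, map_conj_mul, ← mul_assoc]
          exact sup_le hKM h4
        rw [h5] at h6
        exact hgM (hconjMM g h6)
      have hA2 : ∀ m ∈ M, (H ⊓ H.map (MulAut.conj g).toMonoidHom).map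
          (MulAut.conj (g * m)).toMonoidHom ≤ H ⊓ H.map (MulAut.conj g).toMonoidHom := by
        intro m hm
        rintro y ⟨a, ha, rfl⟩
        rw [SetLike.mem_coe, Subgroup.mem_inf] at ha
        obtain ⟨haH, haK⟩ := ha
        have hyK : (MulAut.conj (g * m)).toMonoidHom a ∈ H.map (MulAut.conj g).toMonoidHom := by
          refine ⟨m * a * m⁻¹, ?_, ?_⟩
          · exact (Subgroup.mem_normalizer_iff.mp (hMN hm) a).mp haH
          · simp [mul_assoc]
        have hyHc : (MulAut.conj (g * m)).toMonoidHom a ∈
            H.map (MulAut.conj (g * m * g)).toMonoidHom := by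
          obtain ⟨h, hh, rfl⟩ := haK
          refine ⟨h, hh, ?_⟩
          simp [mul_assoc]
        rw [Subgroup.mem_inf]
        exact ⟨hcl1 m hm (Subgroup.mem_inf.mpr ⟨hyK, hyHc⟩), hyK⟩
      have hA3 : ∀ m ∈ M, g * m ∈ Subgroup.normalizer
          ((H ⊓ H.map (MulAut.conj g).toMonoidHom : Subgroup G) : Set G) :=
        fun m hm => mem_normalizer_of_map_le _ _ (hA2 m hm)
      have hgN : g ∈ Subgroup.normalizer
          ((H ⊓ H.map (MulAut.conj g).toMonoidHom : Subgroup G) : Set G) := by
        have h0 := hA3 1 M.one_mem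
        rwa [mul_one] at h0
      have hMNA : M ≤ Subgroup.normalizer
          ((H ⊓ H.map (MulAut.conj g).toMonoidHom : Subgroup G) : Set G) := by
        intro m hm
        have h1 := hA3 m hm
        have h2 : m = g⁻¹ * (g * m) := by group
        rw [h2]
        exact Subgroup.mul_mem _ (Subgroup.inv_mem _ hgN) h1
      have hNAtop : Subgroup.normalizer
          ((H ⊓ H.map (MulAut.conj g).toMonoidHom : Subgroup G) : Set G) = ⊤ := by
        apply hmaxM.2
        refine lt_of_le_of_ne hMNA ?_
        intro h
        apply hgM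
        rw [h]; exact hgN
      have hAbot : H ⊓ H.map (MulAut.conj g).toMonoidHom = ⊥ := by
        rcases hsimple _ (Subgroup.normalizer_eq_top_iff.mp hNAtop) with h | h
        · exact h
        · exfalso; apply hHtop; exact top_le_iff.mp (h.ge.trans inf_le_left)
      haveI : Fact (H.relIndex M).Prime := ⟨hidx⟩
      have hsupM : H ⊔ H.map (MulAut.conj g).toMonoidHom = M := by
        rcases hL3 _ le_sup_left (sup_le hHM hKM) with h | h
        · exfalso
          have h1 : H.map (MulAut.conj g).toMonoidHom ≤ H := le_sup_right.trans h.le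
          exact hgM (hconjM g h1)
        · exact h
      have hdisj : Disjoint (H.subgroupOf M) ((H.map (MulAut.conj g).toMonoidHom).subgroupOf M) := by
        rw [disjoint_iff]
        have h0 : H.subgroupOf M ⊓ (H.map (MulAut.conj g).toMonoidHom).subgroupOf M =
            (H ⊓ H.map (MulAut.conj g).toMonoidHom).subgroupOf M := rfl
        rw [h0, hAbot, Subgroup.bot_subgroupOf]
      have hmul : ((H.subgroupOf M : Subgroup M) : Set M) *
          (((H.map (MulAut.conj g).toMonoidHom).subgroupOf M : Subgroup M) : Set M) = Set.univ := by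
        rw [← Subgroup.normal_mul, ← Subgroup.subgroupOf_sup hHM hKM, hsupM, Subgroup.subgroupOf_self]
        exact Subgroup.coe_top
      have hcompl := Subgroup.isComplement'_of_disjoint_and_mul_eq_univ hdisj hmul
      have hc1 := hcompl.card_mul_card
      have hc2 := Subgroup.card_mul_index (H.subgroupOf M)
      have hc3 : Nat.card ((H.map (MulAut.conj g).toMonoidHom).subgroupOf M) = Nat.card (H.subgroupOf M) := by
        rw [Nat.card_congr (Subgroup.subgroupOfEquivOfLe hKM).toEquiv, map_conj_card,
          Nat.card_congr (Subgroup.subgroupOfEquivOfLe hHM).toEquiv]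
      have hc4 : Nat.card (H.subgroupOf M) = H.relIndex M := by
        have hpos : 0 < Nat.card (H.subgroupOf M) := Nat.card_pos
        have h0 : Nat.card (H.subgroupOf M) * Nat.card ((H.map (MulAut.conj g).toMonoidHom).subgroupOf M)
            = Nat.card (H.subgroupOf M) * (H.subgroupOf M).index := by rw [hc1, hc2]
        have h1 := Nat.eq_of_mul_eq_mul_left hpos h0
        rw [← hc3]; exact h1
      have hc5 : Nat.card M = (H.relIndex M) ^ 2 := by
        rw [← hc2, hc4, pow_two]; rfl
      have hMcomm := isMulCommutative_iff.mp (IsPGroup.isMulCommutative_of_card_eq_prime_sq hc5)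
      have h7 : M.map (MulAut.conj g⁻¹).toMonoidHom ≤ M := by
        rintro y ⟨m, hm, rfl⟩
        apply hconjM
        rintro z ⟨h, hh, rfl⟩
        have hk : g * h * g⁻¹ ∈ M := hKM ⟨h, hh, by simp⟩
        have h0 := congrArg Subtype.val (hMcomm ⟨m, hm⟩ ⟨g * h * g⁻¹, hk⟩)
        have h1 : m * (g * h * g⁻¹) = (g * h * g⁻¹) * m := h0
        have h2 : (MulAut.conj ((MulAut.conj g⁻¹).toMonoidHom m)).toMonoidHom h = h := by
          have e1 : (MulAut.conj ((MulAut.conj g⁻¹).toMonoidHom m)).toMonoidHom h =
              g⁻¹ * (m * (g * h * g⁻¹)) * m⁻¹ * g := by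
            simp [mul_assoc]
          rw [e1, h1]; group
        rw [h2]; exact hh
      have h8 := hconjMM g⁻¹ h7
      exact hgM (by simpa using M.inv_mem h8)
    · push Not at hA
      have hcl : ∀ g : G, (H ⊔ H.map (MulAut.conj g).toMonoidHom) ⊓ M = H := by
        intro g
        rcases hL3 ((H ⊔ H.map (MulAut.conj g).toMonoidHom) ⊓ M) (le_inf le_sup_left hHM)
          inf_le_right with h | h
        · exact h
        · exfalso
          have h1 : M ≤ H ⊔ H.map (MulAut.conj g).toMonoidHom := h.ge.trans inf_le_left
          have h2 : H ⊔ H.map (MulAut.conj g).toMonoidHom = M := by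
            by_contra hne
            exact hcon g (hmaxM.2 _ (lt_of_le_of_ne h1 (Ne.symm hne)))
          have h3 : H.map (MulAut.conj g).toMonoidHom ≤ M := le_sup_right.trans h2.le
          have h4 := hA g h3
          rw [h4, sup_idem] at h2
          exact hHneM h2.ge
      have h5 := Cfsg.Agent.S3014.main H M hHM hcl hmaxH hmaxM
      rcases hsimple (Subgroup.normalClosure (H : Set G)) inferInstance with h | h
      · apply hHbot
        have h0 := Subgroup.le_normalClosure (H := H)
        rw [h] at h0
        exact le_bot_iff.mp h0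
      · rw [h, top_inf_eq] at h5
        exact hHneM h5.le

theorem result {G : Type*} [Group G] [Finite G] [IsSimpleGroup G] (hG : ¬ IsMulCommutative G) (M H : Subgroup G) (hmaxM : IsCoatom M) (hHM : H ≤ M) (hHn : (H.subgroupOf M).Normal) (hidx : (H.relIndex M).Prime) : ∃ g : G, H ⊔ H.map (MulAut.conj g).toMonoidHom = ⊤ := by
  exact main hG M H hmaxM hHM hHn hidx

end Cfsg.Agent.S3015
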