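import Cfsg.Statements.S2872
import Mathlib
import Cfsg.Agent.Lib.Helper5.TransferInv
import Cfsg.Agent.Lib.Helper1.Nil
import Cfsg.Agent.S3015

set_option autoImplicit false
open Cfsg

namespace Cfsg.Agent.S2872

theorem result {G : Type*} [Group G] [Finite G] (S : Sylow 2 G) : Cfsg.pResidual 2 G ≠ ⊤ ∨ Cfsg.omegaOne 2 ((S : Subgroup G) ⊓ Subgroup.centralizer ((S : Subgroup G) : Set G)) ≤ (frattini ↥(S : Subgroup G)).map (S : Subgroup G).subtype ∨ ∃ g ∈ Subgroup.normalizer ((S : Subgroup G) : Set G), ∃ z ∈ Cfsg.omegaOne 2 ((S : Subgroup G) ⊓ Subgroup.centralizer ((S : Subgroup G) : Set G)), g * z * g⁻¹ ≠ z := by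
  classical
  by_contra hcon
  push Not at hcon
  obtain ⟨hres, hfr, hN⟩ := hcon
  have hex : ∃ z : G, z ∈ (S : Subgroup G) ⊓ Subgroup.centralizer ((S : Subgroup G) : Set G) ∧
      z ^ 2 = 1 ∧ z ∉ (frattini ↥(S : Subgroup G)).map (S : Subgroup G).subtype := by
    by_contra hno
    push Not at hno
    apply hfr
    unfold Cfsg.omegaOne
    rw [Subgroup.closure_le]
    rintro x ⟨hx1, hx2⟩
    exact hno x hx1 hx2
  obtain ⟨z, hzZ, hz2, hzF⟩ := hex
  have hzS : z ∈ (S : Subgroup G) := (Subgroup.mem_inf.mp hzZ).1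
  have hzC : ∀ s ∈ (S : Subgroup G), s * z = z * s := fun s hs =>
    Subgroup.mem_centralizer_iff.mp (Subgroup.mem_inf.mp hzZ).2 s hs
  have hzΩ : z ∈ Cfsg.omegaOne 2 ((S : Subgroup G) ⊓ Subgroup.centralizer ((S : Subgroup G) : Set G)) :=
    Subgroup.subset_closure ⟨hzZ, hz2⟩
  have hex2 : ∃ K : Subgroup ↥(S : Subgroup G), IsCoatom K ∧ (⟨z, hzS⟩ : ↥(S : Subgroup G)) ∉ K := by
    by_contra hno
    push Not at hno
    apply hzF
    refine ⟨⟨z, hzS⟩, ?_, rfl⟩
    unfold frattini Order.radical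
    simp only [SetLike.mem_coe, Subgroup.mem_iInf]
    intro K hK
    exact hno K hK
  obtain ⟨K, hKc, hzK⟩ := hex2
  obtain ⟨hKn, hKi⟩ := Cfsg.Agent.Lib.Helper1.coatom_normal_index_of_isPGroup 2 S.isPGroup' K hKc
  have hTK : (K.map (S : Subgroup G).subtype).subgroupOf (S : Subgroup G) = K :=
    Subgroup.comap_map_eq_self_of_injective (Subgroup.subtype_injective _) K
  have hTi : ((K.map (S : Subgroup G).subtype).subgroupOf (S : Subgroup G)).index = 2 := by
    rw [hTK]; exact hKi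
  have hTmem : ∀ (w : G) (hw : w ∈ (S : Subgroup G)), w ∈ K.map (S : Subgroup G).subtype ↔
      (⟨w, hw⟩ : ↥(S : Subgroup G)) ∈ K := by
    intro w hw
    constructor
    · rintro ⟨y, hy, hyw⟩
      have : y = ⟨w, hw⟩ := Subtype.ext hyw
      rwa [this] at hy
    · intro h
      exact ⟨⟨w, hw⟩, h, rfl⟩
  have hzT : z ∉ K.map (S : Subgroup G).subtype := fun h => hzK ((hTmem z hzS).mp h)
  have hTconj : ∀ (w h : G), w ∈ (S : Subgroup G) → h ∈ (S : Subgroup G) →
      h⁻¹ * w * h ∈ K.map (S : Subgroup G).subtype → w ∈ K.map (S : Subgroup G).subtype := by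
    intro w h hw hh hc
    have hc' := (hTmem _ ((S : Subgroup G).mul_mem ((S : Subgroup G).mul_mem
      ((S : Subgroup G).inv_mem hh) hw) hh)).mp hc
    rw [hTmem w hw]
    have := hKn.conj_mem _ hc' ⟨h, hh⟩
    have e : (⟨h, hh⟩ : ↥(S : Subgroup G)) * ⟨h⁻¹ * w * h, (S : Subgroup G).mul_mem
      ((S : Subgroup G).mul_mem ((S : Subgroup G).inv_mem hh) hw) hh⟩ *
        (⟨h, hh⟩ : ↥(S : Subgroup G))⁻¹ = ⟨w, hw⟩ := by
      apply Subtype.ext
      simp only [Subgroup.coe_mul, Subgroup.coe_inv]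
      group
    rwa [e] at this
  obtain ⟨ϕ, hϕ1, hϕ2⟩ := Cfsg.Agent.Lib.Helper5.TransferInv.hom_of_index_two (S : Subgroup G)
    (K.map (S : Subgroup G).subtype) hTi
  let _ : Fintype (G ⧸ (S : Subgroup G)) := Fintype.ofFinite _
  have L1 : ∀ (g : G) (a : G ⧸ (S : Subgroup G)), g • a = ((g * a.out : G) : G ⧸ (S : Subgroup G)) := by
    intro g a
    conv_lhs => rw [← QuotientGroup.out_eq' a]
    rfl
  have L2 : ∀ (g : G) (a : G ⧸ (S : Subgroup G)), g • a = a ↔ a.out⁻¹ * g⁻¹ * a.out ∈ (S : Subgroup G) := by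
    intro g a
    have e : (g * a.out)⁻¹ * a.out = a.out⁻¹ * g⁻¹ * a.out := by group
    constructor
    · intro h
      have h1 : ((g * a.out : G) : G ⧸ (S : Subgroup G)) = ((a.out : G) : G ⧸ (S : Subgroup G)) := by
        rw [← L1, h, QuotientGroup.out_eq']
      rw [QuotientGroup.eq, e] at h1
      exact h1
    · intro h
      have h1 : ((g * a.out : G) : G ⧸ (S : Subgroup G)) = ((a.out : G) : G ⧸ (S : Subgroup G)) := by
        rw [QuotientGroup.eq, e]
        exact h
      rw [L1, h1, QuotientGroup.out_eq']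
  have hmemS : ∀ a : G ⧸ (S : Subgroup G), z • a = a → a.out⁻¹ * z * a.out ∈ (S : Subgroup G) := by
    intro a ha
    have h3 := (S : Subgroup G).inv_mem ((L2 z a).mp ha)
    have e : (a.out⁻¹ * z⁻¹ * a.out)⁻¹ = a.out⁻¹ * z * a.out := by group
    rwa [e] at h3
  have hX1 : ∀ (s : ↥(S : Subgroup G)) (a : G ⧸ (S : Subgroup G)),
      (z • a = a ∧ a.out⁻¹ * z * a.out ∉ K.map (S : Subgroup G).subtype) →
      (z • (s • a) = s • a ∧ (s • a).out⁻¹ * z * (s • a).out ∉ K.map (S : Subgroup G).subtype) := by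
    rintro s a ⟨ha1, ha2⟩
    have hfix : z • (s • a) = s • a := by
      show z • ((s : G) • a) = (s : G) • a
      rw [smul_smul, ← hzC s s.2, ← smul_smul, ha1]
    refine ⟨hfix, ?_⟩
    have h1 : (((s : G) * a.out : G) : G ⧸ (S : Subgroup G)) =
        (((s • a).out : G) : G ⧸ (S : Subgroup G)) := by
      rw [QuotientGroup.out_eq', ← L1]
      rfl
    rw [QuotientGroup.eq] at h1
    intro hc
    apply ha2
    have e : (s • a).out⁻¹ * z * (s • a).out =
        (((s : G) * a.out)⁻¹ * (s • a).out)⁻¹ * (a.out⁻¹ * z * a.out) *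
          (((s : G) * a.out)⁻¹ * (s • a).out) := by
      have h5 : (s : G) * z * (s : G)⁻¹ = z := by
        rw [hzC s s.2]; group
      calc (s • a).out⁻¹ * z * (s • a).out
          = (s • a).out⁻¹ * ((s : G) * z * (s : G)⁻¹) * (s • a).out := by rw [h5]
        _ = _ := by group
    rw [e] at hc
    exact hTconj _ _ (hmemS a ha1) h1 hc
  have hX2 : ∀ a : G ⧸ (S : Subgroup G), (∀ s : ↥(S : Subgroup G), s • a = a) →
      (z • a = a ∧ a.out⁻¹ * z * a.out ∉ K.map (S : Subgroup G).subtype) := by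
    intro a ha
    have h1 : ∀ s ∈ (S : Subgroup G), a.out⁻¹ * s * a.out ∈ (S : Subgroup G) := by
      intro s hs
      have h2 : (s⁻¹ : G) • a = a := ha ⟨s⁻¹, (S : Subgroup G).inv_mem hs⟩
      have h3 := (L2 s⁻¹ a).mp h2
      rwa [inv_inv] at h3
    have h5 : a.out⁻¹ ∈ Subgroup.normalizer ((S : Subgroup G) : Set G) := by
      apply Cfsg.Agent.S3015.mem_normalizer_of_map_le
      rintro _ ⟨s, hs, rfl⟩
      have := h1 s hs
      simpa using this
    have h6 := hN a.out⁻¹ h5 z hzΩ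
    rw [inv_inv] at h6
    have hfix : z • a = a := by
      rw [L2]
      have e : a.out⁻¹ * z⁻¹ * a.out = (a.out⁻¹ * z * a.out)⁻¹ := by group
      rw [e, h6]
      exact (S : Subgroup G).inv_mem hzS
    refine ⟨hfix, ?_⟩
    rw [h6]
    exact hzT
  have htr := Cfsg.Agent.Lib.Helper5.TransferInv.transfer_involution (S : Subgroup G) ϕ z hz2
    (fun a => if (z • a = a ∧ a.out⁻¹ * z * a.out ∉ K.map (S : Subgroup G).subtype) then -1 else 1)
    (by
      intro a ha h
      by_cases hm : a.out⁻¹ * z * a.out ∈ K.map (S : Subgroup G).subtype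
      · rw [hϕ1 _ hm]; simp [hm]
      · rw [hϕ2 _ hm]; simp [hm, ha])
    (by
      intro a ha
      simp [ha])
  have heven := Cfsg.Agent.Lib.Helper5.TransferInv.even_card_filter_of_no_fixed
    (P := ↥(S : Subgroup G)) S.isPGroup'
    (fun a : G ⧸ (S : Subgroup G) =>
      ¬ (z • a = a ∧ a.out⁻¹ * z * a.out ∉ K.map (S : Subgroup G).subtype))
    (by
      intro s a ha hc
      apply ha
      have := hX1 s⁻¹ (s • a) hc
      rwa [inv_smul_smul] at this)
    (by
      intro a ha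
      by_contra hno
      push Not at hno
      exact ha (hX2 a hno))
  have hodd : Odd (S : Subgroup G).index := by
    rw [← Nat.not_even_iff_odd, even_iff_two_dvd]
    exact S.not_dvd_index
  have hcount := Finset.card_filter_add_card_filter_not (s := (Finset.univ : Finset (G ⧸ (S : Subgroup G))))
    (fun a : G ⧸ (S : Subgroup G) =>
      (z • a = a ∧ a.out⁻¹ * z * a.out ∉ K.map (S : Subgroup G).subtype))
  have hcard : (Finset.univ : Finset (G ⧸ (S : Subgroup G))).card = (S : Subgroup G).index := by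
    rw [Finset.card_univ, ← Nat.card_eq_fintype_card]; rfl
  rw [hcard] at hcount
  have hoddX : Odd (Finset.univ.filter (fun a : G ⧸ (S : Subgroup G) =>
      (z • a = a ∧ a.out⁻¹ * z * a.out ∉ K.map (S : Subgroup G).subtype))).card := by
    rw [← hcount] at hodd
    rcases Nat.even_or_odd (Finset.univ.filter (fun a : G ⧸ (S : Subgroup G) =>
      (z • a = a ∧ a.out⁻¹ * z * a.out ∉ K.map (S : Subgroup G).subtype))).card with h | h
    · exact absurd (h.add heven) (Nat.not_even_iff_odd.mpr hodd)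
    · exact h
  have hval : MonoidHom.transfer ϕ z = -1 := by
    rw [htr, Finset.prod_ite, Finset.prod_const, Finset.prod_const_one, mul_one]
    exact hoddX.neg_one_pow
  have hker : Cfsg.pResidual 2 G ≤ (MonoidHom.transfer ϕ).ker := by
    unfold Cfsg.pResidual
    rw [Subgroup.closure_le]
    intro g hg
    exact Cfsg.Agent.Lib.Helper5.TransferInv.odd_order_mem_ker _ g hg
  have hzk : z ∈ (MonoidHom.transfer ϕ).ker := hker (by rw [hres]; trivial)
  rw [MonoidHom.mem_ker, hval] at hzk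
  exact absurd hzk (by decide)

end Cfsg.Agent.S2872
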