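import Cfsg.Statements.S2873

import Mathlib
import Cfsg.Agent.Lib.Helper5.PCore

set_option autoImplicit false
open Cfsg
open scoped Pointwise

namespace Cfsg.Agent.S2873

theorem rot_exists (n : ℕ) : ∃ N : Subgroup (DihedralGroup n), N.Normal ∧
    ∀ x, x ∈ N ↔ ∃ i, x = DihedralGroup.r i := by
  refine ⟨{ carrier := {x | ∃ i, x = DihedralGroup.r i}
            mul_mem' := ?_
            one_mem' := ⟨0, rfl⟩
            inv_mem' := ?_ }, ⟨?_⟩, fun x => Iff.rfl⟩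
  · rintro _ _ ⟨i, rfl⟩ ⟨j, rfl⟩
    exact ⟨i + j, DihedralGroup.r_mul_r i j⟩
  · rintro _ ⟨i, rfl⟩
    exact ⟨-i, DihedralGroup.inv_r i⟩
  · rintro _ ⟨i, rfl⟩ (j | j)
    · show ∃ k, DihedralGroup.r j * DihedralGroup.r i * (DihedralGroup.r j)⁻¹ = DihedralGroup.r k
      exact ⟨i, by simp⟩
    · show ∃ k, DihedralGroup.sr j * DihedralGroup.r i * (DihedralGroup.sr j)⁻¹ = DihedralGroup.r k
      exact ⟨-i, by simp⟩

theorem mem_QC {G : Type*} [Group G] (Q : Subgroup G) (t x : G) :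
    x ∈ Q ⊓ Subgroup.centralizer ({t} : Set G) ↔ x ∈ Q ∧ t * x = x * t := by
  rw [Subgroup.mem_inf, Subgroup.mem_centralizer_iff]
  constructor
  · rintro ⟨h1, h2⟩
    exact ⟨h1, h2 t (Set.mem_singleton t)⟩
  · rintro ⟨h1, h2⟩
    refine ⟨h1, ?_⟩
    intro h hh
    rw [Set.mem_singleton_iff.mp hh]
    exact h2

theorem conj_QC {G : Type*} [Group G] (Q : Subgroup G) [hN : Q.Normal] (s a a' : G)
    (h : s * a * s⁻¹ = a') (x : G) (hx : x ∈ Q ⊓ Subgroup.centralizer ({a} : Set G)) :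
    s * x * s⁻¹ ∈ Q ⊓ Subgroup.centralizer ({a'} : Set G) := by
  rw [mem_QC] at hx ⊢
  refine ⟨hN.conj_mem x hx.1 s, ?_⟩
  rw [← h]
  calc s * a * s⁻¹ * (s * x * s⁻¹) = s * (a * x) * s⁻¹ := by group
    _ = s * (x * a) * s⁻¹ := by rw [hx.2]
    _ = s * x * s⁻¹ * (s * a * s⁻¹) := by group

theorem card_QC {G : Type*} [Group G] (Q : Subgroup G) [hN : Q.Normal] (s a a' : G)
    (h : s * a * s⁻¹ = a') :
    Nat.card ↥(Q ⊓ Subgroup.centralizer ({a} : Set G)) =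
      Nat.card ↥(Q ⊓ Subgroup.centralizer ({a'} : Set G)) := by
  have h' : s⁻¹ * a' * s⁻¹⁻¹ = a := by rw [← h]; group
  refine Nat.card_congr ⟨fun x => ⟨s * x.1 * s⁻¹, conj_QC Q s a a' h x.1 x.2⟩,
    fun y => ⟨s⁻¹ * y.1 * s⁻¹⁻¹, conj_QC Q s⁻¹ a' a h' y.1 y.2⟩, ?_, ?_⟩
  · intro x
    apply Subtype.ext
    show s⁻¹ * (s * x.1 * s⁻¹) * s⁻¹⁻¹ = x.1
    group
  · intro y
    apply Subtype.ext
    show s * (s⁻¹ * y.1 * s⁻¹⁻¹) * s⁻¹ = y.1
    group

theorem core {G : Type*} [Group G] [Finite G] {r : ℕ} [hrp : Fact r.Prime] (hr : r ≠ 2)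
    (Q : Subgroup G) [hN : Q.Normal] (hQ2 : IsPGroup 2 Q)
    (φ : G →* DihedralGroup r) (hφs : Function.Surjective φ) (hφk : ∀ x, φ x = 1 ↔ x ∈ Q)
    (R : Sylow r G) (hC : Q ⊓ Subgroup.centralizer ((R : Subgroup G) : Set G) = ⊥)
    (D : Subgroup G) (hD : D = Subgroup.normalizer ((R : Subgroup G) : Set G)) :
    Nonempty (↥D ≃* DihedralGroup r) ∧
    ∀ a : G, a ∈ D → orderOf a = 2 →
      (∀ b : G, orderOf b = 2 → b ∉ Q → ∃ g : G, g * a * g⁻¹ = b) ∧
      Nat.card ↥(Q ⊓ Subgroup.centralizer ({a} : Set G)) ^ 2 = Nat.card ↥Q := by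
  classical
  haveI : NeZero r := ⟨hrp.out.ne_zero⟩
  have h2 : (2 : ZMod r) ≠ 0 := by
    intro h
    have h' : ((2 : ℕ) : ZMod r) = 0 := by exact_mod_cast h
    have : r ∣ 2 := (ZMod.natCast_eq_zero_iff 2 r).mp h'
    exact hr ((Nat.prime_dvd_prime_iff_eq hrp.out Nat.prime_two).mp this)
  have hmemD : ∀ x, x ∈ D ↔ ∀ y, y ∈ (R : Subgroup G) ↔ x * y * x⁻¹ ∈ (R : Subgroup G) := by
    intro x
    rw [hD]
    exact Subgroup.mem_normalizer_iff
  have hRD : ∀ {y}, y ∈ (R : Subgroup G) → y ∈ D := by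
    intro y hy
    rw [hD]
    exact Subgroup.le_normalizer hy
  have hQr : ∀ x, x ∈ Q → x ∈ (R : Subgroup G) → x = 1 := by
    intro x hxQ hxR
    exact Subgroup.disjoint_def.mp
      (IsPGroup.disjoint_of_ne 2 r (Ne.symm hr) Q R hQ2 R.isPGroup') hxQ hxR
  have hQD : ∀ x, x ∈ Q → x ∈ D → x = 1 := by
    intro x hxQ hxD
    have hx : x ∈ Q ⊓ Subgroup.centralizer ((R : Subgroup G) : Set G) := by
      refine Subgroup.mem_inf.mpr ⟨hxQ, ?_⟩
      rw [Subgroup.mem_centralizer_iff]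
      intro y hy
      have hcR : x * y * x⁻¹ * y⁻¹ ∈ (R : Subgroup G) :=
        mul_mem (((hmemD x).mp hxD y).mp hy) (inv_mem hy)
      have hcQ : x * y * x⁻¹ * y⁻¹ ∈ Q := by
        have h1 := mul_mem hxQ (hN.conj_mem x⁻¹ (inv_mem hxQ) y)
        have e : x * (y * x⁻¹ * y⁻¹) = x * y * x⁻¹ * y⁻¹ := by group
        rw [e] at h1
        exact h1
      have h0 := hQr _ hcQ hcR
      have h3 : x * y * x⁻¹ = y := mul_inv_eq_one.mp h0
      exact (mul_inv_eq_iff_eq_mul.mp h3).symm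
    rw [hC] at hx
    exact Subgroup.mem_bot.mp hx
  have hRrot : ∀ y, y ∈ (R : Subgroup G) → ∃ i, φ y = DihedralGroup.r i := by
    intro y hy
    obtain ⟨k, hk⟩ := R.isPGroup' ⟨y, hy⟩
    have hyk : y ^ (r ^ k) = 1 := by
      have h1 := congrArg Subtype.val hk
      simpa using h1
    have hφk' : (φ y) ^ (r ^ k) = 1 := by rw [← map_pow, hyk, map_one]
    cases hφy : φ y with
    | r i => exact ⟨i, rfl⟩
    | sr i =>
      exfalso
      rw [hφy] at hφk'
      have h1 : orderOf (DihedralGroup.sr i) ∣ r ^ k := orderOf_dvd_of_pow_eq_one hφk'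
      rw [DihedralGroup.orderOf_sr] at h1
      have h4 : 2 ∣ r := Nat.Prime.dvd_of_dvd_pow Nat.prime_two h1
      exact hr ((Nat.prime_dvd_prime_iff_eq Nat.prime_two hrp.out).mp h4).symm
  have hrG : r ∣ Nat.card G := by
    have h1 : Nat.card (DihedralGroup r) ∣ Nat.card G := Subgroup.card_dvd_of_surjective φ hφs
    rw [DihedralGroup.nat_card] at h1
    exact (Dvd.intro_left 2 rfl).trans h1
  obtain ⟨ρ₀, hρ₀R, hρ₀1⟩ : ∃ ρ₀, ρ₀ ∈ (R : Subgroup G) ∧ ρ₀ ≠ 1 := by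
    have hne : (R : Subgroup G) ≠ ⊥ := R.ne_bot_of_dvd_card hrG
    obtain ⟨⟨x, hx⟩, hx1⟩ := (Subgroup.ne_bot_iff_exists_ne_one).mp hne
    exact ⟨x, hx, fun h => hx1 (Subtype.ext h)⟩
  have hinjD : ∀ x y, x ∈ D → y ∈ D → φ x = φ y → x = y := by
    intro x y hx hy h
    have h1 : x⁻¹ * y ∈ Q := by rw [← hφk, map_mul, map_inv, h, inv_mul_cancel]
    have h3 := hQD _ h1 (mul_mem (inv_mem hx) hy)
    exact inv_mul_eq_one.mp h3
  have hnz : ∀ w, w ∈ (R : Subgroup G) → w ≠ 1 → ∀ j, φ w = DihedralGroup.r j → j ≠ 0 := by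
    intro w hw hw1 j hj h
    apply hw1
    apply hQr _ _ hw
    rw [← hφk, hj, h]
    rfl
  have hL1 : ∀ w, w ∈ (R : Subgroup G) → w ≠ 1 → ∀ y, y ∈ (R : Subgroup G) →
      ∃ n : ℕ, y = w ^ n := by
    intro w hw hw1 y hy
    obtain ⟨j, hj⟩ := hRrot w hw
    obtain ⟨i, hi⟩ := hRrot y hy
    have hj0 : j ≠ 0 := hnz w hw hw1 j hj
    refine ⟨(i * j⁻¹).val, ?_⟩
    apply hinjD _ _ (hRD hy) (hRD (pow_mem hw _))
    rw [map_pow, hj, hi, DihedralGroup.r_pow, ZMod.natCast_zmod_val, mul_comm, mul_assoc,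
      inv_mul_cancel₀ hj0, mul_one]
  have hRsurj : ∀ i : ZMod r, ∃ ρ, ρ ∈ (R : Subgroup G) ∧ φ ρ = DihedralGroup.r i := by
    intro i
    obtain ⟨j₀, hj₀⟩ := hRrot ρ₀ hρ₀R
    have hj0 : j₀ ≠ 0 := hnz ρ₀ hρ₀R hρ₀1 j₀ hj₀
    refine ⟨ρ₀ ^ (i * j₀⁻¹).val, pow_mem hρ₀R _, ?_⟩
    rw [map_pow, hj₀, DihedralGroup.r_pow, ZMod.natCast_zmod_val, mul_comm, mul_assoc,
      inv_mul_cancel₀ hj0, mul_one]
  have hfrat : ∀ g : G, ∃ k n, k ∈ Q ∧ n ∈ D ∧ g = k * n := by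
    obtain ⟨rot, hrotN, hrot⟩ := rot_exists r
    obtain ⟨N, hNdef⟩ : ∃ N : Subgroup G, N = rot.comap φ := ⟨_, rfl⟩
    have hmemN : ∀ x, x ∈ N ↔ ∃ i, φ x = DihedralGroup.r i := by
      intro x
      rw [hNdef, Subgroup.mem_comap, hrot]
    have hRN : (R : Subgroup G) ≤ N := fun y hy => (hmemN y).mpr (hRrot y hy)
    haveI : N.Normal := by
      rw [hNdef]
      exact Subgroup.Normal.comap hrotN φ
    have htop := Sylow.normalizer_sup_eq_top (R.subtype hRN)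
    have hmap : ((R.subtype hRN : Sylow r N) : Subgroup N).map N.subtype = (R : Subgroup G) := by
      rw [Sylow.coe_subtype]
      exact Subgroup.map_subgroupOf_eq_of_le hRN
    rw [hmap, ← hD] at htop
    intro g
    have hg : g⁻¹ ∈ ((D ⊔ N : Subgroup G) : Set G) := by
      rw [htop]
      trivial
    rw [Subgroup.mul_normal] at hg
    obtain ⟨n, hn, m, hm, hnm⟩ := Set.mem_mul.mp hg
    obtain ⟨i, hi⟩ := (hmemN m).mp hm
    obtain ⟨ρ, hρR, hρ⟩ := hRsurj i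
    refine ⟨(ρ⁻¹ * m)⁻¹, (n * ρ)⁻¹, inv_mem ?_, inv_mem (mul_mem hn (hRD hρR)), ?_⟩
    · rw [← hφk, map_mul, map_inv, hρ, hi, inv_mul_cancel]
    · have e : g = (n * m)⁻¹ := by
        have h1 : n * m = g⁻¹ := hnm
        rw [h1, inv_inv]
      rw [e]
      group
  have hsurjD : ∀ z : DihedralGroup r, ∃ x, x ∈ D ∧ φ x = z := by
    intro z
    obtain ⟨g, rfl⟩ := hφs z
    obtain ⟨k, n, hk, hn, rfl⟩ := hfrat g
    refine ⟨n, hn, ?_⟩
    rw [map_mul, (hφk k).mpr hk, one_mul]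
  choose ψ hψD hφψ using hsurjD
  have hψφ : ∀ x, x ∈ D → ψ (φ x) = x := fun x hx => hinjD _ _ (hψD _) hx (hφψ _)
  have hψmul : ∀ x y, ψ (x * y) = ψ x * ψ y := fun x y =>
    hinjD _ _ (hψD _) (mul_mem (hψD _) (hψD _)) (by rw [map_mul, hφψ, hφψ, hφψ])
  have hψ1 : ψ 1 = 1 := hinjD _ _ (hψD _) (one_mem _) (by rw [hφψ, map_one])
  have hψinv : ∀ x, ψ x⁻¹ = (ψ x)⁻¹ := fun x =>
    hinjD _ _ (hψD _) (inv_mem (hψD _)) (by rw [map_inv, hφψ, hφψ])
  have hψR : ∀ i, ψ (DihedralGroup.r i) ∈ (R : Subgroup G) := by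
    intro i
    obtain ⟨ρ, hρR, hρ⟩ := hRsurj i
    have e : ψ (DihedralGroup.r i) = ρ := by
      rw [← hρ]
      exact hψφ ρ (hRD hρR)
    rw [e]
    exact hρR
  have hinvnorm : ∀ t : G, t * t = 1 →
      (∀ y, y ∈ (R : Subgroup G) → t * y * t⁻¹ ∈ (R : Subgroup G)) → t ∈ D := by
    intro t htt h
    rw [hmemD]
    have ht : t⁻¹ = t := inv_eq_of_mul_eq_one_right htt
    intro y
    refine ⟨h y, fun hy => ?_⟩
    have h1 := h _ hy
    have e : t * (t * y * t⁻¹) * t⁻¹ = y := by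
      rw [ht]
      calc t * (t * y * t) * t = (t * t) * y * (t * t) := by group
        _ = y := by rw [htt, one_mul, mul_one]
    rw [e] at h1
    exact h1
  have hDT : ∀ b c : G, b * b = 1 → c * c = 1 → φ (b * c) = DihedralGroup.r 1 →
      ∃ k, k ∈ Q ∧ k⁻¹ * b * k ∈ D ∧ k⁻¹ * c * k ∈ D := by
    intro b c hb hc hbc
    obtain ⟨nQ, hnQ⟩ := IsPGroup.iff_card.mp hQ2
    obtain ⟨d, hd⟩ : ∃ d, d = b * c := ⟨_, rfl⟩
    rw [← hd] at hbc
    obtain ⟨w, hw⟩ : ∃ w, w = d ^ Nat.card Q := ⟨_, rfl⟩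
    have hbinv : b⁻¹ = b := inv_eq_of_mul_eq_one_right hb
    have hcinv : c⁻¹ = c := inv_eq_of_mul_eq_one_right hc
    have hbd : b * d * b⁻¹ = d⁻¹ := by
      rw [hd, mul_inv_rev, hbinv, hcinv]
      calc b * (b * c) * b = (b * b) * c * b := by group
        _ = c * b := by rw [hb, one_mul]
    have hcd : c * d * c⁻¹ = d⁻¹ := by
      rw [hd, mul_inv_rev, hbinv, hcinv]
      calc c * (b * c) * c = c * b * (c * c) := by group
        _ = c * b := by rw [hc, mul_one]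
    have hbw : b * w * b⁻¹ = w⁻¹ := by rw [hw, ← conj_pow, hbd, inv_pow]
    have hcw : c * w * c⁻¹ = w⁻¹ := by rw [hw, ← conj_pow, hcd, inv_pow]
    have hφw : φ w = DihedralGroup.r ((Nat.card Q : ℕ) : ZMod r) := by
      rw [hw, map_pow, hbc, DihedralGroup.r_pow, one_mul]
    have hcard0 : ((Nat.card Q : ℕ) : ZMod r) ≠ 0 := by
      rw [hnQ]
      push_cast
      exact pow_ne_zero _ h2
    have hw1 : w ≠ 1 := by
      intro h
      rw [h, map_one] at hφw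
      have h' : (DihedralGroup.r (0 : ZMod r)) = DihedralGroup.r ((Nat.card Q : ℕ) : ZMod r) := hφw
      exact hcard0 (DihedralGroup.r.inj h').symm
    have hwr : w ^ r = 1 := by
      have hdr : d ^ r ∈ Q := by
        rw [← hφk, map_pow, hbc, DihedralGroup.r_pow, one_mul, ZMod.natCast_self]
        rfl
      have h1 : (d ^ r) ^ Nat.card Q = 1 := by
        have h3 : (⟨d ^ r, hdr⟩ : ↥Q) ^ Nat.card ↥Q = 1 := pow_card_eq_one'
        exact congrArg Subtype.val h3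
      rw [hw, ← pow_mul, mul_comm, pow_mul]
      exact h1
    have how : orderOf w = r := orderOf_eq_prime hwr hw1
    have hpg : IsPGroup r (Subgroup.zpowers w) :=
      IsPGroup.of_card (n := 1) (by rw [Nat.card_zpowers, how, pow_one])
    obtain ⟨R', hR'⟩ := hpg.exists_le_sylow
    obtain ⟨g, hg⟩ := MulAction.exists_smul_eq G R R'
    have hwR' : w ∈ (R' : Subgroup G) := hR' (Subgroup.mem_zpowers w)
    rw [← hg, Sylow.coe_subgroup_smul] at hwR'
    obtain ⟨x, hx, hxw⟩ := hwR'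
    have hxw' : g * x * g⁻¹ = w := hxw
    obtain ⟨k, n, hk, hn, rfl⟩ := hfrat g
    have hw' : k⁻¹ * w * k ∈ (R : Subgroup G) := by
      have h1 := ((hmemD n).mp hn x).mp hx
      have e : k⁻¹ * w * k = n * x * n⁻¹ := by
        rw [← hxw']
        group
      rw [e]
      exact h1
    have hw'1 : k⁻¹ * w * k ≠ 1 := by
      intro h
      apply hw1
      have e : w = k * (k⁻¹ * w * k) * k⁻¹ := by group
      rw [e, h]
      group
    have hkey : ∀ t : G, t * t = 1 → t * w * t⁻¹ = w⁻¹ → k⁻¹ * t * k ∈ D := by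
      intro t htt htw
      apply hinvnorm
      · calc k⁻¹ * t * k * (k⁻¹ * t * k) = k⁻¹ * (t * t) * k := by group
          _ = 1 := by rw [htt]; group
      · intro y hy
        obtain ⟨m, rfl⟩ := hL1 _ hw' hw'1 y hy
        have e0 : k⁻¹ * t * k * (k⁻¹ * w * k) * (k⁻¹ * t * k)⁻¹ = (k⁻¹ * w * k)⁻¹ := by
          calc k⁻¹ * t * k * (k⁻¹ * w * k) * (k⁻¹ * t * k)⁻¹ = k⁻¹ * (t * w * t⁻¹) * k := by group
            _ = (k⁻¹ * w * k)⁻¹ := by rw [htw]; group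
        have e : k⁻¹ * t * k * (k⁻¹ * w * k) ^ m * (k⁻¹ * t * k)⁻¹ = ((k⁻¹ * w * k) ^ m)⁻¹ := by
          rw [← conj_pow, e0, inv_pow]
        rw [e]
        exact inv_mem (pow_mem hw' m)
    exact ⟨k, hk, hkey b hb hbw, hkey c hc hcw⟩
  refine ⟨⟨MulEquiv.ofBijective (φ.comp D.subtype) ⟨?_, ?_⟩⟩, ?_⟩
  · intro x y h
    exact Subtype.ext (hinjD _ _ x.2 y.2 h)
  · intro z
    exact ⟨⟨ψ z, hψD z⟩, hφψ z⟩
  intro a haD hoa
  have haa : a * a = 1 := by rw [← pow_two, ← hoa, pow_orderOf_eq_one]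
  have ha1 : a ≠ 1 := by
    intro h
    rw [h, orderOf_one] at hoa
    omega
  have hinvol : ∀ x : G, x * x = 1 → x ∉ Q → ∃ i, φ x = DihedralGroup.sr i := by
    intro x hxx hxQ
    cases hφx : φ x with
    | sr i => exact ⟨i, rfl⟩
    | r i =>
      exfalso
      apply hxQ
      rw [← hφk, hφx]
      have h1 : φ x * φ x = 1 := by rw [← map_mul, hxx, map_one]
      rw [hφx, DihedralGroup.r_mul_r] at h1
      have h1' : DihedralGroup.r (i + i) = DihedralGroup.r (0 : ZMod r) := h1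
      have h3 : i + i = 0 := DihedralGroup.r.inj h1'
      have h4 : i = 0 := by
        have h5 : (2 : ZMod r) * i = 0 := by rw [two_mul]; exact h3
        rcases mul_eq_zero.mp h5 with h | h
        · exact absurd h h2
        · exact h
      rw [h4]
      rfl
  have haQ : a ∉ Q := fun h => ha1 (hQD a h haD)
  obtain ⟨i, hi⟩ := hinvol a haa haQ
  have haψ : a = ψ (DihedralGroup.sr i) := by
    rw [← hi]
    exact (hψφ a haD).symm
  have hψsr : ∀ j, ψ (DihedralGroup.sr j) * ψ (DihedralGroup.sr j) = 1 := by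
    intro j
    rw [← hψmul, DihedralGroup.sr_mul_self, hψ1]
  have hconj : ∀ i j : ZMod r, ∃ n : G,
      n * ψ (DihedralGroup.sr i) * n⁻¹ = ψ (DihedralGroup.sr j) := by
    intro i j
    obtain ⟨m, hm⟩ : ∃ m : ZMod r, m + m = i - j :=
      ⟨2⁻¹ * (i - j), by rw [← two_mul, ← mul_assoc, mul_inv_cancel₀ h2, one_mul]⟩
    refine ⟨ψ (DihedralGroup.r m), ?_⟩
    rw [← hψinv, ← hψmul, ← hψmul, DihedralGroup.inv_r, DihedralGroup.r_mul_sr,
      DihedralGroup.sr_mul_r]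
    congr 2
    linear_combination (-1 : ZMod r) * hm
  refine ⟨?_, ?_⟩
  · intro b hob hbQ
    have hbb : b * b = 1 := by rw [← pow_two, ← hob, pow_orderOf_eq_one]
    obtain ⟨j, hj⟩ := hinvol b hbb hbQ
    obtain ⟨k, hk, hkb, -⟩ := hDT b (ψ (DihedralGroup.sr (j + 1))) hbb (hψsr _) (by
      rw [map_mul, hj, hφψ, DihedralGroup.sr_mul_sr]
      congr 1
      ring)
    have e : φ (k⁻¹ * b * k) = DihedralGroup.sr j := by
      rw [map_mul, map_mul, map_inv, (hφk k).mpr hk, hj]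
      simp
    have h1 : k⁻¹ * b * k = ψ (DihedralGroup.sr j) := by
      rw [← hψφ _ hkb, e]
    obtain ⟨n, hn⟩ := hconj i j
    refine ⟨k * n, ?_⟩
    rw [haψ]
    have e2 : b = k * (k⁻¹ * b * k) * k⁻¹ := by group
    rw [e2, h1, ← hn]
    group
  · obtain ⟨a', ha'⟩ : ∃ a', a' = ψ (DihedralGroup.sr (i + 1)) := ⟨_, rfl⟩
    have ha'a' : a' * a' = 1 := by
      rw [ha']
      exact hψsr _
    have ha'D : a' ∈ D := by
      rw [ha']
      exact hψD _
    have hφa' : φ a' = DihedralGroup.sr (i + 1) := by rw [ha', hφψ]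
    obtain ⟨ρ, hρ⟩ : ∃ ρ, ρ = ψ (DihedralGroup.r 1) := ⟨_, rfl⟩
    have hρR : ρ ∈ (R : Subgroup G) := by
      rw [hρ]
      exact hψR 1
    have hρ1 : ρ ≠ 1 := by
      intro h
      have h3 : φ ρ = 1 := by rw [h, map_one]
      rw [hρ, hφψ] at h3
      have h' : DihedralGroup.r (1 : ZMod r) = DihedralGroup.r 0 := h3
      exact one_ne_zero (DihedralGroup.r.inj h')
    have haρ : a' = a * ρ := by rw [ha', haψ, hρ, ← hψmul, DihedralGroup.sr_mul_r]
    obtain ⟨σ, hσ⟩ := hconj i (i + 1)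
    rw [← haψ, ← ha'] at hσ
    have hcard1 := card_QC Q σ a a' hσ
    have hdisj : ∀ z, z ∈ Q ⊓ Subgroup.centralizer ({a'} : Set G) →
        z ∈ Q ⊓ Subgroup.centralizer ({a} : Set G) → z = 1 := by
      intro z hz' hz
      rw [mem_QC] at hz' hz
      have hca : Commute a z := hz.2
      have hca' : Commute a' z := hz'.2
      have hρe : ρ = a⁻¹ * a' := by rw [haρ]; group
      have hcρ : Commute ρ z := by
        rw [hρe]
        exact hca.inv_left.mul_left hca'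
      have hzC : z ∈ Q ⊓ Subgroup.centralizer ((R : Subgroup G) : Set G) := by
        refine Subgroup.mem_inf.mpr ⟨hz.1, ?_⟩
        rw [Subgroup.mem_centralizer_iff]
        intro y hy
        obtain ⟨n, rfl⟩ := hL1 ρ hρR hρ1 y hy
        exact (hcρ.pow_left n).eq
      rw [hC] at hzC
      exact Subgroup.mem_bot.mp hzC
    have hcard2 : Nat.card (↥(Q ⊓ Subgroup.centralizer ({a'} : Set G)) ×
        ↥(Q ⊓ Subgroup.centralizer ({a} : Set G))) = Nat.card ↥Q := by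
      refine Nat.card_congr (Equiv.ofBijective
        (fun p : ↥(Q ⊓ Subgroup.centralizer ({a'} : Set G)) ×
          ↥(Q ⊓ Subgroup.centralizer ({a} : Set G)) =>
          (⟨p.1.1 * p.2.1, mul_mem p.1.2.1 p.2.2.1⟩ : ↥Q)) ⟨?_, ?_⟩)
      · rintro ⟨⟨x, hx⟩, ⟨y, hy⟩⟩ ⟨⟨x', hx'⟩, ⟨y', hy'⟩⟩ h
        have h0 : x * y = x' * y' := congrArg Subtype.val h
        have hz : x'⁻¹ * x = y' * y⁻¹ := by
          calc x'⁻¹ * x = x'⁻¹ * (x * y) * y⁻¹ := by group
            _ = x'⁻¹ * (x' * y') * y⁻¹ := by rw [h0]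
            _ = y' * y⁻¹ := by group
        have hzA' : x'⁻¹ * x ∈ Q ⊓ Subgroup.centralizer ({a'} : Set G) :=
          mul_mem (inv_mem hx') hx
        have hzA : x'⁻¹ * x ∈ Q ⊓ Subgroup.centralizer ({a} : Set G) := by
          rw [hz]
          exact mul_mem hy' (inv_mem hy)
        have h1 := hdisj _ hzA' hzA
        have hxx : x' = x := inv_mul_eq_one.mp h1
        have hyy : y' = y := by
          rw [h1] at hz
          exact mul_inv_eq_one.mp hz.symm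
        subst hxx
        subst hyy
        rfl
      · rintro ⟨q, hq⟩
        have hbb : (q * a * q⁻¹) * (q * a * q⁻¹) = 1 := by
          calc (q * a * q⁻¹) * (q * a * q⁻¹) = q * (a * a) * q⁻¹ := by group
            _ = 1 := by rw [haa]; group
        have hφb : φ (q * a * q⁻¹) = DihedralGroup.sr i := by
          rw [map_mul, map_mul, map_inv, (hφk q).mpr hq, hi]
          simp
        obtain ⟨k, hk, hkb, hkc⟩ := hDT (q * a * q⁻¹) a' hbb ha'a' (by
          rw [map_mul, hφb, hφa', DihedralGroup.sr_mul_sr]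
          congr 1
          ring)
        have e1 : k⁻¹ * a' * k = a' := by
          apply hinjD _ _ hkc ha'D
          rw [map_mul, map_mul, map_inv, (hφk k).mpr hk]
          simp
        have e2 : k⁻¹ * (q * a * q⁻¹) * k = a := by
          apply hinjD _ _ hkb haD
          rw [map_mul, map_mul, map_inv, (hφk k).mpr hk, hφb, hi]
          simp
        have hkA' : k ∈ Q ⊓ Subgroup.centralizer ({a'} : Set G) := by
          rw [mem_QC]
          refine ⟨hk, ?_⟩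
          calc a' * k = k * (k⁻¹ * a' * k) := by group
            _ = k * a' := by rw [e1]
        have hkA : k⁻¹ * q ∈ Q ⊓ Subgroup.centralizer ({a} : Set G) := by
          rw [mem_QC]
          refine ⟨mul_mem (inv_mem hk) hq, ?_⟩
          calc a * (k⁻¹ * q) = (k⁻¹ * (q * a * q⁻¹) * k) * (k⁻¹ * q) := by rw [e2]
            _ = k⁻¹ * q * a := by group
        refine ⟨(⟨k, hkA'⟩, ⟨k⁻¹ * q, hkA⟩), ?_⟩
        apply Subtype.ext
        show k * (k⁻¹ * q) = q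
        group
    rw [Nat.card_prod, ← hcard1] at hcard2
    rw [pow_two]
    exact hcard2

theorem result {G : Type*} [Group G] [Finite G] {r : ℕ} [Fact r.Prime] (hr : r ≠ 2) [hN : (Cfsg.pCore 2 G).Normal] (hquot : Nonempty (G ⧸ Cfsg.pCore 2 G ≃* DihedralGroup r)) (R : Sylow r G) (hC : Cfsg.pCore 2 G ⊓ Subgroup.centralizer ((R : Subgroup G) : Set G) = ⊥) : Nonempty (↥(Subgroup.normalizer ((R : Subgroup G) : Set G)) ≃* DihedralGroup r) ∧ ∀ a : G, a ∈ Subgroup.normalizer ((R : Subgroup G) : Set G) → orderOf a = 2 → (∀ b : G, orderOf b = 2 → b ∉ Cfsg.pCore 2 G → ∃ g : G, g * a * g⁻¹ = b) ∧ Nat.card ↥(Cfsg.pCore 2 G ⊓ Subgroup.centralizer ({a} : Set G)) ^ 2 = Nat.card ↥(Cfsg.pCore 2 G) := by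
  obtain ⟨e⟩ := hquot
  refine core hr (Cfsg.pCore 2 G) (Cfsg.Agent.Lib.Helper5.PCore.pCore_isPGroup 2 G)
    (e.toMonoidHom.comp (QuotientGroup.mk' (Cfsg.pCore 2 G))) ?_ ?_ R hC _ rfl
  · exact e.surjective.comp (QuotientGroup.mk'_surjective _)
  · intro x
    constructor
    · intro h
      have h' : e (QuotientGroup.mk x) = e 1 := by
        rw [map_one]
        exact h
      exact (QuotientGroup.eq_one_iff x).mp (e.injective h')
    · intro h
      have h1 : (QuotientGroup.mk x : G ⧸ Cfsg.pCore 2 G) = 1 := (QuotientGroup.eq_one_iff x).mpr h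
      show e (QuotientGroup.mk x) = 1
      rw [h1, map_one]

end Cfsg.Agent.S2873
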