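import Cfsg.Statements.S2880
import Mathlib
import Cfsg.Agent.Lib.Helper1.Nil

set_option autoImplicit false
open Cfsg

namespace Cfsg.Agent.S2880

open Finset in
theorem half {E : Type*} [Group E] [Fintype E] [DecidableEq E] (B : Subgroup E)
    [DecidablePred (· ∈ B)] (c : E → E) (z : E)
    (hz1 : z ≠ 1) (hzz : z * z = 1) (hc : ∀ a ∈ B, ∀ b ∈ B, c (a * b) = c a * c b)
    (hcz : ∀ a ∈ B, c a = 1 ∨ c a = z) (a₀ : E) (ha₀B : a₀ ∈ B) (ha₀ : c a₀ = z) :
    2 * ((univ.filter (· ∈ B)).filter (fun a => c a = 1)).card = Nat.card B ∧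
    2 * ((univ.filter (· ∈ B)).filter (fun a => c a = z)).card = Nat.card B := by
  have hc1 : c 1 = 1 := by
    have := hc 1 B.one_mem 1 B.one_mem
    rw [mul_one] at this
    exact left_eq_mul.mp this
  have hcinv : c a₀⁻¹ = z := by
    have := hc a₀ ha₀B a₀⁻¹ (B.inv_mem ha₀B)
    rw [mul_inv_cancel, hc1, ha₀] at this
    have h2 : c a₀⁻¹ = z⁻¹ := eq_inv_of_mul_eq_one_right this.symm
    rw [h2]
    exact inv_eq_of_mul_eq_one_right hzz
  have hcard : ((univ.filter (· ∈ B)).filter (fun a => c a = 1)).card =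
      ((univ.filter (· ∈ B)).filter (fun a => c a = z)).card := by
    apply Finset.card_bij' (fun a _ => a * a₀) (fun a _ => a * a₀⁻¹)
    · intro a ha
      rw [mem_filter, mem_filter] at ha ⊢
      exact ⟨⟨mem_univ _, B.mul_mem ha.1.2 ha₀B⟩,
        by rw [hc a ha.1.2 a₀ ha₀B, ha.2, ha₀, one_mul]⟩
    · intro a ha
      rw [mem_filter, mem_filter] at ha ⊢
      exact ⟨⟨mem_univ _, B.mul_mem ha.1.2 (B.inv_mem ha₀B)⟩,
        by rw [hc a ha.1.2 a₀⁻¹ (B.inv_mem ha₀B), ha.2, hcinv, hzz]⟩
    · intro a _
      exact mul_inv_cancel_right a a₀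
    · intro a _
      exact inv_mul_cancel_right a a₀
  have hsplit := Finset.card_filter_add_card_filter_not (s := univ.filter (· ∈ B))
    (fun a => c a = 1)
  have hneg : (univ.filter (· ∈ B)).filter (fun a => ¬ c a = 1) =
      (univ.filter (· ∈ B)).filter (fun a => c a = z) := by
    apply Finset.filter_congr
    intro a ha
    rw [mem_filter] at ha
    constructor
    · intro h
      exact (hcz a ha.2).resolve_left h
    · intro h h'
      rw [h] at h'
      exact hz1 h'
  rw [hneg] at hsplit
  have hB : (univ.filter (· ∈ B)).card = Nat.card B := by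
    rw [Nat.card_eq_fintype_card, Fintype.card_subtype]
  rw [hB] at hsplit
  constructor <;> omega

theorem sum_two {α : Type*} (s : Finset α) (p : α → Prop) [DecidablePred p] (g : α → ℕ) (N : ℕ)
    (h1 : ∀ a ∈ s, p a → g a = 2 * N) (h2 : ∀ a ∈ s, ¬ p a → g a = N) :
    ∑ a ∈ s, g a = N * s.card + N * (s.filter p).card := by
  have : ∀ a ∈ s, g a = N + if p a then N else 0 := by
    intro a ha
    by_cases hp : p a
    · rw [h1 a ha hp, if_pos hp]
      ring
    · rw [h2 a ha hp, if_neg hp]
      ring
  rw [Finset.sum_congr rfl this, Finset.sum_add_distrib, Finset.sum_const, smul_eq_mul,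
    ← Finset.sum_filter, Finset.sum_const, smul_eq_mul]
  ring

theorem cent_card {E : Type*} [Group E] [Finite E] (z : E) (hz1 : z ≠ 1) (hzz : z * z = 1)
    (hzc : z ∈ Subgroup.center E) (hZ : ∀ w ∈ Subgroup.center E, w = 1 ∨ w = z)
    (hcomm : ∀ a x : E, a * x * a⁻¹ * x⁻¹ ∈ Subgroup.center E)
    (B : Subgroup E) (hzB : z ∈ B) :
    Nat.card B * Nat.card (Subgroup.centralizer (B : Set E)) = 2 * Nat.card E := by
  classical
  haveI := Fintype.ofFinite E
  have hmulx : ∀ b x y : E, b * (x * y) * b⁻¹ * (x * y)⁻¹ =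
      (b * x * b⁻¹ * x⁻¹) * (b * y * b⁻¹ * y⁻¹) := by
    intro b x y
    have h1 := Subgroup.mem_center_iff.mp (hcomm b y) (x⁻¹)
    calc b * (x * y) * b⁻¹ * (x * y)⁻¹ = b * x * b⁻¹ * ((b * y * b⁻¹ * y⁻¹) * x⁻¹) := by group
      _ = b * x * b⁻¹ * (x⁻¹ * (b * y * b⁻¹ * y⁻¹)) := by rw [h1]
      _ = _ := by group
  have hmulb : ∀ a b x : E, (a * b) * x * (a * b)⁻¹ * x⁻¹ =
      (a * x * a⁻¹ * x⁻¹) * (b * x * b⁻¹ * x⁻¹) := by
    intro a b x
    have h1 := Subgroup.mem_center_iff.mp (hcomm b x) a
    have h2 := Subgroup.mem_center_iff.mp (hcomm b x) (a * x * a⁻¹ * x⁻¹)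
    calc (a * b) * x * (a * b)⁻¹ * x⁻¹ = (a * (b * x * b⁻¹ * x⁻¹)) * x * a⁻¹ * x⁻¹ := by group
      _ = ((b * x * b⁻¹ * x⁻¹) * a) * x * a⁻¹ * x⁻¹ := by rw [h1]
      _ = (b * x * b⁻¹ * x⁻¹) * (a * x * a⁻¹ * x⁻¹) := by group
      _ = _ := h2.symm
  have hiff : ∀ b x : E, b * x = x * b ↔ b * x * b⁻¹ * x⁻¹ = 1 := by
    intro b x
    rw [mul_inv_eq_one, mul_inv_eq_iff_eq_mul]
  have dc := Finset.sum_card_bipartiteAbove_eq_sum_card_bipartiteBelow
    (s := Finset.univ.filter (· ∈ B)) (t := (Finset.univ : Finset E))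
    (r := fun b x => b * x = x * b)
  have hSB : (Finset.univ.filter (· ∈ B)).card = Nat.card B := by
    rw [Nat.card_eq_fintype_card, Fintype.card_subtype]
  have hL : ∑ b ∈ Finset.univ.filter (· ∈ B),
      2 * ((Finset.univ : Finset E).bipartiteAbove (fun b x => b * x = x * b) b).card =
      Nat.card E * Nat.card B + Nat.card E * 2 := by
    rw [sum_two (Finset.univ.filter (· ∈ B)) (· ∈ Subgroup.center E) _ (Nat.card E), hSB]
    · congr 2
      have : (Finset.univ.filter (· ∈ B)).filter (· ∈ Subgroup.center E) = {1, z} := by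
        ext w
        simp only [Finset.mem_filter, Finset.mem_univ, true_and, Finset.mem_insert,
          Finset.mem_singleton]
        constructor
        · rintro ⟨-, hw⟩
          exact hZ w hw
        · rintro (rfl | rfl)
          · exact ⟨B.one_mem, Subgroup.one_mem _⟩
          · exact ⟨hzB, hzc⟩
      rw [this, Finset.card_pair hz1.symm]
    · intro b _ hb
      have : (Finset.univ : Finset E).bipartiteAbove (fun b x => b * x = x * b) b = Finset.univ := by
        ext x
        simp only [Finset.mem_bipartiteAbove, Finset.mem_univ, true_and, iff_true]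
        exact (Subgroup.mem_center_iff.mp hb x).symm
      rw [this, Finset.card_univ, Nat.card_eq_fintype_card]
    · intro b _ hb
      rw [Subgroup.mem_center_iff] at hb
      push Not at hb
      obtain ⟨x₀, hx₀⟩ := hb
      have hx₀z : b * x₀ * b⁻¹ * x₀⁻¹ = z := by
        rcases hZ _ (hcomm b x₀) with h | h
        · exact absurd ((hiff b x₀).mpr h).symm hx₀
        · exact h
      obtain ⟨hh1, -⟩ := half (⊤ : Subgroup E) (fun x => b * x * b⁻¹ * x⁻¹) z hz1 hzz
        (fun x _ y _ => hmulx b x y) (fun x _ => hZ _ (hcomm b x)) x₀ (Subgroup.mem_top _) hx₀z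
      rw [Subgroup.card_top] at hh1
      rw [← hh1]
      congr 2
      ext x
      simp only [Finset.mem_bipartiteAbove, Finset.mem_univ, true_and, Finset.mem_filter,
        Subgroup.mem_top]
      exact hiff b x
  have hR : ∑ x ∈ (Finset.univ : Finset E),
      2 * ((Finset.univ.filter (· ∈ B)).bipartiteBelow (fun b x => b * x = x * b) x).card =
      Nat.card B * Nat.card E + Nat.card B * Nat.card (Subgroup.centralizer (B : Set E)) := by
    rw [sum_two (Finset.univ : Finset E) (· ∈ Subgroup.centralizer (B : Set E)) _ (Nat.card B)]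
    · congr 2
      · rw [Finset.card_univ, Nat.card_eq_fintype_card]
      · rw [Nat.card_eq_fintype_card, Fintype.card_subtype]
    · intro x _ hx
      have : (Finset.univ.filter (· ∈ B)).bipartiteBelow (fun b x => b * x = x * b) x =
          Finset.univ.filter (· ∈ B) := by
        ext b
        simp only [Finset.mem_bipartiteBelow, Finset.mem_filter, Finset.mem_univ, true_and,
          and_iff_left_iff_imp]
        intro hb
        exact Subgroup.mem_centralizer_iff.mp hx b hb
      rw [this, hSB]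
    · intro x _ hx
      rw [Subgroup.mem_centralizer_iff] at hx
      push Not at hx
      obtain ⟨b₀, hb₀, hne⟩ := hx
      have hb₀z : b₀ * x * b₀⁻¹ * x⁻¹ = z := by
        rcases hZ _ (hcomm b₀ x) with h | h
        · exact absurd ((hiff b₀ x).mpr h) hne
        · exact h
      obtain ⟨hh1, -⟩ := half B (fun b => b * x * b⁻¹ * x⁻¹) z hz1 hzz
        (fun a _ b _ => hmulb a b x) (fun b _ => hZ _ (hcomm b x)) b₀ hb₀ hb₀z
      rw [← hh1]
      congr 2
      ext b
      simp only [Finset.mem_bipartiteBelow, Finset.mem_filter, Finset.mem_univ, true_and]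
      rw [hiff b x]
  have hdc2 : ∑ b ∈ Finset.univ.filter (· ∈ B),
      2 * ((Finset.univ : Finset E).bipartiteAbove (fun b x => b * x = x * b) b).card =
      ∑ x ∈ (Finset.univ : Finset E),
      2 * ((Finset.univ.filter (· ∈ B)).bipartiteBelow (fun b x => b * x = x * b) x).card := by
    rw [← Finset.mul_sum, ← Finset.mul_sum, dc]
  rw [hL, hR] at hdc2
  linarith

theorem result_aux {E : Type*} [Group E] [Finite E] (m : ℕ) (hE : Cfsg.IsExtraspecial 2 E)
    (hcard : Nat.card E = 2 ^ (2 * m + 1))
    (hplus : ∃ A : Subgroup E, Cfsg.IsElementaryAbelian 2 A ∧ Nat.card A = 2 ^ (m + 1)) :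
    Nat.card {x : E // orderOf x = 4} = 2 ^ (2 * m) - 2 ^ m := by
  classical
  haveI : Fact (Nat.Prime 2) := ⟨Nat.prime_two⟩
  haveI := Fintype.ofFinite E
  obtain ⟨⟨hp, hfr, hcm⟩, hZ2⟩ := hE
  obtain ⟨z, hzc, hz1, hzz, hZ⟩ : ∃ z ∈ Subgroup.center E, z ≠ 1 ∧ z * z = 1 ∧
      ∀ w ∈ Subgroup.center E, w = 1 ∨ w = z := by
    haveI : Nontrivial (Subgroup.center E) :=
      Finite.one_lt_card_iff_nontrivial.mp (by rw [hZ2]; norm_num)
    obtain ⟨⟨z, hz⟩, hz1⟩ := exists_ne (1 : Subgroup.center E)
    have hz1' : z ≠ 1 := fun h => hz1 (Subtype.ext h)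
    have hzz : z * z = 1 := by
      have := pow_card_eq_one' (G := Subgroup.center E) (x := ⟨z, hz⟩)
      rw [hZ2, pow_two] at this
      exact congrArg Subtype.val this
    refine ⟨z, hz, hz1', hzz, ?_⟩
    intro w hw
    have htop := zpowers_eq_top_of_prime_card hZ2 hz1
    have hmem : (⟨w, hw⟩ : Subgroup.center E) ∈
        Subgroup.zpowers (⟨z, hz⟩ : Subgroup.center E) := by
      rw [htop]
      trivial
    obtain ⟨k, hk⟩ := Subgroup.mem_zpowers_iff.mp hmem
    have hk' : z ^ k = w := by
      have := congrArg Subtype.val hk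
      simpa using this
    have ho : orderOf z = 2 := orderOf_eq_prime (by rw [pow_two]; exact hzz) hz1'
    have hk2 : z ^ (k % 2) = w := by
      have := zpow_mod_orderOf z k
      rw [ho] at this
      rw [← hk']
      exact_mod_cast this
    rcases Int.emod_two_eq_zero_or_one k with h | h
    · left
      rw [h, zpow_zero] at hk2
      exact hk2.symm
    · right
      rw [h, zpow_one] at hk2
      exact hk2.symm
  have hcomm : ∀ a x : E, a * x * a⁻¹ * x⁻¹ ∈ Subgroup.center E := by
    intro a x
    rw [← hcm, commutator_def, ← commutatorElement_def]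
    exact Subgroup.commutator_mem_commutator (Subgroup.mem_top a) (Subgroup.mem_top x)
  have hsqZ : ∀ x : E, x * x ∈ Subgroup.center E := by
    intro x
    rw [← hfr]
    unfold frattini Order.radical
    rw [Subgroup.mem_iInf]
    intro M
    rw [Subgroup.mem_iInf]
    intro hM
    exact Subgroup.mul_self_mem_of_index_two
      (Cfsg.Agent.Lib.Helper1.coatom_normal_index_of_isPGroup 2 hp M hM).2 x
  obtain ⟨A, ⟨hAc, hAe⟩, hAcard⟩ := hplus
  have hAcomm : ∀ a ∈ A, ∀ b ∈ A, a * b = b * a :=
    fun a ha b hb => congrArg Subtype.val (hAc.is_comm.comm ⟨a, ha⟩ ⟨b, hb⟩)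
  have hAsq : ∀ a ∈ A, a * a = 1 := fun a ha => by
    have := hAe a ha
    rwa [pow_two] at this
  have hcc := fun B hzB => cent_card z hz1 hzz hzc hZ hcomm B hzB
  have e : 2 * 2 ^ (2 * m + 1) = 2 ^ (m + 1) * 2 ^ (m + 1) := by ring
  obtain ⟨P, hP⟩ : ∃ P, P = 2 ^ (m + 1) := ⟨_, rfl⟩
  have hPpos : 0 < P := by rw [hP]; positivity
  rw [← hP] at e hAcard
  have hzA : z ∈ A := by
    by_contra hzA
    have hcommW : ∀ x ∈ (A : Set E) ∪ {z}, ∀ y ∈ (A : Set E) ∪ {z}, x * y = y * x := by
      rintro x (hx | hx) y (hy | hy)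
      · exact hAcomm x hx y hy
      · rw [Set.mem_singleton_iff.mp hy]
        exact Subgroup.mem_center_iff.mp hzc x
      · rw [Set.mem_singleton_iff.mp hx]
        exact (Subgroup.mem_center_iff.mp hzc y).symm
      · rw [Set.mem_singleton_iff.mp hx, Set.mem_singleton_iff.mp hy]
    have hBc := Subgroup.isMulCommutative_closure hcommW
    have hAB : A ≤ Subgroup.closure ((A : Set E) ∪ {z}) :=
      fun a ha => Subgroup.subset_closure (Or.inl ha)
    have hzB : z ∈ Subgroup.closure ((A : Set E) ∪ {z}) := Subgroup.subset_closure (Or.inr rfl)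
    have h1 := hcc _ hzB
    have hdvd := Subgroup.card_dvd_of_le hAB
    have hne : Nat.card A ≠ Nat.card (Subgroup.closure ((A : Set E) ∪ {z})) := by
      intro h
      apply hzA
      have := Subgroup.eq_of_le_of_card_ge hAB (le_of_eq h.symm)
      rw [this]
      exact hzB
    obtain ⟨k, hk⟩ := hdvd
    have hk2 : 2 ≤ k := by
      rcases k with _ | _ | k
      · rw [mul_zero] at hk
        exact absurd hk (Nat.card_pos.ne')
      · exfalso
        apply hne
        rw [hk]
        ring
      · omega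
    have hle : Nat.card (Subgroup.closure ((A : Set E) ∪ {z})) ≤
        Nat.card (Subgroup.centralizer ((Subgroup.closure ((A : Set E) ∪ {z}) : Subgroup E) : Set E)) :=
      Subgroup.card_le_of_le (fun b hb => Subgroup.mem_centralizer_iff.mpr
        (fun h hh => congrArg Subtype.val (hBc.is_comm.comm ⟨h, hh⟩ ⟨b, hb⟩)))
    have h3 : Nat.card (Subgroup.closure ((A : Set E) ∪ {z})) *
        Nat.card (Subgroup.closure ((A : Set E) ∪ {z})) ≤ 2 * Nat.card E := by
      rw [← h1]
      exact Nat.mul_le_mul_left _ hle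
    rw [hcard, hk, hAcard, e] at h3
    have h4 : 2 * P ≤ P * k := by nlinarith
    have h5 := Nat.mul_le_mul h4 h4
    nlinarith
  have hCA : Subgroup.centralizer (A : Set E) = A := by
    have h1 := hcc A hzA
    have hle : A ≤ Subgroup.centralizer (A : Set E) :=
      fun b hb => Subgroup.mem_centralizer_iff.mpr (fun h hh => hAcomm h hh b hb)
    symm
    apply Subgroup.eq_of_le_of_card_ge hle
    rw [hAcard, hcard, e] at h1
    have := Nat.eq_of_mul_eq_mul_left hPpos h1
    rw [this, hAcard]
  have hord : ∀ x : E, orderOf x = 4 ↔ x * x = z := by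
    intro x
    constructor
    · intro h
      rcases hZ _ (hsqZ x) with h1 | h1
      · exfalso
        have : orderOf x ∣ 2 := orderOf_dvd_of_pow_eq_one (by rw [pow_two]; exact h1)
        rw [h] at this
        norm_num at this
      · exact h1
    · intro h
      have h4 : x ^ 2 ^ (1 + 1) = 1 := by
        show x ^ 4 = 1
        rw [show (4 : ℕ) = 2 + 2 from rfl, pow_add, pow_two, h, hzz]
      exact orderOf_eq_prime_pow (p := 2) (n := 1)
        (by rw [pow_one, pow_two, h]; exact hz1) h4
  have hN : Nat.card {x : E // orderOf x = 4} =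
      (Finset.univ.filter (fun x : E => x * x = z)).card := by
    rw [Nat.card_eq_fintype_card, Fintype.card_subtype]
    congr 1
    apply Finset.filter_congr
    intro x _
    exact hord x
  rw [hN]
  have dc := Finset.sum_card_bipartiteAbove_eq_sum_card_bipartiteBelow
    (s := Finset.univ.filter (· ∈ A)) (t := (Finset.univ : Finset E))
    (r := fun a x => (x * a) * (x * a) = z)
  have hS : (Finset.univ.filter (· ∈ A)).card = Nat.card A := by
    rw [Nat.card_eq_fintype_card, Fintype.card_subtype]
  have hL : ∀ a ∈ Finset.univ.filter (· ∈ A),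
      ((Finset.univ : Finset E).bipartiteAbove (fun a x => (x * a) * (x * a) = z) a).card =
      (Finset.univ.filter (fun x : E => x * x = z)).card := by
    intro a _
    apply Finset.card_bij' (fun x _ => x * a) (fun x _ => x * a⁻¹)
    · intro x hx
      rw [Finset.mem_bipartiteAbove] at hx
      rw [Finset.mem_filter]
      exact ⟨Finset.mem_univ _, hx.2⟩
    · intro x hx
      rw [Finset.mem_filter] at hx
      rw [Finset.mem_bipartiteAbove]
      refine ⟨Finset.mem_univ _, ?_⟩
      show (x * a⁻¹ * a) * (x * a⁻¹ * a) = z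
      rw [inv_mul_cancel_right]
      exact hx.2
    · intro x _
      exact mul_inv_cancel_right x a
    · intro x _
      exact inv_mul_cancel_right x a
  have hR : ∀ x ∈ (Finset.univ : Finset E),
      2 * ((Finset.univ.filter (· ∈ A)).bipartiteBelow
        (fun a x => (x * a) * (x * a) = z) x).card = if x ∈ A then 0 else Nat.card A := by
    intro x _
    by_cases hx : x ∈ A
    · rw [if_pos hx]
      have : (Finset.univ.filter (· ∈ A)).bipartiteBelow
          (fun a x => (x * a) * (x * a) = z) x = ∅ := by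
        apply Finset.eq_empty_of_forall_notMem
        intro a ha
        rw [Finset.mem_bipartiteBelow, Finset.mem_filter] at ha
        have := hAsq (x * a) (A.mul_mem hx ha.1.2)
        rw [ha.2] at this
        exact hz1 this
      rw [this]
      rfl
    · rw [if_neg hx]
      have hxC : x ∉ Subgroup.centralizer (A : Set E) := by
        rw [hCA]
        exact hx
      rw [Subgroup.mem_centralizer_iff] at hxC
      push Not at hxC
      obtain ⟨a₀, ha₀, hne⟩ := hxC
      have hcen : ∀ a : E, x⁻¹ * a * x * a⁻¹ ∈ Subgroup.center E := by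
        intro a
        have := hcomm x⁻¹ a
        rwa [inv_inv] at this
      have hmul : ∀ a ∈ A, ∀ b ∈ A, x⁻¹ * (a * b) * x * (a * b)⁻¹ =
          (x⁻¹ * a * x * a⁻¹) * (x⁻¹ * b * x * b⁻¹) := by
        intro a _ b _
        have h1 := Subgroup.mem_center_iff.mp (hcen b) (a⁻¹)
        calc x⁻¹ * (a * b) * x * (a * b)⁻¹
            = x⁻¹ * a * x * ((x⁻¹ * b * x * b⁻¹) * a⁻¹) := by group
          _ = x⁻¹ * a * x * (a⁻¹ * (x⁻¹ * b * x * b⁻¹)) := by rw [h1]
          _ = _ := by group
      have hval : ∀ a ∈ A, x⁻¹ * a * x * a⁻¹ = 1 ∨ x⁻¹ * a * x * a⁻¹ = z :=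
        fun a _ => hZ _ (hcen a)
      have ha₀z : x⁻¹ * a₀ * x * a₀⁻¹ = z := by
        rcases hval a₀ ha₀ with h | h
        · exfalso
          apply hne
          have h2 := mul_inv_eq_one.mp h
          calc a₀ * x = x * (x⁻¹ * a₀ * x) := by group
            _ = x * a₀ := by rw [h2]
        · exact h
      obtain ⟨hh1, hhz⟩ := half A (fun a => x⁻¹ * a * x * a⁻¹) z hz1 hzz hmul hval a₀ ha₀ ha₀z
      have key : ∀ a ∈ A, (x * a) * (x * a) = (x * x) * (x⁻¹ * a * x * a⁻¹) := by
        intro a ha
        have hainv : a⁻¹ = a := inv_eq_of_mul_eq_one_right (hAsq a ha)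
        rw [hainv]
        group
      rcases hZ _ (hsqZ x) with hxx | hxx
      · have : (Finset.univ.filter (· ∈ A)).bipartiteBelow
            (fun a x => (x * a) * (x * a) = z) x =
            (Finset.univ.filter (· ∈ A)).filter (fun a => x⁻¹ * a * x * a⁻¹ = z) := by
          rw [Finset.bipartiteBelow]
          apply Finset.filter_congr
          intro a ha
          rw [Finset.mem_filter] at ha
          rw [key a ha.2, hxx, one_mul]
        rw [this]
        exact hhz
      · have : (Finset.univ.filter (· ∈ A)).bipartiteBelow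
            (fun a x => (x * a) * (x * a) = z) x =
            (Finset.univ.filter (· ∈ A)).filter (fun a => x⁻¹ * a * x * a⁻¹ = 1) := by
          rw [Finset.bipartiteBelow]
          apply Finset.filter_congr
          intro a ha
          rw [Finset.mem_filter] at ha
          rw [key a ha.2, hxx]
          constructor
          · intro h
            exact mul_left_cancel (h.trans (mul_one z).symm)
          · intro h
            rw [h, mul_one]
        rw [this]
        exact hh1
  rw [Finset.sum_congr rfl hL, Finset.sum_const, smul_eq_mul, hS] at dc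
  have h2 : 2 * ∑ x ∈ (Finset.univ : Finset E), ((Finset.univ.filter (· ∈ A)).bipartiteBelow
      (fun a x => (x * a) * (x * a) = z) x).card =
      ∑ x ∈ (Finset.univ : Finset E), if x ∈ A then 0 else Nat.card A := by
    rw [Finset.mul_sum]
    exact Finset.sum_congr rfl hR
  have h3 : ∑ x ∈ (Finset.univ : Finset E), (if x ∈ A then 0 else Nat.card A) =
      Nat.card A * (Nat.card E - Nat.card A) := by
    rw [Finset.sum_ite, Finset.sum_const_zero, zero_add, Finset.sum_const, smul_eq_mul]
    have := Finset.card_filter_add_card_filter_not (s := (Finset.univ : Finset E))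
      (fun x => x ∈ A)
    rw [hS, Finset.card_univ, ← Nat.card_eq_fintype_card] at this
    rw [mul_comm]
    congr 1
    omega
  have h4 : 2 * (Nat.card A * (Finset.univ.filter (fun x : E => x * x = z)).card) =
      Nat.card A * (Nat.card E - Nat.card A) := by rw [dc, h2, h3]
  rw [hAcard, hcard] at h4
  have h5 : 2 * (Finset.univ.filter (fun x : E => x * x = z)).card = 2 ^ (2 * m + 1) - P := by
    have : P * (2 * (Finset.univ.filter (fun x : E => x * x = z)).card) =
        P * (2 ^ (2 * m + 1) - P) := by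
      rw [← h4]
      ring
    exact Nat.eq_of_mul_eq_mul_left hPpos this
  have e1 : 2 ^ (2 * m + 1) = 2 * 2 ^ (2 * m) := by ring
  have e2 : P = 2 * 2 ^ m := by rw [hP]; ring
  rw [e1, e2] at h5
  omega

theorem result {E : Type*} [Group E] [Finite E] (m : ℕ) (hm : 1 ≤ m) (hE : Cfsg.IsExtraspecial 2 E) (hcard : Nat.card E = 2 ^ (2 * m + 1)) (hplus : ∃ A : Subgroup E, Cfsg.IsElementaryAbelian 2 A ∧ Nat.card A = 2 ^ (m + 1)) : Nat.card {x : E // orderOf x = 4} = 2 ^ (2 * m) - 2 ^ m := by
  exact result_aux m hE hcard hplus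

end Cfsg.Agent.S2880
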