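import Cfsg.Statements.S2881
import Mathlib
import Cfsg.Agent.S2880

set_option autoImplicit false
open Cfsg

namespace Cfsg.Agent.S2881

theorem two_sq_ne : ¬ ((2 : ZMod 5) ^ 2 ^ 1 = 1) := by decide

theorem two_four : (2 : ZMod 5) ^ 2 ^ (1 + 1) = 1 := by decide

theorem result {E : Type*} [Group E] [Finite E] (m : ℕ) (hm : 1 ≤ m) (hE : Cfsg.IsExtraspecial 2 E) (hcard : Nat.card E = 2 ^ (2 * m + 1)) (hplus : ∃ A : Subgroup E, Cfsg.IsElementaryAbelian 2 A ∧ Nat.card A = 2 ^ (m + 1)) (ω : E ≃* E) (hω : orderOf ω = 5) (hfix : ∀ x : E, ω x = x ↔ x ∈ Subgroup.center E) : 4 ∣ m := by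
  classical
  haveI : Fact (Nat.Prime 5) := ⟨by norm_num⟩
  have hN := Cfsg.Agent.S2880.result m hm hE hcard hplus
  have hZ2 : Nat.card (Subgroup.center E) = 2 := hE.2
  have hp5 : IsPGroup 5 (Subgroup.zpowers ω) := by
    apply IsPGroup.of_card (n := 1)
    rw [Nat.card_zpowers, hω, pow_one]
  letI : MulAction (Subgroup.zpowers ω) {x : E // orderOf x = 4} :=
    { smul := fun g x => ⟨(g : E ≃* E) x.1, by rw [MulEquiv.orderOf_eq]; exact x.2⟩
      one_smul := fun x => Subtype.ext rfl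
      mul_smul := fun g h x => Subtype.ext rfl }
  have hfp : MulAction.fixedPoints (Subgroup.zpowers ω) {x : E // orderOf x = 4} = ∅ := by
    apply Set.eq_empty_of_forall_notMem
    intro x hx
    rw [MulAction.mem_fixedPoints] at hx
    have h1 := hx ⟨ω, Subgroup.mem_zpowers ω⟩
    have h2 : ω x.1 = x.1 := congrArg Subtype.val h1
    have h3 := (hfix x.1).mp h2
    have h4 := pow_card_eq_one' (G := Subgroup.center E) (x := ⟨x.1, h3⟩)
    rw [hZ2] at h4
    have h5 : x.1 ^ 2 = 1 := congrArg Subtype.val h4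
    have h6 := orderOf_dvd_of_pow_eq_one h5
    rw [x.2] at h6
    norm_num at h6
  have hmod := hp5.card_modEq_card_fixedPoints {x : E // orderOf x = 4}
  rw [hfp, hN] at hmod
  have h5 : 5 ∣ 2 ^ (2 * m) - 2 ^ m := by
    have : Nat.card (∅ : Set {x : E // orderOf x = 4}) = 0 := by simp
    rw [this] at hmod
    exact (Nat.modEq_zero_iff_dvd).mp hmod
  have e1 : 2 ^ (2 * m) - 2 ^ m = 2 ^ m * (2 ^ m - 1) := by
    rw [Nat.mul_sub, mul_one, ← pow_add]
    congr 2
    ring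
  rw [e1] at h5
  have h6 : 5 ∣ 2 ^ m - 1 := by
    have hc : Nat.Coprime 5 (2 ^ m) := Nat.Coprime.pow_right m (by norm_num)
    exact hc.dvd_of_dvd_mul_left h5
  have h7 : ((2 : ZMod 5)) ^ m = 1 := by
    have h8 := (ZMod.natCast_eq_zero_iff (2 ^ m - 1) 5).mpr h6
    have h9 : 1 ≤ 2 ^ m := Nat.one_le_two_pow
    rw [Nat.cast_sub h9] at h8
    push_cast at h8
    exact sub_eq_zero.mp h8
  have ho : orderOf (2 : ZMod 5) = 4 := by
    haveI : Fact (Nat.Prime 2) := ⟨Nat.prime_two⟩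
    exact orderOf_eq_prime_pow (x := (2 : ZMod 5)) (p := 2) (n := 1) two_sq_ne two_four
  rw [← ho]
  exact orderOf_dvd_of_pow_eq_one h7

end Cfsg.Agent.S2881
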