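import Cfsg.Statements.S2909
import Mathlib
import Cfsg.Agent.S0028
import Cfsg.Agent.S0058
import Cfsg.Agent.Lib.Helper2.Local
import Cfsg.Agent.Lib.Helper2.SylowAux

set_option autoImplicit false
open Cfsg

namespace Cfsg.Agent.S2909

open scoped commutatorElement

theorem cent_zpowers {G : Type*} [Group G] (u : G) :
    Subgroup.centralizer ((Subgroup.zpowers u : Subgroup G) : Set G) =
      Subgroup.centralizer ({u} : Set G) := by
  apply le_antisymm
  · apply Subgroup.centralizer_le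
    intro x hx
    rw [Set.mem_singleton_iff] at hx
    rw [hx]; exact Subgroup.mem_zpowers u
  · intro x hx
    rw [Subgroup.mem_centralizer_iff] at hx ⊢
    intro y hy
    obtain ⟨k, rfl⟩ := Subgroup.mem_zpowers_iff.1 hy
    have h1 : Commute u x := hx u (Set.mem_singleton u)
    exact (h1.zpow_left k).eq

theorem mem_cs {G : Type*} [Group G] (u x : G) :
    x ∈ Subgroup.centralizer ({u} : Set G) ↔ Commute u x := by
  rw [Subgroup.mem_centralizer_iff]
  constructor
  · intro h; exact h u (Set.mem_singleton u)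
  · intro h z hz
    rw [Set.mem_singleton_iff] at hz
    rw [hz]; exact h.eq

def kD {G : Type*} [Group G] (E D : Subgroup G) : Subgroup G where
  carrier := {a | a ∈ Subgroup.normalizer (D : Set G) ∧ ∀ e ∈ E, ⁅e, a⁆ ∈ D}
  one_mem' := ⟨Subgroup.one_mem _, fun e _ => by simp⟩
  mul_mem' := by
    rintro a b ⟨ha1, ha2⟩ ⟨hb1, hb2⟩
    refine ⟨Subgroup.mul_mem _ ha1 hb1, fun e he => ?_⟩
    have e1 : ⁅e, a * b⁆ = ⁅e, a⁆ * (a * ⁅e, b⁆ * a⁻¹) := by
      simp only [commutatorElement_def]; group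
    rw [e1]
    exact D.mul_mem (ha2 e he) ((Subgroup.mem_normalizer_iff.1 ha1 _).1 (hb2 e he))
  inv_mem' := by
    rintro a ⟨ha1, ha2⟩
    refine ⟨Subgroup.inv_mem _ ha1, fun e he => ?_⟩
    have e1 : ⁅e, a⁻¹⁆ = a⁻¹ * (⁅e, a⁆)⁻¹ * a⁻¹⁻¹ := by
      simp only [commutatorElement_def]; group
    rw [e1]
    exact (Subgroup.mem_normalizer_iff.1 (Subgroup.inv_mem _ ha1) _).1 (D.inv_mem (ha2 e he))

theorem triv_mod {G : Type*} [Group G] (E D : Subgroup G) [E.Normal] (S U : Subgroup G)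
    (hS : S ≤ Subgroup.normalizer (D : Set G)) (hU : U ≤ Subgroup.normalizer (D : Set G))
    (hUD : ⁅E, U⁆ ≤ D) : ⁅E, ⁅S, U⁆⁆ ≤ D := by
  have hK : ⁅S, U⁆ ≤ kD E D := by
    rw [Subgroup.commutator_le]
    intro s hs v hv
    have hvK : v ∈ kD E D :=
      ⟨hU hv, fun e he => hUD (Subgroup.commutator_mem_commutator he hv)⟩
    have hsv : s * v * s⁻¹ ∈ kD E D := by
      refine ⟨Subgroup.mul_mem _ (Subgroup.mul_mem _ (hS hs) (hU hv))
        (Subgroup.inv_mem _ (hS hs)), fun e he => ?_⟩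
      have e1 : ⁅e, s * v * s⁻¹⁆ = s * ⁅s⁻¹ * e * s, v⁆ * s⁻¹ := by
        simp only [commutatorElement_def]; group
      rw [e1]
      exact (Subgroup.mem_normalizer_iff.1 (hS hs) _).1
        (hvK.2 _ (Subgroup.Normal.conj_mem' inferInstance e he s))
    have e2 : ⁅s, v⁆ = (s * v * s⁻¹) * v⁻¹ := by rw [commutatorElement_def]
    rw [e2]
    exact Subgroup.mul_mem _ hsv (Subgroup.inv_mem _ hvK)
  rw [Subgroup.commutator_le]
  intro e he a ha
  exact (hK ha).2 e he

def wU {G : Type*} [Group G] (C U : Subgroup G) [C.Normal] : Subgroup G where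
  carrier := {r | ∀ v ∈ U, ⁅r, v⁆ ∈ C}
  one_mem' := fun v _ => by simp
  mul_mem' := by
    intro a b ha hb v hv
    have e1 : ⁅a * b, v⁆ = a * ⁅b, v⁆ * a⁻¹ * ⁅a, v⁆ := by
      simp only [commutatorElement_def]; group
    rw [e1]
    exact C.mul_mem (Subgroup.Normal.conj_mem inferInstance _ (hb v hv) a) (ha v hv)
  inv_mem' := by
    intro a ha v hv
    have e1 : ⁅a⁻¹, v⁆ = a⁻¹ * (⁅a, v⁆)⁻¹ * a⁻¹⁻¹ := by
      simp only [commutatorElement_def]; group
    rw [e1]
    exact Subgroup.Normal.conj_mem inferInstance _ (C.inv_mem (ha v hv)) a⁻¹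

theorem dual {G : Type*} [Group G] [Finite G] (p : ℕ) [Fact p.Prime]
    (E P Q : Subgroup G) [E.Normal] (hE : IsPGroup p E) (hP : IsPGroup p P)
    (hQ : (Nat.card Q).Coprime p) (hPQ : P ≤ Subgroup.centralizer (Q : Set G))
    (hle : ⁅E, Q⁆ ≤ ⁅E, P⁆) : Q ≤ Subgroup.centralizer (E : Set G) := by
  have hNE : Subgroup.normalizer (E : Set G) = ⊤ := Subgroup.normalizer_eq_top E
  have hQE : Q ≤ Subgroup.normalizer (E : Set G) := by rw [hNE]; exact le_top
  have hPE : P ≤ Subgroup.normalizer (E : Set G) := by rw [hNE]; exact le_top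
  have hcop : (Nat.card Q).Coprime (Nat.card E) := by
    obtain ⟨n, hn⟩ := IsPGroup.iff_card.mp hE
    rw [hn]; exact Nat.Coprime.pow_right n hQ
  have hsolv : Group.IsSolvable Q ∨ Group.IsSolvable E :=
    Or.inr (Cfsg.Agent.Lib.Helper2.Local.solvable_of_pgroup hE)
  have hQP : Q ≤ Subgroup.centralizer (P : Set G) := Subgroup.le_centralizer_iff.1 hPQ
  set E₁ := ⁅E, Q⁆ with hE₁
  have hE₁E : E₁ ≤ E := Subgroup.commutator_le_left E Q
  have h2 : ⁅E₁, Q⁆ = E₁ := Cfsg.Agent.S0027.result Q E hQE hcop hsolv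
  have hE₁p : IsPGroup p E₁ := hE.to_le hE₁E
  have hEP : IsPGroup p (E ⊔ P : Subgroup G) := hE.to_sup_of_normal_left hP
  have hEn1 : E ≤ Subgroup.normalizer (E₁ : Set G) :=
    Cfsg.Agent.S0567.left_le_normalizer_commutator E Q
  have hQn1 : Q ≤ Subgroup.normalizer (E₁ : Set G) := by
    intro q hq
    exact Cfsg.Agent.S0028.mem_normalizer_commutator E Q q (hQE hq) (Subgroup.le_normalizer hq)
  have hPn1 : P ≤ Subgroup.normalizer (E₁ : Set G) := by
    intro v hv
    exact Cfsg.Agent.S0028.mem_normalizer_commutator E Q v (hPE hv)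
      ((Subgroup.centralizer_le_normalizer _) (hPQ hv))
  have hEPn1 : E ⊔ P ≤ Subgroup.normalizer (E₁ : Set G) := sup_le hEn1 hPn1
  set M := ⁅E₁, E ⊔ P⁆ with hM
  have hME₁ : M ≤ E₁ := Cfsg.Agent.S0026.comm_le_of_normalizes (E ⊔ P) E₁ hEPn1
  have hQn2 : Q ≤ Subgroup.normalizer ((E ⊔ P : Subgroup G) : Set G) := by
    intro q hq
    exact Subgroup.normalizer_inf_normalizer_le_normalizer_sup E P
      ⟨hQE hq, (Subgroup.centralizer_le_normalizer _) (hQP hq)⟩
  have hQnM : Q ≤ Subgroup.normalizer (M : Set G) := fun q hq =>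
    Cfsg.Agent.S0028.mem_normalizer_commutator E₁ (E ⊔ P) q (hQn1 hq) (hQn2 hq)
  have hEnM : E ≤ Subgroup.normalizer (M : Set G) := fun e he =>
    Cfsg.Agent.S0028.mem_normalizer_commutator E₁ (E ⊔ P) e (hEn1 he)
      (Subgroup.le_normalizer ((le_sup_left : E ≤ E ⊔ P) he))
  have hT : ⁅E, P⁆ ≤ M ⊔ (E ⊓ Subgroup.centralizer (Q : Set G)) := by
    rw [Subgroup.commutator_le]
    intro e he v hv
    obtain ⟨x, hx, c, hc, rfl⟩ := Cfsg.Agent.S0026.exists_decomp Q E hQE hcop hsolv e he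
    have e1 : ⁅x * c, v⁆ = ⁅x, ⁅c, v⁆⁆ * ⁅c, v⁆ * ⁅x, v⁆ := by
      simp only [commutatorElement_def]; group
    rw [e1]
    have hcv : ⁅c, v⁆ ∈ E ⊓ Subgroup.centralizer (Q : Set G) := by
      refine ⟨?_, ?_⟩
      · rw [commutatorElement_def]
        have : c * v * c⁻¹ * v⁻¹ = c * (v * c⁻¹ * v⁻¹) := by group
        rw [this]
        exact E.mul_mem hc.1 (Subgroup.Normal.conj_mem inferInstance _ (E.inv_mem hc.1) v)
      · rw [commutatorElement_def]
        exact Subgroup.mul_mem _ (Subgroup.mul_mem _ (Subgroup.mul_mem _ hc.2 (hPQ hv))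
          (Subgroup.inv_mem _ hc.2)) (Subgroup.inv_mem _ (hPQ hv))
    have h3 : ⁅x, ⁅c, v⁆⁆ ∈ M :=
      Subgroup.commutator_mem_commutator hx ((le_sup_left : E ≤ E ⊔ P) hcv.1)
    have h4 : ⁅x, v⁆ ∈ M :=
      Subgroup.commutator_mem_commutator hx ((le_sup_right : P ≤ E ⊔ P) hv)
    exact Subgroup.mul_mem _ (Subgroup.mul_mem _ ((le_sup_left : M ≤ _) h3)
      ((le_sup_right : _ ≤ M ⊔ _) hcv)) ((le_sup_left : M ≤ _) h4)
  have h5 : ⁅E₁, Q⁆ ≤ M := by
    rw [Subgroup.commutator_le]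
    intro x hx q hq
    have hx' : x ∈ M ⊔ (E ⊓ Subgroup.centralizer (Q : Set G)) := hT (hle hx)
    obtain ⟨m, hm, c, hc, rfl⟩ := Cfsg.Agent.S0023.mem_sup_of_le_normalizer M
      (E ⊓ Subgroup.centralizer (Q : Set G)) (inf_le_left.trans hEnM) hx'
    have hcq : c * q = q * c := ((Subgroup.mem_centralizer_iff.1 hc.2) q hq).symm
    have e2 : ⁅m * c, q⁆ = m * (q * m⁻¹ * q⁻¹) := by
      rw [commutatorElement_def]
      have : m * c * q * (m * c)⁻¹ * q⁻¹ = m * (c * q) * c⁻¹ * m⁻¹ * q⁻¹ := by group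
      rw [this, hcq]; group
    rw [e2]
    exact M.mul_mem hm ((Subgroup.le_normalizer_iff.1 hQnM) q hq m⁻¹ (M.inv_mem hm))
  have hE₁M : E₁ ≤ M := h2.symm.le.trans h5
  have h6 : ⁅E₁, E ⊔ P⁆ = E₁ := le_antisymm hME₁ hE₁M
  have h7 : E₁ = ⊥ :=
    Cfsg.Agent.S0028.eq_bot_of_commutator_eq p E₁ (E ⊔ P) hE₁p hEP hEPn1 h6
  have h8 : ⁅Q, E⁆ = ⊥ := by rw [Subgroup.commutator_comm]; exact h7
  exact Subgroup.commutator_eq_bot_iff_le_centralizer.1 h8

theorem result {G : Type*} [Group G] [Finite G] {p : ℕ} [Fact p.Prime] (E : Subgroup G) [E.Normal] (hE : IsPGroup p ↥E) (U : Subgroup G) (hU : Cfsg.IsElementaryAbelian p U) (hnc : ¬ IsCyclic ↥U) (hcond : (∀ u ∈ U, u ≠ 1 → E ⊓ Subgroup.centralizer (U : Set G) = E ⊓ Subgroup.centralizer ({u} : Set G)) ∨ (∀ u ∈ U, u ≠ 1 → ⁅E, U⁆ = ⁅E, Subgroup.zpowers u⁆)) (R : Subgroup G) (hR : ¬ p ∣ Nat.card ↥R) (hRU : U ≤ Subgroup.normalizer (R : Set G)) : ⁅R, U⁆ ≤ Subgroup.centralizer (E : Set G) := by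
  classical
  obtain ⟨hUc, hUp⟩ := hU
  have := hUc
  have hUpg : IsPGroup p U := Cfsg.Agent.Lib.Helper2.SylowAux.isPGroup_of_elementary U hUp
  have hRp : (Nat.card R).Coprime p :=
    Nat.Coprime.symm ((Nat.Prime.coprime_iff_not_dvd Fact.out).2 hR)
  have hcopUR : (Nat.card U).Coprime (Nat.card R) := by
    obtain ⟨n, hn⟩ := IsPGroup.iff_card.mp hUpg
    rw [hn]; exact Nat.Coprime.pow_left n hRp.symm
  have hgen := Cfsg.Agent.S0058.result U R hnc hRU hcopUR
  have hcomm : ∀ a ∈ U, ∀ b ∈ U, Commute a b := by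
    intro a ha b hb
    have := hUc.is_comm.comm (⟨a, ha⟩ : ↥U) ⟨b, hb⟩
    exact congrArg Subtype.val this
  have hNE : Subgroup.normalizer (E : Set G) = ⊤ := Subgroup.normalizer_eq_top E
  have key : ∀ u ∈ U, u ≠ 1 → ⁅R ⊓ Subgroup.centralizer ({u} : Set G), U⁆ ≤
      Subgroup.centralizer (E : Set G) := by
    intro u hu hu1
    set Ru := R ⊓ Subgroup.centralizer ({u} : Set G) with hRu
    have hURu : U ≤ Subgroup.normalizer (Ru : Set G) := by
      intro v hv
      rw [Subgroup.mem_normalizer_iff]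
      intro r
      have hvR := (Subgroup.mem_normalizer_iff.1 (hRU hv)) r
      have huv : Commute u v := hcomm u hu v hv
      constructor
      · rintro ⟨hr1, hr2⟩
        have hr2' : Commute u r := (mem_cs u r).1 hr2
        exact ⟨hvR.1 hr1, (mem_cs u _).2 ((huv.mul_right hr2').mul_right huv.inv_right)⟩
      · rintro ⟨hr1, hr2⟩
        have hr2' : Commute u (v * r * v⁻¹) := (mem_cs u _).1 hr2
        have h3 := (huv.inv_right.mul_right hr2').mul_right huv
        have e : v⁻¹ * (v * r * v⁻¹) * v = r := by group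
        rw [e] at h3
        exact ⟨hvR.2 hr1, (mem_cs u r).2 h3⟩
    have hAle : ⁅Ru, U⁆ ≤ Ru := Cfsg.Agent.S0026.comm_le_of_normalizes U Ru hURu
    have hAcop : (Nat.card ↥⁅Ru, U⁆).Coprime p :=
      Nat.Coprime.coprime_dvd_left (Subgroup.card_dvd_of_le (hAle.trans inf_le_left)) hRp
    have hPp : IsPGroup p (Subgroup.zpowers u) :=
      hUpg.to_le (by rw [Subgroup.zpowers_le]; exact hu)
    have hPQ : Subgroup.zpowers u ≤ Subgroup.centralizer ((⁅Ru, U⁆ : Subgroup G) : Set G) := by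
      rw [Subgroup.le_centralizer_iff, cent_zpowers]
      exact hAle.trans inf_le_right
    rcases hcond with h1 | h2
    · apply Cfsg.Agent.S0028.result p (Subgroup.zpowers u) ⁅Ru, U⁆ E hPp hAcop hE hPQ
        (by rw [hNE]; exact le_top) (by rw [hNE]; exact le_top)
      rw [cent_zpowers, ← h1 u hu hu1, ← Subgroup.le_centralizer_iff, Subgroup.commutator_le]
      intro r hr v hv
      rw [Subgroup.mem_centralizer_iff]
      intro e he
      have he' : e ∈ E ⊓ Subgroup.centralizer (U : Set G) := he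
      have hev : Commute v e := (Subgroup.mem_centralizer_iff.1 he'.2) v hv
      have hue : Commute u e := (Subgroup.mem_centralizer_iff.1 he'.2) u hu
      have hur : Commute u r := (mem_cs u r).1 hr.2
      have h3 : r⁻¹ * e * r ∈ E ⊓ Subgroup.centralizer (U : Set G) := by
        rw [h1 u hu hu1]
        exact ⟨Subgroup.Normal.conj_mem' inferInstance e he'.1 r,
          (mem_cs u _).2 ((hur.inv_right.mul_right hue).mul_right hur)⟩
      have hv2 : Commute v (r⁻¹ * e * r) := (Subgroup.mem_centralizer_iff.1 h3.2) v hv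
      have k1 : v⁻¹ * e = e * v⁻¹ := hev.inv_left.eq
      have k2 : v * (r⁻¹ * e * r) = (r⁻¹ * e * r) * v := hv2.eq
      calc e * ⁅r, v⁆ = r * ((r⁻¹ * e * r) * v) * r⁻¹ * v⁻¹ := by
            rw [commutatorElement_def]; group
        _ = r * (v * (r⁻¹ * e * r)) * r⁻¹ * v⁻¹ := by rw [k2]
        _ = r * v * r⁻¹ * (e * v⁻¹) := by group
        _ = r * v * r⁻¹ * (v⁻¹ * e) := by rw [k1]
        _ = ⁅r, v⁆ * e := by rw [commutatorElement_def]; group
    · apply dual p E (Subgroup.zpowers u) ⁅Ru, U⁆ hE hPp hAcop hPQ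
      rw [← h2 u hu hu1]
      have hUn : U ≤ Subgroup.normalizer ((⁅E, U⁆ : Subgroup G) : Set G) := by
        intro v hv
        exact Cfsg.Agent.S0028.mem_normalizer_commutator E U v (by rw [hNE]; exact Subgroup.mem_top v)
          (Subgroup.le_normalizer hv)
      have hSn : Ru ≤ Subgroup.normalizer ((⁅E, U⁆ : Subgroup G) : Set G) := by
        intro r hr
        rw [h2 u hu hu1]
        refine Cfsg.Agent.S0028.mem_normalizer_commutator E (Subgroup.zpowers u) r
          (by rw [hNE]; exact Subgroup.mem_top r) ?_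
        apply Subgroup.centralizer_le_normalizer
        rw [cent_zpowers]
        exact hr.2
      exact triv_mod E ⁅E, U⁆ Ru U hSn hUn le_rfl
  have hCn : (Subgroup.centralizer (E : Set G)).Normal := inferInstance
  have hRW : R ≤ wU (Subgroup.centralizer (E : Set G)) U := by
    rw [← hgen]
    apply iSup_le
    intro a
    apply iSup_le
    rintro ⟨haU, ha1⟩
    intro r hr v hv
    exact key a haU ha1 (Subgroup.commutator_mem_commutator hr hv)
  rw [Subgroup.commutator_le]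
  intro r hr v hv
  exact hRW hr v hv

end Cfsg.Agent.S2909
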