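import Cfsg.Statements.S2896
import Mathlib
import Cfsg.Agent.Lib.Helper2.Local2
import Cfsg.Agent.Lib.Helper5.CharP
import Cfsg.Agent.S2909

set_option autoImplicit false
open Cfsg

namespace Cfsg.Agent.S2896

open Cfsg.Agent.Lib.Helper2 Cfsg.Agent.Lib.Helper2.Local Cfsg.Agent.Lib.Helper2.Local2

theorem gf_of_cent {K : Type*} [Group K] [Finite K] {p : ℕ} [Fact p.Prime]
    (h : Subgroup.centralizer (Cfsg.pCore p K : Set K) ≤ Cfsg.pCore p K) :
    Cfsg.generalizedFittingSubgroup K = Cfsg.pCore p K := by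
  have hQn : (Cfsg.pCore p K).Normal := Fit.pCore_normal p
  have hQp : IsPGroup p (Cfsg.pCore p K) := Fit.pCore_isPGroup p
  have hlayer : Cfsg.layer K = ⊥ := by
    unfold Cfsg.layer
    rw [sSup_eq_bot]
    intro L hL
    exfalso
    have h1 : ⁅L, Cfsg.pCore p K⁆ = ⊥ :=
      Sub.comp_comm_solvable L _ hL.1 hL.2 (solvable_of_pgroup hQp)
        (by rw [Subgroup.normalizer_eq_top_iff.2 hQn]; exact le_top)
    have h2 : L ≤ Cfsg.pCore p K :=
      (Subgroup.commutator_eq_bot_iff_le_centralizer.1 h1).trans h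
    exact Sub.not_le_solvable hL.2 (solvable_of_pgroup hQp) h2
  have hq : ∀ q : ℕ, q.Prime → q ≠ p → Cfsg.pCore q K = ⊥ := by
    intro q hq hne
    haveI : Fact q.Prime := ⟨hq⟩
    have hRn : (Cfsg.pCore q K).Normal := Fit.pCore_normal q
    have hRq : IsPGroup q (Cfsg.pCore q K) := Fit.pCore_isPGroup q
    have h1 : ⁅Cfsg.pCore q K, Cfsg.pCore p K⁆ = ⊥ :=
      comm_of_normal_disjoint (by rw [Subgroup.normalizer_eq_top_iff.2 hQn]; exact le_top)
        (by rw [Subgroup.normalizer_eq_top_iff.2 hRn]; exact le_top)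
        (IsPGroup.disjoint_of_ne q p hne _ _ hRq hQp)
    have h2 : Cfsg.pCore q K ≤ Cfsg.pCore p K :=
      (Subgroup.commutator_eq_bot_iff_le_centralizer.1 h1).trans h
    exact eq_bot_of_two_primes hne (hQp.to_le h2) hRq
  unfold Cfsg.generalizedFittingSubgroup
  rw [hlayer, bot_sup_eq, Fit.fitting_eq_iSup_pCore]
  apply le_antisymm
  · apply iSup_le
    intro q
    by_cases hqp : (q : ℕ) = p
    · rw [hqp]
    · rw [hq q q.2 hqp]
      exact bot_le
  · exact le_iSup (fun q : Nat.Primes => Cfsg.pCore (q : ℕ) K) ⟨p, Fact.out⟩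

theorem cent_of_gf {K : Type*} [Group K] [Finite K] {p : ℕ}
    (h : Cfsg.generalizedFittingSubgroup K = Cfsg.pCore p K) :
    Subgroup.centralizer (Cfsg.pCore p K : Set K) ≤ Cfsg.pCore p K := by
  have h1 := Comp.centralizer_genFitting_le (G := K)
  rw [h] at h1
  exact h1

def conjEquiv {G : Type*} [Group G] (g z : G) :
    ↥(Subgroup.centralizer ({z} : Set G)) ≃* ↥(Subgroup.centralizer ({g * z * g⁻¹} : Set G)) where
  toFun x := ⟨g * (x : G) * g⁻¹, by
    have hx := Subgroup.mem_centralizer_singleton_iff.1 x.2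
    rw [Subgroup.mem_centralizer_singleton_iff]
    calc g * (x : G) * g⁻¹ * (g * z * g⁻¹) = g * ((x : G) * z) * g⁻¹ := by group
      _ = g * (z * (x : G)) * g⁻¹ := by rw [hx]
      _ = g * z * g⁻¹ * (g * (x : G) * g⁻¹) := by group⟩
  invFun y := ⟨g⁻¹ * (y : G) * g, by
    have hy := Subgroup.mem_centralizer_singleton_iff.1 y.2
    rw [Subgroup.mem_centralizer_singleton_iff]
    calc g⁻¹ * (y : G) * g * z = g⁻¹ * ((y : G) * (g * z * g⁻¹)) * g := by group
      _ = g⁻¹ * ((g * z * g⁻¹) * (y : G)) * g := by rw [hy]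
      _ = z * (g⁻¹ * (y : G) * g) := by group⟩
  left_inv x := by
    apply Subtype.ext
    show g⁻¹ * (g * (x : G) * g⁻¹) * g = (x : G)
    group
  right_inv y := by
    apply Subtype.ext
    show g * (g⁻¹ * (y : G) * g) * g⁻¹ = (y : G)
    group
  map_mul' x y := by
    apply Subtype.ext
    show g * ((x : G) * (y : G)) * g⁻¹ = g * (x : G) * g⁻¹ * (g * (y : G) * g⁻¹)
    group

theorem gf_conj {G : Type*} [Group G] [Finite G] {p : ℕ} [Fact p.Prime] (g z : G)
    (h : Cfsg.generalizedFittingSubgroup ↥(Subgroup.centralizer ({z} : Set G)) =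
      Cfsg.pCore p ↥(Subgroup.centralizer ({z} : Set G))) :
    Cfsg.generalizedFittingSubgroup ↥(Subgroup.centralizer ({g * z * g⁻¹} : Set G)) =
      Cfsg.pCore p ↥(Subgroup.centralizer ({g * z * g⁻¹} : Set G)) :=
  gf_of_cent (Cfsg.Agent.Lib.Helper5.CharP.charp_of_equiv (conjEquiv g z) (cent_of_gf h))

theorem partI {G : Type*} [Group G] [Finite G] {p : ℕ} [Fact p.Prime] (X : Subgroup G)
    (hXp : IsPGroup p X) (z : G) (hzX : z ∈ X) (hc : ∀ x ∈ X, x * z = z * x)
    (h : Cfsg.generalizedFittingSubgroup ↥(Subgroup.centralizer ({z} : Set G)) =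
      Cfsg.pCore p ↥(Subgroup.centralizer ({z} : Set G))) :
    CharP p (Subgroup.normalizer (X : Set G)) := by
  have h1 : CharP p (Subgroup.centralizer ({z} : Set G)) := charP_of_eq_sub _ h
  have hXC : X ≤ Subgroup.centralizer ({z} : Set G) := by
    intro x hx
    rw [Subgroup.mem_centralizer_singleton_iff]
    exact hc x hx
  have h2 := charP_normalizer _ h1 X hXC hXp
  exact charP_of_inf_centralizer (Subgroup.normalizer (X : Set G)) X Subgroup.le_normalizer le_rfl
    hXp z hzX h2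

theorem exists_central {G : Type*} [Group G] [Finite G] {p : ℕ} [Fact p.Prime] (T R : Subgroup G)
    (hT : IsPGroup p T) (hRT : R ≤ T) (hR : R ≠ ⊥) (hTR : T ≤ Subgroup.normalizer (R : Set G)) :
    ∃ t ∈ R, orderOf t = p ∧ ∀ x ∈ T, x * t = t * x := by
  haveI hn : (R.subgroupOf T).Normal := (Subgroup.normal_subgroupOf_iff_le_normalizer hRT).2 hTR
  have hRp : IsPGroup p ↥(R.subgroupOf T) := hT.to_subgroup _
  have hnt : Nontrivial ↥(R.subgroupOf T) := by
    rw [Subgroup.nontrivial_iff_ne_bot]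
    intro h
    rw [Subgroup.subgroupOf_eq_bot] at h
    apply hR
    rw [← inf_eq_left.2 hRT]
    exact disjoint_iff.1 h
  obtain ⟨n, hn0, hcard⟩ := hRp.nontrivial_iff_card.1 hnt
  have hdvd : p ∣ Nat.card ↥(R.subgroupOf T) := by
    rw [hcard]
    exact dvd_pow_self p (Nat.pos_iff_ne_zero.1 hn0)
  have h1 : (1 : ↥(R.subgroupOf T)) ∈ MulAction.fixedPoints (ConjAct ↥T) ↥(R.subgroupOf T) := by
    intro g
    exact smul_one g
  obtain ⟨b, hb, hb1⟩ := (hT.of_equiv ConjAct.toConjAct).exists_fixed_point_of_prime_dvd_card_of_fixed_point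
    ↥(R.subgroupOf T) hdvd h1
  have hbR : ((b : ↥T) : G) ∈ R := b.2
  have hbne : ((b : ↥T) : G) ≠ 1 := by
    intro h
    apply hb1
    apply Subtype.ext
    apply Subtype.ext
    simp [h]
  have hbc : ∀ x ∈ T, x * ((b : ↥T) : G) = ((b : ↥T) : G) * x := by
    intro x hx
    have h2 := hb (ConjAct.toConjAct (⟨x, hx⟩ : ↥T))
    have h3 := congrArg (fun y : ↥(R.subgroupOf T) => ((y : ↥T) : G)) h2
    simp only [ConjAct.Subgroup.val_conj_smul, ConjAct.smul_def, ConjAct.ofConjAct_toConjAct,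
      Subgroup.coe_mul, Subgroup.coe_inv] at h3
    calc x * ((b : ↥T) : G) = x * ((b : ↥T) : G) * x⁻¹ * x := by group
      _ = ((b : ↥T) : G) * x := by rw [h3]
  obtain ⟨k, hk⟩ := hT ⟨((b : ↥T) : G), hRT hbR⟩
  have hk' : ((b : ↥T) : G) ^ p ^ k = 1 := by
    have h0 := congrArg Subtype.val hk
    simpa using h0
  obtain ⟨m, hm, hom⟩ := (Nat.dvd_prime_pow (Fact.out : p.Prime)).1 (orderOf_dvd_of_pow_eq_one hk')
  have hm0 : m ≠ 0 := by
    intro h
    rw [h, pow_zero, orderOf_eq_one_iff] at hom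
    exact hbne hom
  have hpd : p ∣ orderOf ((b : ↥T) : G) := by
    rw [hom]
    exact dvd_pow_self p hm0
  have ho0 : orderOf ((b : ↥T) : G) ≠ 0 := by
    rw [hom]
    exact pow_ne_zero _ (Fact.out : p.Prime).ne_zero
  refine ⟨((b : ↥T) : G) ^ (orderOf ((b : ↥T) : G) / p), R.pow_mem hbR _,
    orderOf_pow_orderOf_div ho0 hpd, ?_⟩
  intro x hx
  have hcm : Commute x ((b : ↥T) : G) := hbc x hx
  exact (hcm.pow_right _).eq

theorem sylow_conj {G : Type*} [Group G] [Finite G] {p : ℕ} [Fact p.Prime] (S T : Sylow p G) :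
    ∃ g : G, ∀ x : G, x ∈ (T : Subgroup G) ↔ g⁻¹ * x * g ∈ (S : Subgroup G) := by
  obtain ⟨g, hg⟩ := MulAction.exists_smul_eq G S T
  refine ⟨g, fun x => ?_⟩
  rw [← hg, Sylow.coe_subgroup_smul, Subgroup.mem_pointwise_smul_iff_inv_smul_mem]
  simp [MulAut.smul_def]

theorem omega_le {G : Type*} [Group G] (p : ℕ) (H : Subgroup G) : Cfsg.omegaOne p H ≤ H := by
  unfold Cfsg.omegaOne
  rw [Subgroup.closure_le]
  intro x hx
  exact hx.1

theorem gf_of_conj_mem {G : Type*} [Group G] [Finite G] {p : ℕ} [Fact p.Prime] (S P : Sylow p G)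
    (t : G) (htP : t ∈ (P : Subgroup G))
    (hyp : ∀ z : G, z ∈ (S : Subgroup G) → orderOf z = orderOf t →
      (∀ s ∈ (S : Subgroup G), (∀ x ∈ (P : Subgroup G), x * t = t * x) → s * z = z * s) →
      Cfsg.generalizedFittingSubgroup ↥(Subgroup.centralizer ({z} : Set G)) =
        Cfsg.pCore p ↥(Subgroup.centralizer ({z} : Set G))) :
    Cfsg.generalizedFittingSubgroup ↥(Subgroup.centralizer ({t} : Set G)) =
      Cfsg.pCore p ↥(Subgroup.centralizer ({t} : Set G)) := by
  obtain ⟨g, hg⟩ := sylow_conj S P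
  have h1 : g⁻¹ * t * g ∈ (S : Subgroup G) := (hg t).1 htP
  have h2 : orderOf (g⁻¹ * t * g) = orderOf t := by
    have := (MulAut.conj g⁻¹).orderOf_eq t
    simpa using this
  have h3 := hyp _ h1 h2 (by
    intro s hs hcen
    have hsP : g * s * g⁻¹ ∈ (P : Subgroup G) := by
      rw [hg]
      have e : g⁻¹ * (g * s * g⁻¹) * g = s := by group
      rw [e]
      exact hs
    have h4 := hcen _ hsP
    calc s * (g⁻¹ * t * g) = g⁻¹ * (g * s * g⁻¹ * t) * g := by group
      _ = g⁻¹ * (t * (g * s * g⁻¹)) * g := by rw [h4]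
      _ = g⁻¹ * t * g * s := by group)
  have h5 := gf_conj g _ h3
  have e : g * (g⁻¹ * t * g) * g⁻¹ = t := by group
  rw [e] at h5
  exact h5

theorem result {G : Type*} [Group G] [Finite G] {p : ℕ} [Fact p.Prime] (hdiv : p ∣ Nat.card G) (S : Sylow p G) (X : Subgroup G) (hX : X ≤ (S : Subgroup G)) : (∀ z : G, z ≠ 1 → z ∈ X → (∀ x ∈ X, x * z = z * x) → Cfsg.generalizedFittingSubgroup ↥(Subgroup.centralizer ({z} : Set G)) = Cfsg.pCore p ↥(Subgroup.centralizer ({z} : Set G)) → Cfsg.generalizedFittingSubgroup ↥(Subgroup.normalizer (X : Set G)) = Cfsg.pCore p ↥(Subgroup.normalizer (X : Set G))) ∧ (Cfsg.IsOfParabolicCharacteristic p G ↔ ∀ z : G, z ≠ 1 → z ∈ Cfsg.omegaOne p ((S : Subgroup G) ⊓ Subgroup.centralizer ((S : Subgroup G) : Set G)) → Cfsg.generalizedFittingSubgroup ↥(Subgroup.centralizer ({z} : Set G)) = Cfsg.pCore p ↥(Subgroup.centralizer ({z} : Set G))) ∧ ((∀ z : G, z ∈ (S : Subgroup G) → orderOf z = p → Cfsg.generalizedFittingSubgroup ↥(Subgroup.centralizer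 ({z} : Set G)) = Cfsg.pCore p ↥(Subgroup.centralizer ({z} : Set G))) → Cfsg.IsOfLocalCharacteristic p G) := by
  refine ⟨?_, ?_, ?_⟩
  · intro z _ hzX hc h
    exact eq_of_charP_sub _ (partI X (S.isPGroup'.to_le hX) z hzX hc h)
  · constructor
    · intro hpar z hz1 hzO
      have hz' := omega_le p _ hzO
      have hzS : z ∈ (S : Subgroup G) := (Subgroup.mem_inf.1 hz').1
      have hzC : ∀ s ∈ (S : Subgroup G), s * z = z * s :=
        Subgroup.mem_centralizer_iff.1 (Subgroup.mem_inf.1 hz').2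
      have hRp : IsPGroup p (Subgroup.zpowers z) :=
        S.isPGroup'.to_le ((Subgroup.zpowers_le).2 hzS)
      have hRne : Subgroup.zpowers z ≠ ⊥ := by
        rw [Ne, Subgroup.zpowers_eq_bot]
        exact hz1
      have hcz := Cfsg.Agent.S2909.cent_zpowers z
      have hSN : (S : Subgroup G) ≤ Subgroup.normalizer ((Subgroup.zpowers z : Subgroup G) : Set G) := by
        refine le_trans ?_ (Subgroup.centralizer_le_normalizer _)
        rw [hcz]
        intro s hs
        rw [Subgroup.mem_centralizer_singleton_iff]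
        exact hzC s hs
      have hc := hpar (Subgroup.zpowers z) hRp hRne ⟨S, hSN⟩
      have hM : CharP p (Subgroup.normalizer ((Subgroup.zpowers z : Subgroup G) : Set G)) :=
        charP_of_eq_sub _ (gf_of_cent hc)
      have hCM : Subgroup.centralizer ({z} : Set G) ≤
          Subgroup.normalizer ((Subgroup.zpowers z : Subgroup G) : Set G) := by
        rw [← hcz]
        exact Subgroup.centralizer_le_normalizer _
      have hMC := normalizer_le_normalizer_centralizer (Subgroup.zpowers z)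
      rw [hcz] at hMC
      exact eq_of_charP_sub _ (charP_of_normal_sub hM hCM hMC)
    · intro hyp R hRp hRne hpar
      obtain ⟨T, hT⟩ := hpar
      have hRT : R ≤ (T : Subgroup G) := by
        have h1 : IsPGroup p ((T : Subgroup G) ⊔ R : Subgroup G) :=
          IsPGroup.to_sup_of_normal_right' T.isPGroup' hRp hT
        have h2 := T.is_maximal' h1 le_sup_left
        rw [← h2]
        exact le_sup_right
      obtain ⟨t, htR, hto, htc⟩ := exists_central (T : Subgroup G) R T.isPGroup' hRT hRne hT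
      have hgf : Cfsg.generalizedFittingSubgroup ↥(Subgroup.centralizer ({t} : Set G)) =
          Cfsg.pCore p ↥(Subgroup.centralizer ({t} : Set G)) := by
        apply gf_of_conj_mem S T t (hRT htR)
        intro z hzS hzo hzc
        apply hyp z
        · intro h
          rw [h, orderOf_one, hto] at hzo
          exact (Fact.out : p.Prime).one_lt.ne hzo
        · unfold Cfsg.omegaOne
          apply Subgroup.subset_closure
          refine ⟨Subgroup.mem_inf.2 ⟨hzS, ?_⟩, ?_⟩
          · rw [Subgroup.mem_centralizer_iff]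
            intro s hs
            exact hzc s hs htc
          · rw [← hto, ← hzo]
            exact pow_orderOf_eq_one z
      exact cent_of_gf (eq_of_charP_sub _ (partI R hRp t htR (fun x hx => htc x (hRT hx)) hgf))
  · intro hyp
    refine ⟨hdiv, ?_⟩
    intro T hTp hTne
    obtain ⟨P, hTP⟩ := hTp.exists_le_sylow
    obtain ⟨t, htT, hto, htc⟩ := exists_central T T hTp le_rfl hTne Subgroup.le_normalizer
    have hgf : Cfsg.generalizedFittingSubgroup ↥(Subgroup.centralizer ({t} : Set G)) =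
        Cfsg.pCore p ↥(Subgroup.centralizer ({t} : Set G)) := by
      apply gf_of_conj_mem S P t (hTP htT)
      intro z hzS hzo _
      exact hyp z hzS (hzo.trans hto)
    exact cent_of_gf (eq_of_charP_sub _ (partI T hTp t htT htc hgf))

end Cfsg.Agent.S2896
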