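import Cfsg.Statements.S2897
import Mathlib
import Cfsg.Agent.S2896
import Cfsg.Agent.S0542

set_option autoImplicit false
open Cfsg

namespace Cfsg.Agent.S2897

open Cfsg.Agent.Lib.Helper2 Cfsg.Agent.Lib.Helper2.Local Cfsg.Agent.Lib.Helper2.Local2
open Cfsg.Agent.S2896

theorem partII_mp {G : Type*} [Group G] [Finite G] {p : ℕ} [Fact p.Prime] (S : Sylow p G)
    (hpar : Cfsg.IsOfParabolicCharacteristic p G) (z : G) (hz1 : z ≠ 1)
    (hzO : z ∈ Cfsg.omegaOne p ((S : Subgroup G) ⊓ Subgroup.centralizer ((S : Subgroup G) : Set G))) :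
    Cfsg.generalizedFittingSubgroup ↥(Subgroup.centralizer ({z} : Set G)) =
      Cfsg.pCore p ↥(Subgroup.centralizer ({z} : Set G)) := by
  have hz' := omega_le p _ hzO
  have hzS : z ∈ (S : Subgroup G) := (Subgroup.mem_inf.1 hz').1
  have hzC : ∀ s ∈ (S : Subgroup G), s * z = z * s :=
    Subgroup.mem_centralizer_iff.1 (Subgroup.mem_inf.1 hz').2
  have hRp : IsPGroup p (Subgroup.zpowers z) :=
    S.isPGroup'.to_le ((Subgroup.zpowers_le).2 hzS)
  have hRne : Subgroup.zpowers z ≠ ⊥ := by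
    rw [Ne, Subgroup.zpowers_eq_bot]
    exact hz1
  have hcz := Cfsg.Agent.S2909.cent_zpowers z
  have hSN : (S : Subgroup G) ≤ Subgroup.normalizer ((Subgroup.zpowers z : Subgroup G) : Set G) := by
    refine le_trans ?_ (Subgroup.centralizer_le_normalizer _)
    rw [hcz]
    intro s hs
    rw [Subgroup.mem_centralizer_singleton_iff]
    exact hzC s hs
  have hc := hpar (Subgroup.zpowers z) hRp hRne ⟨S, hSN⟩
  have hM : CharP p (Subgroup.normalizer ((Subgroup.zpowers z : Subgroup G) : Set G)) :=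
    charP_of_eq_sub _ (gf_of_cent hc)
  have hCM : Subgroup.centralizer ({z} : Set G) ≤
      Subgroup.normalizer ((Subgroup.zpowers z : Subgroup G) : Set G) := by
    rw [← hcz]
    exact Subgroup.centralizer_le_normalizer _
  have hMC := normalizer_le_normalizer_centralizer (Subgroup.zpowers z)
  rw [hcz] at hMC
  exact eq_of_charP_sub _ (charP_of_normal_sub hM hCM hMC)

theorem partII_mpr {G : Type*} [Group G] [Finite G] {p : ℕ} [Fact p.Prime] (S : Sylow p G)
    (hyp : ∀ z : G, z ≠ 1 →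
      z ∈ Cfsg.omegaOne p ((S : Subgroup G) ⊓ Subgroup.centralizer ((S : Subgroup G) : Set G)) →
      Cfsg.generalizedFittingSubgroup ↥(Subgroup.centralizer ({z} : Set G)) =
        Cfsg.pCore p ↥(Subgroup.centralizer ({z} : Set G))) :
    Cfsg.IsOfParabolicCharacteristic p G := by
  intro R hRp hRne hpar
  obtain ⟨T, hT⟩ := hpar
  have hRT : R ≤ (T : Subgroup G) := by
    have h1 : IsPGroup p ((T : Subgroup G) ⊔ R : Subgroup G) :=
      IsPGroup.to_sup_of_normal_right' T.isPGroup' hRp hT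
    have h2 := T.is_maximal' h1 le_sup_left
    rw [← h2]
    exact le_sup_right
  obtain ⟨t, htR, hto, htc⟩ := exists_central (T : Subgroup G) R T.isPGroup' hRT hRne hT
  have hgf : Cfsg.generalizedFittingSubgroup ↥(Subgroup.centralizer ({t} : Set G)) =
      Cfsg.pCore p ↥(Subgroup.centralizer ({t} : Set G)) := by
    apply gf_of_conj_mem S T t (hRT htR)
    intro z hzS hzo hzc
    apply hyp z
    · intro h
      rw [h, orderOf_one, hto] at hzo
      exact (Fact.out : p.Prime).one_lt.ne hzo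
    · unfold Cfsg.omegaOne
      apply Subgroup.subset_closure
      refine ⟨Subgroup.mem_inf.2 ⟨hzS, ?_⟩, ?_⟩
      · rw [Subgroup.mem_centralizer_iff]
        intro s hs
        exact hzc s hs htc
      · rw [← hto, ← hzo]
        exact pow_orderOf_eq_one z
  exact cent_of_gf (eq_of_charP_sub _ (partI R hRp t htR (fun x hx => htc x (hRT hx)) hgf))

theorem relSN_induction {G : Type*} [Group G] [Finite G] (Pr : Subgroup G → Prop)
    (hstep : ∀ K X : Subgroup G, X ≤ K → K ≤ Subgroup.normalizer (X : Set G) → Pr K → Pr X) :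
    ∀ (n : ℕ) (H K : Subgroup G), Nat.card K = n → Sub.RelSN H K → Pr K → Pr H := by
  intro n
  induction n using Nat.strong_induction_on with
  | _ n ih =>
    intro H K hn hHK hK
    by_cases e : H = K
    · rw [e]
      exact hK
    obtain ⟨X, hHX, hXK, hne, hKX, hHX'⟩ := hHK.exists_normal e
    exact ih (Nat.card X) (by rw [← hn]; exact Sub.card_lt_of_ne hXK hne) H X rfl hHX'
      (hstep K X hXK hKX hK)

theorem card_inf_of_normal {G : Type*} [Group G] [Finite G] {p : ℕ} [Fact p.Prime]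
    (P K X : Subgroup G) (hXK : X ≤ K) (hKX : K ≤ Subgroup.normalizer (X : Set G))
    (hK : Nat.card ↥(P ⊓ K) = p ^ (Nat.card K).factorization p) :
    Nat.card ↥(P ⊓ X) = p ^ (Nat.card X).factorization p := by
  have hc1 : Nat.card ↥((P ⊓ K).subgroupOf K) = p ^ (Nat.card K).factorization p := by
    rw [Nat.card_congr (Subgroup.subgroupOfEquivOfLe (inf_le_right : P ⊓ K ≤ K)).toEquiv]
    exact hK
  haveI hn : (X.subgroupOf K).Normal := (Subgroup.normal_subgroupOf_iff_le_normalizer hXK).2 hKX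
  have h1 := Cfsg.Agent.S0542.card_sylow_inf_normal (Sylow.ofCard ((P ⊓ K).subgroupOf K) hc1)
    (X.subgroupOf K)
  rw [Sylow.coe_ofCard] at h1
  have e : (P ⊓ K).subgroupOf K ⊓ X.subgroupOf K = (P ⊓ X).subgroupOf K := by
    ext x
    simp only [Subgroup.mem_inf, Subgroup.mem_subgroupOf]
    constructor
    · intro h
      exact ⟨h.1.1, h.2⟩
    · intro h
      exact ⟨⟨h.1, x.2⟩, h.2⟩
  rw [e, Nat.card_congr (Subgroup.subgroupOfEquivOfLe (inf_le_right.trans hXK : P ⊓ X ≤ K)).toEquiv,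
    Nat.card_congr (Subgroup.subgroupOfEquivOfLe hXK).toEquiv] at h1
  exact h1

theorem card_inf_of_sn {G : Type*} [Group G] [Finite G] {p : ℕ} [Fact p.Prime]
    (S : Sylow p G) (G₁ : Subgroup G) (hsn : G₁.IsSubnormal) :
    Nat.card ↥((S : Subgroup G) ⊓ G₁) = p ^ (Nat.card G₁).factorization p := by
  refine relSN_induction (fun H => Nat.card ↥((S : Subgroup G) ⊓ H) = p ^ (Nat.card H).factorization p)
    (fun K X hXK hKX hK => card_inf_of_normal (S : Subgroup G) K X hXK hKX hK)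
    (Nat.card (⊤ : Subgroup G)) G₁ ⊤ rfl ((Sub.relSN_top_iff G₁).2 hsn) ?_
  show Nat.card ↥((S : Subgroup G) ⊓ ⊤) = p ^ (Nat.card (⊤ : Subgroup G)).factorization p
  rw [inf_top_eq, Subgroup.card_top]
  exact S.card_eq_multiplicity

theorem charP_of_relSN {G : Type*} [Group G] [Finite G] {p : ℕ} [Fact p.Prime]
    (H K : Subgroup G) (hHK : Sub.RelSN H K) (hK : CharP p K) : CharP p H :=
  relSN_induction (fun H => CharP p H)
    (fun _ _ hXK hKX hK => charP_of_normal_sub hK hXK hKX) (Nat.card K) H K rfl hHK hK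

theorem omega_map {G : Type*} [Group G] (p : ℕ) (G₁ : Subgroup G) (H' : Subgroup ↥G₁)
    (H : Subgroup G) (hH : ∀ x : ↥G₁, x ∈ H' → (x : G) ∈ H) (z' : ↥G₁)
    (hz : z' ∈ Cfsg.omegaOne p H') : (z' : G) ∈ Cfsg.omegaOne p H := by
  have h1 : Cfsg.omegaOne p H' ≤ (Cfsg.omegaOne p H).comap G₁.subtype := by
    unfold Cfsg.omegaOne
    rw [Subgroup.closure_le]
    intro x hx
    show (x : G) ∈ Subgroup.closure _
    apply Subgroup.subset_closure
    refine ⟨hH x hx.1, ?_⟩
    have h2 := congrArg Subtype.val hx.2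
    simpa using h2
  exact h1 hz

def centEquiv {G : Type*} [Group G] (G₁ : Subgroup G) (z' : ↥G₁) :
    ↥(G₁ ⊓ Subgroup.centralizer ({(z' : G)} : Set G)) ≃*
      ↥(Subgroup.centralizer ({z'} : Set ↥G₁)) where
  toFun x := ⟨⟨(x : G), (Subgroup.mem_inf.1 x.2).1⟩, by
    rw [Subgroup.mem_centralizer_singleton_iff]
    apply Subtype.ext
    exact Subgroup.mem_centralizer_singleton_iff.1 (Subgroup.mem_inf.1 x.2).2⟩
  invFun y := ⟨((y : ↥G₁) : G), Subgroup.mem_inf.2 ⟨(y : ↥G₁).2, by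
    rw [Subgroup.mem_centralizer_singleton_iff]
    exact congrArg Subtype.val (Subgroup.mem_centralizer_singleton_iff.1 y.2)⟩⟩
  left_inv x := rfl
  right_inv y := rfl
  map_mul' x y := rfl

theorem main {G : Type*} [Group G] [Finite G] {p : ℕ} [Fact p.Prime]
    (hG : Cfsg.IsOfParabolicCharacteristic p G) (S : Sylow p G) (G₁ : Subgroup G)
    (hsn : G₁.IsSubnormal)
    (hle : Cfsg.omegaOne p (((S : Subgroup G) ⊓ G₁) ⊓
        Subgroup.centralizer (((S : Subgroup G) ⊓ G₁ : Subgroup G) : Set G)) ≤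
      Cfsg.omegaOne p ((S : Subgroup G) ⊓ Subgroup.centralizer ((S : Subgroup G) : Set G))) :
    Cfsg.IsOfParabolicCharacteristic p ↥G₁ := by
  have hcard : Nat.card ↥(((S : Subgroup G) ⊓ G₁).subgroupOf G₁) =
      p ^ (Nat.card ↥G₁).factorization p := by
    rw [Nat.card_congr (Subgroup.subgroupOfEquivOfLe (inf_le_right : (S : Subgroup G) ⊓ G₁ ≤ G₁)).toEquiv]
    exact card_inf_of_sn S G₁ hsn
  apply partII_mpr (Sylow.ofCard (((S : Subgroup G) ⊓ G₁).subgroupOf G₁) hcard)
  intro z' hz1 hzO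
  rw [Sylow.coe_ofCard] at hzO
  have hz2 : (z' : G) ∈ Cfsg.omegaOne p (((S : Subgroup G) ⊓ G₁) ⊓
        Subgroup.centralizer (((S : Subgroup G) ⊓ G₁ : Subgroup G) : Set G)) := by
    apply omega_map p G₁ _ _ _ z' hzO
    intro x hx
    obtain ⟨hx1, hx2⟩ := Subgroup.mem_inf.1 hx
    refine Subgroup.mem_inf.2 ⟨Subgroup.mem_subgroupOf.1 hx1, ?_⟩
    rw [Subgroup.mem_centralizer_iff]
    intro y hy
    have h3 := (Subgroup.mem_centralizer_iff.1 hx2) ⟨y, (Subgroup.mem_inf.1 hy).2⟩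
      (Subgroup.mem_subgroupOf.2 hy)
    exact congrArg Subtype.val h3
  have hz3 : (z' : G) ≠ 1 := by
    intro h
    apply hz1
    apply Subtype.ext
    exact h
  have hgf := partII_mp S hG (z' : G) hz3 (hle hz2)
  have hC : CharP p (Subgroup.centralizer ({(z' : G)} : Set G)) := charP_of_eq_sub _ hgf
  have hrel : Sub.RelSN (G₁ ⊓ Subgroup.centralizer ({(z' : G)} : Set G))
      (Subgroup.centralizer ({(z' : G)} : Set G)) := by
    have h4 := (Sub.RelSN.of_isSubnormal hsn le_top).inf_right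
      (Subgroup.centralizer ({(z' : G)} : Set G))
    rw [top_inf_eq] at h4
    exact h4
  have hC1 := charP_of_relSN _ _ hrel hC
  exact gf_of_cent (Cfsg.Agent.Lib.Helper5.CharP.charp_of_equiv (centEquiv G₁ z')
    (cent_of_gf (eq_of_charP_sub _ hC1)))

theorem result {G : Type*} [Group G] [Finite G] {p : ℕ} [Fact p.Prime] (hdiv : p ∣ Nat.card G) (hG : Cfsg.IsOfParabolicCharacteristic p G) (S : Sylow p G) (G₁ : Subgroup G) [G₁.Normal] (hne : Cfsg.omegaOne p (((S : Subgroup G) ⊓ G₁) ⊓ Subgroup.centralizer (((S : Subgroup G) ⊓ G₁ : Subgroup G) : Set G)) ≠ ⊥) (hle : Cfsg.omegaOne p (((S : Subgroup G) ⊓ G₁) ⊓ Subgroup.centralizer (((S : Subgroup G) ⊓ G₁ : Subgroup G) : Set G)) ≤ Cfsg.omegaOne p ((S : Subgroup G) ⊓ Subgroup.centralizer ((S : Subgroup G) : Set G))) : Cfsg.IsOfParabolicCharacteristic p ↥G₁ := by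
  exact main hG S G₁ (Subgroup.Normal.isSubnormal inferInstance) hle

end Cfsg.Agent.S2897
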