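import Cfsg.Statements.S2905
import Mathlib
import Cfsg.Agent.S0542
import Cfsg.Agent.S2824
import Cfsg.Agent.S3028
import Cfsg.Agent.Lib.Helper3.Residual
import Cfsg.Agent.Lib.Helper3.Core
import Cfsg.Agent.Lib.Helper2.Sub
import Cfsg.Agent.Lib.Helper2.CoprimeAct2
import Cfsg.Agent.Lib.Helper2.Local
import Cfsg.Agent.Lib.Helper2.Fit
import Cfsg.Agent.Lib.Helper1.Nil

set_option autoImplicit false
open Cfsg

namespace Cfsg.Agent.S2905

open Cfsg.Agent.Lib.Helper2 Cfsg.Agent.Lib.Helper3
open scoped Pointwise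

theorem index_coprime_of_sup {G : Type*} [Group G] [Finite G] (p : ℕ) (R N T : Subgroup G)
    [R.Normal] (hNR : N ⊔ R = ⊤) (hTN : T ≤ N) (hTR : T ≤ R) (hT : ¬ p ∣ T.relIndex R) :
    ¬ p ∣ N.index := by
  have h1 : R.relIndex N = R.index := by
    have h := Subgroup.relIndex_sup_right (H := N) (K := R)
    rw [hNR, Subgroup.relIndex_top_right] at h
    exact h.symm
  have h2 : Nat.card ↥(R ⊓ N) * R.relIndex N = Nat.card ↥N := by
    have h := Subgroup.card_mul_index (R.subgroupOf N)
    rw [Cfsg.Agent.S0542.card_subgroupOf_eq] at h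
    exact h
  have h3 : Nat.card ↥R * R.index = Nat.card G := Subgroup.card_mul_index R
  have h4 : Nat.card ↥N * N.index = Nat.card G := Subgroup.card_mul_index N
  have hidx : 0 < R.index := Nat.pos_of_ne_zero Subgroup.index_ne_zero_of_finite
  have h5 : Nat.card ↥R = Nat.card ↥(R ⊓ N) * N.index := by
    have h : Nat.card ↥R * R.index = Nat.card ↥(R ⊓ N) * N.index * R.index := by
      rw [h3, ← h4, ← h2, h1]
      ring
    exact Nat.eq_of_mul_eq_mul_right hidx h
  have hT1 : T ≤ R ⊓ N := le_inf hTR hTN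
  have h6 : Nat.card ↥T * T.relIndex R = Nat.card ↥R := by
    have h := Subgroup.card_mul_index (T.subgroupOf R)
    rw [Cfsg.Agent.S0542.card_subgroupOf_eq, inf_eq_left.mpr hTR] at h
    exact h
  have h7 : Nat.card ↥T * T.relIndex (R ⊓ N) = Nat.card ↥(R ⊓ N) := by
    have h := Subgroup.card_mul_index (T.subgroupOf (R ⊓ N))
    rw [Cfsg.Agent.S0542.card_subgroupOf_eq, inf_eq_left.mpr hT1] at h
    exact h
  have hT0 : 0 < Nat.card ↥T := Nat.card_pos
  have h8 : T.relIndex R = T.relIndex (R ⊓ N) * N.index := by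
    have h : Nat.card ↥T * T.relIndex R = Nat.card ↥T * (T.relIndex (R ⊓ N) * N.index) := by
      rw [h6, h5, ← h7]
      ring
    exact Nat.eq_of_mul_eq_mul_left hT0 h
  intro hd
  exact hT (h8 ▸ Dvd.dvd.mul_left hd _)

theorem exists_conj_le {G : Type*} [Group G] [Finite G] {p : ℕ} [Fact p.Prime] (S : Sylow p G)
    (N : Subgroup G) (hN : ¬ p ∣ N.index) :
    ∃ g : G, ∀ s ∈ (S : Subgroup G), g⁻¹ * s * g ∈ N := by
  obtain ⟨q, hq⟩ := S.isPGroup'.nonempty_fixed_point_of_prime_not_dvd_card (G ⧸ N)
    (by rw [← Subgroup.index_eq_card]; exact hN)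
  obtain ⟨g, rfl⟩ := QuotientGroup.mk_surjective q
  refine ⟨g, fun s hs => ?_⟩
  have h1 := hq ⟨s, hs⟩
  have h2 : ((s * g : G) : G ⧸ N) = (g : G ⧸ N) := h1
  rw [QuotientGroup.eq] at h2
  have h3 := N.inv_mem h2
  have e : ((s * g)⁻¹ * g)⁻¹ = g⁻¹ * s * g := by group
  rwa [e] at h3

theorem result {P : Type*} [Group P] [Finite P] {p : ℕ} [Fact p.Prime] (hP : Cfsg.IsPMinimal p P) (S : Sylow p P) (M : Subgroup P) (hM : IsCoatom M) (hSM : (S : Subgroup P) ≤ M) [hF : M.normalCore.Normal] : (∀ N : Subgroup P, N.IsSubnormal → N ≤ M → N ⊓ (S : Subgroup P) ≤ Cfsg.pCore p P) ∧ ((∀ T : Sylow p ↥(Cfsg.pResidual p P), (T : Subgroup ↥(Cfsg.pResidual p P)).Normal) → (Nat.card P).primeFactors.card ≤ 2) ∧ (∀ N : Subgroup P, N.Normal → Cfsg.pResidual p P ≤ N ∨ N ≤ M.normalCore) ∧ (∀ N : Subgroup P, N.Normal → M.normalCore ≤ N → N ≤ Cfsg.pResidual p P ⊔ M.normalCore → N = M.normalCore ∨ N = Cfsg.pResidual p P ⊔ M.normalCore) ∧ M.normalCore < Cfsg.pResidual p P ⊔ M.normalCore := by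
  have hp : p.Prime := Fact.out
  have key : ∀ (R F : Subgroup P), R = Cfsg.pResidual p P → F = M.normalCore →
      (∀ N : Subgroup P, N.IsSubnormal → N ≤ M → N ⊓ (S : Subgroup P) ≤ Cfsg.pCore p P) ∧
      ((∀ T : Sylow p ↥R, (T : Subgroup ↥R).Normal) → (Nat.card P).primeFactors.card ≤ 2) ∧
      (∀ N : Subgroup P, N.Normal → R ≤ N ∨ N ≤ F) ∧
      (∀ N : Subgroup P, N.Normal → F ≤ N → N ≤ R ⊔ F → N = F ∨ N = R ⊔ F) ∧ F < R ⊔ F := by
    intro R F hR hFdef
    have hRn : R.Normal := by rw [hR]; exact Residual.pResidual_normal p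
    have hFn : F.Normal := by rw [hFdef]; exact hF
    have hFM : F ≤ M := by rw [hFdef]; exact Subgroup.normalCore_le M
    have hRS : (S : Subgroup P) ⊔ R = ⊤ := by
      rw [hR]
      exact Residual.sup_pResidual_eq_top (S : Subgroup P) S.not_dvd_index
    have hMtop : M ≠ ⊤ := hM.1
    have dich : ∀ X : Subgroup P, (S : Subgroup P) ≤ X → X = ⊤ ∨ X ≤ M := by
      intro X hX
      rcases eq_top_or_exists_le_coatom X with h | ⟨M', hM', hXM'⟩
      · exact Or.inl h
      · right
        have h1 := (hP S).2.unique ⟨hM', hX.trans hXM'⟩ ⟨hM, hSM⟩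
        rw [← h1]
        exact hXM'
    have hRM : ¬ R ≤ M := by
      intro h
      apply hMtop
      rw [eq_top_iff, ← hRS]
      exact sup_le hSM h
    have p3 : ∀ N : Subgroup P, N.Normal → R ≤ N ∨ N ≤ F := by
      intro N hN
      rcases dich (N ⊔ (S : Subgroup P)) le_sup_right with h | h
      · left
        haveI := hN
        have h1 : N.index ∣ Nat.card ↥(S : Subgroup P) := by
          have h2 := Subgroup.relIndex_sup_left (K := N) (H := (S : Subgroup P))
          rw [h, Subgroup.relIndex_top_right] at h2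
          rw [h2]
          exact Subgroup.relIndex_dvd_card N (S : Subgroup P)
        obtain ⟨a, ha⟩ := IsPGroup.iff_card.1 S.isPGroup'
        rw [ha] at h1
        obtain ⟨j, _, hj⟩ := (Nat.dvd_prime_pow hp).1 h1
        rw [hR, Cfsg.pResidual, Subgroup.closure_le]
        intro x hx
        have hx' : Nat.Coprime (orderOf x) p := hx
        have h3 : x ^ N.index ∈ N := Subgroup.pow_index_mem N x
        rw [hj] at h3
        have h4 : x ^ orderOf x ∈ N := by
          rw [pow_orderOf_eq_one]
          exact N.one_mem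
        exact Cfsg.Agent.S2824.mem_of_coprime_pows N x (orderOf x) (p ^ j)
          (Nat.Coprime.pow_right j hx') h4 h3
      · right
        rw [hFdef]
        haveI := hN
        exact Subgroup.normal_le_normalCore.2 (le_sup_left.trans h)
    have p5 : F < R ⊔ F := by
      refine lt_of_le_of_ne le_sup_right ?_
      intro h
      exact hRM ((le_sup_left.trans (le_of_eq h.symm)).trans hFM)
    have p4 : ∀ N : Subgroup P, N.Normal → F ≤ N → N ≤ R ⊔ F → N = F ∨ N = R ⊔ F := by
      intro N hN hFN hNRF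
      rcases p3 N hN with h | h
      · exact Or.inr (le_antisymm hNRF (sup_le h hFN))
      · exact Or.inl (le_antisymm h hFN)
    have hFS : (S : Subgroup P) ⊓ F ≤ Cfsg.pCore p P := by
      haveI := hFn
      obtain ⟨QF, hQF⟩ := Cfsg.Agent.S0542.result p F hFn.isSubnormal S
      have h1 := Sylow.normalizer_sup_eq_top QF
      rw [hQF, Subgroup.subgroupOf_map_subtype] at h1
      have h2 : (S : Subgroup P) ≤
          Subgroup.normalizer (((S : Subgroup P) ⊓ F : Subgroup P) : Set P) := by
        intro s hs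
        exact Local.normalizer_inf_mem (Subgroup.le_normalizer hs)
          (by rw [Subgroup.normalizer_eq_top_iff.2 hFn]; exact Subgroup.mem_top s)
      rcases dich _ h2 with h3 | h3
      · have h4 : ((S : Subgroup P) ⊓ F).Normal := Subgroup.normalizer_eq_top_iff.1 h3
        exact Core.le_pCore _ h4 (S.isPGroup'.to_le inf_le_left)
      · exfalso
        apply hMtop
        rw [eq_top_iff, ← h1]
        exact sup_le h3 hFM
    have p1 : ∀ N : Subgroup P, N.IsSubnormal → N ≤ M →
        N ⊓ (S : Subgroup P) ≤ Cfsg.pCore p P := by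
      intro N hNsn hNM
      obtain ⟨ℬ, hℬ⟩ : ∃ ℬ : Set (Subgroup P), ℬ = {X | ∃ s ∈ (S : Subgroup P),
          X = N.map (MulAut.conj s).toMonoidHom} := ⟨_, rfl⟩
      obtain ⟨Y, hY⟩ : ∃ Y : Subgroup P, Y = sSup ℬ := ⟨_, rfl⟩
      have hYsn : Y.IsSubnormal := by
        rw [hY]
        apply Cfsg.Agent.S3028.join_set
        intro B hB
        rw [hℬ] at hB
        obtain ⟨s, hs, rfl⟩ := hB
        exact hNsn.map (MulAut.conj s).surjective
      have hYM : Y ≤ M := by
        rw [hY]
        refine sSup_le fun B hB => ?_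
        rw [hℬ] at hB
        obtain ⟨s, hs, rfl⟩ := hB
        rintro _ ⟨y, hy, rfl⟩
        exact M.mul_mem (M.mul_mem (hSM hs) (hNM hy)) (M.inv_mem (hSM hs))
      have hNY : N ≤ Y := by
        rw [hY]
        refine le_sSup ?_
        rw [hℬ]
        refine ⟨1, (S : Subgroup P).one_mem, ?_⟩
        ext z
        simp
      have hSY : (S : Subgroup P) ≤ Subgroup.normalizer (Y : Set P) := by
        apply Cfsg.Agent.S2824.le_norm_of_conj
        intro d hd x hx
        have h1 : sSup ℬ ≤ Y.comap (MulAut.conj d).toMonoidHom := by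
          refine sSup_le fun B hB => ?_
          rw [← Subgroup.map_le_iff_le_comap, hY]
          refine le_sSup ?_
          rw [hℬ] at hB ⊢
          obtain ⟨d', hd', rfl⟩ := hB
          refine ⟨d * d', (S : Subgroup P).mul_mem hd hd', ?_⟩
          rw [Subgroup.map_map]
          congr 1
          ext z
          simp [mul_assoc]
        have h2 := h1 (hY ▸ hx)
        exact h2
      have hYF : Y ≤ F := by
        obtain ⟨Z, hZ⟩ : ∃ Z : Subgroup P, Z = Subgroup.normalClosure (Y : Set P) := ⟨_, rfl⟩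
        have hZn : Z.Normal := by rw [hZ]; exact Subgroup.normalClosure_normal
        have hYZ : Y ≤ Z := by rw [hZ]; exact Subgroup.le_normalClosure
        rcases p3 Z hZn with h | h
        swap
        · exact hYZ.trans h
        have hZS : Z ⊔ (S : Subgroup P) = ⊤ := by
          rw [eq_top_iff, ← hRS]
          exact sup_le le_sup_right (h.trans le_sup_left)
        by_cases hYeq : Y = Z
        · rw [hFdef]
          haveI : Y.Normal := hYeq ▸ hZn
          exact Subgroup.normal_le_normalCore.2 hYM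
        · exfalso
          obtain ⟨X, hYX, hXZ, hXne, hZX, _⟩ :=
            Sub.RelSN.exists_normal (Sub.RelSN.of_isSubnormal hYsn hYZ) hYeq
          have h1 : Y ≤ X.normalCore := by
            intro y hy
            show ∀ b : P, b * y * b⁻¹ ∈ X
            intro b
            have hb : b ∈ Z ⊔ (S : Subgroup P) := hZS ▸ Subgroup.mem_top b
            obtain ⟨z, hz, s, hs, rfl⟩ := CoprimeAct.mem_sup_of_le_normalizer Z (S : Subgroup P)
              (by rw [Subgroup.normalizer_eq_top_iff.2 hZn]; exact le_top) hb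
            have h2 : s * y * s⁻¹ ∈ Y := (Subgroup.mem_normalizer_iff.1 (hSY hs) y).1 hy
            have h3 := (Subgroup.mem_normalizer_iff.1 (hZX hz) _).1 (hYX h2)
            have e : z * s * y * (z * s)⁻¹ = z * (s * y * s⁻¹) * z⁻¹ := by group
            rw [e]
            exact h3
          have h4 : Z ≤ X.normalCore := by
            rw [hZ]
            exact Subgroup.normalClosure_le_normal (SetLike.coe_subset_coe.2 h1)
          exact hXne (le_antisymm hXZ (h4.trans (Subgroup.normalCore_le X)))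
      rw [inf_comm]
      exact (inf_le_inf_left _ (hNY.trans hYF)).trans hFS
    have p2 : (∀ T : Sylow p ↥R, (T : Subgroup ↥R).Normal) →
        (Nat.card P).primeFactors.card ≤ 2 := by
      intro hT
      haveI := hRn
      obtain ⟨T, hTdef⟩ : ∃ T : Subgroup P, T = (S : Subgroup P) ⊓ R := ⟨_, rfl⟩
      have hTR : T ≤ R := by rw [hTdef]; exact inf_le_right
      have hTS : T ≤ (S : Subgroup P) := by rw [hTdef]; exact inf_le_left
      have hTn : T.Normal := by
        obtain ⟨QR, hQR⟩ := Cfsg.Agent.S0542.result p R hRn.isSubnormal S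
        have h1 := hT QR
        rw [hQR, ← Subgroup.inf_subgroupOf_right, ← hTdef] at h1
        have h2 : R ≤ Subgroup.normalizer (T : Set P) :=
          (Subgroup.normal_subgroupOf_iff_le_normalizer hTR).1 h1
        have h3 : (S : Subgroup P) ≤ Subgroup.normalizer (T : Set P) := by
          intro s hs
          rw [hTdef]
          exact Local.normalizer_inf_mem (Subgroup.le_normalizer hs)
            (by rw [Subgroup.normalizer_eq_top_iff.2 hRn]; exact Subgroup.mem_top s)
        rw [← Subgroup.normalizer_eq_top_iff, eq_top_iff, ← hRS]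
        exact sup_le h3 h2
      have hTp : ¬ p ∣ T.relIndex R := by
        rw [hTdef]
        exact Cfsg.Agent.S3028.sn_relIndex S R hRn.isSubnormal
      have hTpg : IsPGroup p ↥T := S.isPGroup'.to_le hTS
      have h1 : (R ⊓ M).relIndex R ≠ 1 := by
        intro h
        exact hRM ((Subgroup.relIndex_eq_one.1 h).trans inf_le_right)
      obtain ⟨q, hq, hqd⟩ := Nat.exists_prime_and_dvd h1
      haveI : Fact q.Prime := ⟨hq⟩
      have hTRM : T ≤ R ⊓ M := le_inf hTR (hTS.trans hSM)
      have hqp : q ≠ p := by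
        rintro rfl
        exact hTp (dvd_trans hqd (Subgroup.relIndex_dvd_of_le_left R hTRM))
      obtain ⟨Q₀⟩ := (inferInstance : Nonempty (Sylow q ↥R))
      obtain ⟨Q, hQ⟩ : ∃ Q : Subgroup P, Q = (Q₀ : Subgroup ↥R).map R.subtype := ⟨_, rfl⟩
      have hQR : Q ≤ R := by rw [hQ]; exact Subgroup.map_subtype_le _
      have hQq : ¬ q ∣ Q.relIndex R := by
        rw [hQ, Subgroup.relIndex, Subgroup.subgroupOf,
          Subgroup.comap_map_eq_self_of_injective (Subgroup.subtype_injective R)]
        exact Q₀.not_dvd_index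
      have hfrat : Subgroup.normalizer (Q : Set P) ⊔ R = ⊤ := by
        rw [hQ]
        exact Sylow.normalizer_sup_eq_top Q₀
      obtain ⟨W₀, hW₀⟩ : ∃ W₀ : Subgroup P, W₀ = Q ⊔ T := ⟨_, rfl⟩
      have hW₀R : W₀ ≤ R := by rw [hW₀]; exact sup_le hQR hTR
      have hTW₀ : T ≤ W₀ := by rw [hW₀]; exact le_sup_right
      have hN1 : Subgroup.normalizer (W₀ : Set P) ⊔ R = ⊤ := by
        rw [eq_top_iff, ← hfrat]
        refine sup_le_sup_right ?_ R
        intro g hg
        rw [hW₀]
        exact Fit.normalizer_sup_mem hg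
          (by rw [Subgroup.normalizer_eq_top_iff.2 hTn]; exact Subgroup.mem_top g)
      have hidx : ¬ p ∣ (Subgroup.normalizer (W₀ : Set P)).index :=
        index_coprime_of_sup p R _ T hN1 (hTW₀.trans Subgroup.le_normalizer) hTR hTp
      obtain ⟨g, hg⟩ := exists_conj_le S _ hidx
      obtain ⟨W, hW⟩ : ∃ W : Subgroup P, W = W₀.map (MulAut.conj g).toMonoidHom := ⟨_, rfl⟩
      have hmemW : ∀ x : P, x ∈ W ↔ g⁻¹ * x * g ∈ W₀ := fun x => by
        rw [hW]
        exact Cfsg.Agent.Lib.Helper1.mem_map_conj_iff W₀ g x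
      have hWR : W ≤ R := by
        intro x hx
        have h2 := hRn.conj_mem _ (hW₀R ((hmemW x).1 hx)) g
        have e : g * (g⁻¹ * x * g) * g⁻¹ = x := by group
        rwa [e] at h2
      have hTW : T ≤ W := by
        intro t ht
        rw [hmemW]
        have h2 := hTn.conj_mem t ht g⁻¹
        rw [inv_inv] at h2
        exact hTW₀ h2
      have hSW : (S : Subgroup P) ≤ Subgroup.normalizer (W : Set P) := by
        apply Cfsg.Agent.S2824.le_norm_of_conj
        intro s hs x hx
        rw [hmemW] at hx ⊢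
        have h2 := (Subgroup.mem_normalizer_iff.1 (hg s hs) _).1 hx
        have e : g⁻¹ * (s * x * s⁻¹) * g = g⁻¹ * s * g * (g⁻¹ * x * g) * (g⁻¹ * s * g)⁻¹ := by
          group
        rw [e]
        exact h2
      have hWq : ¬ q ∣ W.relIndex R := by
        intro hd
        apply hQq
        have h2 : W.relIndex R = W₀.relIndex R := by
          have h3 := Subgroup.relIndex_map_map_of_injective W₀ R
            (f := (MulAut.conj g).toMonoidHom) (MulAut.conj g).injective
          have h4 : R.map (MulAut.conj g).toMonoidHom = R :=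
            Subgroup.mem_normalizer_iff_map_conj_eq.1
              (by rw [Subgroup.normalizer_eq_top_iff.2 hRn]; exact Subgroup.mem_top g)
          rw [h4, ← hW] at h3
          exact h3
        rw [h2] at hd
        exact dvd_trans hd (Subgroup.relIndex_dvd_of_le_left R (by rw [hW₀]; exact le_sup_left))
      have hWM : ¬ W ≤ M := by
        intro h
        exact hWq (dvd_trans hqd (Subgroup.relIndex_dvd_of_le_left R (le_inf hWR h)))
      have hWS : W ⊔ (S : Subgroup P) = ⊤ := by
        rcases dich (W ⊔ (S : Subgroup P)) le_sup_right with h | h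
        · exact h
        · exact absurd (le_sup_left.trans h) hWM
      have hRW : R ≤ W := by
        intro x hx
        have hx' : x ∈ W ⊔ (S : Subgroup P) := hWS ▸ Subgroup.mem_top x
        obtain ⟨w, hw, s, hs, rfl⟩ :=
          CoprimeAct.mem_sup_of_le_normalizer W (S : Subgroup P) hSW hx'
        have hsR : s ∈ R := by
          have h2 := R.mul_mem (R.inv_mem (hWR hw)) hx
          rwa [inv_mul_cancel_left] at h2
        exact W.mul_mem hw (hTW (by rw [hTdef]; exact Subgroup.mem_inf.2 ⟨hs, hsR⟩))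
      have hRW₀ : R ≤ W₀ := by
        intro x hx
        have h2 : g * x * g⁻¹ ∈ W := hRW (hRn.conj_mem x hx g)
        rw [hmemW] at h2
        have e : g⁻¹ * (g * x * g⁻¹) * g = x := by group
        rwa [e] at h2
      have hReq : R = Q ⊔ T := by
        rw [← hW₀]
        exact le_antisymm hRW₀ hW₀R
      have hcR : Nat.card ↥R = Nat.card ↥T * T.relIndex Q := by
        haveI := hTn
        have h2 := Subgroup.card_mul_index (T.subgroupOf (Q ⊔ T))
        rw [Cfsg.Agent.S0542.card_subgroupOf_eq, inf_eq_left.mpr (le_sup_right : T ≤ Q ⊔ T)] at h2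
        have h3 : (T.subgroupOf (Q ⊔ T)).index = T.relIndex Q :=
          Subgroup.relIndex_sup_right (H := Q) (K := T)
        rw [h3] at h2
        have e : Nat.card ↥R = Nat.card ↥(Q ⊔ T) := by rw [← hReq]
        rw [e]
        exact h2.symm
      obtain ⟨a, ha⟩ := IsPGroup.iff_card.1 hTpg
      obtain ⟨b, hb⟩ : ∃ b, Nat.card ↥Q = q ^ b := by
        have h2 : IsPGroup q ↥Q := by
          rw [hQ]
          exact Q₀.isPGroup'.map R.subtype
        exact IsPGroup.iff_card.1 h2
      have h5 : T.relIndex Q ∣ q ^ b := hb ▸ Subgroup.relIndex_dvd_card T Q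
      obtain ⟨c, _, hc⟩ := (Nat.dvd_prime_pow hq).1 h5
      obtain ⟨j, hj⟩ : ∃ j, R.index = p ^ j := by
        have h6 : IsPGroup p (P ⧸ R) := by
          intro x
          obtain ⟨y, rfl⟩ := QuotientGroup.mk_surjective x
          obtain ⟨k, hk⟩ := Residual.pow_mem_pResidual (p := p) y
          refine ⟨k, ?_⟩
          rw [← QuotientGroup.mk_pow, QuotientGroup.eq_one_iff, hR]
          exact hk
        obtain ⟨j, hj⟩ := IsPGroup.iff_card.1 h6
        exact ⟨j, by rw [Subgroup.index_eq_card, hj]⟩
      have hcard : Nat.card P = p ^ (a + j) * q ^ c := by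
        rw [← Subgroup.card_mul_index R, hcR, ha, hc, hj]
        ring
      have hsub : (Nat.card P).primeFactors ⊆ {p, q} := by
        intro r hr
        rw [Nat.mem_primeFactors] at hr
        obtain ⟨hrp, hrd, _⟩ := hr
        rw [hcard] at hrd
        rcases (Nat.Prime.dvd_mul hrp).1 hrd with h | h
        · have h7 := (Nat.prime_dvd_prime_iff_eq hrp hp).1 (hrp.dvd_of_dvd_pow h)
          simp [h7]
        · have h7 := (Nat.prime_dvd_prime_iff_eq hrp hq).1 (hrp.dvd_of_dvd_pow h)
          simp [h7]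
      exact (Finset.card_le_card hsub).trans Finset.card_le_two
    exact ⟨p1, p2, p3, p4, p5⟩
  exact key _ _ rfl rfl

end Cfsg.Agent.S2905
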