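import Cfsg.Statements.S2906
import Mathlib
import Cfsg.Agent.S2824
import Cfsg.Agent.S3028
import Cfsg.Agent.S2905
import Cfsg.Agent.Lib.Helper3.Residual
import Cfsg.Agent.Lib.Helper2.Comp
import Cfsg.Agent.Lib.Helper2.Quasi
import Cfsg.Agent.Lib.Helper2.Fit
import Cfsg.Agent.Lib.Helper2.Sub
import Cfsg.Agent.Lib.Helper2.PComp
import Cfsg.Agent.Lib.Helper2.Local
import Cfsg.Agent.Lib.Helper2.CoprimeAct2
import Cfsg.Agent.Lib.Helper5.SylCtl
import Cfsg.Agent.Lib.Helper1.Nil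

set_option autoImplicit false
open Cfsg

namespace Cfsg.Agent.S2906

open Cfsg.Agent.Lib.Helper2 Cfsg.Agent.Lib.Helper3

theorem comm_c {G : Type*} [Group G] (a b c : G) :
    (c * b = b * c → (a * c) * b * (a * c)⁻¹ * b⁻¹ = a * b * a⁻¹ * b⁻¹) ∧
    (c * a⁻¹ = a⁻¹ * c → a * (b * c) * a⁻¹ * (b * c)⁻¹ = a * b * a⁻¹ * b⁻¹) := by
  constructor
  · intro hc
    have e1 : (a * c) * b * (a * c)⁻¹ * b⁻¹ = a * (c * b) * c⁻¹ * a⁻¹ * b⁻¹ := by group
    have e2 : a * (b * c) * c⁻¹ * a⁻¹ * b⁻¹ = a * b * a⁻¹ * b⁻¹ := by group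
    rw [e1, hc, e2]
  · intro hc
    have e1 : a * (b * c) * a⁻¹ * (b * c)⁻¹ = a * b * (c * a⁻¹) * c⁻¹ * b⁻¹ := by group
    have e2 : a * b * (a⁻¹ * c) * c⁻¹ * b⁻¹ = a * b * a⁻¹ * b⁻¹ := by group
    rw [e1, hc, e2]

theorem core {P : Type*} [Group P] [Finite P] {p : ℕ} [Fact p.Prime] (hP : Cfsg.IsPMinimal p P)
    (hOp : Cfsg.pCore p P = ⊥) (S : Sylow p P) (K : Subgroup P) (hK : Cfsg.IsComponent K)
    (M : Subgroup P) (hM : IsCoatom M) (hSM : (S : Subgroup P) ≤ M) :
    p ∣ Nat.card ↥K ∧ ¬ K ≤ M ∧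
    Cfsg.pResidual p P = ⨆ s : ↥(S : Subgroup P), K.map (MulAut.conj (s : P)).toMonoidHom ∧
    Cfsg.pResidual p P = Cfsg.generalizedFittingSubgroup P ∧
    Cfsg.generalizedFittingSubgroup P = Cfsg.layer P ∧
    (∀ X : Subgroup P, (S : Subgroup P) ≤ X → X = ⊤ ∨ X ≤ M) ∧ K ≤ Cfsg.pResidual p P := by
  have hp' : p.Prime := Fact.out
  obtain ⟨h905a, h905b, h905c, -, -⟩ := Cfsg.Agent.S2905.result hP S M hM hSM
  obtain ⟨R, hR⟩ : ∃ R : Subgroup P, R = Cfsg.pResidual p P := ⟨_, rfl⟩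
  rw [← hR]
  rw [← hR] at h905b h905c
  have hRn : R.Normal := by rw [hR]; exact Residual.pResidual_normal p
  have hRS : (S : Subgroup P) ⊔ R = ⊤ := by
    rw [hR]
    exact Residual.sup_pResidual_eq_top (S : Subgroup P) S.not_dvd_index
  have hMtop : M ≠ ⊤ := hM.1
  have dich : ∀ X : Subgroup P, (S : Subgroup P) ≤ X → X = ⊤ ∨ X ≤ M := by
    intro X hX
    rcases eq_top_or_exists_le_coatom X with h | ⟨M', hM', hXM'⟩
    · exact Or.inl h
    · right
      have h1 := (hP S).2.unique ⟨hM', hX.trans hXM'⟩ ⟨hM, hSM⟩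
      rw [← h1]
      exact hXM'
  have hRM : ¬ R ≤ M := by
    intro h
    apply hMtop
    rw [eq_top_iff, ← hRS]
    exact sup_le hSM h
  have hmemR : ∀ x : P, Nat.Coprime (orderOf x) p → x ∈ R := fun x hx => by
    rw [hR]
    exact Subgroup.subset_closure hx
  have hquot : IsPGroup p (P ⧸ R) := by
    intro x
    obtain ⟨y, rfl⟩ := QuotientGroup.mk_surjective x
    obtain ⟨k, hk⟩ := Residual.pow_mem_pResidual (p := p) y
    refine ⟨k, ?_⟩
    rw [← QuotientGroup.mk_pow, QuotientGroup.eq_one_iff, hR]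
    exact hk
  have hsolv : ∃ n, derivedSeries P n ≤ R := by
    haveI := hRn
    haveI h1 : Group.IsNilpotent (P ⧸ R) := hquot.isNilpotent
    have h2 : Group.IsSolvable (P ⧸ R) := inferInstance
    obtain ⟨n, hn⟩ := h2.solvable
    refine ⟨n, ?_⟩
    have h3 := map_derivedSeries_eq (QuotientGroup.mk'_surjective R) n
    rw [hn, Subgroup.map_eq_bot_iff, QuotientGroup.ker_mk'] at h3
    exact h3
  have hperf : ∀ L : Subgroup P, ⁅L, L⁆ = L → L ≤ R := by
    intro L hL
    obtain ⟨n, hn⟩ := hsolv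
    have h1 : ∀ k, L ≤ derivedSeries P k := by
      intro k
      induction k with
      | zero => exact le_top
      | succ k ih =>
        exact hL.symm.le.trans ((Subgroup.commutator_mono ih ih).trans
          (le_of_eq (derivedSeries_succ P k).symm))
    exact (h1 n).trans hn
  have hlayer : Cfsg.layer P ≤ R :=
    sSup_le fun L hL => hperf L (Quasi.perfect_subgroup L hL.2)
  have hfit : Cfsg.fittingSubgroup P ≤ R := by
    rw [Fit.fitting_eq_iSup_pCore]
    refine iSup_le fun q => ?_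
    by_cases hqp : (q : ℕ) = p
    · have h1 : Cfsg.pCore (q : ℕ) P = ⊥ := by rw [hqp]; exact hOp
      rw [h1]
      exact bot_le
    · intro x hx
      apply hmemR
      have h1 : IsPGroup (q : ℕ) ↥(Cfsg.pCore (q : ℕ) P) := Fit.pCore_isPGroup (q : ℕ)
      obtain ⟨k, hk⟩ := h1 ⟨x, hx⟩
      have hk' : x ^ (q : ℕ) ^ k = 1 := by simpa using congrArg Subtype.val hk
      have h2 : orderOf x ∣ (q : ℕ) ^ k := orderOf_dvd_of_pow_eq_one hk'
      exact Nat.Coprime.coprime_dvd_left h2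
        (Nat.Coprime.pow_left k ((Nat.coprime_primes q.2 hp').2 hqp))
  have hKR : K ≤ R := hperf K (Quasi.perfect_subgroup K hK.2)
  obtain ⟨F, hFdef⟩ : ∃ F : Subgroup P, F = M.normalCore := ⟨_, rfl⟩
  rw [← hFdef] at h905c
  have hFn : F.Normal := by rw [hFdef]; exact Subgroup.normalCore_normal M
  have hFM : F ≤ M := by rw [hFdef]; exact Subgroup.normalCore_le M
  have hFp : ¬ p ∣ Nat.card ↥F := by
    have h1 := h905a F hFn.isSubnormal hFM
    rw [hOp] at h1
    have h2 := Cfsg.Agent.S3028.sn_relIndex S F hFn.isSubnormal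
    have h3 : (S : Subgroup P) ⊓ F = ⊥ := by
      rw [inf_comm]
      exact le_bot_iff.1 h1
    rw [h3, Subgroup.relIndex_bot_left] at h2
    exact h2
  have hFfr : F ≤ frattini P := by
    show F ≤ ⨅ a ∈ {H : Subgroup P | IsCoatom H}, a
    refine le_iInf₂ fun M₁ hM₁ => ?_
    by_contra hFM₁
    have hM₁c : IsCoatom M₁ := hM₁
    have hsup : M₁ ⊔ F = ⊤ := by
      by_contra hne
      have h1 : M₁ ⊔ F = M₁ := by
        by_contra hne2
        exact hne (hM₁c.2 (M₁ ⊔ F) (lt_of_le_of_ne le_sup_left (Ne.symm hne2)))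
      have h2 : F ≤ M₁ ⊔ F := le_sup_right
      rw [h1] at h2
      exact hFM₁ h2
    haveI := hFn
    have hidx : ¬ p ∣ M₁.index :=
      Cfsg.Agent.S2905.index_coprime_of_sup p F M₁ ⊥ hsup bot_le bot_le
        (by rw [Subgroup.relIndex_bot_left]; exact hFp)
    obtain ⟨g, hg⟩ := Cfsg.Agent.S2905.exists_conj_le S M₁ hidx
    have hS' : ((g⁻¹ • S : Sylow p P) : Subgroup P) ≤ M₁ := by
      rw [Cfsg.Agent.Lib.Helper5.SylCtl.sylow_smul_coe]
      intro x hx
      rw [Cfsg.Agent.Lib.Helper1.mem_map_conj_iff, inv_inv] at hx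
      have h1 := hg _ hx
      have e : g⁻¹ * (g * x * g⁻¹) * g = x := by group
      rwa [e] at h1
    obtain ⟨-, -, h3', -, -⟩ := Cfsg.Agent.S2905.result hP (g⁻¹ • S) M₁ hM₁c hS'
    rcases h3' F hFn with h | h
    · rw [← hR] at h
      exact hRM (h.trans hFM)
    · exact hFM₁ (h.trans (Subgroup.normalCore_le M₁))
  have hKfr : ¬ K ≤ frattini P :=
    Sub.not_le_solvable hK.2 (by haveI := frattini_nilpotent (G := P); infer_instance)
  have hKp : p ∣ Nat.card ↥K := by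
    by_contra hnd
    have hcop : (Nat.card ↥K).Coprime p := by
      rw [Nat.coprime_comm]
      exact (Nat.Prime.coprime_iff_not_dvd hp').2 hnd
    have hKO : K ≤ Cfsg.pPrimeCore p P := PComp.sn_coprime_le_pPrimeCore p hK.1 hcop
    rcases h905c (Cfsg.pPrimeCore p P) (PComp.pPrimeCore_normal p) with h | h
    · have hRcop : (Nat.card ↥R).Coprime p :=
        Nat.Coprime.coprime_dvd_left (Subgroup.card_dvd_of_le h) (Local.pPrimeCore_coprime p)
      have hRnd : ¬ p ∣ Nat.card ↥R := by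
        rw [Nat.coprime_comm, Nat.Prime.coprime_iff_not_dvd hp'] at hRcop
        exact hRcop
      have hpf : (Nat.card P).primeFactors.card ≤ 2 := by
        apply h905b
        intro T
        have hTb : (T : Subgroup ↥R) = ⊥ := by
          rcases T.isPGroup'.card_eq_or_dvd with h1 | h1
          · exact Subgroup.eq_bot_of_card_eq _ h1
          · exact absurd (h1.trans (Subgroup.card_subgroup_dvd_card _)) hRnd
        rw [hTb]
        exact Subgroup.normal_bot
      have hpP : p ∣ Nat.card P := by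
        have hSne : (S : Subgroup P) ≠ ⊥ := by
          intro hb
          apply (hP S).1
          rw [hb]
          exact Subgroup.normal_bot
        rcases S.isPGroup'.card_eq_or_dvd with h1 | h1
        · exact absurd (Subgroup.eq_bot_of_card_eq _ h1) hSne
        · exact h1.trans (Subgroup.card_subgroup_dvd_card _)
      have hRsolv : Group.IsSolvable ↥R := by
        have hsub : (Nat.card ↥R).primeFactors ⊆ (Nat.card P).primeFactors.erase p := by
          intro r hr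
          rw [Nat.mem_primeFactors] at hr
          obtain ⟨hrp, hrd, _⟩ := hr
          rw [Finset.mem_erase, Nat.mem_primeFactors]
          refine ⟨?_, hrp, hrd.trans (Subgroup.card_subgroup_dvd_card R), Nat.card_pos.ne'⟩
          rintro rfl
          exact hRnd hrd
        have hc1 : (Nat.card ↥R).primeFactors.card ≤ 1 := by
          have h1 := Finset.card_le_card hsub
          have h2 : ((Nat.card P).primeFactors.erase p).card =
              (Nat.card P).primeFactors.card - 1 :=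
            Finset.card_erase_of_mem (Nat.mem_primeFactors.2 ⟨hp', hpP, Nat.card_pos.ne'⟩)
          omega
        have hq : ∃ q : ℕ, q.Prime ∧ ∃ k : ℕ, Nat.card ↥R = q ^ k := by
          by_cases h1 : Nat.card ↥R = 1
          · exact ⟨2, Nat.prime_two, 0, by rw [h1, pow_zero]⟩
          · obtain ⟨q, hq, hqd⟩ := Nat.exists_prime_and_dvd h1
            refine ⟨q, hq, (Nat.card ↥R).primeFactorsList.length, ?_⟩
            apply Nat.eq_prime_pow_of_unique_prime_dvd Nat.card_pos.ne'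
            intro d hd hdd
            exact Finset.card_le_one.1 hc1 d
              (Nat.mem_primeFactors.2 ⟨hd, hdd, Nat.card_pos.ne'⟩) q
              (Nat.mem_primeFactors.2 ⟨hq, hqd, Nat.card_pos.ne'⟩)
        obtain ⟨q, hq, k, hk⟩ := hq
        haveI : Fact q.Prime := ⟨hq⟩
        have hpg : IsPGroup q ↥R := IsPGroup.of_card hk
        haveI := hpg.isNilpotent
        infer_instance
      exact Sub.not_le_solvable hK.2 hRsolv hKR
    · exact hKfr ((hKO.trans h).trans hFfr)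
  have hKM : ¬ K ≤ M := by
    intro h
    have h1 := h905a K hK.1 h
    rw [hOp] at h1
    have h2 := Cfsg.Agent.S3028.sn_relIndex S K hK.1
    have h3 : (S : Subgroup P) ⊓ K = ⊥ := by
      rw [inf_comm]
      exact le_bot_iff.1 h1
    rw [h3, Subgroup.relIndex_bot_left] at h2
    exact h2 hKp
  obtain ⟨E, hE⟩ : ∃ E : Subgroup P,
      E = ⨆ s : ↥(S : Subgroup P), K.map (MulAut.conj (s : P)).toMonoidHom := ⟨_, rfl⟩
  have hKE : K ≤ E := by
    rw [hE]
    refine le_trans ?_ (le_iSup (fun s : ↥(S : Subgroup P) =>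
      K.map (MulAut.conj (s : P)).toMonoidHom) ⟨1, (S : Subgroup P).one_mem⟩)
    intro k hk
    exact ⟨k, hk, by simp⟩
  have hSE : (S : Subgroup P) ≤ Subgroup.normalizer (E : Set P) := by
    apply Cfsg.Agent.S2824.le_norm_of_conj
    intro d hd x hx
    have h1 : (⨆ s : ↥(S : Subgroup P), K.map (MulAut.conj (s : P)).toMonoidHom) ≤
        E.comap (MulAut.conj d).toMonoidHom := by
      refine iSup_le fun s => ?_
      rw [← Subgroup.map_le_iff_le_comap, Cfsg.Agent.Lib.Helper5.SylCtl.map_conj_mul, hE]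
      exact le_iSup (fun s : ↥(S : Subgroup P) => K.map (MulAut.conj (s : P)).toMonoidHom)
        ⟨d * s, (S : Subgroup P).mul_mem hd s.2⟩
    rw [hE] at hx
    exact h1 hx
  have hES : E ⊔ (S : Subgroup P) = ⊤ := by
    rcases dich (E ⊔ (S : Subgroup P)) le_sup_right with h | h
    · exact h
    · exact absurd ((hKE.trans le_sup_left).trans h) hKM
  have hEn : E.Normal := by
    rw [← Subgroup.normalizer_eq_top_iff, eq_top_iff, ← hES]
    exact sup_le Subgroup.le_normalizer hSE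
  have hRE : R ≤ E := by
    rcases h905c E hEn with h | h
    · exact h
    · exact absurd ((hKE.trans h).trans hFM) hKM
  have hEL : E ≤ Cfsg.layer P := by
    rw [hE]
    exact iSup_le fun s => Comp.le_layer (Comp.component_conj hK (s : P))
  have hFsR : Cfsg.generalizedFittingSubgroup P ≤ R := sup_le hlayer hfit
  have hLF : Cfsg.layer P ≤ Cfsg.generalizedFittingSubgroup P := le_sup_left
  refine ⟨hKp, hKM, ?_, ?_, ?_, dich, hKR⟩
  · rw [← hE]
    exact le_antisymm hRE (hEL.trans (hLF.trans hFsR))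
  · exact le_antisymm (hRE.trans (hEL.trans hLF)) hFsR
  · exact le_antisymm (hFsR.trans (hRE.trans hEL)) hLF

theorem partD {P : Type*} [Group P] [Finite P] {p : ℕ} [Fact p.Prime] (hP : Cfsg.IsPMinimal p P)
    (hOp : Cfsg.pCore p P = ⊥) (S : Sylow p P) (K : Subgroup P) (hK : Cfsg.IsComponent K)
    (L : Subgroup P) (hL : L = K ⊔ ((S : Subgroup P) ⊓ Subgroup.normalizer (K : Set P))) :
    Cfsg.IsPMinimal p ↥L := by
  have hp' : p.Prime := Fact.out
  obtain ⟨S₀, hS₀⟩ : ∃ S₀ : Subgroup P,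
      S₀ = (S : Subgroup P) ⊓ Subgroup.normalizer (K : Set P) := ⟨_, rfl⟩
  rw [← hS₀] at hL
  have hKL : K ≤ L := by rw [hL]; exact le_sup_left
  have hS₀L : S₀ ≤ L := by rw [hL]; exact le_sup_right
  have hLN : L ≤ Subgroup.normalizer (K : Set P) := by
    rw [hL]
    exact sup_le Subgroup.le_normalizer (by rw [hS₀]; exact inf_le_right)
  have hK'n : (K.subgroupOf L).Normal :=
    (Subgroup.normal_subgroupOf_iff_le_normalizer hKL).2 hLN
  intro S₁
  have hD0 : ¬ p ∣ (S₀.subgroupOf L).index := by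
    haveI := hK'n
    refine Cfsg.Agent.S2905.index_coprime_of_sup p (K.subgroupOf L) (S₀.subgroupOf L)
      (((S : Subgroup P) ⊓ K).subgroupOf L) ?_ ?_ ?_ ?_
    · rw [← Subgroup.subgroupOf_sup hS₀L hKL, Subgroup.subgroupOf_eq_top, hL, sup_comm]
    · intro x hx
      rw [Subgroup.mem_subgroupOf] at hx ⊢
      rw [hS₀]
      exact ⟨hx.1, Subgroup.le_normalizer hx.2⟩
    · intro x hx
      rw [Subgroup.mem_subgroupOf] at hx ⊢
      exact hx.2
    · rw [Subgroup.relIndex_subgroupOf hKL]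
      exact Cfsg.Agent.S3028.sn_relIndex S K hK.1
  obtain ⟨ℓ, hℓ⟩ := Cfsg.Agent.S2905.exists_conj_le S₁ (S₀.subgroupOf L) hD0
  obtain ⟨g, hg⟩ : ∃ g : P, g = (ℓ : P) := ⟨_, rfl⟩
  have hconj : ∀ s : ↥L, s ∈ (S₁ : Subgroup ↥L) → g⁻¹ * (s : P) * g ∈ S₀ := by
    intro s hs
    have h1 := hℓ s hs
    rw [Subgroup.mem_subgroupOf] at h1
    rw [hg]
    simpa using h1
  have hgL : g ∈ L := by rw [hg]; exact ℓ.2
  have hgN : g ∈ Subgroup.normalizer (K : Set P) := hLN hgL
  obtain ⟨S₂, hS₂⟩ : ∃ S₂ : Sylow p P, S₂ = g • S := ⟨_, rfl⟩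
  have hS₂c : (S₂ : Subgroup P) = (S : Subgroup P).map (MulAut.conj g).toMonoidHom := by
    rw [hS₂]
    exact Cfsg.Agent.Lib.Helper5.SylCtl.sylow_smul_coe S g
  have hmemS₂ : ∀ x : P, x ∈ (S₂ : Subgroup P) ↔ g⁻¹ * x * g ∈ (S : Subgroup P) := fun x => by
    rw [hS₂c]
    exact Cfsg.Agent.Lib.Helper1.mem_map_conj_iff _ g x
  obtain ⟨S₁', hS₁'⟩ : ∃ S₁' : Subgroup P, S₁' = (S₁ : Subgroup ↥L).map L.subtype := ⟨_, rfl⟩
  have hS₁L : S₁' ≤ L := by rw [hS₁']; exact Subgroup.map_subtype_le _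
  have hS₁S₂ : S₁' ≤ (S₂ : Subgroup P) := by
    rw [hS₁']
    rintro _ ⟨s, hs, rfl⟩
    rw [hmemS₂]
    have h1 := hconj s hs
    rw [hS₀] at h1
    exact h1.1
  have hmemS₁ : ∀ x : ↥L, x ∈ (S₁ : Subgroup ↥L) ↔ (x : P) ∈ S₁' := by
    intro x
    rw [hS₁']
    constructor
    · intro hx
      exact ⟨x, hx, rfl⟩
    · rintro ⟨y, hy, hyx⟩
      have e : y = x := Subtype.ext hyx
      rw [← e]
      exact hy
  have hNS₂ : (S₂ : Subgroup P) ⊓ Subgroup.normalizer (K : Set P) ≤ S₁' := by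
    have hle : (S₂ : Subgroup P) ⊓ Subgroup.normalizer (K : Set P) ≤ L := by
      intro x hx
      obtain ⟨hx1, hx2⟩ := Subgroup.mem_inf.1 hx
      rw [hmemS₂] at hx1
      have h1 : g⁻¹ * x * g ∈ S₀ := by
        rw [hS₀]
        refine Subgroup.mem_inf.2 ⟨hx1, ?_⟩
        exact Subgroup.mul_mem _ (Subgroup.mul_mem _ (Subgroup.inv_mem _ hgN) hx2) hgN
      have h2 := L.mul_mem (L.mul_mem hgL (hS₀L h1)) (L.inv_mem hgL)
      have e : g * (g⁻¹ * x * g) * g⁻¹ = x := by group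
      rwa [e] at h2
    have hpg : IsPGroup p
        ↥(((S₂ : Subgroup P) ⊓ Subgroup.normalizer (K : Set P)).subgroupOf L) := by
      have h1 : IsPGroup p ↥((S₂ : Subgroup P) ⊓ Subgroup.normalizer (K : Set P)) :=
        S₂.isPGroup'.to_le inf_le_left
      exact h1.comap_subtype
    have hS₁le : (S₁ : Subgroup ↥L) ≤
        ((S₂ : Subgroup P) ⊓ Subgroup.normalizer (K : Set P)).subgroupOf L := by
      intro x hx
      rw [Subgroup.mem_subgroupOf]
      have hx' : (x : P) ∈ S₁' := (hmemS₁ x).1 hx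
      exact Subgroup.mem_inf.2 ⟨hS₁S₂ hx', hLN (hS₁L hx')⟩
    have heq := S₁.is_maximal' hpg hS₁le
    intro x hx
    have h1 : (⟨x, hle hx⟩ : ↥L) ∈
        ((S₂ : Subgroup P) ⊓ Subgroup.normalizer (K : Set P)).subgroupOf L :=
      Subgroup.mem_subgroupOf.2 hx
    rw [heq] at h1
    exact (hmemS₁ _).1 h1
  obtain ⟨hS₂n, M₂, ⟨hM₂, hS₂M₂⟩, -⟩ := hP S₂
  obtain ⟨hKp, hKM₂, -, -, -, dich₂, hKR⟩ := core hP hOp S₂ K hK M₂ hM₂ hS₂M₂
  obtain ⟨-, -, h905c, -, -⟩ := Cfsg.Agent.S2905.result hP S₂ M₂ hM₂ hS₂M₂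
  have hKS₁ : K.subgroupOf L ⊔ (S₁ : Subgroup ↥L) = ⊤ := by
    haveI := hK'n
    have h1 : (K.subgroupOf L ⊔ (S₁ : Subgroup ↥L)).index ∣ (K.subgroupOf L).index :=
      Subgroup.index_dvd_of_le le_sup_left
    have h2 : (K.subgroupOf L ⊔ (S₁ : Subgroup ↥L)).index ∣ (S₁ : Subgroup ↥L).index :=
      Subgroup.index_dvd_of_le le_sup_right
    have h3 : ∃ j, (K.subgroupOf L).index = p ^ j := by
      have h4 := Subgroup.relIndex_sup_left (K := K.subgroupOf L) (H := S₀.subgroupOf L)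
      have h5 : K.subgroupOf L ⊔ S₀.subgroupOf L = ⊤ := by
        rw [← Subgroup.subgroupOf_sup hKL hS₀L, Subgroup.subgroupOf_eq_top]
        exact le_of_eq hL
      rw [h5, Subgroup.relIndex_top_right] at h4
      have h6 : (K.subgroupOf L).relIndex (S₀.subgroupOf L) ∣ Nat.card ↥(S₀.subgroupOf L) :=
        Subgroup.relIndex_dvd_card _ _
      have h7 : IsPGroup p ↥(S₀.subgroupOf L) := by
        have h8 : IsPGroup p ↥S₀ := S.isPGroup'.to_le (by rw [hS₀]; exact inf_le_left)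
        exact h8.comap_subtype
      obtain ⟨c, hc⟩ := IsPGroup.iff_card.1 h7
      rw [hc, ← h4] at h6
      obtain ⟨j, _, hj⟩ := (Nat.dvd_prime_pow hp').1 h6
      exact ⟨j, hj⟩
    obtain ⟨j, hj⟩ := h3
    rw [hj] at h1
    obtain ⟨i, _, hi⟩ := (Nat.dvd_prime_pow hp').1 h1
    have hi0 : i = 0 := by
      by_contra hi0
      exact S₁.not_dvd_index (dvd_trans (hi ▸ dvd_pow_self p hi0) h2)
    rw [hi0, pow_zero] at hi
    exact Subgroup.index_eq_one.1 hi
  have hD1 : ¬ (S₁ : Subgroup ↥L).Normal := by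
    intro hn
    have hLS₁ : L ≤ Subgroup.normalizer (S₁' : Set P) := by
      apply Cfsg.Agent.S2824.le_norm_of_conj
      intro l hl x hx
      rw [hS₁'] at hx ⊢
      obtain ⟨s, hs, rfl⟩ := hx
      exact ⟨⟨l, hl⟩ * s * ⟨l, hl⟩⁻¹, hn.conj_mem s hs ⟨l, hl⟩, by simp⟩
    have hT : S₁' ⊓ K = ⊥ := by
      have hTn : ((S₁' ⊓ K).subgroupOf K).Normal := by
        rw [Subgroup.normal_subgroupOf_iff_le_normalizer inf_le_right]
        intro k hk
        exact Local.normalizer_inf_mem (hLS₁ (hKL hk)) (Subgroup.le_normalizer hk)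
      have hTsn : (S₁' ⊓ K).IsSubnormal :=
        Subgroup.IsSubnormal.trans inf_le_right hTn.isSubnormal hK.1
      have hTp : IsPGroup p ↥(S₁' ⊓ K) := S₂.isPGroup'.to_le (inf_le_left.trans hS₁S₂)
      have h1 := Fit.sn_pgroup_le_pCore hTsn hTp
      rw [hOp] at h1
      exact le_bot_iff.1 h1
    have h2 : (S₂ : Subgroup P) ⊓ K = ⊥ := by
      rw [eq_bot_iff, ← hT]
      exact le_inf ((inf_le_inf_left _ (Subgroup.le_normalizer (H := K))).trans hNS₂) inf_le_right
    have h3 := Cfsg.Agent.S3028.sn_relIndex S₂ K hK.1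
    rw [h2, Subgroup.relIndex_bot_left] at h3
    exact h3 hKp
  refine ⟨hD1, ?_⟩
  obtain ⟨X₀, hX₀⟩ : ∃ X₀ : Subgroup ↥L,
      X₀ = (((M₂ ⊓ K) ⊔ S₁' : Subgroup P)).subgroupOf L := ⟨_, rfl⟩
  have hX₀top : X₀ ≠ ⊤ := by
    intro h
    rw [hX₀, Subgroup.subgroupOf_eq_top] at h
    exact hKM₂ ((hKL.trans h).trans (sup_le inf_le_left (hS₁S₂.trans hS₂M₂)))
  have hU : ∀ X : Subgroup ↥L, X ≠ ⊤ → (S₁ : Subgroup ↥L) ≤ X → X ≤ X₀ := by
    intro X hXtop hSX
    obtain ⟨X', hX'⟩ : ∃ X' : Subgroup P, X' = X.map L.subtype := ⟨_, rfl⟩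
    have hmemX : ∀ x : ↥L, x ∈ X ↔ (x : P) ∈ X' := by
      intro x
      rw [hX']
      constructor
      · intro hx
        exact ⟨x, hx, rfl⟩
      · rintro ⟨y, hy, hyx⟩
        have e : y = x := Subtype.ext hyx
        rw [← e]
        exact hy
    have hS₁X : S₁' ≤ X' := by
      rw [hS₁', hX']
      exact Subgroup.map_mono hSX
    have hclaim : X' ⊓ K ≤ M₂ := by
      obtain ⟨B, hB⟩ : ∃ B : Subgroup P, B = X' ⊓ K := ⟨_, rfl⟩
      rw [← hB]
      have hBK : B ≤ K := by rw [hB]; exact inf_le_right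
      have hBX : B ≤ X' := by rw [hB]; exact inf_le_left
      obtain ⟨Bt, hBt⟩ : ∃ Bt : Subgroup P, Bt = ⨆ s : ↥(S₂ : Subgroup P),
          B.map (MulAut.conj (s : P)).toMonoidHom := ⟨_, rfl⟩
      have hBBt : B ≤ Bt := by
        rw [hBt]
        refine le_trans ?_ (le_iSup (fun s : ↥(S₂ : Subgroup P) =>
          B.map (MulAut.conj (s : P)).toMonoidHom) ⟨1, (S₂ : Subgroup P).one_mem⟩)
        intro k hk
        exact ⟨k, hk, by simp⟩
      have hS₂Bt : (S₂ : Subgroup P) ≤ Subgroup.normalizer (Bt : Set P) := by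
        apply Cfsg.Agent.S2824.le_norm_of_conj
        intro d hd x hx
        have h1 : (⨆ s : ↥(S₂ : Subgroup P), B.map (MulAut.conj (s : P)).toMonoidHom) ≤
            Bt.comap (MulAut.conj d).toMonoidHom := by
          refine iSup_le fun s => ?_
          rw [← Subgroup.map_le_iff_le_comap, Cfsg.Agent.Lib.Helper5.SylCtl.map_conj_mul, hBt]
          exact le_iSup (fun s : ↥(S₂ : Subgroup P) => B.map (MulAut.conj (s : P)).toMonoidHom)
            ⟨d * s, (S₂ : Subgroup P).mul_mem hd s.2⟩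
        rw [hBt] at hx
        exact h1 hx
      rcases dich₂ (Bt ⊔ (S₂ : Subgroup P)) le_sup_right with h | h
      swap
      · exact (hBBt.trans le_sup_left).trans h
      have hBtn : Bt.Normal := by
        rw [← Subgroup.normalizer_eq_top_iff, eq_top_iff, ← h]
        exact sup_le Subgroup.le_normalizer hS₂Bt
      rcases h905c Bt hBtn with h1 | h1
      swap
      · exact (hBBt.trans h1).trans (Subgroup.normalCore_le M₂)
      exfalso
      have hKBt : K ≤ Bt := hKR.trans h1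
      have hBtU : Bt ≤ B ⊔ Subgroup.centralizer (K : Set P) := by
        rw [hBt]
        refine iSup_le fun s => ?_
        by_cases hs : (s : P) ∈ Subgroup.normalizer (K : Set P)
        · refine le_trans ?_ le_sup_left
          have hsX : (s : P) ∈ X' := hS₁X (hNS₂ (Subgroup.mem_inf.2 ⟨s.2, hs⟩))
          rintro _ ⟨b, hb, rfl⟩
          show (s : P) * b * (s : P)⁻¹ ∈ B
          rw [hB]
          refine Subgroup.mem_inf.2 ⟨X'.mul_mem (X'.mul_mem hsX (hBX hb)) (X'.inv_mem hsX), ?_⟩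
          exact (Subgroup.mem_normalizer_iff.1 hs b).1 (hBK hb)
        · refine le_trans ?_ le_sup_right
          have hne : K.map (MulAut.conj (s : P)).toMonoidHom ≠ K := by
            intro heq
            exact hs (Subgroup.mem_normalizer_iff_map_conj_eq.2 heq)
          have hcomm := Comp.components_comm (Comp.component_conj hK (s : P)) hK hne
          exact (Subgroup.map_mono hBK).trans
            (Subgroup.commutator_eq_bot_iff_le_centralizer.1 hcomm)
      have hCB : Subgroup.centralizer (K : Set P) ≤ Subgroup.normalizer (B : Set P) := by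
        apply Cfsg.Agent.S2824.le_norm_of_conj
        intro c hc b hb
        have h2 := Subgroup.mem_centralizer_iff.1 hc b (hBK hb)
        rw [← h2, mul_inv_cancel_right]
        exact hb
      have hdec : ∀ k ∈ K, ∃ b ∈ B, ∃ c ∈ K, (∀ y ∈ K, y * c = c * y) ∧ k = b * c := by
        intro k hk
        obtain ⟨b, hb, c, hc, hkbc⟩ := CoprimeAct.mem_sup_of_le_normalizer B
          (Subgroup.centralizer (K : Set P)) hCB (hBtU (hKBt hk))
        refine ⟨b, hb, c, ?_, fun y hy => Subgroup.mem_centralizer_iff.1 hc y hy, hkbc⟩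
        have h2 := K.mul_mem (K.inv_mem (hBK hb)) hk
        rw [hkbc, inv_mul_cancel_left] at h2
        exact h2
      have hKB : K ≤ B := by
        have h2 : ⁅K, K⁆ ≤ B := by
          rw [Subgroup.commutator_le]
          intro k₁ hk₁ k₂ hk₂
          rw [commutatorElement_def]
          obtain ⟨b₁, hb₁, c₁, hc₁K, hc₁, rfl⟩ := hdec k₁ hk₁
          obtain ⟨b₂, hb₂, c₂, hc₂K, hc₂, rfl⟩ := hdec k₂ hk₂
          have e1 := (comm_c b₁ (b₂ * c₂) c₁).1 (hc₁ _ hk₂).symm
          have e2 := (comm_c b₁ b₂ c₂).2 (hc₂ _ (K.inv_mem (hBK hb₁))).symm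
          rw [e1, e2]
          exact B.mul_mem (B.mul_mem (B.mul_mem hb₁ hb₂) (B.inv_mem hb₁)) (B.inv_mem hb₂)
        rw [Quasi.perfect_subgroup K hK.2] at h2
        exact h2
      apply hXtop
      rw [eq_top_iff, ← hKS₁]
      refine sup_le ?_ hSX
      intro x hx
      rw [Subgroup.mem_subgroupOf] at hx
      exact (hmemX x).2 (hBX (hKB hx))
    intro x hx
    have hx' : x ∈ K.subgroupOf L ⊔ (S₁ : Subgroup ↥L) := hKS₁ ▸ Subgroup.mem_top x
    obtain ⟨k, hk, s, hs, hxks⟩ := CoprimeAct.mem_sup_of_le_normalizer (K.subgroupOf L)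
      (S₁ : Subgroup ↥L) (by rw [Subgroup.normalizer_eq_top_iff.2 hK'n]; exact le_top) hx'
    have hkX : k ∈ X := by
      have h2 := X.mul_mem hx (X.inv_mem (hSX hs))
      rw [hxks, mul_inv_cancel_right] at h2
      exact h2
    have hkK : (k : P) ∈ K := Subgroup.mem_subgroupOf.1 hk
    have hkM : (k : P) ∈ M₂ ⊓ K :=
      Subgroup.mem_inf.2 ⟨hclaim (Subgroup.mem_inf.2 ⟨(hmemX k).1 hkX, hkK⟩), hkK⟩
    have hsS : (s : P) ∈ S₁' := (hmemS₁ s).1 hs
    rw [hX₀, Subgroup.mem_subgroupOf, hxks]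
    show (k : P) * (s : P) ∈ (M₂ ⊓ K) ⊔ S₁'
    exact Subgroup.mul_mem _ (Subgroup.mem_sup_left hkM) (Subgroup.mem_sup_right hsS)
  have hS₁top : (S₁ : Subgroup ↥L) ≠ ⊤ := by
    intro h
    apply hD1
    rw [h]
    exact Subgroup.normal_top
  obtain ⟨X, hX, hSX⟩ := (eq_top_or_exists_le_coatom (S₁ : Subgroup ↥L)).resolve_left hS₁top
  have hXX₀ : X = X₀ := by
    rcases hX.le_iff.1 (hU X hX.1 hSX) with h | h
    · exact absurd h hX₀top
    · exact h.symm
  refine ⟨X, ⟨hX, hSX⟩, ?_⟩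
  rintro Y ⟨hY, hSY⟩
  rcases hY.le_iff.1 (hU Y hY.1 hSY) with h | h
  · exact absurd h hX₀top
  · exact (hXX₀.trans h).symm

theorem result {P : Type*} [Group P] [Finite P] {p : ℕ} [Fact p.Prime] (hP : Cfsg.IsPMinimal p P) (hOp : Cfsg.pCore p P = ⊥) (S : Sylow p P) (K : Subgroup P) (hK : Cfsg.IsComponent K) : Cfsg.pResidual p P = Cfsg.generalizedFittingSubgroup P ∧ Cfsg.generalizedFittingSubgroup P = Cfsg.layer P ∧ Cfsg.layer P = ⨆ s : ↥(S : Subgroup P), K.map (MulAut.conj (s : P)).toMonoidHom ∧ Cfsg.IsPMinimal p ↥(K ⊔ ((S : Subgroup P) ⊓ Subgroup.normalizer (K : Set P))) := by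
  obtain ⟨-, M, ⟨hM, hSM⟩, -⟩ := hP S
  obtain ⟨-, -, h1, h2, h3, -, -⟩ := core hP hOp S K hK M hM hSM
  exact ⟨h2, h3, h3.symm.trans (h2.symm.trans h1), partD hP hOp S K hK _ rfl⟩

end Cfsg.Agent.S2906
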