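import Cfsg.Statements.S2910
import Mathlib
import Cfsg.Agent.Lib.Helper2.Local
import Cfsg.Agent.Lib.Helper5.Coprime
import Cfsg.Agent.Lib.Helper1.Nil
import Cfsg.Agent.S0028
import Cfsg.Agent.S0071

set_option autoImplicit false
open Cfsg

namespace Cfsg.Agent.S2910

open Cfsg.Agent.Lib.Helper2
open scoped commutatorElement

theorem pow_mul_cl2 {G : Type*} [Group G] (a b c : G) (hc : b * a = c * (a * b))
    (hca : Commute c a) (hcb : Commute c b) (n : ℕ) : b ^ n * a = a * b ^ n * c ^ n := by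
  induction n with
  | zero => simp
  | succ n ih =>
    have h1 : c * (a * b) = (a * b) * c := (hca.mul_right hcb).eq
    have h2 : c * b ^ n = b ^ n * c := (hcb.pow_right n).eq
    calc b ^ (n + 1) * a = b * (b ^ n * a) := by rw [pow_succ', mul_assoc]
      _ = b * (a * b ^ n * c ^ n) := by rw [ih]
      _ = (b * a) * (b ^ n * c ^ n) := by group
      _ = c * (a * b) * (b ^ n * c ^ n) := by rw [hc]
      _ = (a * b) * (c * b ^ n) * c ^ n := by rw [h1]; group
      _ = (a * b) * (b ^ n * c) * c ^ n := by rw [h2]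
      _ = a * (b * b ^ n) * (c * c ^ n) := by group
      _ = a * b ^ (n + 1) * c ^ (n + 1) := by rw [← pow_succ', ← pow_succ']

theorem mul_pow_cl2 {G : Type*} [Group G] (a b c : G) (hc : b * a = c * (a * b))
    (hca : Commute c a) (hcb : Commute c b) (n : ℕ) :
    (a * b) ^ n = a ^ n * b ^ n * c ^ (n * (n - 1) / 2) := by
  induction n with
  | zero => simp
  | succ n ih =>
    have e : (n + 1) * (n + 1 - 1) / 2 = n + n * (n - 1) / 2 := by
      rw [Nat.triangle_succ, add_comm]
    rw [e]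
    generalize n * (n - 1) / 2 = t at ih ⊢
    have h1 : c ^ t * (a * b) = (a * b) * c ^ t := ((hca.mul_right hcb).pow_left _).eq
    have h2 : c ^ n * b = b * c ^ n := (hcb.pow_left n).eq
    have h3 := pow_mul_cl2 a b c hc hca hcb n
    calc (a * b) ^ (n + 1) = (a * b) ^ n * (a * b) := pow_succ _ _
      _ = a ^ n * b ^ n * (c ^ t * (a * b)) := by rw [ih]; group
      _ = a ^ n * b ^ n * ((a * b) * c ^ t) := by rw [h1]
      _ = a ^ n * (b ^ n * a) * b * c ^ t := by group
      _ = a ^ n * (a * b ^ n * c ^ n) * b * c ^ t := by rw [h3]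
      _ = a ^ n * a * b ^ n * (c ^ n * b) * c ^ t := by group
      _ = a ^ n * a * b ^ n * (b * c ^ n) * c ^ t := by rw [h2]
      _ = (a ^ n * a) * (b ^ n * b) * (c ^ n * c ^ t) := by group
      _ = a ^ (n + 1) * b ^ (n + 1) * c ^ (n + t) := by
          rw [← pow_succ, ← pow_succ, ← pow_add]

theorem autA {G : Type*} [Group G] [Finite G] {p : ℕ} [Fact p.Prime] (hp : p ≠ 2) (g : G) (m : ℕ)
    (hm : Nat.Coprime m p) (hgm : g ^ m = 1) :
    ∀ (n : ℕ) (Q : Subgroup G), Nat.card Q = n → IsPGroup p Q →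
      g ∈ Subgroup.normalizer (Q : Set G) → (∀ x ∈ Q, x ^ p = 1 → x * g = g * x) →
      ∀ x ∈ Q, x * g = g * x := by
  intro n
  induction n using Nat.strong_induction_on with
  | _ n ih =>
    intro Q hn hQ hgQ hΩ
    have IH : ∀ Q₁ : Subgroup G, Q₁ ≤ Q → Q₁ ≠ Q → g ∈ Subgroup.normalizer (Q₁ : Set G) →
        ∀ x ∈ Q₁, x * g = g * x := by
      intro Q₁ hle hne hg1
      exact ih (Nat.card Q₁) (by rw [← hn]; exact Sub.card_lt_of_ne hle hne) Q₁ rfl
        (hQ.to_le hle) hg1 (fun x hx hxp => hΩ x (hle hx) hxp)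
    have hpel : ∀ x ∈ Q, x ^ m = 1 → x = 1 := by
      intro x hx hxm
      obtain ⟨k, hk⟩ := hQ ⟨x, hx⟩
      have hk' : x ^ p ^ k = 1 := by simpa using congrArg Subtype.val hk
      exact Cfsg.Agent.Lib.Helper5.Coprime.eq_one_of_pow_of_pow x k m hm hk' hxm
    have hcomQ : ∀ r ∈ Q, ⁅r, g⁆ ∈ Q := by
      intro r hr
      have e : ⁅r, g⁆ = r * (g * r⁻¹ * g⁻¹) := by rw [commutatorElement_def]; group
      rw [e]
      exact Q.mul_mem hr ((Subgroup.mem_normalizer_iff.1 hgQ _).1 (Q.inv_mem hr))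
    have hstep : ∀ r ∈ Q, ⁅r, g⁆ * g = g * ⁅r, g⁆ → r * g = g * r := by
      intro r hr h
      exact Cfsg.Agent.Lib.Helper5.Coprime.commute_of_step g r m hgm h (hpel _ (hcomQ r hr))
    by_cases hN : ⁅Q, Subgroup.zpowers g⁆ = Q
    swap
    · intro r hr
      apply hstep r hr
      exact IH ⁅Q, Subgroup.zpowers g⁆
        (AxB.commutator_le_of_le_normalizer ((Subgroup.zpowers_le).2 hgQ)) hN
        (Cfsg.Agent.S0028.mem_normalizer_commutator Q (Subgroup.zpowers g) g hgQ
          (Subgroup.le_normalizer (Subgroup.mem_zpowers g))) _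
        (Subgroup.commutator_mem_commutator hr (Subgroup.mem_zpowers g))
    by_cases hbot : Q = ⊥
    · intro x hx
      rw [hbot, Subgroup.mem_bot] at hx
      rw [hx]
      simp
    have hQ' : IsPGroup p ↥Q := hQ
    obtain ⟨K, hK⟩ : ∃ K : Subgroup ↥Q, IsCoatom K := by
      rcases eq_top_or_exists_le_coatom (⊥ : Subgroup ↥Q) with h | ⟨K, hK, _⟩
      · exfalso
        apply hbot
        rw [eq_bot_iff]
        intro x hx
        have h1 : (⟨x, hx⟩ : ↥Q) ∈ (⊥ : Subgroup ↥Q) := by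
          rw [h]
          exact Subgroup.mem_top _
        rw [Subgroup.mem_bot] at h1
        rw [Subgroup.mem_bot]
        exact congrArg Subtype.val h1
      · exact ⟨K, hK⟩
    obtain ⟨hKn, hKi⟩ := Cfsg.Agent.Lib.Helper1.coatom_normal_index_of_isPGroup p hQ' K hK
    have hcard : Nat.card (↥Q ⧸ K) = p := by
      rw [← Subgroup.index_eq_card]
      exact hKi
    obtain ⟨M, hMdef⟩ : ∃ M : Subgroup G, M = Subgroup.closure
        ({c | ∃ a ∈ Q, ∃ b ∈ Q, c = ⁅a, b⁆} ∪ {c | ∃ y ∈ Q, c = y ^ p}) := ⟨_, rfl⟩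
    have hMQ : M ≤ Q := by
      rw [hMdef, Subgroup.closure_le]
      rintro c (⟨a, ha, b, hb, rfl⟩ | ⟨y, hy, rfl⟩)
      · exact Sub.commutator_self_le Q (Subgroup.commutator_mem_commutator ha hb)
      · exact Q.pow_mem hy p
    have hMK : M ≤ K.map Q.subtype := by
      rw [hMdef, Subgroup.closure_le]
      rintro c (⟨a, ha, b, hb, rfl⟩ | ⟨y, hy, rfl⟩)
      · refine ⟨⁅(⟨a, ha⟩ : ↥Q), ⟨b, hb⟩⁆, ?_, rfl⟩
        rw [SetLike.mem_coe, ← QuotientGroup.eq_one_iff]
        show (QuotientGroup.mk' K) ⁅(⟨a, ha⟩ : ↥Q), ⟨b, hb⟩⁆ = 1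
        rw [map_commutatorElement, commutatorElement_eq_one_iff_commute]
        exact Cfsg.Agent.Lib.Helper1.quotient_comm_of_card_prime p hcard _ _
      · refine ⟨(⟨y, hy⟩ : ↥Q) ^ p, ?_, rfl⟩
        rw [SetLike.mem_coe, ← QuotientGroup.eq_one_iff]
        show (QuotientGroup.mk' K) ((⟨y, hy⟩ : ↥Q) ^ p) = 1
        rw [map_pow]
        have h1 := pow_card_eq_one' (G := ↥Q ⧸ K) (x := (QuotientGroup.mk' K) (⟨y, hy⟩ : ↥Q))
        rw [hcard] at h1
        exact h1
    have hMne : M ≠ Q := by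
      intro e
      apply hK.1
      rw [eq_top_iff]
      intro x _
      have hx : (x : G) ∈ K.map Q.subtype := hMK (by rw [e]; exact x.2)
      obtain ⟨k, hk, hkx⟩ := hx
      have h1 : k = x := Subtype.ext hkx
      rw [← h1]
      exact hk
    have hNM : Subgroup.normalizer (Q : Set G) ≤ Subgroup.normalizer (M : Set G) := by
      rw [hMdef, Subgroup.le_normalizer_closure_iff]
      rintro h hh c (⟨a, ha, b, hb, rfl⟩ | ⟨y, hy, rfl⟩)
      · apply Subgroup.subset_closure
        left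
        refine ⟨h * a * h⁻¹, (Subgroup.mem_normalizer_iff.1 hh a).1 ha, h * b * h⁻¹,
          (Subgroup.mem_normalizer_iff.1 hh b).1 hb, ?_⟩
        simp only [commutatorElement_def]
        group
      · apply Subgroup.subset_closure
        right
        refine ⟨h * y * h⁻¹, (Subgroup.mem_normalizer_iff.1 hh y).1 hy, ?_⟩
        rw [conj_pow]
    have hMg : ∀ c ∈ M, c * g = g * c := IH M hMQ hMne (hNM hgQ)
    have hMc : Q ≤ Subgroup.centralizer (M : Set G) := by
      rw [← hN, Subgroup.commutator_le]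
      intro x hx h hh
      rw [Subgroup.mem_centralizer_iff]
      intro c hc
      have hch : ∀ c ∈ M, c * h = h * c := by
        intro c hc
        obtain ⟨k, rfl⟩ := Subgroup.mem_zpowers_iff.1 hh
        exact ((show Commute c g from hMg c hc).zpow_right k).eq
      have hc1 := hch c hc
      have hc2 := hch (x⁻¹ * c * x) (by
        have h5 := (Subgroup.mem_normalizer_iff.1
          (hNM (Subgroup.le_normalizer (Q.inv_mem hx))) c).1 hc
        simpa using h5)
      have hc3 : c * h⁻¹ = h⁻¹ * c := ((show Commute c h from hc1).inv_right).eq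
      rw [commutatorElement_def]
      calc c * (x * h * x⁻¹ * h⁻¹) = x * ((x⁻¹ * c * x) * h) * x⁻¹ * h⁻¹ := by group
        _ = x * (h * (x⁻¹ * c * x)) * x⁻¹ * h⁻¹ := by rw [hc2]
        _ = x * h * x⁻¹ * (c * h⁻¹) := by group
        _ = x * h * x⁻¹ * (h⁻¹ * c) := by rw [hc3]
        _ = x * h * x⁻¹ * h⁻¹ * c := by group
    have hcen : ∀ c ∈ M, ∀ x ∈ Q, c * x = x * c := by
      intro c hc x hx
      exact (Subgroup.mem_centralizer_iff.1 (hMc hx)) c hc
    intro r hr
    apply hstep r hr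
    have hy : g * r⁻¹ * g⁻¹ ∈ Q := (Subgroup.mem_normalizer_iff.1 hgQ _).1 (Q.inv_mem hr)
    obtain ⟨y, hydef⟩ : ∃ y : G, y = g * r⁻¹ * g⁻¹ := ⟨_, rfl⟩
    rw [← hydef] at hy
    obtain ⟨c, hcdef⟩ : ∃ c : G, c = ⁅y, r⁆ := ⟨_, rfl⟩
    have hcM : c ∈ M := by
      rw [hMdef]
      exact Subgroup.subset_closure (Or.inl ⟨y, hy, r, hr, hcdef⟩)
    have hc : y * r = c * (r * y) := by
      rw [hcdef, commutatorElement_def]
      group
    have hca : Commute c r := hcen c hcM r hr
    have hcb : Commute c y := hcen c hcM y hy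
    have hypM : y ^ p ∈ M := by
      rw [hMdef]
      exact Subgroup.subset_closure (Or.inr ⟨y, hy, rfl⟩)
    have hrpM : r ^ p ∈ M := by
      rw [hMdef]
      exact Subgroup.subset_closure (Or.inr ⟨r, hr, rfl⟩)
    have hcp : c ^ p = 1 := by
      have h1 := pow_mul_cl2 r y c hc hca hcb p
      have h2 : y ^ p * r = r * y ^ p := hcen _ hypM r hr
      have h3 : r * y ^ p * c ^ p = r * y ^ p * 1 := by
        rw [mul_one, ← h1, h2]
      exact mul_left_cancel h3
    have hyp : y ^ p = (r ^ p)⁻¹ := by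
      rw [hydef, conj_pow, inv_pow]
      have h3 : Commute (r ^ p) g := hMg _ hrpM
      rw [mul_inv_eq_iff_eq_mul]
      exact (h3.inv_left).eq.symm
    have e : ⁅r, g⁆ = r * y := by
      rw [hydef, commutatorElement_def]
      group
    have hpow : (r * y) ^ p = 1 := by
      rw [mul_pow_cl2 r y c hc hca hcb p, hyp]
      rcases (Fact.out : p.Prime).eq_two_or_odd' with h2 | ⟨j, hj⟩
      · exact absurd h2 hp
      · have h4 : p * (p - 1) / 2 = p * j := by
          have h5 : p - 1 = 2 * j := by omega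
          rw [h5, ← mul_assoc, mul_comm p 2, mul_assoc, Nat.mul_div_cancel_left _ (by norm_num : 0 < 2)]
        rw [h4, pow_mul, hcp]
        simp
    rw [e]
    exact hΩ _ (Q.mul_mem hr hy) hpow

theorem result {G : Type*} [Group G] [Finite G] {p : ℕ} [Fact p.Prime] (hp : p ≠ 2) (hdiv : p ∣ Nat.card G) (P : Sylow p G) (hZ : Cfsg.omegaOne p (P : Subgroup G) ≤ Subgroup.center G) : Cfsg.HasNormalPComplement p G ∧ ¬ Cfsg.IsQuasisimple G := by
  have key : ∀ Q : Subgroup G, Q ≤ (P : Subgroup G) → ∀ g ∈ Subgroup.normalizer (Q : Set G),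
      Nat.Coprime (orderOf g) p → g ∈ Subgroup.centralizer (Q : Set G) := by
    intro Q hQ g hg hcop
    rw [Subgroup.mem_centralizer_iff]
    intro x hx
    refine autA hp g (orderOf g) hcop (pow_orderOf_eq_one g) _ Q rfl (P.isPGroup'.to_le hQ) hg
      (fun x hx hxp => ?_) x hx
    have h1 : x ∈ Cfsg.omegaOne p (P : Subgroup G) := by
      unfold Cfsg.omegaOne
      exact Subgroup.subset_closure ⟨hQ hx, hxp⟩
    exact ((Subgroup.mem_center_iff.1 (hZ h1)) g).symm
  obtain ⟨N, hN, hc⟩ := (Cfsg.Agent.S0071.result P).2 key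
  refine ⟨⟨P, N, hN, hc⟩, ?_⟩
  intro hq
  have hperf : commutator G = ⊤ := (Group.isPerfect_def).1 hq.1
  have hidx : N.index = Nat.card (P : Subgroup G) := hc.symm.index_eq_card
  have hPp : IsPGroup p (G ⧸ N) := by
    obtain ⟨k, hk⟩ := (IsPGroup.iff_card).1 P.isPGroup'
    apply IsPGroup.of_card (n := k)
    rw [← Subgroup.index_eq_card, hidx]
    exact hk
  haveI hnil : Group.IsNilpotent (G ⧸ N) := hPp.isNilpotent
  haveI hnt : Nontrivial (G ⧸ N) := by
    rw [← Finite.one_lt_card_iff_nontrivial, ← Subgroup.index_eq_card, hidx]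
    have h1 : (P : Subgroup G) ≠ ⊥ := P.ne_bot_of_dvd_card hdiv
    exact (Subgroup.one_lt_card_iff_ne_bot _).2 h1
  have h2 := Group.IsSolvable.commutator_lt_top_of_nontrivial (G ⧸ N)
  apply h2.ne
  have h3 : (commutator G).map (QuotientGroup.mk' N) = commutator (G ⧸ N) := by
    rw [commutator_def, commutator_def, Subgroup.map_commutator,
      Subgroup.map_top_of_surjective _ (QuotientGroup.mk'_surjective N)]
  rw [← h3, hperf, Subgroup.map_top_of_surjective _ (QuotientGroup.mk'_surjective N)]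

end Cfsg.Agent.S2910
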