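import Cfsg.Statements.S2911
import Mathlib
import Cfsg.Agent.S2872
import Cfsg.Agent.Lib.Helper3.Residual

set_option autoImplicit false
open Cfsg

namespace Cfsg.Agent.S2911

open DihedralGroup

theorem exists_index_two {G : Type*} [Group G] [Finite G] (h : Cfsg.pResidual 2 G ≠ ⊤) :
    ∃ H : Subgroup G, H.index = 2 := by
  have hK : (Cfsg.pResidual 2 G).Normal := Cfsg.Agent.Lib.Helper3.Residual.pResidual_normal 2
  have : Fact (Nat.Prime 2) := ⟨Nat.prime_two⟩
  have h1 : IsPGroup 2 (G ⧸ Cfsg.pResidual 2 G) := by
    intro q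
    obtain ⟨x, rfl⟩ := QuotientGroup.mk_surjective q
    obtain ⟨a, ha⟩ := Cfsg.Agent.Lib.Helper3.Residual.pow_mem_pResidual (p := 2) x
    refine ⟨a, ?_⟩
    rw [← QuotientGroup.mk_pow, QuotientGroup.eq_one_iff]
    exact ha
  obtain ⟨j, hj⟩ := IsPGroup.iff_card.mp h1
  have hj0 : j ≠ 0 := by
    rintro rfl
    rw [pow_zero] at hj
    apply h
    rw [← Subgroup.index_eq_one, Subgroup.index_eq_card, hj]
  obtain ⟨K₁, hK₁⟩ := Sylow.exists_subgroup_card_pow_prime (G := G ⧸ Cfsg.pResidual 2 G) 2
    (n := j - 1) (by rw [hj]; exact pow_dvd_pow 2 (Nat.sub_le j 1))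
  refine ⟨K₁.comap (QuotientGroup.mk' (Cfsg.pResidual 2 G)), ?_⟩
  rw [Subgroup.index_comap_of_surjective _ (QuotientGroup.mk'_surjective _)]
  have h2 := Subgroup.card_mul_index K₁
  rw [hK₁, hj] at h2
  have h3 : 2 ^ j = 2 ^ (j - 1) * 2 := by
    rw [← pow_succ]; congr 1; omega
  rw [h3] at h2
  exact Nat.eq_of_mul_eq_mul_left (by positivity) h2

theorem pow_relIndex_mem {G : Type*} [Group G] [Finite G] (S : Subgroup G) (g : G)
    (hg : g ∈ Subgroup.normalizer (S : Set G)) :
    g ^ (S.relIndex (Subgroup.normalizer (S : Set G))) ∈ S := by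
  have h1 : (QuotientGroup.mk (⟨g, hg⟩ : ↥(Subgroup.normalizer (S : Set G))) :
      ↥(Subgroup.normalizer (S : Set G)) ⧸ S.subgroupOf (Subgroup.normalizer (S : Set G))) ^
      (S.relIndex (Subgroup.normalizer (S : Set G))) = 1 := by
    have h2 : S.relIndex (Subgroup.normalizer (S : Set G)) =
        Nat.card (↥(Subgroup.normalizer (S : Set G)) ⧸ S.subgroupOf (Subgroup.normalizer (S : Set G))) := by
      rw [Subgroup.relIndex, Subgroup.index_eq_card]
    rw [h2]
    exact pow_card_eq_one'
  rw [← QuotientGroup.mk_pow, QuotientGroup.eq_one_iff, Subgroup.mem_subgroupOf] at h1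
  simpa using h1

theorem dec1 : ∀ w : Multiplicative (ZMod 2) × DihedralGroup 4,
    (∀ v : Multiplicative (ZMod 2) × DihedralGroup 4, v * w = w * v) →
    w = 1 ∨ w = (Multiplicative.ofAdd 1, 1) ∨ w = (1, r 2) ∨ w = (Multiplicative.ofAdd 1, r 2) := by
  decide

theorem dec2 : ∀ w : Multiplicative (ZMod 2) × DihedralGroup 4, w * w = 1 ∨ w * w = (1, r 2) := by
  decide

theorem dec3 : ∀ v : Multiplicative (ZMod 2) × DihedralGroup 4,
    v * (Multiplicative.ofAdd 1, 1) = (Multiplicative.ofAdd 1, 1) * v := by
  decide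

theorem dec4 : ((1 : Multiplicative (ZMod 2)), (r 1 : DihedralGroup 4)) * (1, r 1) = (1, r 2) := by
  decide

theorem dec5 : ((1 : Multiplicative (ZMod 2)), (r 2 : DihedralGroup 4)) ≠ 1 := by decide

theorem dec6 : ((Multiplicative.ofAdd 1 : Multiplicative (ZMod 2)), (1 : DihedralGroup 4)) ≠ (1, r 2) := by
  decide

theorem dec7 : ((Multiplicative.ofAdd 1 : Multiplicative (ZMod 2)), (1 : DihedralGroup 4)) ≠ 1 := by
  decide

theorem dec8 : ((1 : Multiplicative (ZMod 2)), (r 2 : DihedralGroup 4)) * (1, r 2) = 1 := by decide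

theorem dec9 : ((Multiplicative.ofAdd 1 : Multiplicative (ZMod 2)), (1 : DihedralGroup 4)) *
    (Multiplicative.ofAdd 1, 1) = 1 := by decide

theorem dec10 : ((Multiplicative.ofAdd 1 : Multiplicative (ZMod 2)), (1 : DihedralGroup 4)) *
    (1, r 2) = (Multiplicative.ofAdd 1, r 2) := by decide

theorem result {G : Type*} [Group G] [Finite G] (S : Sylow 2 G) (hS : Nonempty (↥(S : Subgroup G) ≃* Multiplicative (ZMod 2) × DihedralGroup 4)) : ∃ H : Subgroup G, H.index = 2 := by
  classical
  obtain ⟨e⟩ := hS
  have he1 : e 1 = 1 := e.map_one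
  rcases Cfsg.Agent.S2872.result S with h1 | h2 | h3
  · exact exists_index_two h1
  · exfalso
    have hz : (e.symm (Multiplicative.ofAdd 1, 1) : G) ∈
        Cfsg.omegaOne 2 ((S : Subgroup G) ⊓ Subgroup.centralizer ((S : Subgroup G) : Set G)) := by
      apply Subgroup.subset_closure
      refine ⟨Subgroup.mem_inf.mpr ⟨(e.symm _).2, ?_⟩, ?_⟩
      · rw [Subgroup.mem_centralizer_iff]
        intro s hs
        have h4 : (⟨s, hs⟩ : ↥(S : Subgroup G)) * e.symm (Multiplicative.ofAdd 1, 1) =
            e.symm (Multiplicative.ofAdd 1, 1) * ⟨s, hs⟩ := by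
          apply e.injective
          rw [map_mul, map_mul, e.apply_symm_apply]
          exact dec3 _
        exact congrArg Subtype.val h4
      · have h4 : (e.symm (Multiplicative.ofAdd 1, 1)) ^ 2 = (1 : ↥(S : Subgroup G)) := by
          apply e.injective
          rw [pow_two, e.map_mul, e.apply_symm_apply, he1]
          exact dec9
        have h5 := congrArg Subtype.val h4
        simpa using h5
    obtain ⟨y, hy, hyz⟩ := h2 hz
    have hy' : y = e.symm (Multiplicative.ofAdd 1, 1) := Subtype.ext hyz
    let φ : ↥(S : Subgroup G) →* Multiplicative (ZMod 2) :=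
      (MonoidHom.fst _ _).comp e.toMonoidHom
    have hφs : Function.Surjective φ := by
      intro u
      refine ⟨e.symm (u, 1), ?_⟩
      show (e (e.symm (u, 1))).1 = u
      rw [e.apply_symm_apply]
    have hidx : φ.ker.index = 2 := by
      rw [Subgroup.index_ker, MonoidHom.range_eq_top.mpr hφs, Subgroup.card_top]
      simp
    have hco : IsCoatom φ.ker := Cfsg.Agent.S3015.coatom_of_prime_index _ (by rw [hidx]; exact Nat.prime_two)
    have hyk := frattini_le_coatom hco hy
    rw [MonoidHom.mem_ker, hy'] at hyk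
    have h6 : (e (e.symm (Multiplicative.ofAdd 1, 1))).1 = (1 : Multiplicative (ZMod 2)) := hyk
    rw [e.apply_symm_apply] at h6
    exact absurd h6 (by decide)
  · exfalso
    obtain ⟨g, hg, z₁, hz₁, hne⟩ := h3
    apply hne
    have hgS : ∀ s : G, s ∈ (S : Subgroup G) → g * s * g⁻¹ ∈ (S : Subgroup G) := fun s hs =>
      (Subgroup.mem_normalizer_iff.mp hg s).mp hs
    have hgS' : ∀ s : G, s ∈ (S : Subgroup G) → g⁻¹ * s * g ∈ (S : Subgroup G) := by
      intro s hs
      have := (Subgroup.mem_normalizer_iff.mp (inv_mem hg) s).mp hs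
      simpa using this
    have hcen : ∀ s : ↥(S : Subgroup G), s * e.symm (Multiplicative.ofAdd 1, 1) =
        e.symm (Multiplicative.ofAdd 1, 1) * s := by
      intro s
      apply e.injective
      rw [map_mul, map_mul, e.apply_symm_apply]
      exact dec3 _
    have hcls : ∀ w : ↥(S : Subgroup G), (∀ v : ↥(S : Subgroup G), v * w = w * v) →
        w = 1 ∨ w = e.symm (Multiplicative.ofAdd 1, 1) ∨ w = e.symm (1, r 2) ∨
          w = e.symm (Multiplicative.ofAdd 1, r 2) := by
      intro w hw
      have h4 := dec1 (e w) (by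
        intro v
        have h5 := hw (e.symm v)
        have h6 := congrArg e h5
        rw [map_mul, map_mul, e.apply_symm_apply] at h6
        exact h6)
      rcases h4 with h4 | h4 | h4 | h4
      · left; apply e.injective; rw [h4, map_one]
      · right; left; apply e.injective; rw [h4, e.apply_symm_apply]
      · right; right; left; apply e.injective; rw [h4, e.apply_symm_apply]
      · right; right; right; apply e.injective; rw [h4, e.apply_symm_apply]
    have hsq : ∀ w : ↥(S : Subgroup G), w * w = 1 ∨ w * w = e.symm (1, r 2) := by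
      intro w
      rcases dec2 (e w) with h4 | h4
      · left; apply e.injective; rw [map_mul, h4, map_one]
      · right; apply e.injective; rw [map_mul, h4, e.apply_symm_apply]
    have hc1 : (e.symm (1, r 2) : ↥(S : Subgroup G)) ≠ 1 := by
      intro h4
      have h5 := congrArg e h4
      rw [e.apply_symm_apply, map_one] at h5
      exact dec5 h5
    have hc2 : (e.symm (1, r 2) : ↥(S : Subgroup G)) * e.symm (1, r 2) = 1 := by
      apply e.injective
      rw [map_mul, e.apply_symm_apply, map_one]
      exact dec8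
    have hz1 : (e.symm (Multiplicative.ofAdd 1, 1) : ↥(S : Subgroup G)) ≠ 1 := by
      intro h4
      have h5 := congrArg e h4
      rw [e.apply_symm_apply, he1] at h5
      exact dec7 h5
    have hzc : (e.symm (Multiplicative.ofAdd 1, 1) : ↥(S : Subgroup G)) ≠ e.symm (1, r 2) := by
      intro h4
      have h5 := congrArg e h4
      rw [e.apply_symm_apply, e.apply_symm_apply] at h5
      exact dec6 h5
    have hzc' : (e.symm (Multiplicative.ofAdd 1, r 2) : ↥(S : Subgroup G)) =
        e.symm (Multiplicative.ofAdd 1, 1) * e.symm (1, r 2) := by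
      apply e.injective
      rw [map_mul, e.apply_symm_apply, e.apply_symm_apply, e.apply_symm_apply]
      exact dec10.symm
    have ht : (e.symm (1, r 1) : ↥(S : Subgroup G)) * e.symm (1, r 1) = e.symm (1, r 2) := by
      apply e.injective
      rw [map_mul, e.apply_symm_apply, e.apply_symm_apply]
      exact dec4
    have hgc : g * (e.symm (1, r 2) : G) * g⁻¹ = (e.symm (1, r 2) : G) := by
      have h4 : (⟨g * (e.symm (1, r 1) : G) * g⁻¹, hgS _ (e.symm (1, r 1)).2⟩ : ↥(S : Subgroup G)) *
          ⟨g * (e.symm (1, r 1) : G) * g⁻¹, hgS _ (e.symm (1, r 1)).2⟩ =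
          ⟨g * (e.symm (1, r 2) : G) * g⁻¹, hgS _ (e.symm (1, r 2)).2⟩ := by
        apply Subtype.ext
        have h5 := congrArg Subtype.val ht
        simp only [Subgroup.coe_mul] at h5 ⊢
        rw [← h5]; group
      rcases hsq ⟨g * (e.symm (1, r 1) : G) * g⁻¹, hgS _ (e.symm (1, r 1)).2⟩ with h5 | h5
      · exfalso
        rw [h4] at h5
        have h6 := congrArg Subtype.val h5
        simp only [Subgroup.coe_one] at h6
        apply hc1
        apply Subtype.ext
        simp only [Subgroup.coe_one]
        calc (e.symm (1, r 2) : G) = g⁻¹ * (g * (e.symm (1, r 2) : G) * g⁻¹) * g := by group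
          _ = 1 := by rw [h6]; group
      · rw [h4] at h5
        exact congrArg Subtype.val h5
    have hgzcen : ∀ v : ↥(S : Subgroup G),
        v * ⟨g * (e.symm (Multiplicative.ofAdd 1, 1) : G) * g⁻¹, hgS _ (e.symm (Multiplicative.ofAdd 1, 1)).2⟩ =
        ⟨g * (e.symm (Multiplicative.ofAdd 1, 1) : G) * g⁻¹, hgS _ (e.symm (Multiplicative.ofAdd 1, 1)).2⟩ * v := by
      intro v
      apply Subtype.ext
      have h4 := congrArg Subtype.val (hcen ⟨g⁻¹ * (v : G) * g, hgS' _ v.2⟩)
      simp only [Subgroup.coe_mul] at h4 ⊢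
      calc (v : G) * (g * (e.symm (Multiplicative.ofAdd 1, 1) : G) * g⁻¹)
          = g * (g⁻¹ * (v : G) * g * (e.symm (Multiplicative.ofAdd 1, 1) : G)) * g⁻¹ := by group
        _ = g * ((e.symm (Multiplicative.ofAdd 1, 1) : G) * (g⁻¹ * (v : G) * g)) * g⁻¹ := by rw [h4]
        _ = _ := by group
    have hgz : g * (e.symm (Multiplicative.ofAdd 1, 1) : G) * g⁻¹ = (e.symm (Multiplicative.ofAdd 1, 1) : G) := by
      rcases hcls _ hgzcen with h4 | h4 | h4 | h4
      · exfalso
        have h6 := congrArg Subtype.val h4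
        simp only [Subgroup.coe_one] at h6
        apply hz1
        apply Subtype.ext
        simp only [Subgroup.coe_one]
        calc (e.symm (Multiplicative.ofAdd 1, 1) : G)
            = g⁻¹ * (g * (e.symm (Multiplicative.ofAdd 1, 1) : G) * g⁻¹) * g := by group
          _ = 1 := by rw [h6]; group
      · exact congrArg Subtype.val h4
      · exfalso
        have h6 := congrArg Subtype.val h4
        simp only at h6
        apply hzc
        apply Subtype.ext
        calc (e.symm (Multiplicative.ofAdd 1, 1) : G)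
            = g⁻¹ * (g * (e.symm (Multiplicative.ofAdd 1, 1) : G) * g⁻¹) * g := by group
          _ = g⁻¹ * (e.symm (1, r 2) : G) * g := by rw [h6]
          _ = g⁻¹ * (g * (e.symm (1, r 2) : G) * g⁻¹) * g := by rw [hgc]
          _ = (e.symm (1, r 2) : G) := by group
      · have h6 := congrArg Subtype.val h4
        rw [hzc'] at h6
        simp only [Subgroup.coe_mul] at h6
        have hg2 : g ^ 2 * (e.symm (Multiplicative.ofAdd 1, 1) : G) * (g ^ 2)⁻¹ =
            (e.symm (Multiplicative.ofAdd 1, 1) : G) := by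
          have hcc := congrArg Subtype.val hc2
          simp only [Subgroup.coe_mul, Subgroup.coe_one] at hcc
          calc g ^ 2 * (e.symm (Multiplicative.ofAdd 1, 1) : G) * (g ^ 2)⁻¹
              = g * (g * (e.symm (Multiplicative.ofAdd 1, 1) : G) * g⁻¹) * g⁻¹ := by
                simp only [pow_two, mul_inv_rev, mul_assoc]
            _ = g * ((e.symm (Multiplicative.ofAdd 1, 1) : G) * (e.symm (1, r 2) : G)) * g⁻¹ := by rw [h6]
            _ = (g * (e.symm (Multiplicative.ofAdd 1, 1) : G) * g⁻¹) * (g * (e.symm (1, r 2) : G) * g⁻¹) := by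
                group
            _ = (e.symm (Multiplicative.ofAdd 1, 1) : G) * (e.symm (1, r 2) : G) * (e.symm (1, r 2) : G) := by
                rw [h6, hgc]
            _ = (e.symm (Multiplicative.ofAdd 1, 1) : G) := by rw [mul_assoc, hcc, mul_one]
        have hodd : Odd ((S : Subgroup G).relIndex (Subgroup.normalizer ((S : Subgroup G) : Set G))) := by
          have h7 := Subgroup.relIndex_mul_index (Subgroup.le_normalizer (H := (S : Subgroup G)))
          have h8 : Odd (S : Subgroup G).index := by
            rw [← Nat.not_even_iff_odd, even_iff_two_dvd]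
            exact S.not_dvd_index
          rw [← h7] at h8
          exact (Nat.odd_mul.mp h8).1
        obtain ⟨k, hk⟩ := hodd
        have hgm := pow_relIndex_mem (S : Subgroup G) g hg
        rw [hk] at hgm
        have h9 : g ^ (2 * k + 1) ∈ Subgroup.centralizer ({(e.symm (Multiplicative.ofAdd 1, 1) : G)} : Set G) := by
          rw [Subgroup.mem_centralizer_iff]
          intro y hy
          rw [Set.mem_singleton_iff] at hy
          subst hy
          exact (congrArg Subtype.val (hcen ⟨_, hgm⟩)).symm
        have h10 : g ^ 2 ∈ Subgroup.centralizer ({(e.symm (Multiplicative.ofAdd 1, 1) : G)} : Set G) := by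
          rw [Subgroup.mem_centralizer_iff]
          intro y hy
          rw [Set.mem_singleton_iff] at hy
          subst hy
          calc (e.symm (Multiplicative.ofAdd 1, 1) : G) * g ^ 2
              = (g ^ 2 * (e.symm (Multiplicative.ofAdd 1, 1) : G) * (g ^ 2)⁻¹)⁻¹⁻¹ * g ^ 2 := by
                rw [hg2, inv_inv]
            _ = g ^ 2 * (e.symm (Multiplicative.ofAdd 1, 1) : G) := by group
        have h11 : g ∈ Subgroup.centralizer ({(e.symm (Multiplicative.ofAdd 1, 1) : G)} : Set G) := by
          have h12 := mul_mem h9 (inv_mem (pow_mem h10 k))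
          have e1 : g ^ (2 * k + 1) * ((g ^ 2) ^ k)⁻¹ = g := by
            rw [← pow_mul, pow_succ]; group
          rwa [e1] at h12
        have h13 := Subgroup.mem_centralizer_iff.mp h11 _ rfl
        calc g * (e.symm (Multiplicative.ofAdd 1, 1) : G) * g⁻¹
            = (e.symm (Multiplicative.ofAdd 1, 1) : G) * g * g⁻¹ := by rw [h13]
          _ = _ := by group
    have hle : Cfsg.omegaOne 2 ((S : Subgroup G) ⊓ Subgroup.centralizer ((S : Subgroup G) : Set G)) ≤
        Subgroup.centralizer ({g} : Set G) := by
      unfold Cfsg.omegaOne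
      rw [Subgroup.closure_le]
      rintro x ⟨hx, _⟩
      have hxS := (Subgroup.mem_inf.mp hx).1
      have hxC := (Subgroup.mem_inf.mp hx).2
      have hxc : ∀ v : ↥(S : Subgroup G), v * ⟨x, hxS⟩ = ⟨x, hxS⟩ * v := by
        intro v
        apply Subtype.ext
        exact Subgroup.mem_centralizer_iff.mp hxC v v.2
      have key : g * x * g⁻¹ = x := by
        rcases hcls _ hxc with h4 | h4 | h4 | h4
        · have h5 := congrArg Subtype.val h4
          simp only [Subgroup.coe_one] at h5
          rw [h5]; group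
        · have h5 := congrArg Subtype.val h4
          simp only at h5
          rw [h5]; exact hgz
        · have h5 := congrArg Subtype.val h4
          simp only at h5
          rw [h5]; exact hgc
        · have h5 := congrArg Subtype.val h4
          rw [hzc'] at h5
          simp only [Subgroup.coe_mul] at h5
          rw [h5]
          calc g * ((e.symm (Multiplicative.ofAdd 1, 1) : G) * (e.symm (1, r 2) : G)) * g⁻¹
              = (g * (e.symm (Multiplicative.ofAdd 1, 1) : G) * g⁻¹) * (g * (e.symm (1, r 2) : G) * g⁻¹) := by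
                group
            _ = _ := by rw [hgz, hgc]
      rw [SetLike.mem_coe, Subgroup.mem_centralizer_iff]
      intro y hy
      rw [Set.mem_singleton_iff] at hy
      subst hy
      calc y * x = (y * x * y⁻¹) * y := by group
        _ = x * y := by rw [key]
    have h14 := Subgroup.mem_centralizer_iff.mp (hle hz₁) g rfl
    calc g * z₁ * g⁻¹ = z₁ * g * g⁻¹ := by rw [h14]
      _ = z₁ := by group

end Cfsg.Agent.S2911
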