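import Cfsg.Statements.S2925
import Mathlib
import Cfsg.Agent.Lib.Helper2.Comp
import Cfsg.Agent.Lib.Helper5.SylCtl
import Cfsg.Agent.S0542

set_option autoImplicit false
open Cfsg

namespace Cfsg.Agent.S2925

theorem card_sylow_inf_subnormal {G : Type*} [Group G] [Finite G] {p : ℕ} [Fact p.Prime]
    (T : Sylow p G) (K : Subgroup G) (hK : K.IsSubnormal) :
    Nat.card ↥((T : Subgroup G) ⊓ K) = p ^ (Nat.card K).factorization p := by
  induction hK with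
  | top =>
    rw [inf_top_eq, Subgroup.card_top]
    exact T.card_eq_multiplicity
  | step H K hHK hKsn hn ih =>
    have h2 : Nat.card ↥(((T : Subgroup G) ⊓ K).subgroupOf K) =
        p ^ (Nat.card ↥K).factorization p := by
      rw [Nat.card_congr (Subgroup.subgroupOfEquivOfLe inf_le_right).toEquiv]; exact ih
    haveI := hn
    have h3 := Cfsg.Agent.S0542.card_sylow_inf_normal (Sylow.ofCard _ h2) (H.subgroupOf K)
    rw [Sylow.coe_ofCard] at h3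
    have e1 : ((T : Subgroup G) ⊓ K).subgroupOf K ⊓ H.subgroupOf K =
        ((T : Subgroup G) ⊓ H).subgroupOf K := by
      ext x
      simp only [Subgroup.mem_inf, Subgroup.mem_subgroupOf]
      constructor
      · rintro ⟨⟨h1, -⟩, h2⟩; exact ⟨h1, h2⟩
      · rintro ⟨h1, h2⟩; exact ⟨⟨h1, x.2⟩, h2⟩
    rw [e1, Nat.card_congr (Subgroup.subgroupOfEquivOfLe (inf_le_right.trans hHK)).toEquiv,
      Nat.card_congr (Subgroup.subgroupOfEquivOfLe hHK).toEquiv] at h3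
    exact h3

theorem result {X : Type*} [Group X] [Finite X] (K : Subgroup X) (hK : Cfsg.IsComponent K) (T : Sylow 2 X) (Y : Subgroup X) (hYT : Y ≤ (T : Subgroup X)) (hYn : (Y.subgroupOf (T : Subgroup X)).Normal) (hYab : IsMulCommutative ↥Y) (hnot : ¬ Y ≤ Subgroup.normalizer (K : Set X)) (P : Sylow 2 (↥K ⧸ Subgroup.center ↥K)) : IsMulCommutative ↥(P : Subgroup (↥K ⧸ Subgroup.center ↥K)) := by
  classical
  obtain ⟨hKsn, hKq⟩ := hK
  have hex : ∃ y ∈ Y, y ∉ Subgroup.normalizer (K : Set X) := by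
    by_contra h
    push Not at h
    exact hnot (fun y hy => h y hy)
  obtain ⟨y, hyY, hyN⟩ := hex
  have hK' : Cfsg.IsComponent (K.map (MulAut.conj y).toMonoidHom) :=
    Cfsg.Agent.Lib.Helper2.Comp.component_conj ⟨hKsn, hKq⟩ y
  have hne : K ≠ K.map (MulAut.conj y).toMonoidHom := by
    intro h
    exact hyN (Subgroup.mem_normalizer_iff_map_conj_eq.2 h.symm)
  have hcomm := Cfsg.Agent.Lib.Helper2.Comp.components_comm ⟨hKsn, hKq⟩ hK' hne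
  have hcomm' : ∀ a ∈ K, ∀ b ∈ K, a * (y * b * y⁻¹) = (y * b * y⁻¹) * a := by
    intro a ha b hb
    have h1 := Subgroup.commutator_eq_bot_iff_le_centralizer.1 hcomm
    have h2 := Subgroup.mem_centralizer_iff.1 (h1 ha) (y * b * y⁻¹) ⟨b, hb, rfl⟩
    exact h2.symm
  have hc : ∀ t ∈ (T : Subgroup X), t * y * t⁻¹ * y⁻¹ ∈ Y := by
    intro t ht
    have h1 := hYn.conj_mem ⟨y, hYT hyY⟩ (Subgroup.mem_subgroupOf.2 hyY) ⟨t, ht⟩
    have h2 : t * y * t⁻¹ ∈ Y := Subgroup.mem_subgroupOf.1 h1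
    exact Y.mul_mem h2 (Y.inv_mem hyY)
  have hkey : ∀ s ∈ (T : Subgroup X) ⊓ K, ∀ s' ∈ (T : Subgroup X) ⊓ K, ∀ k ∈ K,
      k * (s⁻¹ * s'⁻¹ * s * s') = (s⁻¹ * s'⁻¹ * s * s') * k := by
    intro s hs s' hs' k hk
    obtain ⟨hsT, hsK⟩ := Subgroup.mem_inf.1 hs
    obtain ⟨hs'T, hs'K⟩ := Subgroup.mem_inf.1 hs'
    have h1 := hYab.is_comm.comm (⟨_, hc s hsT⟩ : Y) ⟨_, hc s' hs'T⟩
    have h2 : (s * y * s⁻¹ * y⁻¹) * (s' * y * s'⁻¹ * y⁻¹) =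
        (s' * y * s'⁻¹ * y⁻¹) * (s * y * s⁻¹ * y⁻¹) := congrArg Subtype.val h1
    have e1 : (s * y * s⁻¹ * y⁻¹) * (s' * y * s'⁻¹ * y⁻¹) =
        s * s' * (y * (s⁻¹ * s'⁻¹) * y⁻¹) := by
      have h3 := hcomm' s' hs'K s⁻¹ (K.inv_mem hsK)
      calc (s * y * s⁻¹ * y⁻¹) * (s' * y * s'⁻¹ * y⁻¹)
          = s * ((y * s⁻¹ * y⁻¹) * s') * (y * s'⁻¹ * y⁻¹) := by group
        _ = s * (s' * (y * s⁻¹ * y⁻¹)) * (y * s'⁻¹ * y⁻¹) := by rw [h3]
        _ = s * s' * (y * (s⁻¹ * s'⁻¹) * y⁻¹) := by group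
    have e2 : (s' * y * s'⁻¹ * y⁻¹) * (s * y * s⁻¹ * y⁻¹) =
        s' * s * (y * (s'⁻¹ * s⁻¹) * y⁻¹) := by
      have h3 := hcomm' s hsK s'⁻¹ (K.inv_mem hs'K)
      calc (s' * y * s'⁻¹ * y⁻¹) * (s * y * s⁻¹ * y⁻¹)
          = s' * ((y * s'⁻¹ * y⁻¹) * s) * (y * s⁻¹ * y⁻¹) := by group
        _ = s' * (s * (y * s'⁻¹ * y⁻¹)) * (y * s⁻¹ * y⁻¹) := by rw [h3]
        _ = s' * s * (y * (s'⁻¹ * s⁻¹) * y⁻¹) := by group
    rw [e1, e2] at h2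
    have e3 : s⁻¹ * s'⁻¹ * s * s' = y * (s'⁻¹ * s⁻¹ * s' * s) * y⁻¹ := by
      have h4 : (s' * s)⁻¹ * (s * s' * (y * (s⁻¹ * s'⁻¹) * y⁻¹)) *
          (y * (s⁻¹ * s'⁻¹) * y⁻¹)⁻¹ =
          (s' * s)⁻¹ * (s' * s * (y * (s'⁻¹ * s⁻¹) * y⁻¹)) *
          (y * (s⁻¹ * s'⁻¹) * y⁻¹)⁻¹ := by rw [h2]
      calc s⁻¹ * s'⁻¹ * s * s'
          = (s' * s)⁻¹ * (s * s' * (y * (s⁻¹ * s'⁻¹) * y⁻¹)) *
            (y * (s⁻¹ * s'⁻¹) * y⁻¹)⁻¹ := by group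
        _ = (s' * s)⁻¹ * (s' * s * (y * (s'⁻¹ * s⁻¹) * y⁻¹)) *
            (y * (s⁻¹ * s'⁻¹) * y⁻¹)⁻¹ := h4
        _ = y * (s'⁻¹ * s⁻¹ * s' * s) * y⁻¹ := by group
    rw [e3]
    exact hcomm' k hk _
      (K.mul_mem (K.mul_mem (K.mul_mem (K.inv_mem hs'K) (K.inv_mem hsK)) hs'K) hsK)
  have hcard := card_sylow_inf_subnormal T K hKsn
  have h2 : Nat.card ↥(((T : Subgroup X) ⊓ K).subgroupOf K) =
      2 ^ (Nat.card ↥K).factorization 2 := by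
    rw [Nat.card_congr (Subgroup.subgroupOfEquivOfLe inf_le_right).toEquiv]; exact hcard
  obtain ⟨Q, hQ⟩ : ∃ Q : Sylow 2 ↥K,
      (Q : Subgroup ↥K) = ((T : Subgroup X) ⊓ K).subgroupOf K :=
    ⟨Sylow.ofCard _ h2, Sylow.coe_ofCard _ h2⟩
  have hsurj : Function.Surjective (QuotientGroup.mk' (Subgroup.center ↥K)) :=
    QuotientGroup.mk'_surjective _
  obtain ⟨g, hg⟩ := MulAction.exists_smul_eq (↥K ⧸ Subgroup.center ↥K)
    (Q.mapSurjective hsurj) P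
  have hP : (P : Subgroup (↥K ⧸ Subgroup.center ↥K)) =
      ((Q : Subgroup ↥K).map (QuotientGroup.mk' (Subgroup.center ↥K))).map
        (MulAut.conj g).toMonoidHom := by
    rw [← hg, Cfsg.Agent.Lib.Helper5.SylCtl.sylow_smul_coe, Sylow.coe_mapSurjective]
  refine ⟨⟨fun a b => ?_⟩⟩
  apply Subtype.ext
  have hPle := le_of_eq hP
  have ha := hPle a.2
  have hb := hPle b.2
  obtain ⟨_, ⟨a', ha', rfl⟩, hae⟩ := ha
  obtain ⟨_, ⟨b', hb', rfl⟩, hbe⟩ := hb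
  have ha'' : a' ∈ ((T : Subgroup X) ⊓ K).subgroupOf K := by rw [← hQ]; exact ha'
  have hb'' : b' ∈ ((T : Subgroup X) ⊓ K).subgroupOf K := by rw [← hQ]; exact hb'
  have hab : (QuotientGroup.mk' (Subgroup.center ↥K)) a' *
      (QuotientGroup.mk' (Subgroup.center ↥K)) b' =
      (QuotientGroup.mk' (Subgroup.center ↥K)) b' *
      (QuotientGroup.mk' (Subgroup.center ↥K)) a' := by
    rw [← map_mul, ← map_mul]
    apply (QuotientGroup.eq).2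
    rw [Subgroup.mem_center_iff]
    intro k
    apply Subtype.ext
    have h5 := hkey (b' : X) (Subgroup.mem_subgroupOf.1 hb'') (a' : X)
      (Subgroup.mem_subgroupOf.1 ha'') (k : X) k.2
    show (k : X) * (((a' : X) * (b' : X))⁻¹ * ((b' : X) * (a' : X))) =
      (((a' : X) * (b' : X))⁻¹ * ((b' : X) * (a' : X))) * (k : X)
    have e : ((a' : X) * (b' : X))⁻¹ * ((b' : X) * (a' : X)) =
        (b' : X)⁻¹ * (a' : X)⁻¹ * (b' : X) * (a' : X) := by group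
    rw [e]; exact h5
  show (a : ↥K ⧸ Subgroup.center ↥K) * (b : ↥K ⧸ Subgroup.center ↥K) =
    (b : ↥K ⧸ Subgroup.center ↥K) * (a : ↥K ⧸ Subgroup.center ↥K)
  rw [← hae, ← hbe, ← map_mul (MulEquiv.toMonoidHom (MulAut.conj g)),
    ← map_mul (MulEquiv.toMonoidHom (MulAut.conj g)), hab]

end Cfsg.Agent.S2925
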