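import Cfsg.Statements.S2968
import Mathlib
import Cfsg.Agent.Lib.Helper5.Isolated

set_option autoImplicit false
open Cfsg

namespace Cfsg.Agent.S2968

theorem result {G : Type*} [Group G] [Finite G] {p : ℕ} [Fact p.Prime] (P : Sylow p G) (x : G) (hxP : x ∈ (P : Subgroup G)) (hx : ∃ k : ℕ, orderOf x = p ^ k) (hiso : Cfsg.IsIsolated x) : x ∈ (P : Subgroup G) ⊓ Subgroup.centralizer ((P : Subgroup G) : Set G) ∧ Cfsg.IsStronglyClosed (Subgroup.zpowers x) (P : Subgroup G) ∧ Cfsg.IsWeaklyClosed (Subgroup.zpowers x) (P : Subgroup G) := by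
  have hcen := Cfsg.Agent.Lib.Helper5.Isolated.central_of_mem hiso (P : Subgroup G) P.isPGroup' hxP
  refine ⟨?_, ?_, ?_⟩
  · rw [Subgroup.mem_inf]
    refine ⟨hxP, ?_⟩
    rw [Subgroup.mem_centralizer_iff]
    intro r hr
    have h := hcen r hr
    exact mul_inv_eq_iff_eq_mul.mp h
  · refine ⟨by rw [Subgroup.zpowers_le]; exact hxP, ?_⟩
    intro y hy g hgy
    obtain ⟨k, rfl⟩ := Subgroup.mem_zpowers_iff.mp hy
    have hxD : x ∈ Subgroup.centralizer ({g * x ^ k * g⁻¹} : Set G) := by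
      rw [Subgroup.mem_centralizer_iff]
      intro h hh
      rw [Set.mem_singleton_iff.mp hh]
      have h := hcen _ hgy
      exact mul_inv_eq_iff_eq_mul.mp h
    have hwD : g * x * g⁻¹ ∈ Subgroup.centralizer ({g * x ^ k * g⁻¹} : Set G) := by
      rw [Subgroup.mem_centralizer_iff]
      intro h hh
      rw [Set.mem_singleton_iff.mp hh]
      have h3 : g * x ^ k * g⁻¹ = (g * x * g⁻¹) ^ k := by rw [conj_zpow]
      rw [h3]
      exact ((Commute.refl (g * x * g⁻¹)).zpow_left k).eq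
    obtain ⟨d, hd, hdx⟩ := Cfsg.Agent.Lib.Helper5.Isolated.exists_conj hiso hx _ hxD g hwD
    rw [Subgroup.mem_centralizer_iff] at hd
    have h1 := hd _ rfl
    have h2 : g * x ^ k * g⁻¹ = x ^ k := by
      calc g * x ^ k * g⁻¹ = d * (g * x ^ k * g⁻¹) * d⁻¹ := by rw [← h1]; group
        _ = (d * (g * x * g⁻¹) * d⁻¹) ^ k := by rw [conj_zpow, conj_zpow]
        _ = x ^ k := by rw [hdx]
    rw [h2]; exact hy
  · refine ⟨by rw [Subgroup.zpowers_le]; exact hxP, ?_⟩
    intro g hg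
    have hgx : g * x * g⁻¹ ∈ (P : Subgroup G) := hg ⟨x, Subgroup.mem_zpowers x, rfl⟩
    have h := Cfsg.Agent.Lib.Helper5.Isolated.conj_eq_of_mem hiso (P : Subgroup G) P.isPGroup' hxP g hgx
    rw [MonoidHom.map_zpowers]
    simp [h]

end Cfsg.Agent.S2968
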