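import Cfsg.Statements.S2969
import Mathlib
import Cfsg.Agent.Lib.Helper5.Isolated

set_option autoImplicit false
open Cfsg

namespace Cfsg.Agent.S2969

theorem result {G : Type*} [Group G] [Finite G] {p : ℕ} [Fact p.Prime] (x : G) (hx : ∃ k : ℕ, orderOf x = p ^ k) (hiso : Cfsg.IsIsolated x) : (∀ R : Subgroup G, IsPGroup p ↥R → x ∈ R → Subgroup.normalizer (R : Set G) ≤ Subgroup.centralizer ({x} : Set G)) ∧ (∀ H N : Subgroup G, N ≤ H → H ≤ Subgroup.normalizer (N : Set G) → x ∈ N → N ⊔ (H ⊓ Subgroup.centralizer ({x} : Set G)) = H) := by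
  refine ⟨?_, ?_⟩
  · intro R hR hxR n hn
    have h1 : n * x * n⁻¹ ∈ R := (Subgroup.mem_normalizer_iff.mp hn x).mp hxR
    have h2 := Cfsg.Agent.Lib.Helper5.Isolated.conj_eq_of_mem hiso R hR hxR n h1
    rw [Subgroup.mem_centralizer_iff]
    intro y hy
    rw [Set.mem_singleton_iff.mp hy]
    exact (mul_inv_eq_iff_eq_mul.mp h2).symm
  · intro H N hNH hHN hxN
    apply le_antisymm
    · exact sup_le hNH inf_le_left
    · intro h hh
      have h1 : h * x * h⁻¹ ∈ N := (Subgroup.mem_normalizer_iff.mp (hHN hh) x).mp hxN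
      obtain ⟨d, hd, hdx⟩ := Cfsg.Agent.Lib.Helper5.Isolated.exists_conj hiso hx N hxN h h1
      have h2 : d * h ∈ H ⊓ Subgroup.centralizer ({x} : Set G) := by
        rw [Subgroup.mem_inf]
        refine ⟨H.mul_mem (hNH hd) hh, ?_⟩
        rw [Subgroup.mem_centralizer_iff]
        intro y hy
        rw [Set.mem_singleton_iff.mp hy]
        have h3 : d * h * x * (d * h)⁻¹ = x := by
          calc d * h * x * (d * h)⁻¹ = d * (h * x * h⁻¹) * d⁻¹ := by group
            _ = x := hdx
        exact (mul_inv_eq_iff_eq_mul.mp h3).symm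
      have h4 : h = d⁻¹ * (d * h) := by group
      rw [h4]
      exact Subgroup.mul_mem_sup (N.inv_mem hd) h2

end Cfsg.Agent.S2969
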