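import Cfsg.Statements.S2970
import Mathlib
import Cfsg.Agent.Lib.Helper5.Isolated

set_option autoImplicit false
open Cfsg

namespace Cfsg.Agent.S2970

theorem commute_of_coprime_pows {G : Type*} [Group G] (n u : G) (a b : ℕ) (hab : a.Coprime b)
    (ha : Commute (n ^ a) u) (hb : Commute (n ^ b) u) : Commute n u := by
  have h := Nat.isCoprime_iff_coprime.mpr hab
  obtain ⟨s, t, hst⟩ := h
  have h1 : n = (n ^ a) ^ s * (n ^ b) ^ t := by
    rw [← zpow_natCast, ← zpow_natCast, ← zpow_mul, ← zpow_mul, ← zpow_add, mul_comm (a : ℤ),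
      mul_comm (b : ℤ), hst, zpow_one]
  rw [h1]
  exact (ha.zpow_left s).mul_left (hb.zpow_left t)

theorem pelem_mem_sylow {G : Type*} [Group G] [Finite G] {p : ℕ} [Fact p.Prime] (P : Sylow p G)
    (y : G) (hy : y ∈ Subgroup.normalizer ((P : Subgroup G) : Set G)) (b : ℕ)
    (hyb : y ^ p ^ b = 1) : y ∈ (P : Subgroup G) := by
  have hp : p.Prime := Fact.out
  have hK : IsPGroup p (Subgroup.zpowers y) := by
    obtain ⟨c, -, hc⟩ := (Nat.dvd_prime_pow hp).mp (orderOf_dvd_of_pow_eq_one hyb)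
    exact Cfsg.Agent.Lib.Helper5.Isolated.isPGroup_zpowers ⟨c, hc⟩
  have hle : Subgroup.zpowers y ≤ Subgroup.normalizer ((P : Subgroup G) : Set G) := by
    rw [Subgroup.zpowers_le]; exact hy
  have hsup := IsPGroup.to_sup_of_normal_left' P.isPGroup' hK hle
  have heq := P.is_maximal' hsup le_sup_left
  have h1 : y ∈ (P : Subgroup G) ⊔ Subgroup.zpowers y := (le_sup_right : Subgroup.zpowers y ≤ _) (Subgroup.mem_zpowers y)
  rw [heq] at h1
  exact h1

theorem result {G : Type*} [Group G] [Finite G] {p : ℕ} [Fact p.Prime] (x : G) (hx : ∃ k : ℕ, orderOf x = p ^ k) (hiso : Cfsg.IsIsolated x) : (∀ (N : Subgroup G) [N.Normal], Cfsg.IsIsolated (QuotientGroup.mk x : G ⧸ N)) ∧ (x ≠ 1 → (∀ P : Sylow p G, IsCyclic ↥(P : Subgroup G)) → Cfsg.HasNormalPComplement p G) := by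
  refine ⟨?_, ?_⟩
  · intro N hN q hq
    obtain ⟨g, rfl⟩ := QuotientGroup.mk_surjective q
    set D : Subgroup G := Subgroup.closure {x, g * x * g⁻¹} with hD
    have hxD : x ∈ D := Subgroup.subset_closure (by simp)
    have hwD : g * x * g⁻¹ ∈ D := Subgroup.subset_closure (by simp)
    obtain ⟨d, hd, hdx⟩ := Cfsg.Agent.Lib.Helper5.Isolated.exists_conj hiso hx D hxD g hwD
    have hle : D ≤ (Subgroup.centralizer ({(QuotientGroup.mk (g * x * g⁻¹) : G ⧸ N)} : Set (G ⧸ N))).comap (QuotientGroup.mk' N) := by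
      rw [hD, Subgroup.closure_le]
      intro y hy
      rcases hy with rfl | hy
      · rw [SetLike.mem_coe, Subgroup.mem_comap, Subgroup.mem_centralizer_iff]
        intro z hz
        rw [Set.mem_singleton_iff.mp hz]
        exact hq.eq.symm
      · rw [Set.mem_singleton_iff.mp hy, SetLike.mem_coe, Subgroup.mem_comap, Subgroup.mem_centralizer_iff]
        intro z hz
        rw [Set.mem_singleton_iff.mp hz]
        rfl
    have h1 := hle hd
    rw [Subgroup.mem_comap, Subgroup.mem_centralizer_iff] at h1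
    have h2 := h1 _ rfl
    have h3 : (QuotientGroup.mk (d * (g * x * g⁻¹) * d⁻¹) : G ⧸ N) = QuotientGroup.mk x := by rw [hdx]
    have h4 : (QuotientGroup.mk (d * (g * x * g⁻¹) * d⁻¹) : G ⧸ N) = QuotientGroup.mk (g * x * g⁻¹) := by
      have h5 : (QuotientGroup.mk (d * (g * x * g⁻¹) * d⁻¹) : G ⧸ N) = (QuotientGroup.mk' N d) * (QuotientGroup.mk (g * x * g⁻¹) : G ⧸ N) * (QuotientGroup.mk' N d)⁻¹ := rfl
      rw [h5, ← h2]
      group
    rw [h4] at h3
    exact h3
  · intro hx1 hcyc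
    have hp : p.Prime := Fact.out
    obtain ⟨P, hP⟩ := (Cfsg.Agent.Lib.Helper5.Isolated.isPGroup_zpowers hx).exists_le_sylow
    have hxP : x ∈ (P : Subgroup G) := hP (Subgroup.mem_zpowers x)
    obtain ⟨⟨u, hu⟩, hgen⟩ := (hcyc P).exists_generator
    have hgen' : ∀ y ∈ (P : Subgroup G), ∃ k : ℤ, u ^ k = y := by
      intro y hy
      obtain ⟨k, hk⟩ := Subgroup.mem_zpowers_iff.mp (hgen ⟨y, hy⟩)
      refine ⟨k, ?_⟩
      have h := congrArg Subtype.val hk
      simpa using h
    obtain ⟨e, he⟩ : ∃ e : ℕ, orderOf u = p ^ e := by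
      obtain ⟨e, he⟩ := (IsPGroup.iff_orderOf.mp P.isPGroup') ⟨u, hu⟩
      exact ⟨e, by rw [← he, Subgroup.orderOf_mk]⟩
    have hPN : (Subgroup.normalizer ((P : Subgroup G) : Set G)) ≤ Subgroup.centralizer ((P : Subgroup G) : Set G) := by
      intro n hn
      have hnu : n * u * n⁻¹ ∈ (P : Subgroup G) := (Subgroup.mem_normalizer_iff.mp hn u).mp hu
      obtain ⟨r, hr⟩ := hgen' _ hnu
      obtain ⟨t, ht⟩ := hgen' x hxP
      have hnx : n * x * n⁻¹ = x := Cfsg.Agent.Lib.Helper5.Isolated.conj_eq_of_mem hiso (P : Subgroup G) P.isPGroup' hxP n ((Subgroup.mem_normalizer_iff.mp hn x).mp hxP)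
      have h1 : u ^ (t * (r - 1)) = 1 := by
        have h0 : (n * u * n⁻¹) ^ t = u ^ t := by rw [conj_zpow, ht, hnx]
        rw [← hr, ← zpow_mul] at h0
        rw [mul_sub, mul_one, zpow_sub, mul_comm t r, h0]; group
      have h2 : ((p ^ e : ℕ) : ℤ) ∣ t * (r - 1) := by
        rw [← he]; exact orderOf_dvd_iff_zpow_eq_one.mpr h1
      have hpr : (p : ℤ) ∣ r - 1 := by
        by_contra hnd
        have hprime : Prime (p : ℤ) := Nat.prime_iff_prime_int.mp hp
        have hcop : IsCoprime (p : ℤ) (r - 1) := (hprime.coprime_iff_not_dvd).mpr hnd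
        have hcop2 : IsCoprime ((p : ℤ) ^ e) (r - 1) := hcop.pow_left
        have h3 : ((p : ℤ) ^ e) ∣ t := hcop2.dvd_of_dvd_mul_right (by exact_mod_cast h2)
        have h4 : u ^ t = 1 := by
          apply orderOf_dvd_iff_zpow_eq_one.mp
          rw [he]; exact_mod_cast h3
        exact hx1 (by rw [← ht, h4])
      have h5 : ((p : ℤ) ^ (e + 1)) ∣ r ^ p ^ e - 1 ^ p ^ e := dvd_sub_pow_of_dvd_sub hpr e
      have h6 : u ^ (r ^ p ^ e) = u := by
        have h7 : ((p ^ e : ℕ) : ℤ) ∣ r ^ p ^ e - 1 := by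
          push_cast
          have h := dvd_trans (pow_dvd_pow (p : ℤ) (Nat.le_succ e)) h5
          simpa using h
        have h8 : u ^ (r ^ p ^ e - 1) = 1 := by
          apply orderOf_dvd_iff_zpow_eq_one.mp; rw [he]; exact h7
        rw [zpow_sub, zpow_one] at h8
        exact mul_inv_eq_one.mp h8
      have hconj : ∀ k : ℕ, n ^ k * u * (n ^ k)⁻¹ = u ^ (r ^ k) := by
        intro k
        induction k with
        | zero => simp
        | succ k ih =>
          calc n ^ (k + 1) * u * (n ^ (k + 1))⁻¹ = n * (n ^ k * u * (n ^ k)⁻¹) * n⁻¹ := by rw [pow_succ']; group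
            _ = n * u ^ (r ^ k) * n⁻¹ := by rw [ih]
            _ = (n * u * n⁻¹) ^ (r ^ k) := by rw [conj_zpow]
            _ = u ^ (r ^ (k + 1)) := by rw [← hr, ← zpow_mul, pow_succ']
      have hc1 : Commute (n ^ p ^ e) u := by
        have h := hconj (p ^ e)
        rw [h6] at h
        exact mul_inv_eq_iff_eq_mul.mp h
      obtain ⟨b, m', hm', hnm⟩ := Nat.exists_eq_pow_mul_and_not_dvd (orderOf_pos n).ne' p hp.ne_one
      have hyP : n ^ m' ∈ (P : Subgroup G) := by
        apply pelem_mem_sylow P (n ^ m') (pow_mem hn m') b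
        rw [← pow_mul, mul_comm, ← hnm, pow_orderOf_eq_one]
      have hc2 : Commute (n ^ m') u := by
        obtain ⟨j, hj⟩ := hgen' _ hyP
        rw [← hj]
        exact (Commute.refl u).zpow_left j
      have hcop : (p ^ e).Coprime m' := Nat.Coprime.pow_left e ((Nat.Prime.coprime_iff_not_dvd hp).mpr hm')
      have hc := commute_of_coprime_pows n u (p ^ e) m' hcop hc1 hc2
      rw [Subgroup.mem_centralizer_iff]
      intro y hy
      obtain ⟨j, hj⟩ := hgen' y hy
      rw [← hj]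
      exact ((hc.zpow_right j).eq).symm
    exact ⟨P, (MonoidHom.transferSylow P hPN).ker, inferInstance, MonoidHom.ker_transferSylow_isComplement' P hPN⟩

end Cfsg.Agent.S2970
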