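import Cfsg.Statements.S2971
import Mathlib
import Cfsg.Agent.S2896
import Cfsg.Agent.S2910
import Cfsg.Agent.S0071
import Cfsg.Agent.Lib.Helper3.Core

set_option autoImplicit false
open Cfsg

namespace Cfsg.Agent.S2971

theorem uniq {G : Type*} [Group G] [Finite G] {p : ℕ} [Fact p.Prime] (hrk : Cfsg.PRankLE p 1 G)
    (x : G) (hx : orderOf x = p) (y : G) (hy : y ^ p = 1) (hxy : Commute y x) :
    y ∈ Subgroup.zpowers x := by
  obtain ⟨A, hAdef⟩ : ∃ A : Subgroup G, A = Subgroup.closure ({x, y} : Set G) := ⟨_, rfl⟩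
  have hxA : x ∈ A := by
    rw [hAdef]
    exact Subgroup.subset_closure (by simp)
  have hyA : y ∈ A := by
    rw [hAdef]
    exact Subgroup.subset_closure (by simp)
  have hA1 : A ≤ Subgroup.centralizer ({x, y} : Set G) := by
    rw [hAdef, Subgroup.closure_le]
    rintro z (rfl | rfl)
    · rw [SetLike.mem_coe, Subgroup.mem_centralizer_iff]
      rintro w (rfl | rfl)
      · rfl
      · exact hxy.eq
    · rw [SetLike.mem_coe, Subgroup.mem_centralizer_iff]
      rintro w (rfl | rfl)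
      · exact hxy.eq.symm
      · rfl
  have hA2 : A ≤ Subgroup.centralizer
      ((Subgroup.centralizer ({x, y} : Set G) : Subgroup G) : Set G) := by
    rw [hAdef, Subgroup.closure_le]
    intro z hz
    rw [SetLike.mem_coe, Subgroup.mem_centralizer_iff]
    intro w hw
    exact (Subgroup.mem_centralizer_iff.1 hw z hz).symm
  have hcomm : ∀ a ∈ A, ∀ b ∈ A, a * b = b * a := by
    intro a ha b hb
    exact (Subgroup.mem_centralizer_iff.1 (hA2 hb) a (hA1 ha))
  have hAc : IsMulCommutative ↥A := ⟨⟨fun a b => Subtype.ext (hcomm a a.2 b b.2)⟩⟩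
  have hxp : x ^ p = 1 := hx ▸ pow_orderOf_eq_one x
  have hAp : ∀ a ∈ A, a ^ p = 1 := by
    intro a ha
    have ha' := ha
    rw [hAdef] at ha'
    induction ha' using Subgroup.closure_induction with
    | mem z hz =>
      rcases hz with rfl | rfl
      · exact hxp
      · exact hy
    | one => simp
    | mul a b ha1 hb1 iha ihb =>
      have hab : Commute a b := hcomm a (hAdef ▸ ha1) b (hAdef ▸ hb1)
      rw [hab.mul_pow, iha (hAdef ▸ ha1), ihb (hAdef ▸ hb1), one_mul]
    | inv a ha1 iha => rw [inv_pow, iha (hAdef ▸ ha1), inv_one]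
  have hcard := hrk A hAc hAp
  rw [pow_one] at hcard
  have hle : Subgroup.zpowers x ≤ A := (Subgroup.zpowers_le).2 hxA
  have hcz : Nat.card (Subgroup.zpowers x) = p := by rw [Nat.card_zpowers, hx]
  have heq : Subgroup.zpowers x = A := Subgroup.eq_of_le_of_card_ge hle (by rw [hcz]; exact hcard)
  rw [heq]
  exact hyA

theorem result {G : Type*} [Group G] [Finite G] {p : ℕ} [Fact p.Prime] (hp : p ≠ 2) (hrk : Cfsg.PRankLE p 1 G) (x : G) (hx : orderOf x = p) (hiso : Cfsg.IsIsolated x) : Cfsg.InZStar p x := by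
  have hxp : x ^ p = 1 := hx ▸ pow_orderOf_eq_one x
  have hx1 : x ≠ 1 := by
    intro h
    rw [h, orderOf_one] at hx
    exact (Fact.out : p.Prime).one_lt.ne hx
  have hzp : IsPGroup p (Subgroup.zpowers x) := by
    apply IsPGroup.of_card (n := 1)
    rw [Nat.card_zpowers, hx, pow_one]
  obtain ⟨P, hP⟩ := hzp.exists_le_sylow
  have hxP : x ∈ (P : Subgroup G) := hP (Subgroup.mem_zpowers x)
  have hPne : (P : Subgroup G) ≠ ⊥ := by
    intro h
    rw [h, Subgroup.mem_bot] at hxP
    exact hx1 hxP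
  obtain ⟨t, htP, hto, htc⟩ := Cfsg.Agent.S2896.exists_central (P : Subgroup G) (P : Subgroup G)
    P.isPGroup' le_rfl hPne Subgroup.le_normalizer
  have htx : t ∈ Subgroup.zpowers x :=
    uniq hrk x hx t (hto ▸ pow_orderOf_eq_one t) (htc x hxP).symm
  have hzt : Subgroup.zpowers t = Subgroup.zpowers x := by
    apply Subgroup.eq_of_le_of_card_ge ((Subgroup.zpowers_le).2 htx)
    rw [Nat.card_zpowers, Nat.card_zpowers, hx, hto]
  have hxc : ∀ s ∈ (P : Subgroup G), s * x = x * s := by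
    intro s hs
    have h1 : x ∈ Subgroup.zpowers t := by
      rw [hzt]
      exact Subgroup.mem_zpowers x
    obtain ⟨k, hk⟩ := Subgroup.mem_zpowers_iff.1 h1
    rw [← hk]
    exact ((show Commute s t from htc s hs).zpow_right k).eq
  have hU : ∀ y ∈ (P : Subgroup G), y ^ p = 1 → y ∈ Subgroup.zpowers x := by
    intro y hy hyp
    exact uniq hrk x hx y hyp (hxc y hy)
  have key : ∀ Q : Subgroup G, Q ≤ (P : Subgroup G) → ∀ g ∈ Subgroup.normalizer (Q : Set G),
      Nat.Coprime (orderOf g) p → g ∈ Subgroup.centralizer (Q : Set G) := by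
    intro Q hQ g hg hcop
    rw [Subgroup.mem_centralizer_iff]
    intro q hq
    refine Cfsg.Agent.S2910.autA hp g (orderOf g) hcop (pow_orderOf_eq_one g) _ Q rfl
      (P.isPGroup'.to_le hQ) hg (fun y hy hyp => ?_) q hq
    by_cases hy1 : y = 1
    · rw [hy1]
      simp
    have hyx := hU y (hQ hy) hyp
    have hoy : orderOf y = p := orderOf_eq_prime hyp hy1
    have hzy : Subgroup.zpowers y = Subgroup.zpowers x := by
      apply Subgroup.eq_of_le_of_card_ge ((Subgroup.zpowers_le).2 hyx)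
      rw [Nat.card_zpowers, Nat.card_zpowers, hx, hoy]
    have hxQ : x ∈ Q := by
      have h0 : x ∈ Subgroup.zpowers y := by
        rw [hzy]
        exact Subgroup.mem_zpowers x
      exact (Subgroup.zpowers_le.2 hy) h0
    have hgx : g * x * g⁻¹ ∈ Q := (Subgroup.mem_normalizer_iff.1 hg x).1 hxQ
    have hgxp : (g * x * g⁻¹) ^ p = 1 := by
      rw [conj_pow, hxp]
      simp
    have h1 := hU _ (hQ hgx) hgxp
    have h2 : Commute x (g * x * g⁻¹) := by
      obtain ⟨k, hk⟩ := Subgroup.mem_zpowers_iff.1 h1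
      rw [← hk]
      exact (Commute.refl x).zpow_right k
    have h3 := hiso g h2
    have h4 : Commute x g := by
      have h5 : g * x = x * g := by
        calc g * x = (g * x * g⁻¹) * g := by group
          _ = x * g := by rw [h3]
      exact h5.symm
    obtain ⟨k, hk⟩ := Subgroup.mem_zpowers_iff.1 hyx
    rw [← hk]
    exact (h4.zpow_left k).eq
  obtain ⟨N, hN, hc⟩ := (Cfsg.Agent.S0071.result P).2 key
  have hNcop : (Nat.card N).Coprime p := by
    rw [← hc.index_eq_card]
    exact ((Nat.Prime.coprime_iff_not_dvd Fact.out).2 P.not_dvd_index).symm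
  have hNle : N ≤ Cfsg.pPrimeCore p G := Cfsg.Agent.Lib.Helper3.Core.le_pPrimeCore N hN hNcop
  intro g
  apply hNle
  have hg : g ∈ N ⊔ (P : Subgroup G) := by
    rw [hc.sup_eq_top]
    exact Subgroup.mem_top g
  obtain ⟨n, hn, t', ht', rfl⟩ := (Subgroup.mem_sup_of_normal_left (hs := hN)).1 hg
  have h5 : t' * x = x * t' := hxc t' ht'
  have e : n * t' * x * (n * t')⁻¹ * x⁻¹ = n * (x * n⁻¹ * x⁻¹) := by
    calc n * t' * x * (n * t')⁻¹ * x⁻¹ = n * (t' * x) * t'⁻¹ * n⁻¹ * x⁻¹ := by group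
      _ = n * (x * t') * t'⁻¹ * n⁻¹ * x⁻¹ := by rw [h5]
      _ = n * (x * n⁻¹ * x⁻¹) := by group
  rw [e]
  exact N.mul_mem hn (hN.conj_mem _ (N.inv_mem hn) x)

end Cfsg.Agent.S2971
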