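import Cfsg.Statements.S2972
import Mathlib
import Cfsg.Agent.Lib.Helper2.PComp
import Cfsg.Agent.Lib.Helper2.Local
import Cfsg.Agent.Lib.Helper2.CoprimeAct2
import Cfsg.Agent.Lib.Helper3.Core
import Cfsg.Agent.S2825
import Cfsg.Agent.S2925

set_option autoImplicit false
open Cfsg

namespace Cfsg.Agent.S2972

open Cfsg.Agent.Lib.Helper2

theorem eq_one_of_pow_of_coprime {W : Type*} [Group W] [Finite W] {p : ℕ}
    (hcop : (Nat.card W).Coprime p) (w : W) (j : ℕ) (hw : w ^ p ^ j = 1) : w = 1 := by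
  have h7 : orderOf w ∣ p ^ j := orderOf_dvd_of_pow_eq_one hw
  have h8 := orderOf_dvd_natCard w
  have h11 : (orderOf w).Coprime (p ^ j) :=
    Nat.Coprime.pow_right j (Nat.Coprime.coprime_dvd_left h8 hcop)
  exact orderOf_eq_one_iff.1 (Nat.Coprime.eq_one_of_dvd h11 h7)

theorem pgroup_of_center_index {K : Type*} [Group K] [Finite K] {p : ℕ} [Fact p.Prime]
    (hidx : ¬ p ∣ (Subgroup.center K).index) (hO : Cfsg.pPrimeCore p K = ⊥) : IsPGroup p K := by
  have hp : p.Prime := Fact.out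
  have hcop : (Nat.card ↥(MonoidHom.transferCenterPow K).ker).Coprime p := by
    rw [Nat.coprime_comm, Nat.Prime.coprime_iff_not_dvd hp]
    intro hd
    obtain ⟨y, hy⟩ := exists_prime_orderOf_dvd_card' p hd
    have h1 : (y : K) ^ (Subgroup.center K).index = 1 := by
      have h2 := y.2
      rw [MonoidHom.mem_ker] at h2
      have h3 := congrArg Subtype.val h2
      rw [MonoidHom.transferCenterPow_apply] at h3
      exact h3
    have h4 : orderOf (y : K) = p := by rw [Subgroup.orderOf_coe]; exact hy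
    have h5 : p ∣ (Subgroup.center K).index := by
      rw [← h4]; exact orderOf_dvd_of_pow_eq_one h1
    exact hidx h5
  have hle := Cfsg.Agent.Lib.Helper3.Core.le_pPrimeCore _ (MonoidHom.normal_ker _) hcop
  rw [hO] at hle
  have hinj : Function.Injective (MonoidHom.transferCenterPow K) := by
    rw [injective_iff_map_eq_one]
    intro k hk
    exact Subgroup.mem_bot.1 (hle (MonoidHom.mem_ker.2 hk))
  have hcomm : ∀ a b : K, a * b = b * a := by
    intro a b
    apply hinj
    rw [map_mul, map_mul]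
    apply Subtype.ext
    exact Subgroup.mem_center_iff.1 ((MonoidHom.transferCenterPow K) b).2 _
  intro k
  obtain ⟨a, m, hm, hkm⟩ := Cfsg.Agent.S2825.ppart hp k
  refine ⟨a, ?_⟩
  have hn : (Subgroup.zpowers (k ^ p ^ a)).Normal := by
    constructor
    intro n hn g
    have e : g * n * g⁻¹ = n := by rw [hcomm g n]; group
    rw [e]; exact hn
  have hcop2 : (Nat.card ↥(Subgroup.zpowers (k ^ p ^ a))).Coprime p := by
    rw [Nat.card_zpowers]
    have h1 : orderOf (k ^ p ^ a) ∣ m := orderOf_dvd_of_pow_eq_one hkm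
    exact Nat.Coprime.coprime_dvd_left h1 ((Nat.Prime.coprime_iff_not_dvd hp).2 hm).symm
  have hle2 := Cfsg.Agent.Lib.Helper3.Core.le_pPrimeCore _ hn hcop2
  rw [hO] at hle2
  exact Subgroup.mem_bot.1 (hle2 (Subgroup.mem_zpowers _))

theorem result {G : Type*} [Group G] [Finite G] {p : ℕ} [Fact p.Prime] (x : G) (hx : orderOf x = p) (hiso : Cfsg.IsIsolated x) (hnz : ¬ Cfsg.InZStar p x) (hmin : ∀ (H : Subgroup G) (hxH : x ∈ H), H ≠ ⊤ → Cfsg.InZStar p (⟨x, hxH⟩ : ↥H)) (hquot : ∀ (N : Subgroup G) [N.Normal], N ≠ ⊥ → Cfsg.InZStar p (QuotientGroup.mk x : G ⧸ N)) : IsSimpleGroup ↥(commutator G) ∧ ¬ IsMulCommutative ↥(commutator G) ∧ commutator G ⊔ Subgroup.zpowers x = ⊤ := by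
  classical
  have hp : p.Prime := Fact.out
  have hx1 : x ≠ 1 := by
    intro h
    rw [h, orderOf_one] at hx
    exact hp.one_lt.ne hx
  have hO : Cfsg.pPrimeCore p G = ⊥ := by
    by_contra hne
    haveI : (Cfsg.pPrimeCore p G).Normal := PComp.pPrimeCore_normal p
    have h1 := hquot (Cfsg.pPrimeCore p G) hne
    apply hnz
    intro g
    have h2 := h1 (QuotientGroup.mk g)
    rw [PComp.pPrimeCore_quotient_eq_bot p, Subgroup.mem_bot] at h2
    have h3 : ((g * x * g⁻¹ * x⁻¹ : G) : G ⧸ Cfsg.pPrimeCore p G) = 1 := h2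
    exact (QuotientGroup.eq_one_iff _).1 h3
  have hO' : ∀ (H : Subgroup G), H.IsSubnormal → ∀ h : ↥H, h ∈ Cfsg.pPrimeCore p ↥H → h = 1 := by
    intro H hH h hh
    rw [PComp.pPrimeCore_sub' p hH, hO] at hh
    rw [Subgroup.mem_subgroupOf, Subgroup.mem_bot] at hh
    exact Subtype.ext hh
  have hgen : ∀ X : Subgroup G, X.Normal → x ∈ X → X = ⊤ := by
    intro X hXn hxX
    by_contra hne
    have h1 := hmin X hxX hne
    have hcomm : ∀ h ∈ X, h * x = x * h := by
      intro h hh
      have h2 := hO' X hXn.isSubnormal _ (h1 ⟨h, hh⟩)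
      have h3 : h * x * h⁻¹ * x⁻¹ = 1 := congrArg Subtype.val h2
      calc h * x = (h * x * h⁻¹ * x⁻¹) * (x * h) := by group
        _ = x * h := by rw [h3, one_mul]
    apply hnz
    intro g
    have h4 : g * x * g⁻¹ ∈ X := hXn.conj_mem x hxX g
    have h5 := hiso g (hcomm _ h4).symm
    rw [h5, mul_inv_cancel]; exact Subgroup.one_mem _
  have hZ : Subgroup.center G = ⊥ := by
    by_contra hne
    have h1 := hquot (Subgroup.center G) hne
    obtain ⟨K, hKdef⟩ : ∃ K : Subgroup G,
        K = (Cfsg.pPrimeCore p (G ⧸ Subgroup.center G)).comap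
          (QuotientGroup.mk' (Subgroup.center G)) := ⟨_, rfl⟩
    have hKn : K.Normal := by rw [hKdef]; exact (PComp.pPrimeCore_normal p).comap _
    have hKp : IsPGroup p ↥K := by
      apply pgroup_of_center_index
      · intro hd
        have h2 : (Subgroup.center ↥K).index ∣ ((Subgroup.center G).subgroupOf K).index := by
          apply Subgroup.index_dvd_of_le
          intro k hk
          rw [Subgroup.mem_center_iff]
          intro g
          apply Subtype.ext
          exact Subgroup.mem_center_iff.1 (Subgroup.mem_subgroupOf.1 hk) (g : G)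
        have h3 : ((Subgroup.center G).subgroupOf K).index =
            Nat.card ↥(Cfsg.pPrimeCore p (G ⧸ Subgroup.center G)) := by
          show (Subgroup.center G).relIndex K = _
          have h4 := Subgroup.relIndex_comap (⊥ : Subgroup (G ⧸ Subgroup.center G))
            (QuotientGroup.mk' (Subgroup.center G)) K
          rw [MonoidHom.comap_bot, QuotientGroup.ker_mk', Subgroup.relIndex_bot_left] at h4
          rw [h4, hKdef, Subgroup.map_comap_eq_self_of_surjective
            (QuotientGroup.mk'_surjective _)]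
        rw [h3] at h2
        have h5 := Local.pPrimeCore_coprime (G := G ⧸ Subgroup.center G) p
        exact (Nat.Prime.coprime_iff_not_dvd hp).1 h5.symm (hd.trans h2)
      · rw [eq_bot_iff]
        intro k hk
        rw [Subgroup.mem_bot]
        exact hO' K hKn.isSubnormal k hk
    have hW : Cfsg.pPrimeCore p (G ⧸ Subgroup.center G) = ⊥ := by
      rw [eq_bot_iff]
      intro w hw
      obtain ⟨g, rfl⟩ := QuotientGroup.mk_surjective w
      have hgK : g ∈ K := by rw [hKdef]; exact Subgroup.mem_comap.2 hw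
      obtain ⟨j, hj⟩ := hKp ⟨g, hgK⟩
      have hj' : g ^ p ^ j = 1 := by
        have h2 := congrArg Subtype.val hj
        simpa only [Subgroup.coe_pow, Subgroup.coe_one] using h2
      have h6 : (QuotientGroup.mk g : G ⧸ Subgroup.center G) ^ p ^ j = 1 := by
        rw [← QuotientGroup.mk_pow, hj']; rfl
      have h7 := eq_one_of_pow_of_coprime
        (Local.pPrimeCore_coprime (G := G ⧸ Subgroup.center G) p)
        (⟨QuotientGroup.mk g, hw⟩ : ↥(Cfsg.pPrimeCore p (G ⧸ Subgroup.center G))) j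
        (by apply Subtype.ext; rw [Subgroup.coe_pow]; exact h6)
      rw [Subgroup.mem_bot]
      exact congrArg Subtype.val h7
    apply hnz
    intro g
    have h2 := h1 (QuotientGroup.mk g)
    rw [hW, Subgroup.mem_bot] at h2
    have h3 : ((g * x * g⁻¹ * x⁻¹ : G) : G ⧸ Subgroup.center G) = 1 := h2
    have h4 : g * x * g⁻¹ * x⁻¹ ∈ Subgroup.center G := (QuotientGroup.eq_one_iff _).1 h3
    have h5 : Commute x (g * x * g⁻¹) := by
      have h6 := Subgroup.mem_center_iff.1 h4 x
      show x * (g * x * g⁻¹) = (g * x * g⁻¹) * x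
      calc x * (g * x * g⁻¹) = (x * (g * x * g⁻¹ * x⁻¹)) * x := by group
        _ = ((g * x * g⁻¹ * x⁻¹) * x) * x := by rw [h6]
        _ = (g * x * g⁻¹) * x := by group
    rw [hiso g h5, mul_inv_cancel]; exact Subgroup.one_mem _
  have hxp : IsPGroup p (Subgroup.zpowers x) := by
    apply IsPGroup.of_card (n := 1)
    rw [Nat.card_zpowers, hx, pow_one]
  obtain ⟨P, hxP'⟩ := hxp.exists_le_sylow
  have hxP : x ∈ (P : Subgroup G) := hxP' (Subgroup.mem_zpowers x)
  have hxZ : ∀ u ∈ (P : Subgroup G), u * x = x * u := by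
    by_contra hcon
    push Not at hcon
    obtain ⟨u₀, hu₀P, hu₀⟩ := hcon
    obtain ⟨C, hCdef⟩ : ∃ C : Subgroup ↥(P : Subgroup G),
        C = (Subgroup.centralizer ({x} : Set G)).subgroupOf (P : Subgroup G) := ⟨_, rfl⟩
    have hClt : C < ⊤ := by
      rw [lt_top_iff_ne_top]
      intro h
      have h1 : (⟨u₀, hu₀P⟩ : ↥(P : Subgroup G)) ∈ C := by rw [h]; exact Subgroup.mem_top _
      rw [hCdef, Subgroup.mem_subgroupOf, Subgroup.mem_centralizer_iff] at h1
      exact hu₀ (h1 x (Set.mem_singleton x)).symm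
    haveI : Group.IsNilpotent ↥(P : Subgroup G) := P.2.isNilpotent
    have hnc := (Group.normalizerCondition_of_isNilpotent (G := ↥(P : Subgroup G))) C hClt
    obtain ⟨u, huN, huC⟩ := SetLike.exists_of_lt hnc
    have hxC : (⟨x, hxP⟩ : ↥(P : Subgroup G)) ∈ C := by
      rw [hCdef, Subgroup.mem_subgroupOf, Subgroup.mem_centralizer_iff]
      intro h hh
      rw [Set.mem_singleton_iff] at hh
      rw [hh]
    have h2 := (Subgroup.mem_normalizer_iff.1 huN ⟨x, hxP⟩).1 hxC
    rw [hCdef, Subgroup.mem_subgroupOf, Subgroup.mem_centralizer_iff] at h2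
    have h3 := h2 x (Set.mem_singleton x)
    have h4 : (u : G) * x * (u : G)⁻¹ = x := hiso (u : G) h3
    apply huC
    rw [hCdef, Subgroup.mem_subgroupOf, Subgroup.mem_centralizer_iff]
    intro h hh
    rw [Set.mem_singleton_iff] at hh
    rw [hh]
    calc x * (u : G) = ((u : G) * x * (u : G)⁻¹) * (u : G) := by rw [h4]
      _ = (u : G) * x := by group
  have hGnt : (⊤ : Subgroup G) ≠ ⊥ := by
    intro h
    have h1 : x ∈ (⊥ : Subgroup G) := by rw [← h]; exact Subgroup.mem_top x
    exact hx1 (Subgroup.mem_bot.1 h1)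
  obtain ⟨N, -, hNmin⟩ := Finite.exists_le_minimal
    (p := fun N : Subgroup G => N.Normal ∧ N ≠ ⊥) (a := ⊤) ⟨inferInstance, hGnt⟩
  obtain ⟨⟨hNn, hN1⟩, hNle⟩ := hNmin
  have hnormN : ∀ g : G, g ∈ Subgroup.normalizer (N : Set G) := by
    intro g; rw [Subgroup.normalizer_eq_top_iff.2 hNn]; exact Subgroup.mem_top g
  have hA : N ⊔ Subgroup.zpowers x = ⊤ := by
    by_contra hne
    have hxH : x ∈ N ⊔ Subgroup.zpowers x := Subgroup.mem_sup_right (Subgroup.mem_zpowers x)
    have h1 := hmin _ hxH hne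
    have hcent : ∀ n ∈ N, n * x = x * n := by
      intro n hn
      have hnH : n ∈ N ⊔ Subgroup.zpowers x := Subgroup.mem_sup_left hn
      have h2 := h1 ⟨n, hnH⟩
      obtain ⟨W, hWdef⟩ : ∃ W : Subgroup G,
          W = (Cfsg.pPrimeCore p ↥(N ⊔ Subgroup.zpowers x)).map
            (N ⊔ Subgroup.zpowers x).subtype ⊓ N := ⟨_, rfl⟩
      have hcW : n * x * n⁻¹ * x⁻¹ ∈ W := by
        rw [hWdef]
        refine Subgroup.mem_inf.2 ⟨⟨_, h2, rfl⟩, ?_⟩
        have e : n * x * n⁻¹ * x⁻¹ = n * (x * n⁻¹ * x⁻¹) := by group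
        rw [e]
        exact N.mul_mem hn (hNn.conj_mem _ (N.inv_mem hn) x)
      have hWsn : W.IsSubnormal := by
        apply Subgroup.IsSubnormal.step W N (by rw [hWdef]; exact inf_le_right) hNn.isSubnormal
        constructor
        intro w hw m
        rw [Subgroup.mem_subgroupOf] at hw ⊢
        rw [hWdef] at hw ⊢
        obtain ⟨hw1, hw2⟩ := Subgroup.mem_inf.1 hw
        refine Subgroup.mem_inf.2 ⟨?_, ?_⟩
        · obtain ⟨w', hw', hw'e⟩ := hw1
          have hmH : (m : G) ∈ N ⊔ Subgroup.zpowers x := Subgroup.mem_sup_left m.2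
          have hn' : (Cfsg.pPrimeCore p ↥(N ⊔ Subgroup.zpowers x)).Normal :=
            PComp.pPrimeCore_normal p
          refine ⟨⟨m, hmH⟩ * w' * ⟨m, hmH⟩⁻¹, hn'.conj_mem w' hw' _, ?_⟩
          show (m : G) * ((N ⊔ Subgroup.zpowers x).subtype w') * (m : G)⁻¹ = _
          rw [hw'e]; rfl
        · exact N.mul_mem (N.mul_mem m.2 hw2) (N.inv_mem m.2)
      have hWcop : (Nat.card ↥W).Coprime p := by
        have h3 : Nat.card ↥W ∣ Nat.card ↥((Cfsg.pPrimeCore p ↥(N ⊔ Subgroup.zpowers x)).map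
            (N ⊔ Subgroup.zpowers x).subtype) :=
          Subgroup.card_dvd_of_le (by rw [hWdef]; exact inf_le_left)
        rw [Subgroup.card_map_of_injective (Subgroup.subtype_injective _)] at h3
        exact Nat.Coprime.coprime_dvd_left h3 (Local.pPrimeCore_coprime p)
      have hWle := PComp.sn_coprime_le_pPrimeCore p hWsn hWcop
      rw [hO] at hWle
      have h3 : n * x * n⁻¹ * x⁻¹ = 1 := Subgroup.mem_bot.1 (hWle hcW)
      calc n * x = (n * x * n⁻¹ * x⁻¹) * (x * n) := by group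
        _ = x * n := by rw [h3, one_mul]
    haveI := hNn
    have h4 := hgen (Subgroup.centralizer (N : Set G)) Subgroup.normal_centralizer (by
      rw [Subgroup.mem_centralizer_iff]; intro n hn; exact hcent n hn)
    apply hN1
    rw [eq_bot_iff, ← hZ]
    intro n hn
    rw [Subgroup.mem_center_iff]
    intro g
    have h5 : g ∈ Subgroup.centralizer (N : Set G) := by rw [h4]; exact Subgroup.mem_top g
    exact (Subgroup.mem_centralizer_iff.1 h5 n hn).symm
  have hnotp : ¬ IsPGroup p G := by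
    intro hG
    have h1 : IsPGroup p (⊤ : Subgroup G) := hG.to_subgroup ⊤
    have h2 := P.is_maximal' h1 le_top
    apply hx1
    have h3 : x ∈ Subgroup.center G := by
      rw [Subgroup.mem_center_iff]
      intro g
      exact hxZ g (by rw [← h2]; exact Subgroup.mem_top g)
    rw [hZ] at h3
    exact Subgroup.mem_bot.1 h3
  have hNnc : ¬ IsMulCommutative ↥N := by
    intro hc
    have hNp : IsPGroup p ↥N := by
      intro n
      obtain ⟨a, m, hm, hnm⟩ := Cfsg.Agent.S2825.ppart hp (n : G)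
      refine ⟨a, ?_⟩
      obtain ⟨Zc, hZc⟩ : ∃ Zc : Subgroup G, Zc = Subgroup.zpowers ((n : G) ^ p ^ a) := ⟨_, rfl⟩
      have hZcN : Zc ≤ N := by
        rw [hZc, Subgroup.zpowers_le]; exact N.pow_mem n.2 _
      have hsn : Zc.IsSubnormal := by
        apply Subgroup.IsSubnormal.step Zc N hZcN hNn.isSubnormal
        constructor
        intro w hw m'
        have e : m' * w * m'⁻¹ = w := by
          rw [hc.is_comm.comm m' w]; group
        rw [e]; exact hw
      have hcop : (Nat.card ↥Zc).Coprime p := by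
        rw [hZc, Nat.card_zpowers]
        exact Nat.Coprime.coprime_dvd_left (orderOf_dvd_of_pow_eq_one hnm)
          ((Nat.Prime.coprime_iff_not_dvd hp).2 hm).symm
      have hle := PComp.sn_coprime_le_pPrimeCore p hsn hcop
      rw [hO] at hle
      have h1 : (n : G) ^ p ^ a = 1 :=
        Subgroup.mem_bot.1 (hle (by rw [hZc]; exact Subgroup.mem_zpowers _))
      apply Subtype.ext
      rw [Subgroup.coe_pow]; exact h1
    apply hnotp
    have h1 : IsPGroup p (N ⊔ Subgroup.zpowers x : Subgroup G) := by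
      haveI := hNn
      exact IsPGroup.to_sup_of_normal_left hNp hxp
    rw [hA] at h1
    intro g
    obtain ⟨k, hk⟩ := h1 ⟨g, Subgroup.mem_top g⟩
    refine ⟨k, ?_⟩
    have h4 := congrArg Subtype.val hk
    simpa only [Subgroup.coe_pow, Subgroup.coe_one] using h4
  have hcomle : commutator G ≤ N := by
    rw [commutator_eq_closure, Subgroup.closure_le]
    rintro _ ⟨a, b, rfl⟩
    have ha : a ∈ N ⊔ Subgroup.zpowers x := by rw [hA]; exact Subgroup.mem_top a
    have hb : b ∈ N ⊔ Subgroup.zpowers x := by rw [hA]; exact Subgroup.mem_top b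
    obtain ⟨n₁, hn₁, y₁, hy₁, rfl⟩ := CoprimeAct.mem_sup_of_le_normalizer N
      (Subgroup.zpowers x) (fun g _ => hnormN g) ha
    obtain ⟨n₂, hn₂, y₂, hy₂, rfl⟩ := CoprimeAct.mem_sup_of_le_normalizer N
      (Subgroup.zpowers x) (fun g _ => hnormN g) hb
    obtain ⟨i, rfl⟩ := Subgroup.mem_zpowers_iff.1 hy₁
    obtain ⟨j, rfl⟩ := Subgroup.mem_zpowers_iff.1 hy₂
    haveI := hNn
    rw [SetLike.mem_coe, ← QuotientGroup.eq_one_iff]
    have hn₁' : ((n₁ : G) : G ⧸ N) = 1 := (QuotientGroup.eq_one_iff n₁).2 hn₁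
    have hn₂' : ((n₂ : G) : G ⧸ N) = 1 := (QuotientGroup.eq_one_iff n₂).2 hn₂
    simp only [commutatorElement_def, QuotientGroup.mk_mul, QuotientGroup.mk_inv,
      QuotientGroup.mk_zpow, hn₁', hn₂', one_mul]
    group
  have hcom1 : commutator G ≠ ⊥ := by
    intro h
    apply hx1
    have h3 : x ∈ Subgroup.center G := by
      rw [Subgroup.mem_center_iff]
      intro g
      have h4 : g * x * g⁻¹ * x⁻¹ ∈ commutator G := by
        rw [commutator_eq_closure]; exact Subgroup.subset_closure ⟨g, x, rfl⟩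
      rw [h, Subgroup.mem_bot] at h4
      calc g * x = (g * x * g⁻¹ * x⁻¹) * (x * g) := by group
        _ = x * g := by rw [h4, one_mul]
    rw [hZ] at h3
    exact Subgroup.mem_bot.1 h3
  have hcomN : commutator G = N :=
    le_antisymm hcomle (hNle ⟨inferInstance, hcom1⟩ hcomle)
  have hNsimple : IsSimpleGroup ↥N := by
    haveI : Nontrivial ↥N := (Subgroup.nontrivial_iff_ne_bot N).2 hN1
    refine IsSimpleGroup.mk ?_
    intro S' hS'n
    by_cases hS'1 : S' = ⊥
    · exact Or.inl hS'1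
    right
    obtain ⟨S₀', hS₀'le, hS₀'min⟩ := Finite.exists_le_minimal
      (p := fun S : Subgroup ↥N => S.Normal ∧ S ≠ ⊥) (a := S') ⟨hS'n, hS'1⟩
    obtain ⟨⟨hS₀'n, hS₀'1⟩, hS₀'m⟩ := hS₀'min
    obtain ⟨S₀, hS₀def⟩ : ∃ S₀ : Subgroup G, S₀ = S₀'.map N.subtype := ⟨_, rfl⟩
    have hS₀N : S₀ ≤ N := by rw [hS₀def]; exact Subgroup.map_subtype_le _
    have hS₀sub : S₀.subgroupOf N = S₀' := by
      rw [hS₀def]
      exact Subgroup.comap_map_eq_self_of_injective (Subgroup.subtype_injective N) _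
    have hS₀1 : S₀ ≠ ⊥ := by
      intro h
      apply hS₀'1
      rw [← hS₀sub, h]; exact Subgroup.bot_subgroupOf N
    have hS₀sn : S₀.IsSubnormal := by
      apply Subgroup.IsSubnormal.step S₀ N hS₀N hNn.isSubnormal
      rw [hS₀sub]; exact hS₀'n
    have hpS : p ∣ Nat.card ↥S₀ := by
      by_contra hnd
      have hle := PComp.sn_coprime_le_pPrimeCore p hS₀sn
        ((Nat.Prime.coprime_iff_not_dvd hp).2 hnd).symm
      rw [hO] at hle
      exact hS₀1 (eq_bot_iff.2 hle)
    have hcardPS := Cfsg.Agent.S2925.card_sylow_inf_subnormal P S₀ hS₀sn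
    obtain ⟨s, hsPS, hs1⟩ : ∃ s ∈ (P : Subgroup G) ⊓ S₀, s ≠ 1 := by
      by_contra hcon
      push Not at hcon
      have hbot : (P : Subgroup G) ⊓ S₀ = ⊥ := by
        rw [eq_bot_iff]; intro s hs; exact Subgroup.mem_bot.2 (hcon s hs)
      rw [hbot, Subgroup.card_bot] at hcardPS
      have hpos := hp.factorization_pos_of_dvd Nat.card_pos.ne' hpS
      have h1 : 1 < p ^ (Nat.card ↥S₀).factorization p := Nat.one_lt_pow hpos.ne' hp.one_lt
      exact absurd hcardPS (Nat.ne_of_lt h1)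
    obtain ⟨hsP, hsS⟩ := Subgroup.mem_inf.1 hsPS
    have hxs : x * s * x⁻¹ = s := by
      have h1 := hxZ s hsP
      rw [← h1]; group
    obtain ⟨S₁, hS₁def⟩ : ∃ S₁ : Subgroup G, S₁ = S₀.map (MulAut.conj x).toMonoidHom :=
      ⟨_, rfl⟩
    have hS₁n : (S₁.subgroupOf N).Normal := by
      constructor
      intro w hw m
      rw [Subgroup.mem_subgroupOf] at hw ⊢
      rw [hS₁def] at hw ⊢
      obtain ⟨y, hy, hyw⟩ := hw
      have hm' : x⁻¹ * (m : G) * x ∈ N := by
        have h1 := hNn.conj_mem (m : G) m.2 x⁻¹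
        simpa using h1
      have hy' : (x⁻¹ * (m : G) * x) * y * (x⁻¹ * (m : G) * x)⁻¹ ∈ S₀ := by
        have h1 := hS₀'n.conj_mem ⟨y, hS₀N hy⟩
          (by rw [← hS₀sub]; exact Subgroup.mem_subgroupOf.2 hy) ⟨_, hm'⟩
        rw [← hS₀sub] at h1
        exact Subgroup.mem_subgroupOf.1 h1
      refine ⟨_, hy', ?_⟩
      have hyw' : x * y * x⁻¹ = (w : G) := hyw
      show x * ((x⁻¹ * (m : G) * x) * y * (x⁻¹ * (m : G) * x)⁻¹) * x⁻¹ =
        (m : G) * (w : G) * (m : G)⁻¹
      rw [← hyw']; group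
    have hI_n : (S₀' ⊓ S₁.subgroupOf N).Normal := by
      haveI := hS₀'n
      haveI := hS₁n
      infer_instance
    have hI_1 : S₀' ⊓ S₁.subgroupOf N ≠ ⊥ := by
      intro h
      have h1 : (⟨s, hS₀N hsS⟩ : ↥N) ∈ S₀' ⊓ S₁.subgroupOf N := by
        refine Subgroup.mem_inf.2 ⟨?_, ?_⟩
        · rw [← hS₀sub]; exact Subgroup.mem_subgroupOf.2 hsS
        · rw [Subgroup.mem_subgroupOf, hS₁def]
          exact ⟨s, hsS, hxs⟩
      rw [h, Subgroup.mem_bot] at h1
      exact hs1 (congrArg Subtype.val h1)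
    have h2 := hS₀'m ⟨hI_n, hI_1⟩ inf_le_left
    have hS₀S₁ : S₀ ≤ S₁ := by
      intro y hy
      have h3 : (⟨y, hS₀N hy⟩ : ↥N) ∈ S₀' := by
        rw [← hS₀sub]; exact Subgroup.mem_subgroupOf.2 hy
      exact Subgroup.mem_subgroupOf.1 (Subgroup.mem_inf.1 (h2 h3)).2
    have hS₁eq : S₀.map (MulAut.conj x).toMonoidHom = S₀ := by
      rw [← hS₁def]
      symm
      apply Subgroup.eq_of_le_of_card_ge hS₀S₁
      rw [hS₁def, Subgroup.card_map_of_injective (MulAut.conj x).injective]
    have hxnorm : x ∈ Subgroup.normalizer (S₀ : Set G) :=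
      Subgroup.mem_normalizer_iff_map_conj_eq.2 hS₁eq
    have hNnorm : N ≤ Subgroup.normalizer (S₀ : Set G) :=
      (Subgroup.normal_subgroupOf_iff_le_normalizer hS₀N).1 (by rw [hS₀sub]; exact hS₀'n)
    have hS₀n : S₀.Normal := by
      apply Subgroup.normalizer_eq_top_iff.1
      rw [eq_top_iff, ← hA]
      exact sup_le hNnorm (by rw [Subgroup.zpowers_le]; exact hxnorm)
    have h3 := hNle ⟨hS₀n, hS₀1⟩ hS₀N
    rw [eq_top_iff]
    intro n _
    apply hS₀'le
    rw [← hS₀sub]
    exact Subgroup.mem_subgroupOf.2 (h3 n.2)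
  subst hcomN
  exact ⟨hNsimple, hNnc, hA⟩

end Cfsg.Agent.S2972
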