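import Cfsg.Statements.S3011
import Mathlib
import Cfsg.Agent.Lib.Helper1.BS
import Cfsg.Agent.Lib.Helper2.Isolated
import Cfsg.Agent.Lib.Helper3.Core

set_option autoImplicit false
open Cfsg

namespace Cfsg.Agent.S3011

theorem odd_inv_self {G : Type*} [Group G] {h : G} (ho : Odd (orderOf h)) (hh : h⁻¹ = h) :
    h = 1 := by
  have h2 : h ^ 2 = 1 := by
    rw [sq]
    nth_rewrite 1 [← hh]
    exact inv_mul_cancel h
  have h3 : orderOf h ∣ 2 := orderOf_dvd_of_pow_eq_one h2
  have h4 : orderOf h = 1 := by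
    rcases (Nat.dvd_prime Nat.prime_two).mp h3 with h5 | h5
    · exact h5
    · rw [h5] at ho
      exact absurd ho (by decide)
  exact orderOf_eq_one_iff.mp h4

theorem odd_comm_of_sq {G : Type*} [Group G] {k h : G} (ho : Odd (orderOf k))
    (hh : (k * k) * h = h * (k * k)) : k * h = h * k := by
  have h1 : k * k ∈ Subgroup.centralizer ({h} : Set G) := by
    rw [Subgroup.mem_centralizer_iff]
    intro x hx
    rw [Set.mem_singleton_iff] at hx
    rw [hx]
    exact hh.symm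
  have h2 := Cfsg.Agent.Lib.Helper2.Isolated.mem_of_sq_mem_of_odd ho _ h1
  have h3 := Subgroup.mem_centralizer_iff.mp h2 h (Set.mem_singleton h)
  exact h3.symm

theorem four {G : Type*} [Group G] [Finite G] (V : Subgroup G) (h4 : Nat.card V ≤ 4)
    (hsq : ∀ a ∈ V, a ^ 2 = 1) (a b : G) (ha : a ∈ V) (hb : b ∈ V) (ha1 : a ≠ 1) (hb1 : b ≠ 1)
    (hab : a ≠ b) (d : G) (hd : d ∈ V) : d = 1 ∨ d = a ∨ d = b ∨ d = a * b := by
  classical
  by_contra hcon
  push Not at hcon
  obtain ⟨hd1, hda, hdb, hdab⟩ := hcon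
  have hb2 : b⁻¹ = b := by
    have h1 := hsq b hb
    rw [sq] at h1
    exact inv_eq_of_mul_eq_one_left h1
  have hab1 : a * b ≠ 1 := fun h => hab (by rw [← hb2]; exact eq_inv_of_mul_eq_one_left h)
  have n4 : a * b ∉ ({d} : Finset G) := by
    simp only [Finset.mem_singleton]
    exact fun h => hdab h.symm
  have n3 : b ∉ ({a * b, d} : Finset G) := by
    simp only [Finset.mem_insert, Finset.mem_singleton, not_or]
    exact ⟨fun h => ha1 (by simpa using h), fun h => hdb h.symm⟩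
  have n2 : a ∉ ({b, a * b, d} : Finset G) := by
    simp only [Finset.mem_insert, Finset.mem_singleton, not_or]
    exact ⟨hab, fun h => hb1 (by simpa using h), fun h => hda h.symm⟩
  have n1 : (1 : G) ∉ ({a, b, a * b, d} : Finset G) := by
    simp only [Finset.mem_insert, Finset.mem_singleton, not_or]
    exact ⟨fun h => ha1 h.symm, fun h => hb1 h.symm, fun h => hab1 h.symm, fun h => hd1 h.symm⟩
  have hs : ({1, a, b, a * b, d} : Finset G).card = 5 := by
    rw [Finset.card_insert_of_notMem n1, Finset.card_insert_of_notMem n2,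
      Finset.card_insert_of_notMem n3, Finset.card_insert_of_notMem n4, Finset.card_singleton]
  have hsub : (↑({1, a, b, a * b, d} : Finset G) : Set G) ⊆ (V : Set G) := by
    intro x hx
    simp only [Finset.coe_insert, Finset.coe_singleton, Set.mem_insert_iff,
      Set.mem_singleton_iff] at hx
    rcases hx with rfl | rfl | rfl | rfl | rfl
    exacts [V.one_mem, ha, hb, V.mul_mem ha hb, hd]
  have h5 := Set.ncard_le_ncard hsub (Set.toFinite _)
  rw [Set.ncard_coe_finset, hs] at h5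
  have h6 : (V : Set G).ncard = Nat.card V := rfl
  omega

theorem comm_sq_of_inv {G : Type*} [Group G] (q h : G) (e : q * h * q⁻¹ = h⁻¹) :
    (q * q) * h = h * (q * q) := by
  calc q * q * h = q * (q * h * q⁻¹) * q := by group
    _ = q * h⁻¹ * q := by rw [e]
    _ = (q * h * q⁻¹)⁻¹ * (q * q) := by group
    _ = h * (q * q) := by rw [e, inv_inv]

theorem core {G : Type*} [Group G] [Finite G] (V : Subgroup G)
    (hsq : ∀ a ∈ V, a * a = 1) (h4 : Nat.card V ≤ 4) (hS : Cfsg.IsSidkiPair V)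
    (hinv : ∀ t ∈ V, t ≠ 1 → ∃ h : G, h ≠ 1 ∧ Odd (orderOf h) ∧ t * h * t⁻¹ = h⁻¹)
    (a : G) (haV : a ∈ V) (ha1 : a ≠ 1) : False := by
  have hsq2 : ∀ x ∈ V, x ^ 2 = 1 := fun x hx => by rw [sq]; exact hsq x hx
  obtain ⟨h, hh1, hho, hah⟩ := hinv a haV ha1
  obtain ⟨b, hbV, hb1, hbh⟩ := hS h a haV hho hah
  have hbh' : b * h * b⁻¹ = h := by rw [hbh, mul_inv_cancel_right]
  have hba : a ≠ b := by
    intro hab
    apply hh1
    apply odd_inv_self hho
    rw [← hah, hab]
    exact hbh'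
  obtain ⟨k, hk1, hko, hbk⟩ := hinv b hbV hb1
  obtain ⟨c, hcV, hc1, hck⟩ := hS k b hbV hko hbk
  have hck' : c * k * c⁻¹ = k := by rw [hck, mul_inv_cancel_right]
  have hcb : c ≠ b := by
    intro hcb'
    apply hk1
    apply odd_inv_self hko
    rw [← hbk, ← hcb']
    exact hck'
  have hch : c * h * c⁻¹ = h⁻¹ := by
    rcases four V h4 hsq2 a b haV hbV ha1 hb1 hba c hcV with h0 | h0 | h0 | h0
    · exact absurd h0 hc1
    · rw [h0]
      exact hah
    · exact absurd h0 hcb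
    · rw [h0]
      calc a * b * h * (a * b)⁻¹ = a * (b * h * b⁻¹) * a⁻¹ := by group
        _ = h⁻¹ := by rw [hbh', hah]
  have hkh : k * h = h * k := by
    have hh' : c * (k * h * k⁻¹) * c⁻¹ = (k * h * k⁻¹)⁻¹ := by
      calc c * (k * h * k⁻¹) * c⁻¹
          = (c * k * c⁻¹) * (c * h * c⁻¹) * (c * k * c⁻¹)⁻¹ := by group
        _ = (k * h * k⁻¹)⁻¹ := by rw [hck', hch]; group
    have hho' : Odd (orderOf (k * h * k⁻¹)) := by
      have h1 : orderOf (k * h * k⁻¹) = orderOf h := MulEquiv.orderOf_eq (MulAut.conj k) h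
      rw [h1]
      exact hho
    have hh1' : k * h * k⁻¹ ≠ 1 := by
      intro h0
      apply hh1
      calc h = k⁻¹ * (k * h * k⁻¹) * k := by group
        _ = 1 := by rw [h0]; group
    obtain ⟨d, hdV, hd1, hdh⟩ := hS _ c hcV hho' hh'
    have hdh' : d * (k * h * k⁻¹) * d⁻¹ = k * h * k⁻¹ := by rw [hdh, mul_inv_cancel_right]
    have hbconj : b * (k * h * k⁻¹) * b⁻¹ = k⁻¹ * h * k := by
      calc b * (k * h * k⁻¹) * b⁻¹
          = (b * k * b⁻¹) * (b * h * b⁻¹) * (b * k * b⁻¹)⁻¹ := by group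
        _ = k⁻¹ * h * k := by rw [hbk, hbh']; group
    rcases four V h4 hsq2 c b hcV hbV hc1 hb1 hcb d hdV with h0 | h0 | h0 | h0
    · exact absurd h0 hd1
    · exfalso
      apply hh1'
      apply odd_inv_self hho'
      rw [← hh', ← h0]
      exact hdh'
    · rw [h0, hbconj] at hdh'
      apply odd_comm_of_sq hko
      calc k * k * h = k * (k * h * k⁻¹) * k := by group
        _ = k * (k⁻¹ * h * k) * k := by rw [hdh']
        _ = h * (k * k) := by group
    · exfalso
      rw [h0] at hdh'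
      have e1 : c * b * (k * h * k⁻¹) * (c * b)⁻¹ = k⁻¹ * h⁻¹ * k := by
        calc c * b * (k * h * k⁻¹) * (c * b)⁻¹
            = c * (b * (k * h * k⁻¹) * b⁻¹) * c⁻¹ := by group
          _ = c * (k⁻¹ * h * k) * c⁻¹ := by rw [hbconj]
          _ = (c * k * c⁻¹)⁻¹ * (c * h * c⁻¹) * (c * k * c⁻¹) := by group
          _ = k⁻¹ * h⁻¹ * k := by rw [hck', hch]
      rw [e1] at hdh'
      have e2 : (k * k) * h * (k * k)⁻¹ = h⁻¹ := by
        calc (k * k) * h * (k * k)⁻¹ = k * (k * h * k⁻¹) * k⁻¹ := by group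
          _ = k * (k⁻¹ * h⁻¹ * k) * k⁻¹ := by rw [hdh']
          _ = h⁻¹ := by group
      have hqo : Odd (orderOf (k * k)) := by
        have h1 : k * k = k ^ 2 := (sq k).symm
        rw [h1]
        exact Odd.of_dvd_nat hko (orderOf_pow_dvd 2)
      have e3 : (k * k) * (k * k) * h = h * ((k * k) * (k * k)) := comm_sq_of_inv (k * k) h e2
      have e4 : (k * k) * h = h * (k * k) := odd_comm_of_sq hqo e3
      apply hh1
      apply odd_inv_self hho
      rw [← e2, e4, mul_inv_cancel_right]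
  have hcbV : c * b ∈ V := V.mul_mem hcV hbV
  have hu : c * b * (h * k) * (c * b)⁻¹ = (h * k)⁻¹ := by
    calc c * b * (h * k) * (c * b)⁻¹
        = (c * (b * h * b⁻¹) * c⁻¹) * (c * (b * k * b⁻¹) * c⁻¹) := by group
      _ = (c * h * c⁻¹) * (c * k * c⁻¹)⁻¹ := by rw [hbh', hbk]; group
      _ = h⁻¹ * k⁻¹ := by rw [hch, hck']
      _ = (h * k)⁻¹ := by rw [← hkh]; group
  have huo : Odd (orderOf (h * k)) := by
    have hc : Commute h k := hkh.symm
    exact Odd.of_dvd_nat (hho.mul hko) hc.orderOf_mul_dvd_mul_orderOf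
  obtain ⟨e, heV, he1, heu⟩ := hS _ (c * b) hcbV huo hu
  have heu' : e * (h * k) * e⁻¹ = h * k := by rw [heu, mul_inv_cancel_right]
  rcases four V h4 hsq2 c b hcV hbV hc1 hb1 hcb e heV with h0 | h0 | h0 | h0
  · exact he1 h0
  · rw [h0] at heu'
    apply hh1
    apply odd_inv_self hho
    have e1 : c * (h * k) * c⁻¹ = h⁻¹ * k := by
      calc c * (h * k) * c⁻¹ = (c * h * c⁻¹) * (c * k * c⁻¹) := by group
        _ = h⁻¹ * k := by rw [hch, hck']
    rw [e1] at heu'
    exact mul_right_cancel heu'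
  · rw [h0] at heu'
    apply hk1
    apply odd_inv_self hko
    have e1 : b * (h * k) * b⁻¹ = h * k⁻¹ := by
      calc b * (h * k) * b⁻¹ = (b * h * b⁻¹) * (b * k * b⁻¹) := by group
        _ = h * k⁻¹ := by rw [hbh', hbk]
    rw [e1] at heu'
    exact mul_left_cancel heu'
  · rw [h0, hu] at heu'
    have hu1 : h * k = 1 := odd_inv_self huo heu'
    apply hh1
    apply odd_inv_self hho
    have hk' : k = h⁻¹ := eq_inv_of_mul_eq_one_right hu1
    rw [hk'] at hck'
    have h9 : c * h * c⁻¹ = h := by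
      calc c * h * c⁻¹ = (c * h⁻¹ * c⁻¹)⁻¹ := by group
        _ = h := by rw [hck', inv_inv]
    rw [← hch]
    exact h9

theorem result {G : Type*} [Group G] [Finite G] (V : Subgroup G) (hV : Cfsg.IsElementaryAbelian 2 V) (hV1 : V ≠ ⊥) (hS : Cfsg.IsSidkiPair V) (h4 : Nat.card V ≤ 4) : V ⊓ Cfsg.pCore 2 G ≠ ⊥ := by
  haveI : Fact (Nat.Prime 2) := ⟨Nat.prime_two⟩
  intro hbot
  obtain ⟨a, haV, ha1⟩ : ∃ a ∈ V, a ≠ 1 := by
    by_contra hcon
    push Not at hcon
    exact hV1 ((Subgroup.eq_bot_iff_forall V).mpr hcon)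
  have hinv : ∀ t ∈ V, t ≠ 1 → ∃ h : G, h ≠ 1 ∧ Odd (orderOf h) ∧ t * h * t⁻¹ = h⁻¹ := by
    intro t htV ht1
    apply Cfsg.Agent.Lib.Helper1.BS.invol_inverts_odd t (orderOf_eq_prime (hV.2 t htV) ht1)
    intro N hN hN2 htN
    apply ht1
    have h1 : t ∈ V ⊓ Cfsg.pCore 2 G :=
      ⟨htV, Cfsg.Agent.Lib.Helper3.Core.le_pCore N hN hN2 htN⟩
    rw [hbot, Subgroup.mem_bot] at h1
    exact h1
  exact core V (fun x hx => by have h1 := hV.2 x hx; rwa [sq] at h1) h4 hS hinv a haV ha1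

end Cfsg.Agent.S3011
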