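import Cfsg.Statements.S3025
import Mathlib
import Cfsg.Agent.Lib.Helper1.UniqP
import Cfsg.Agent.Lib.Helper5.WC
import Cfsg.Agent.Lib.Helper5.PRed

set_option autoImplicit false
open Cfsg

namespace Cfsg.Agent.S3025

open Cfsg.Agent.Lib.Helper5.WC

theorem result {F : Type*} [Group F] [Finite F] (H : Subgroup F) (hH : H ≠ ⊥)
    (hmin : ∀ R : Subgroup F, R ≠ ⊥ → H ≤ Subgroup.normalizer (R : Set F) → H ≤ R) :
    ∃ N : Subgroup F, N.Normal ∧ N ≠ ⊥ ∧ (∀ M : Subgroup F, M.Normal → M ≠ ⊥ → N ≤ M) ∧ IsSimpleGroup ↥N ∧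
      (Subgroup.centralizer (N : Set F) = ⊥ ∨
       (H = N ∧ (Nat.card N).Prime ∧ IsCyclic ↥(Subgroup.centralizer (N : Set F)) ∧
          (∃ k : ℕ, 1 ≤ k ∧ Nat.card ↥(Subgroup.centralizer (N : Set F)) = Nat.card N ^ k) ∧
          (∃ g : F, Subgroup.centralizer (N : Set F) ⊔ Subgroup.zpowers g = ⊤) ∧
          (Subgroup.centralizer (N : Set F)).index ∣ Nat.card N - 1) ∨
       (H = N ∧ Nat.card N = 2 ∧ Subgroup.centralizer (N : Set F) = ⊤ ∧
          ∃ k : ℕ, 1 ≤ k ∧ Nonempty (F ≃* QuaternionGroup (2 ^ k)))) := by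
  classical
  obtain ⟨N, hNd⟩ : ∃ N, N = Subgroup.normalClosure (H : Set F) := ⟨_, rfl⟩
  have hNn : N.Normal := by rw [hNd]; exact Subgroup.normalClosure_normal
  have hHN : H ≤ N := by rw [hNd]; exact Subgroup.le_normalClosure
  have hN1 : N ≠ ⊥ := by
    intro h
    apply hH
    rw [eq_bot_iff, ← h]
    exact hHN
  have hNmin : ∀ M : Subgroup F, M.Normal → M ≠ ⊥ → N ≤ M := by
    intro M hM hM1
    haveI := hM
    have h1 : H ≤ M := hmin M hM1 (by rw [Subgroup.normalizer_eq_top]; exact le_top)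
    rw [hNd]
    exact Subgroup.normalClosure_le_normal h1
  have hsimple : IsSimpleGroup ↥N := by
    haveI : Nontrivial ↥N := (Subgroup.nontrivial_iff_ne_bot N).mpr hN1
    refine ⟨fun K' hK' => ?_⟩
    by_cases hK1 : K' = ⊥
    · exact Or.inl hK1
    right
    obtain ⟨K, hKd⟩ : ∃ K, K = K'.map N.subtype := ⟨_, rfl⟩
    have hKN : N ≤ Subgroup.normalizer (K : Set F) := by
      rw [hKd]
      exact Cfsg.Agent.Lib.Helper5.PRed.le_normalizer_map_subtype N K' hK'
    have hK1' : K ≠ ⊥ := by
      rw [hKd]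
      intro h
      apply hK1
      exact (Subgroup.map_eq_bot_iff_of_injective K' (Subgroup.subtype_injective N)).mp h
    have hHK : ∀ b : F, H ≤ cj K b := by
      intro b
      apply hmin
      · intro h
        apply hK1'
        exact (Subgroup.map_eq_bot_iff_of_injective K (MulAut.conj b).injective).mp h
      · intro x hx
        rw [mem_normalizer_cj]
        have h1 := hNn.conj_mem x (hHN hx) b⁻¹
        rw [inv_inv] at h1
        exact hKN h1
    have hHcore : H ≤ K.normalCore := by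
      intro x hx b
      have h1 := hHK b⁻¹ hx
      rw [mem_cj, inv_inv] at h1
      exact h1
    have hcore1 : K.normalCore ≠ ⊥ := by
      intro h
      apply hH
      rw [eq_bot_iff, ← h]
      exact hHcore
    have hNK : N ≤ K :=
      (hNmin _ (Subgroup.normalCore_normal K) hcore1).trans (Subgroup.normalCore_le K)
    rw [eq_top_iff]
    intro n _
    have h1 := hNK n.2
    rw [hKd] at h1
    obtain ⟨k, hk, hkn⟩ := h1
    have h2 : k = n := Subtype.ext hkn
    rw [← h2]
    exact hk
  refine ⟨N, hNn, hN1, hNmin, hsimple, ?_⟩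
  by_cases hC : Subgroup.centralizer (N : Set F) = ⊥
  · exact Or.inl hC
  right
  obtain ⟨C, hCd⟩ : ∃ C, C = Subgroup.centralizer (N : Set F) := ⟨_, rfl⟩
  rw [← hCd] at hC ⊢
  have hCn : C.Normal := by
    haveI := hNn
    rw [hCd]
    exact Subgroup.normal_centralizer
  have hNC : N ≤ C := hNmin C hCn hC
  have hcomm : ∀ a ∈ N, ∀ c ∈ C, c * a = a * c := by
    intro a ha c hc
    rw [hCd, Subgroup.mem_centralizer_iff] at hc
    exact (hc a ha).symm
  have hkey : ∀ R : Subgroup F, R ≠ ⊥ → R ≤ C → H ≤ R := by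
    intro R hR hRC
    apply hmin R hR
    intro x hx
    rw [Subgroup.mem_normalizer_iff]
    intro r
    constructor
    · intro hr
      have h1 := hcomm x (hHN hx) r (hRC hr)
      have h2 : x * r * x⁻¹ = r := by
        rw [← h1]
        group
      rw [h2]
      exact hr
    · intro hr
      have h1 := hcomm x (hHN hx) _ (hRC hr)
      have h2 : r = x * r * x⁻¹ := by
        calc r = x⁻¹ * ((x * r * x⁻¹) * x) := by group
          _ = x⁻¹ * (x * (x * r * x⁻¹)) := by rw [h1]
          _ = x * r * x⁻¹ := by group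
      rw [h2]
      exact hr
  obtain ⟨q, hq, hqH⟩ : ∃ q : ℕ, q.Prime ∧ q ∣ Nat.card H := by
    apply Nat.exists_prime_and_dvd
    intro h
    exact hH (Subgroup.eq_bot_of_card_eq H h)
  haveI : Fact q.Prime := ⟨hq⟩
  obtain ⟨x, hx⟩ := exists_prime_orderOf_dvd_card' q hqH
  have hxq : orderOf (x : F) = q := by rw [Subgroup.orderOf_coe]; exact hx
  have hzne : ∀ y : F, orderOf y ≠ 1 → Subgroup.zpowers y ≠ ⊥ := by
    intro y hy h
    apply hy
    have h1 : y ∈ (⊥ : Subgroup F) := by rw [← h]; exact Subgroup.mem_zpowers _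
    rw [Subgroup.mem_bot] at h1
    rw [h1, orderOf_one]
  have hHz : H = Subgroup.zpowers (x : F) := by
    apply le_antisymm
    · apply hkey
      · apply hzne
        rw [hxq]
        exact hq.one_lt.ne'
      · rw [Subgroup.zpowers_le]
        exact hNC (hHN x.2)
    · rw [Subgroup.zpowers_le]
      exact x.2
  have hHcard : Nat.card H = q := by rw [hHz, Nat.card_zpowers, hxq]
  have hHnorm : H.Normal := by
    constructor
    intro a ha f
    have h1 : cj H f ≤ C := by
      intro y hy
      rw [mem_cj] at hy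
      have h0 := hCn.conj_mem _ (hNC (hHN hy)) f
      have e : f * (f⁻¹ * y * f) * f⁻¹ = y := by group
      rw [e] at h0
      exact h0
    have h2 : cj H f ≠ ⊥ := by
      intro h
      apply hH
      exact (Subgroup.map_eq_bot_iff_of_injective H (MulAut.conj f).injective).mp h
    have h3 : H ≤ cj H f := hkey _ h2 h1
    have h4 : H = cj H f := Subgroup.eq_of_le_of_card_ge h3 (by rw [card_cj])
    rw [h4]
    exact conj_mem_cj H f a ha
  have hNH : H = N := by
    rw [hNd]
    exact (Subgroup.normalClosure_eq_self H).symm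
  have hNcard : Nat.card N = q := by rw [← hNH]; exact hHcard
  obtain ⟨k, hk⟩ : ∃ k, Nat.card C = q ^ k := by
    refine ⟨_, Nat.eq_prime_pow_of_unique_prime_dvd Nat.card_pos.ne' ?_⟩
    intro r hr hrC
    haveI : Fact r.Prime := ⟨hr⟩
    obtain ⟨y, hy⟩ := exists_prime_orderOf_dvd_card' r hrC
    have hyr : orderOf (y : F) = r := by rw [Subgroup.orderOf_coe]; exact hy
    have h1 : H ≤ Subgroup.zpowers (y : F) := by
      apply hkey
      · apply hzne
        rw [hyr]
        exact hr.one_lt.ne'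
      · rw [Subgroup.zpowers_le]
        exact y.2
    have h2 := Subgroup.card_dvd_of_le h1
    rw [hHcard, Nat.card_zpowers, hyr] at h2
    exact ((Nat.prime_dvd_prime_iff_eq hq hr).mp h2).symm
  have hk1 : 1 ≤ k := by
    rcases Nat.eq_zero_or_pos k with h0 | h0
    · exfalso
      apply hC
      rw [h0, pow_zero] at hk
      exact Subgroup.eq_bot_of_card_eq C hk
    · exact h0
  have hCp : IsPGroup q C := IsPGroup.of_card hk
  have huniq : ∀ H₁ K₁ : Subgroup C, Nat.card H₁ = q → Nat.card K₁ = q → H₁ = K₁ := by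
    have aux : ∀ H₁ : Subgroup C, Nat.card H₁ = q → H₁.map C.subtype = H := by
      intro H₁ h1
      have hc : Nat.card (H₁.map C.subtype) = q := by
        rw [Subgroup.card_map_of_injective (Subgroup.subtype_injective C)]
        exact h1
      have hle : H ≤ H₁.map C.subtype := by
        apply hkey
        · intro h
          rw [h, Subgroup.card_bot] at hc
          exact hq.one_lt.ne hc
        · exact Subgroup.map_subtype_le H₁
      exact (Subgroup.eq_of_le_of_card_ge hle (by rw [hc, hHcard])).symm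
    intro H₁ K₁ h1 h2
    apply Subgroup.map_injective (Subgroup.subtype_injective C)
    rw [aux H₁ h1, aux K₁ h2]
  have hcq := Cfsg.Agent.Lib.Helper1.UniqP.cyclic_or_quat hCp huniq
  haveI := hNn
  haveI hNcyc : IsCyclic ↥N := isCyclic_of_prime_card (p := q) hNcard
  obtain ⟨φ, hφ⟩ : ∃ φ : F →* MulAut ↥N, ∀ f (n : N), ((φ f n : N) : F) = f * n * f⁻¹ :=
    ⟨MulAut.conjNormal, fun f n => MulAut.conjNormal_apply f n⟩
  have hker : φ.ker = C := by
    ext f
    rw [MonoidHom.mem_ker, hCd, Subgroup.mem_centralizer_iff]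
    constructor
    · intro h n hn
      have h1 := hφ f ⟨n, hn⟩
      rw [h] at h1
      have h2 : n = f * n * f⁻¹ := h1
      calc n * f = (f * n * f⁻¹) * f := by rw [← h2]
        _ = f * n := by group
    · intro h
      ext n
      rw [hφ]
      have h1 := h n n.2
      show f * n * f⁻¹ = n
      rw [← h1]
      group
  have hcardAut : Nat.card (MulAut ↥N) = q - 1 := by
    rw [IsCyclic.card_mulAut, hNcard, Nat.totient_prime hq]
  haveI : IsCyclic (MulAut ↥N) := by
    haveI : IsCyclic (ZMod (Nat.card ↥N))ˣ := by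
      rw [hNcard]
      exact ZMod.isCyclic_units_prime hq
    exact isCyclic_of_surjective (IsCyclic.mulAutMulEquiv ↥N).symm
      (IsCyclic.mulAutMulEquiv ↥N).symm.surjective
  have hgen : ∃ g : F, C ⊔ Subgroup.zpowers g = ⊤ := by
    haveI : IsCyclic φ.range := Subgroup.isCyclic _
    obtain ⟨⟨y, ⟨g, rfl⟩⟩, hy⟩ := IsCyclic.exists_generator (α := φ.range)
    refine ⟨g, ?_⟩
    rw [eq_top_iff]
    intro f _
    obtain ⟨m, hm⟩ := Subgroup.mem_zpowers_iff.mp (hy ⟨φ f, f, rfl⟩)
    have hm' : φ g ^ m = φ f := by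
      have := congrArg Subtype.val hm
      simpa using this
    have h1 : f * (g ^ m)⁻¹ ∈ C := by
      rw [← hker, MonoidHom.mem_ker, map_mul, map_inv, map_zpow, hm', mul_inv_cancel]
    have h2 : f = (f * (g ^ m)⁻¹) * g ^ m := by group
    rw [h2]
    exact Subgroup.mul_mem_sup h1 (Subgroup.zpow_mem_zpowers g m)
  have hidx : C.index ∣ q - 1 := by
    rw [← hker, Subgroup.index_ker, ← hcardAut]
    exact Subgroup.card_subgroup_dvd_card φ.range
  have hcase2 : IsCyclic ↥C → (H = N ∧ (Nat.card N).Prime ∧ IsCyclic ↥C ∧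
          (∃ k : ℕ, 1 ≤ k ∧ Nat.card ↥C = Nat.card N ^ k) ∧
          (∃ g : F, C ⊔ Subgroup.zpowers g = ⊤) ∧
          C.index ∣ Nat.card N - 1) := by
    intro hcyc
    refine ⟨hNH, ?_, hcyc, ⟨k, hk1, ?_⟩, hgen, ?_⟩
    · rw [hNcard]; exact hq
    · rw [hk, hNcard]
    · rw [hNcard]; exact hidx
  rcases hcq with hcyc | ⟨h2, n, ⟨e⟩⟩
  · exact Or.inl (hcase2 hcyc)
  · by_cases hn : n = 0
    · left
      apply hcase2
      subst hn
      haveI : IsCyclic (QuaternionGroup (2 ^ 0)) := QuaternionGroup.quaternionGroup_one_isCyclic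
      exact isCyclic_of_surjective e.symm e.symm.surjective
    · right
      have hCtop : C = ⊤ := by
        rw [← Subgroup.index_eq_one]
        rw [h2] at hidx
        exact Nat.dvd_one.mp hidx
      refine ⟨hNH, by rw [hNcard, h2], hCtop, n, Nat.one_le_iff_ne_zero.mpr hn, ⟨?_⟩⟩
      exact ((MulEquiv.subgroupCongr hCtop).trans Subgroup.topEquiv).symm.trans e

end Cfsg.Agent.S3025
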