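import Mathlib
import Cfsg.Statements.S3061
import Cfsg.Agent.S0648
import Cfsg.Agent.S0119
import Cfsg.Agent.S0597
set_option autoImplicit false
open Pointwise
open Cfsg
open scoped commutatorElement

namespace Cfsg.Agent.S3061

theorem cls2 {S : Type*} [Group S] (A : Subgroup S) (x : S) (X : Subgroup S)
    (hA : ∀ a ∈ A, ∀ a' ∈ A, a * a' = a' * a)
    (hXA : ∀ z ∈ X, ∀ a ∈ A, z * a = a * z) (hXx : ∀ z ∈ X, z * x = x * z)
    (hcomm : ∀ a ∈ A, ⁅a, x⁆ ∈ X) :
    ⁅⁅A ⊔ Subgroup.zpowers x, A ⊔ Subgroup.zpowers x⁆, A ⊔ Subgroup.zpowers x⁆ = ⊥ := by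
  have hH : A ⊔ Subgroup.zpowers x = Subgroup.closure ((A : Set S) ∪ {x}) := by
    rw [Subgroup.closure_union, Subgroup.closure_eq, Subgroup.zpowers_eq_closure]
  rw [hH]
  have hcen : ∀ z ∈ X, ∀ u ∈ Subgroup.closure ((A : Set S) ∪ {x}), z * u = u * z := by
    intro z hz u hu
    have hle : Subgroup.closure ((A : Set S) ∪ {x}) ≤ Subgroup.centralizer ({z} : Set S) := by
      rw [Subgroup.closure_le]
      rintro g (hg | hg)
      · rw [SetLike.mem_coe, Subgroup.mem_centralizer_iff]
        intro y hy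
        rw [Set.mem_singleton_iff] at hy
        rw [hy]; exact hXA z hz g hg
      · rw [Set.mem_singleton_iff] at hg
        rw [hg, SetLike.mem_coe, Subgroup.mem_centralizer_iff]
        intro y hy
        rw [Set.mem_singleton_iff] at hy
        rw [hy]; exact hXx z hz
    have := hle hu
    rw [Subgroup.mem_centralizer_iff] at this
    exact this z rfl
  have h1 : ⁅Subgroup.closure ((A : Set S) ∪ {x}), Subgroup.closure ((A : Set S) ∪ {x})⁆ ≤ X := by
    apply S0648.comm_closure_le _ X hcen
    rintro g (hg | hg) g' (hg' | hg')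
    · rw [commutatorElement_eq_one_iff_mul_comm.2 (hA g hg g' hg')]; exact X.one_mem
    · rw [Set.mem_singleton_iff] at hg'
      rw [hg']; exact hcomm g hg
    · rw [Set.mem_singleton_iff] at hg
      rw [hg, ← commutatorElement_inv]
      exact X.inv_mem (hcomm g' hg')
    · rw [Set.mem_singleton_iff] at hg hg'
      rw [hg, hg', commutatorElement_self]; exact X.one_mem
  rw [eq_bot_iff]
  refine (Subgroup.commutator_mono h1 le_rfl).trans ?_
  rw [Subgroup.commutator_le]
  intro z hz u hu
  rw [commutatorElement_eq_one_iff_mul_comm.2 (hcen z hz u hu)]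
  exact Subgroup.one_mem _

theorem maxnormal_selfcent {S : Type*} [Group S] [Finite S] {p : ℕ} [Fact p.Prime]
    (hS : IsPGroup p S) (N : Subgroup S) (hNn : N.Normal) (hNc : IsMulCommutative N)
    (hmax : ∀ B : Subgroup S, B.Normal → IsMulCommutative B → N ≤ B → B = N) :
    ∀ x : S, (∀ n ∈ N, x * n = n * x) → x ∈ N := by
  haveI : Group.IsNilpotent S := hS.isNilpotent
  obtain ⟨c, hc⟩ := Group.IsNilpotent.nilpotent S
  have key : ∀ i : ℕ, ∀ x ∈ Subgroup.upperCentralSeries S i,
      (∀ n ∈ N, x * n = n * x) → x ∈ N := by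
    intro i
    induction i with
    | zero =>
      intro x hx _
      rw [Subgroup.upperCentralSeries_zero, Subgroup.mem_bot] at hx
      rw [hx]; exact N.one_mem
    | succ i ih =>
      intro x hx hxN
      by_contra hxnot
      have hcomm : ∀ a ∈ Subgroup.closure ((N : Set S) ∪ {x}),
          ∀ b ∈ Subgroup.closure ((N : Set S) ∪ {x}), a * b = b * a := by
        apply S0119.closure_comm
        rintro a (ha | ha) b (hb | hb)
        · exact setLike_mul_comm ha hb
        · rw [Set.mem_singleton_iff] at hb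
          rw [hb]; exact (hxN a ha).symm
        · rw [Set.mem_singleton_iff] at ha
          rw [ha]; exact hxN b hb
        · rw [Set.mem_singleton_iff] at ha hb
          rw [ha, hb]
      have hnorm : (Subgroup.closure ((N : Set S) ∪ {x})).Normal := by
        constructor
        intro d hd y
        apply S0597.conj_closure_le y _ _ ?_ d hd
        rintro s (hs | hs)
        · exact Subgroup.subset_closure (Or.inl (hNn.conj_mem s hs y))
        · rw [Set.mem_singleton_iff] at hs
          rw [hs]
          have h1 : ⁅x, y⁆ ∈ Subgroup.upperCentralSeries S i :=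
            Subgroup.mem_upperCentralSeries_succ_iff.1 hx y
          have h2 : y * x * y⁻¹ * x⁻¹ ∈ N := by
            apply ih
            · have : y * x * y⁻¹ * x⁻¹ = ⁅x, y⁆⁻¹ := by rw [commutatorElement_def]; group
              rw [this]; exact Subgroup.inv_mem _ h1
            · intro n hn
              have e1 : x⁻¹ * n = n * x⁻¹ := by
                have := hxN n hn
                calc x⁻¹ * n = x⁻¹ * (n * x) * x⁻¹ := by group
                  _ = x⁻¹ * (x * n) * x⁻¹ := by rw [this]
                  _ = n * x⁻¹ := by group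
              have hn' : y⁻¹ * n * y ∈ N := by
                have := hNn.conj_mem n hn y⁻¹; simpa using this
              have e2 := hxN _ hn'
              calc y * x * y⁻¹ * x⁻¹ * n = y * x * y⁻¹ * (x⁻¹ * n) := by group
                _ = y * x * y⁻¹ * (n * x⁻¹) := by rw [e1]
                _ = y * (x * (y⁻¹ * n * y)) * y⁻¹ * x⁻¹ := by group
                _ = y * ((y⁻¹ * n * y) * x) * y⁻¹ * x⁻¹ := by rw [e2]
                _ = n * (y * x * y⁻¹ * x⁻¹) := by group
          have e : y * x * y⁻¹ = (y * x * y⁻¹ * x⁻¹) * x := by group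
          rw [e]
          exact Subgroup.mul_mem _ (Subgroup.subset_closure (Or.inl h2))
            (Subgroup.subset_closure (Or.inr rfl))
      have hle : N ≤ Subgroup.closure ((N : Set S) ∪ {x}) :=
        fun n hn => Subgroup.subset_closure (Or.inl hn)
      have heq := hmax _ hnorm
        (IsMulCommutative.of_setLike_mul_comm (fun a ha b hb => hcomm a ha b hb)) hle
      apply hxnot
      rw [← heq]
      exact Subgroup.subset_closure (Or.inr rfl)
  intro x hx
  exact key c x (by rw [hc]; trivial) hx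

theorem fam_le_maxnormal {S : Type*} [Group S] [Finite S] {p : ℕ} [Fact p.Prime]
    (hS : IsPGroup p S) (A : Subgroup S) (hA : A ∈ dStarFamily S) (N : Subgroup S)
    (hNn : N.Normal) (hNc : IsMulCommutative N)
    (hmax : ∀ B : Subgroup S, B.Normal → IsMulCommutative B → N ≤ B → B = N) : A ≤ N := by
  obtain ⟨hAc, hAP⟩ := hA
  haveI : Group.IsNilpotent S := hS.isNilpotent
  obtain ⟨c, hc⟩ := Group.IsNilpotent.nilpotent S
  have key : ∀ i : ℕ, ∀ n ∈ N ⊓ Subgroup.upperCentralSeries S i, ∀ a ∈ A, a * n = n * a := by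
    intro i
    induction i with
    | zero =>
      intro n hn a _
      have h0 : n ∈ Subgroup.upperCentralSeries S 0 := hn.2
      rw [Subgroup.upperCentralSeries_zero, Subgroup.mem_bot] at h0
      rw [h0]; simp
    | succ i ih =>
      intro n hn
      apply hAP n
      apply cls2 A n (N ⊓ Subgroup.upperCentralSeries S i)
      · intro a ha a' ha'; exact setLike_mul_comm ha ha'
      · intro z hz a ha; exact (ih z hz a ha).symm
      · intro z hz; exact setLike_mul_comm hz.1 hn.1
      · intro a ha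
        refine ⟨?_, ?_⟩
        · rw [commutatorElement_def]
          exact N.mul_mem (hNn.conj_mem n hn.1 a) (N.inv_mem hn.1)
        · rw [← commutatorElement_inv]
          exact Subgroup.inv_mem _ (Subgroup.mem_upperCentralSeries_succ_iff.1 hn.2 a)
  intro a ha
  apply maxnormal_selfcent hS N hNn hNc hmax
  intro n hn
  exact key c n ⟨hn, by rw [hc]; trivial⟩ a ha

theorem exists_maxnormal (S : Type*) [Group S] [Finite S] :
    ∃ N : Subgroup S, N.Normal ∧ IsMulCommutative N ∧
      ∀ B : Subgroup S, B.Normal → IsMulCommutative B → N ≤ B → B = N := by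
  have hfin : {B : Subgroup S | B.Normal ∧ IsMulCommutative B}.Finite := Set.toFinite _
  have hne : {B : Subgroup S | B.Normal ∧ IsMulCommutative B}.Nonempty :=
    ⟨⊥, inferInstance, inferInstance⟩
  obtain ⟨T, hT⟩ := hfin.exists_maximal hne
  exact ⟨T, hT.1.1, hT.1.2, fun B hB hBc hle => le_antisymm (hT.2 ⟨hB, hBc⟩ hle) hle⟩

theorem fam_sup {S : Type*} [Group S] [Finite S] {p : ℕ} [Fact p.Prime]
    (hS : IsPGroup p S) (A₁ A₂ : Subgroup S) (h1 : A₁ ∈ dStarFamily S)
    (h2 : A₂ ∈ dStarFamily S) : A₁ ⊔ A₂ ∈ dStarFamily S := by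
  obtain ⟨N, hNn, hNc, hmax⟩ := exists_maxnormal S
  have hle : A₁ ⊔ A₂ ≤ N := sup_le (fam_le_maxnormal hS A₁ h1 N hNn hNc hmax)
    (fam_le_maxnormal hS A₂ h2 N hNn hNc hmax)
  refine ⟨IsMulCommutative.of_setLike_mul_comm
    (fun a ha b hb => by haveI := hNc; exact setLike_mul_comm (hle ha) (hle hb)), ?_⟩
  intro x hx
  have hx1 : ⁅⁅A₁ ⊔ Subgroup.zpowers x, A₁ ⊔ Subgroup.zpowers x⁆, A₁ ⊔ Subgroup.zpowers x⁆ = ⊥ := by
    rw [eq_bot_iff, ← hx]
    have : A₁ ⊔ Subgroup.zpowers x ≤ A₁ ⊔ A₂ ⊔ Subgroup.zpowers x :=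
      sup_le_sup_right le_sup_left _
    exact Subgroup.commutator_mono (Subgroup.commutator_mono this this) this
  have hx2 : ⁅⁅A₂ ⊔ Subgroup.zpowers x, A₂ ⊔ Subgroup.zpowers x⁆, A₂ ⊔ Subgroup.zpowers x⁆ = ⊥ := by
    rw [eq_bot_iff, ← hx]
    have : A₂ ⊔ Subgroup.zpowers x ≤ A₁ ⊔ A₂ ⊔ Subgroup.zpowers x :=
      sup_le_sup_right le_sup_right _
    exact Subgroup.commutator_mono (Subgroup.commutator_mono this this) this
  have hle2 : A₁ ⊔ A₂ ≤ Subgroup.centralizer ({x} : Set S) := by
    apply sup_le
    · intro a ha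
      rw [Subgroup.mem_centralizer_iff]
      intro y hy
      rw [Set.mem_singleton_iff] at hy
      rw [hy]; exact (h1.2 x hx1 a ha).symm
    · intro a ha
      rw [Subgroup.mem_centralizer_iff]
      intro y hy
      rw [Set.mem_singleton_iff] at hy
      rw [hy]; exact (h2.2 x hx2 a ha).symm
  intro a ha
  have := hle2 ha
  rw [Subgroup.mem_centralizer_iff] at this
  exact (this x rfl).symm

theorem result {S : Type*} [Group S] [Finite S] {p : ℕ} [Fact p.Prime] (hS : IsPGroup p S) :
    Cfsg.dStar S ∈ Cfsg.dStarFamily S := by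
  have hfin : (dStarFamily S).Finite := Set.toFinite _
  have hne : (dStarFamily S).Nonempty :=
    ⟨⊥, inferInstance, fun x _ a ha => by rw [Subgroup.mem_bot.1 ha]; simp⟩
  obtain ⟨M, hM⟩ := hfin.exists_maximal hne
  have heq : dStar S = M := by
    apply le_antisymm
    · apply sSup_le
      intro A hA
      exact le_sup_left.trans (hM.2 (fam_sup hS A M hA hM.1) le_sup_right)
    · exact le_sSup hM.1
  rw [heq]; exact hM.1

end Cfsg.Agent.S3061
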