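import Mathlib
import Cfsg.Statements.S3060
import Cfsg.Agent.S3061
import Cfsg.Agent.S0653
import Cfsg.Agent.Lib.Helper3.Core
set_option autoImplicit false
open Pointwise
open Cfsg
open scoped commutatorElement

namespace Cfsg.Agent.S3060

open Cfsg.Agent.Lib.Helper3.Core
open Cfsg.Agent.S0653

/-- Membership in the `D*` family, for subgroups of an ambient group. -/
def IsDFam {G : Type*} [Group G] (P A : Subgroup G) : Prop :=
  A ≤ P ∧ IsMulCommutative A ∧ ∀ x ∈ P,
    ⁅⁅A ⊔ Subgroup.zpowers x, A ⊔ Subgroup.zpowers x⁆, A ⊔ Subgroup.zpowers x⁆ = ⊥ →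
      ∀ a ∈ A, a * x = x * a

theorem fam_iff {G : Type*} [Group G] (P : Subgroup G) (A' : Subgroup ↥P) :
    A' ∈ dStarFamily ↥P ↔ IsDFam P (A'.map P.subtype) := by
  constructor
  · rintro ⟨hc, hP⟩
    refine ⟨Subgroup.map_subtype_le _, by haveI := hc; exact Subgroup.map_isMulCommutative A' _, ?_⟩
    intro x hx hcl
    rintro _ ⟨a', ha', rfl⟩
    have hcl' : ⁅⁅A' ⊔ Subgroup.zpowers (⟨x, hx⟩ : ↥P), A' ⊔ Subgroup.zpowers (⟨x, hx⟩ : ↥P)⁆,
        A' ⊔ Subgroup.zpowers (⟨x, hx⟩ : ↥P)⁆ = ⊥ := by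
      apply Subgroup.map_injective P.subtype_injective
      rw [Subgroup.map_commutator, Subgroup.map_commutator, Subgroup.map_sup,
        MonoidHom.map_zpowers, Subgroup.map_bot]
      exact hcl
    exact congrArg Subtype.val (hP ⟨x, hx⟩ hcl' a' ha')
  · rintro ⟨-, hc, hP⟩
    refine ⟨IsMulCommutative.of_setLike_mul_comm ?_, ?_⟩
    · intro a ha b hb
      apply Subtype.ext
      haveI := hc
      have h1 : (a : G) ∈ A'.map P.subtype := ⟨a, ha, rfl⟩
      have h2 : (b : G) ∈ A'.map P.subtype := ⟨b, hb, rfl⟩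
      exact setLike_mul_comm h1 h2
    · intro x' hcl a' ha'
      have h1 := congrArg (Subgroup.map P.subtype) hcl
      rw [Subgroup.map_commutator, Subgroup.map_commutator, Subgroup.map_sup,
        MonoidHom.map_zpowers, Subgroup.map_bot] at h1
      exact Subtype.ext (hP (x' : G) x'.2 h1 (a' : G) ⟨a', ha', rfl⟩)

theorem dStarOf_fam {G : Type*} [Group G] [Finite G] {p : ℕ} [Fact p.Prime] (P : Subgroup G)
    (hP : IsPGroup p P) : IsDFam P (dStarOf P) :=
  (fam_iff P _).1 (S3061.result hP)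

theorem le_dStarOf {G : Type*} [Group G] (P A : Subgroup G) (h : IsDFam P A) : A ≤ dStarOf P := by
  have h1 : A.subgroupOf P ∈ dStarFamily ↥P := by
    rw [fam_iff, Subgroup.map_subgroupOf_eq_of_le h.1]
    exact h
  have h2 : A.subgroupOf P ≤ dStar ↥P := le_sSup h1
  have h3 := Subgroup.map_mono (f := P.subtype) h2
  rw [Subgroup.map_subgroupOf_eq_of_le h.1] at h3
  exact h3

theorem fam_conj' {G : Type*} [Group G] (P A : Subgroup G) (h : IsDFam P A) (n : G)
    (hn : n ∈ Subgroup.normalizer (P : Set G)) : IsDFam P (A.map (MulAut.conj n).toMonoidHom) := by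
  obtain ⟨hAP, hAc, hAP'⟩ := h
  have hn' := hn
  rw [Subgroup.mem_normalizer_iff] at hn'
  refine ⟨?_, by haveI := hAc; exact Subgroup.map_isMulCommutative A _, ?_⟩
  · rintro _ ⟨a, ha, rfl⟩
    exact (hn' a).1 (hAP ha)
  · intro x hx hcl
    have hyP : n⁻¹ * x * n ∈ P := by
      apply (hn' _).2
      have e : n * (n⁻¹ * x * n) * n⁻¹ = x := by group
      rw [e]; exact hx
    have hy : ⁅⁅A ⊔ Subgroup.zpowers (n⁻¹ * x * n), A ⊔ Subgroup.zpowers (n⁻¹ * x * n)⁆,
        A ⊔ Subgroup.zpowers (n⁻¹ * x * n)⁆ = ⊥ := by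
      apply Subgroup.map_injective (f := (MulAut.conj n).toMonoidHom) (MulAut.conj n).injective
      rw [Subgroup.map_commutator, Subgroup.map_commutator, Subgroup.map_sup,
        MonoidHom.map_zpowers, Subgroup.map_bot]
      have e : (MulAut.conj n).toMonoidHom (n⁻¹ * x * n) = x := by
        show n * (n⁻¹ * x * n) * n⁻¹ = x
        group
      rw [e]; exact hcl
    rintro _ ⟨a, ha, rfl⟩
    have := hAP' _ hyP hy a ha
    show n * a * n⁻¹ * x = x * (n * a * n⁻¹)
    calc n * a * n⁻¹ * x = n * (a * (n⁻¹ * x * n)) * n⁻¹ := by group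
      _ = n * ((n⁻¹ * x * n) * a) * n⁻¹ := by rw [this]
      _ = x * (n * a * n⁻¹) := by group

theorem dStarOf_norm {G : Type*} [Group G] [Finite G] {p : ℕ} [Fact p.Prime] (P : Subgroup G)
    (hP : IsPGroup p P) (n : G) (hn : n ∈ Subgroup.normalizer (P : Set G)) :
    ∀ d ∈ dStarOf P, n * d * n⁻¹ ∈ dStarOf P := by
  intro d hd
  exact le_dStarOf P _ (fam_conj' P _ (dStarOf_fam P hP) n hn) ⟨d, hd, rfl⟩

theorem result {G : Type*} [Group G] [Finite G] {p : ℕ} [Fact p.Prime] (hp : p ≠ 2)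
    (hc : Subgroup.centralizer (Cfsg.pCore p G : Set G) ≤ Cfsg.pCore p G)
    (hst : ∀ (P : Subgroup G) [P.Normal], IsPGroup p P → Cfsg.IsPStableOn p P) (S : Sylow p G) :
    (Cfsg.dStarOf (S : Subgroup G)).Normal := by
  have hWf : IsDFam (S : Subgroup G) (dStarOf (S : Subgroup G)) := dStarOf_fam _ S.isPGroup'
  have hWS : ∀ s ∈ (S : Subgroup G), ∀ w ∈ dStarOf (S : Subgroup G),
      s * w * s⁻¹ ∈ dStarOf (S : Subgroup G) :=
    fun s hs w hw => dStarOf_norm _ S.isPGroup' s (Subgroup.le_normalizer hs) w hw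
  generalize hWdef : dStarOf (S : Subgroup G) = W at hWf hWS ⊢
  have hWab : ∀ x ∈ W, ∀ y ∈ W, x * y = y * x := by
    haveI := hWf.2.1
    exact fun x hx y hy => setLike_mul_comm hx hy
  -- W ≤ O_p(G)
  haveI hQn : (pCore p G).Normal := Cfsg.Agent.Lib.Helper3.Core.pCore_normal (G := G) p
  have hQp : IsPGroup p (pCore p G) := pCore_isPGroup p
  have hQS : pCore p G ≤ (S : Subgroup G) := pCore_le_sylow S
  have hWQ : W ≤ pCore p G := by
    obtain ⟨K, hKn, hK1, -, hK3⟩ := K_props (pCore p G) S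
    have hKp : IsPGroup p K := by
      rintro ⟨k, hk⟩
      obtain ⟨n, hn⟩ := hK3 k hk
      obtain ⟨m, hm⟩ := hQp ⟨k ^ p ^ n, hc hn⟩
      refine ⟨n + m, ?_⟩
      apply Subtype.ext
      have h2 := congrArg Subtype.val hm
      rw [Subgroup.coe_pow] at h2 ⊢
      show k ^ p ^ (n + m) = 1
      rw [pow_add, pow_mul]; exact h2
    have hKQ : K ≤ pCore p G := le_pCore K hKn hKp
    intro a ha
    apply hKQ
    apply hK1
    apply hst (pCore p G) hQp
    have hz : Subgroup.zpowers a ≤ W := by rw [Subgroup.zpowers_le]; exact ha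
    have h1 : ⁅pCore p G, Subgroup.zpowers a⁆ ≤ W := by
      rw [Subgroup.commutator_le]
      intro q hq z hz'
      rw [commutatorElement_def]
      exact Subgroup.mul_mem _ (hWS q (hQS hq) z (hz hz')) (Subgroup.inv_mem _ (hz hz'))
    rw [eq_bot_iff]
    refine (Subgroup.commutator_mono h1 hz).trans ?_
    rw [Subgroup.commutator_le]
    intro u hu v hv
    rw [commutatorElement_eq_one_iff_mul_comm.2 (hWab u hu v hv)]
    exact Subgroup.one_mem _
  -- the normal closure of W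
  have hBn : (Subgroup.normalClosure (W : Set G)).Normal := Subgroup.normalClosure_normal
  have hBQ : Subgroup.normalClosure (W : Set G) ≤ pCore p G :=
    Subgroup.normalClosure_le_normal hWQ
  have hWB : W ≤ Subgroup.normalClosure (W : Set G) := Subgroup.subset_normalClosure
  generalize hBdef : Subgroup.normalClosure (W : Set G) = B at hBn hBQ hWB
  have hBcl : ∀ M : Subgroup G, (∀ g : G, ∀ w ∈ W, g * w * g⁻¹ ∈ M) → B ≤ M := by
    intro M hM
    rw [← hBdef]
    exact ncl_le W M hM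
  have hBp : IsPGroup p B := hQp.to_le hBQ
  have hBS : B ≤ (S : Subgroup G) := hBQ.trans hQS
  haveI := hBn
  obtain ⟨K, hKn, hK1, hK2, -⟩ := K_props B S
  haveI := hKn
  have hWK : W ≤ K := by
    intro a ha
    apply hK1
    apply hst B hBp
    have hz : Subgroup.zpowers a ≤ W := by rw [Subgroup.zpowers_le]; exact ha
    have h1 : ⁅B, Subgroup.zpowers a⁆ ≤ W := by
      rw [Subgroup.commutator_le]
      intro b hb z hz'
      rw [commutatorElement_def]
      exact Subgroup.mul_mem _ (hWS b (hBS hb) z (hz hz')) (Subgroup.inv_mem _ (hz hz'))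
    rw [eq_bot_iff]
    refine (Subgroup.commutator_mono h1 hz).trans ?_
    rw [Subgroup.commutator_le]
    intro u hu v hv
    rw [commutatorElement_eq_one_iff_mul_comm.2 (hWab u hu v hv)]
    exact Subgroup.one_mem _
  have hWR : W ≤ (S : Subgroup G) ⊓ K := le_inf hWf.1 hWK
  have hRp : IsPGroup p ↥((S : Subgroup G) ⊓ K) := S.isPGroup'.to_le inf_le_left
  have hWfR : IsDFam ((S : Subgroup G) ⊓ K) W := ⟨hWR, hWf.2.1, fun x hx => hWf.2.2 x hx.1⟩
  have hWDR : W ≤ dStarOf ((S : Subgroup G) ⊓ K) := le_dStarOf _ _ hWfR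
  have hconj : ∀ g : G, ∀ w ∈ W, ∃ m ∈ Subgroup.normalizer
      ((((S : Subgroup G) ⊓ K : Subgroup G)) : Set G), g * w * g⁻¹ = m * w * m⁻¹ := by
    intro g w hw
    obtain ⟨n, hn, k, hk, rfl⟩ := frattini S K g
    obtain ⟨s, hs, c, hc', rfl⟩ := hK2 k hk
    refine ⟨n * s, Subgroup.mul_mem _ hn (Subgroup.le_normalizer hs), ?_⟩
    have hcw : c * w * c⁻¹ = w := by
      rw [Subgroup.mem_centralizer_iff] at hc'
      rw [← hc' w (hWB hw)]; group
    calc n * (s * c) * w * (n * (s * c))⁻¹ = (n * s) * (c * w * c⁻¹) * (n * s)⁻¹ := by group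
      _ = (n * s) * w * (n * s)⁻¹ := by rw [hcw]
  have hBDR : B ≤ dStarOf ((S : Subgroup G) ⊓ K) := by
    apply hBcl
    intro g w hw
    obtain ⟨m, hm, e⟩ := hconj g w hw
    rw [e]
    exact dStarOf_norm _ hRp m hm w (hWDR hw)
  have hDRf := dStarOf_fam ((S : Subgroup G) ⊓ K) hRp
  have hBab : ∀ x ∈ B, ∀ y ∈ B, x * y = y * x := by
    haveI := hDRf.2.1
    exact fun x hx y hy => setLike_mul_comm (hBDR hx) (hBDR hy)
  have hBf : IsDFam (S : Subgroup G) B := by
    refine ⟨hBS, IsMulCommutative.of_setLike_mul_comm hBab, ?_⟩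
    intro x hxS hcl
    have hxq : ⁅⁅B, Subgroup.zpowers x⁆, Subgroup.zpowers x⁆ = ⊥ := by
      rw [eq_bot_iff, ← hcl]
      exact Subgroup.commutator_mono (Subgroup.commutator_mono le_sup_left le_sup_right)
        le_sup_right
    have hxK : x ∈ K := hK1 x (hst B hBp x hxq)
    have hcen : B ≤ Subgroup.centralizer ({x} : Set G) := by
      apply hBcl
      intro g w hw
      obtain ⟨m, hm, e⟩ := hconj g w hw
      rw [e, Subgroup.mem_centralizer_iff]
      intro y hy
      rw [Set.mem_singleton_iff] at hy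
      rw [hy]
      have hy' : m⁻¹ * x * m ∈ (S : Subgroup G) ⊓ K := by
        have hm' := hm
        rw [Subgroup.mem_normalizer_iff] at hm'
        apply (hm' _).2
        have e2 : m * (m⁻¹ * x * m) * m⁻¹ = x := by group
        rw [e2]; exact ⟨hxS, hxK⟩
      have hcl' : ⁅⁅W ⊔ Subgroup.zpowers (m⁻¹ * x * m), W ⊔ Subgroup.zpowers (m⁻¹ * x * m)⁆,
          W ⊔ Subgroup.zpowers (m⁻¹ * x * m)⁆ = ⊥ := by
        have h1 : W ⊔ Subgroup.zpowers (m⁻¹ * x * m) ≤
            (B ⊔ Subgroup.zpowers x).map (MulAut.conj m⁻¹).toMonoidHom := by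
          rw [Subgroup.map_sup, MonoidHom.map_zpowers]
          apply sup_le_sup
          · intro w' hw'
            refine ⟨m * w' * m⁻¹, hBn.conj_mem w' (hWB hw') m, ?_⟩
            show m⁻¹ * (m * w' * m⁻¹) * m⁻¹⁻¹ = w'
            group
          · apply le_of_eq
            congr 1
            show m⁻¹ * x * m = m⁻¹ * x * m⁻¹⁻¹
            group
        rw [eq_bot_iff]
        refine (Subgroup.commutator_mono (Subgroup.commutator_mono h1 h1) h1).trans ?_
        rw [← Subgroup.map_commutator, ← Subgroup.map_commutator, hcl, Subgroup.map_bot]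
      have h2 := hWf.2.2 _ hy'.1 hcl' w hw
      calc x * (m * w * m⁻¹) = m * ((m⁻¹ * x * m) * w) * m⁻¹ := by group
        _ = m * (w * (m⁻¹ * x * m)) * m⁻¹ := by rw [h2]
        _ = m * w * m⁻¹ * x := by group
    intro b hb
    have := hcen hb
    rw [Subgroup.mem_centralizer_iff] at this
    exact (this x rfl).symm
  have hBW : B ≤ W := by
    rw [← hWdef]
    exact le_dStarOf _ _ hBf
  have hEq : W = B := le_antisymm hWB hBW
  rw [hEq]; exact hBn

end Cfsg.Agent.S3060
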