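import Mathlib
import Cfsg.Statements.S3062
import Cfsg.Agent.S3061
import Cfsg.Agent.S0650
import Cfsg.Agent.S0651
import Cfsg.Agent.S0653
import Cfsg.Agent.S0658
set_option autoImplicit false
open Pointwise
open Cfsg
open scoped commutatorElement

namespace Cfsg.Agent.S3062

theorem fam_conj {S : Type*} [Group S] (A : Subgroup S) (hA : A ∈ dStarFamily S) (g : S) :
    A.map (MulAut.conj g).toMonoidHom ∈ dStarFamily S := by
  obtain ⟨hAc, hAP⟩ := hA
  refine ⟨by haveI := hAc; exact Subgroup.map_isMulCommutative A _, ?_⟩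
  intro x hx
  have hy : ⁅⁅A ⊔ Subgroup.zpowers (g⁻¹ * x * g), A ⊔ Subgroup.zpowers (g⁻¹ * x * g)⁆,
      A ⊔ Subgroup.zpowers (g⁻¹ * x * g)⁆ = ⊥ := by
    apply Subgroup.map_injective (f := (MulAut.conj g).toMonoidHom) (MulAut.conj g).injective
    rw [Subgroup.map_commutator, Subgroup.map_commutator, Subgroup.map_sup,
      MonoidHom.map_zpowers, Subgroup.map_bot]
    have e : (MulAut.conj g).toMonoidHom (g⁻¹ * x * g) = x := by
      show g * (g⁻¹ * x * g) * g⁻¹ = x
      group
    rw [e]; exact hx
  rintro _ ⟨a, ha, rfl⟩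
  have := hAP _ hy a ha
  show g * a * g⁻¹ * x = x * (g * a * g⁻¹)
  calc g * a * g⁻¹ * x = g * (a * (g⁻¹ * x * g)) * g⁻¹ := by group
    _ = g * ((g⁻¹ * x * g) * a) * g⁻¹ := by rw [this]
    _ = x * (g * a * g⁻¹) := by group

theorem dStar_normal (S : Type*) [Group S] : (dStar S).Normal := by
  constructor
  intro d hd g
  have hmap : (dStar S).map (MulAut.conj g).toMonoidHom ≤ dStar S := by
    rw [Subgroup.map_le_iff_le_comap]
    apply sSup_le
    intro A hA
    rw [← Subgroup.map_le_iff_le_comap]
    exact le_sSup (fam_conj A hA g)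
  exact hmap ⟨d, hd, rfl⟩

theorem result {S : Type*} [Group S] [Finite S] {p : ℕ} [Fact p.Prime]
    (hS : IsPGroup p S) :
    Subgroup.center S ≤ Cfsg.dStar S ∧
    Cfsg.dStar S ≤ Cfsg.thompsonSubgroupA S ⊓ Subgroup.centralizer (Cfsg.thompsonSubgroupA S : Set S) ∧
    ∀ A : Subgroup S, A.Normal → IsMulCommutative A →
      (∀ B : Subgroup S, B.Normal → IsMulCommutative B → A ≤ B → B = A) → Cfsg.dStar S ≤ A := by
  refine ⟨?_, ?_, ?_⟩
  · apply le_sSup
    refine ⟨inferInstance, fun x _ a ha => ?_⟩
    exact (Subgroup.mem_center_iff.1 ha x).symm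
  · have hD := S3061.result hS
    have hDn : (dStar S).Normal := dStar_normal S
    haveI hDc := hD.1
    have hDD : ⁅dStar S, dStar S⁆ = ⊥ := by
      rw [Subgroup.commutator_eq_bot_iff_le_centralizer]
      intro x hx
      rw [Subgroup.mem_centralizer_iff]
      intro y hy
      exact setLike_mul_comm hy hx
    have hDle : ∀ n : ℕ, ∀ B ∈ maxAbelianSubgroups S,
        Nat.card (dStar S) - Nat.card ↥(B ⊓ dStar S) ≤ n → dStar S ≤ B := by
      intro n
      induction n using Nat.strong_induction_on with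
      | _ n ih =>
        intro B hB hn
        by_cases hDB : dStar S ≤ B
        · exact hDB
        exfalso
        by_cases hN : dStar S ≤ Subgroup.normalizer (B : Set S)
        · apply hDB
          have hcent : ∀ b ∈ B, ∀ d ∈ dStar S, d * b = b * d := by
            intro b hb
            apply hD.2 b
            apply S3061.cls2 (dStar S) b (dStar S ⊓ B)
            · intro a ha a' ha'; exact setLike_mul_comm ha ha'
            · intro z hz a ha; exact setLike_mul_comm hz.1 ha
            · intro z hz; haveI := hB.1; exact setLike_mul_comm hz.2 hb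
            · intro a ha
              rw [commutatorElement_def]
              refine ⟨?_, ?_⟩
              · have : a * b * a⁻¹ * b⁻¹ = a * (b * a⁻¹ * b⁻¹) := by group
                rw [this]
                exact Subgroup.mul_mem _ ha (hDn.conj_mem _ (Subgroup.inv_mem _ ha) b)
              · have haN := hN ha
                rw [Subgroup.mem_normalizer_iff] at haN
                exact B.mul_mem ((haN b).1 hb) (B.inv_mem hb)
          intro d hd
          exact S0658.mem_maxab_of_central ⊤ B ⟨le_top, hB.1, fun Y _ hYc => hB.2 Y hYc⟩ d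
            (Subgroup.mem_top d) (fun b hb => (hcent b hb d hd).symm)
        · obtain ⟨b, hb, hbN, hbA⟩ := S0651.exists_b hS (dStar S) B hN
          obtain ⟨c1, c2, c3, c4, c5, c6, c7, -⟩ := S0650.result hS (dStar S) (fun _ => hDc) B hB.1
            (by rw [hDD]; exact bot_le) hN b hb hbN hbA
          have hlt := S0651.card_lt_of_lt c4
          have hle := Subgroup.card_le_of_le (inf_le_right :
            ((B ⊓ B.map (MulAut.conj (b⁻¹)).toMonoidHom) ⊔
              Subgroup.closure {g : S | ∃ a ∈ B, g = a * b⁻¹ * a⁻¹ * b}) ⊓ dStar S ≤ dStar S)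
          have hDBs := ih (Nat.card (dStar S) - Nat.card ↥(((B ⊓ B.map (MulAut.conj (b⁻¹)).toMonoidHom) ⊔
              Subgroup.closure {g : S | ∃ a ∈ B, g = a * b⁻¹ * a⁻¹ * b}) ⊓ dStar S)) (by omega) _
            ⟨c2, fun Y hY => by rw [c1]; exact hB.2 Y hY⟩ le_rfl
          exact c5.ne (inf_eq_right.2 hDBs)
    have hall : ∀ B ∈ maxAbelianSubgroups S, dStar S ≤ B := fun B hB => hDle _ B hB le_rfl
    obtain ⟨B₀, hB₀⟩ : ∃ B₀, B₀ ∈ maxAbelianSubgroups S := by
      haveI : Nonempty {A : Subgroup S // IsMulCommutative A} := ⟨⟨⊥, inferInstance⟩⟩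
      obtain ⟨A, hA⟩ := Finite.exists_max
        (fun A : {A : Subgroup S // IsMulCommutative A} => Nat.card A.1)
      exact ⟨A.1, A.2, fun Y hY => hA ⟨Y, hY⟩⟩
    refine le_inf ((hall B₀ hB₀).trans (le_sSup hB₀)) ?_
    rw [Subgroup.le_centralizer_iff]
    show sSup (maxAbelianSubgroups S) ≤ _
    apply sSup_le
    intro B hB b hb
    rw [Subgroup.mem_centralizer_iff]
    intro d hd
    haveI := hB.1
    exact setLike_mul_comm (hall B hB hd) hb
  · intro A hAn hAc hmax
    apply sSup_le
    intro B hB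
    exact S3061.fam_le_maxnormal hS B hB A hAn hAc hmax

end Cfsg.Agent.S3062
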