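import Mathlib
import Cfsg.Statements.S3079
import Cfsg.Agent.S0650
import Cfsg.Agent.S0651
import Cfsg.Agent.S0652
import Cfsg.Agent.S0653
import Cfsg.Agent.S0654
import Cfsg.Agent.S0667
import Cfsg.Agent.S0003
import Cfsg.Agent.S0542
import Cfsg.Agent.Lib.Helper3.Core
set_option autoImplicit false
open Pointwise
open Cfsg
open scoped commutatorElement

namespace Cfsg.Agent.S3079

open Cfsg.Agent.Lib.Helper3.Core
open Cfsg.Agent.S0653

/-- Axioms for a family of abelian subgroups attached to subgroups of a fixed `p`-subgroup. -/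
structure Fam' {G : Type*} [Group G] (p : ℕ) (S₀ : Subgroup G)
    (F : Subgroup G → Subgroup G → Prop) : Prop where
  le : ∀ P A, F P A → A ≤ P
  comm : ∀ P A, F P A → IsMulCommutative A
  ex : ∀ P : Subgroup G, ∃ A, F P A
  conj : ∀ T, T ≤ S₀ → ∀ n ∈ Subgroup.normalizer (T : Set G), ∀ A, F T A →
    F T (A.map (MulAut.conj n).toMonoidHom)
  up : ∀ T A₀ A, T ≤ S₀ → F S₀ A₀ → A₀ ≤ T → F T A → F S₀ A
  down : ∀ T A, T ≤ S₀ → F S₀ A → A ≤ T → F T A
  repl : ∀ (B : Subgroup G), B ≤ S₀ → S₀ ≤ Subgroup.normalizer (B : Set G) →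
    ⁅⁅B, B⁆, B⁆ = ⊥ → ∀ U, F S₀ U → ⁅B, B⁆ ≤ U → ¬ B ≤ U →
    ∃ A, F S₀ A ∧ ⁅B, B⁆ ≤ A ∧ ¬ B ≤ A ∧ B ≤ Subgroup.normalizer (A : Set G)

theorem W_conj' {G : Type*} [Group G] {p : ℕ} {S₀ : Subgroup G}
    {F : Subgroup G → Subgroup G → Prop} (hF : Fam' p S₀ F)
    (T : Subgroup G) (hT : T ≤ S₀) (n : G) (hn : n ∈ Subgroup.normalizer (T : Set G)) (x : G)
    (hx : x ∈ W F T) : n * x * n⁻¹ ∈ W F T := by
  rw [mem_W] at hx ⊢
  intro A hA
  have h1 := hF.conj T hT n⁻¹ (Subgroup.inv_mem _ hn) A hA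
  obtain ⟨a, ha, hax⟩ := hx _ h1
  have e : n * x * n⁻¹ = a := by
    rw [← hax]
    show n * (n⁻¹ * a * n⁻¹⁻¹) * n⁻¹ = a
    group
  rw [e]; exact ha

theorem W_ab' {G : Type*} [Group G] {p : ℕ} {S₀ : Subgroup G}
    {F : Subgroup G → Subgroup G → Prop} (hF : Fam' p S₀ F)
    (P : Subgroup G) : ∀ x ∈ W F P, ∀ y ∈ W F P, x * y = y * x := by
  intro x hx y hy
  obtain ⟨A, hA⟩ := hF.ex P
  haveI := hF.comm _ A hA
  exact setLike_mul_comm ((mem_W F _ x).1 hx A hA) ((mem_W F _ y).1 hy A hA)

theorem normal_step' {G : Type*} [Group G] [Finite G] {p : ℕ} [Fact p.Prime]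
    (hst : ∀ (P : Subgroup G) [P.Normal], IsPGroup p P → Cfsg.IsPStableOn p P) (S : Sylow p G)
    (F : Subgroup G → Subgroup G → Prop) (hF : Fam' p (S : Subgroup G) F) :
    ∀ n : ℕ, ∀ B : Subgroup G, B.Normal → IsPGroup p B → Nat.card B ≤ n →
      ∀ g : G, ∀ x ∈ W F (S : Subgroup G) ⊓ B, g * x * g⁻¹ ∈ W F (S : Subgroup G) ⊓ B := by
  have hWS : ∀ s ∈ (S : Subgroup G), ∀ w ∈ W F (S : Subgroup G), s * w * s⁻¹ ∈ W F (S : Subgroup G) :=
    fun s hs w hw => W_conj' hF _ le_rfl s (Subgroup.le_normalizer hs) w hw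
  have hWab := W_ab' hF (S : Subgroup G)
  intro n
  induction n with
  | zero =>
    intro B _ _ hcard
    have : 0 < Nat.card B := Nat.card_pos
    omega
  | succ n ih =>
    intro B hBn hBp hcard g x hx
    haveI := hBn
    have hB₁B : Subgroup.normalClosure ((W F (S : Subgroup G) ⊓ B : Subgroup G) : Set G) ≤ B :=
      Subgroup.normalClosure_le_normal (fun y hy => hy.2)
    have hsub : W F (S : Subgroup G) ⊓ B ≤
        Subgroup.normalClosure ((W F (S : Subgroup G) ⊓ B : Subgroup G) : Set G) :=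
      Subgroup.subset_normalClosure
    by_cases hEq : Subgroup.normalClosure ((W F (S : Subgroup G) ⊓ B : Subgroup G) : Set G) = B
    · by_cases hbot : B = ⊥
      · have hx1 : x = 1 := by
          have := hx.2; rw [hbot] at this; exact Subgroup.mem_bot.1 this
        rw [hx1]
        have e : g * 1 * g⁻¹ = 1 := by group
        rw [e]; exact Subgroup.one_mem _
      have hB'lt := comm_lt B hBp hbot
      have hB'n : (⁅B, B⁆ : Subgroup G).Normal := Subgroup.commutator_normal B B
      have ih' := ih ⁅B, B⁆ hB'n (hBp.to_le hB'lt.le)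
        (by have := S0651.card_lt_of_lt hB'lt; omega)
      have hBS : B ≤ (S : Subgroup G) := hBp.le_sylow_of_normal S
      have hcl : ∀ M : Subgroup G,
          (∀ g : G, ∀ x ∈ W F (S : Subgroup G) ⊓ B, g * x * g⁻¹ ∈ M) → B ≤ M := by
        intro M hM
        rw [← hEq]
        exact ncl_le _ M hM
      have hB'W : ⁅B, B⁆ ≤ W F (S : Subgroup G) := by
        let Mc : Subgroup G :=
          { carrier := {x | ∀ y ∈ B, x * y * x⁻¹ * y⁻¹ ∈ W F (S : Subgroup G) ⊓ ⁅B, B⁆}
            mul_mem' := by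
              intro a b ha hb y hy
              have e : a * b * y * (a * b)⁻¹ * y⁻¹ =
                  a * (b * y * b⁻¹ * y⁻¹) * a⁻¹ * (a * y * a⁻¹ * y⁻¹) := by group
              rw [e]
              exact Subgroup.mul_mem _ (ih' a _ (hb y hy)) (ha y hy)
            one_mem' := by
              intro y hy
              have e : (1 : G) * y * 1⁻¹ * y⁻¹ = 1 := by group
              rw [e]; exact Subgroup.one_mem _
            inv_mem' := by
              intro a ha y hy
              have e : a⁻¹ * y * a⁻¹⁻¹ * y⁻¹ = a⁻¹ * (a * y * a⁻¹ * y⁻¹)⁻¹ * a⁻¹⁻¹ := by group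
              rw [e]
              exact ih' a⁻¹ _ (Subgroup.inv_mem _ (ha y hy)) }
        have hMc : B ≤ Mc := by
          apply hcl
          intro g x hx y hy
          have hy' : g⁻¹ * y * g ∈ B := by
            have := hBn.conj_mem y hy g⁻¹; simpa using this
          have e : g * x * g⁻¹ * y * (g * x * g⁻¹)⁻¹ * y⁻¹ =
              g * (x * (g⁻¹ * y * g) * x⁻¹ * (g⁻¹ * y * g)⁻¹) * g⁻¹ := by group
          rw [e]
          apply ih'
          refine ⟨?_, ?_⟩
          · have h1 := hWS _ (hBS hy') x⁻¹ (Subgroup.inv_mem _ hx.1)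
            have e2 : x * (g⁻¹ * y * g) * x⁻¹ * (g⁻¹ * y * g)⁻¹ =
                x * ((g⁻¹ * y * g) * x⁻¹ * (g⁻¹ * y * g)⁻¹) := by group
            rw [e2]
            exact Subgroup.mul_mem _ hx.1 h1
          · have := Subgroup.commutator_mem_commutator hx.2 hy'
            rwa [commutatorElement_def] at this
        rw [Subgroup.commutator_le]
        intro a ha b hb
        rw [commutatorElement_def]
        exact (hMc ha b hb).1
      have hcls : ⁅⁅B, B⁆, B⁆ = ⊥ := by
        rw [Subgroup.commutator_comm, Subgroup.commutator_eq_bot_iff_le_centralizer]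
        apply hcl
        intro g x hx
        rw [Subgroup.mem_centralizer_iff]
        intro y hy
        have hy' : g⁻¹ * y * g ∈ ⁅B, B⁆ := by
          have := hB'n.conj_mem y hy g⁻¹; simpa using this
        have h1 := hWab x hx.1 _ (hB'W hy')
        have e1 : y * (g * x * g⁻¹) = g * ((g⁻¹ * y * g) * x) * g⁻¹ := by group
        have e2 : (g * x * g⁻¹) * y = g * (x * (g⁻¹ * y * g)) * g⁻¹ := by group
        rw [e1, e2, h1]
      by_cases hall : ∀ A, F (S : Subgroup G) A → B ≤ A
      · have hBW : B ≤ W F (S : Subgroup G) := by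
          intro b hb
          rw [mem_W]
          intro A hA
          exact hall A hA hb
        exact ⟨hBW (hBn.conj_mem x hx.2 g), hBn.conj_mem x hx.2 g⟩
      · exfalso
        have hexU : ∃ U, F (S : Subgroup G) U ∧ ¬ B ≤ U := by
          by_contra hcon
          apply hall
          intro A hA
          by_contra hBA
          exact hcon ⟨A, hA, hBA⟩
        obtain ⟨U, hU, hnBU⟩ := hexU
        have hWU : W F (S : Subgroup G) ≤ U := fun w hw => (mem_W F _ w).1 hw U hU
        obtain ⟨A, hA, hB'A, hnBA, hBNA⟩ := hF.repl B hBS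
          (by rw [Subgroup.normalizer_eq_top]; exact le_top) hcls U hU (hB'W.trans hWU) hnBU
        obtain ⟨K, hKn, hK1, hK2, -⟩ := K_props B S
        haveI := hKn
        haveI hAc := hF.comm _ A hA
        have hAK : A ≤ K := by
          intro a ha
          apply hK1
          apply hst B hBp
          have hz : Subgroup.zpowers a ≤ A := by rw [Subgroup.zpowers_le]; exact ha
          have h1 : ⁅B, Subgroup.zpowers a⁆ ≤ A := by
            rw [Subgroup.commutator_le]
            intro b hb z hz'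
            rw [commutatorElement_def]
            have hbn := hBNA hb
            rw [Subgroup.mem_normalizer_iff] at hbn
            exact A.mul_mem ((hbn z).1 (hz hz')) (A.inv_mem (hz hz'))
          rw [eq_bot_iff]
          refine (Subgroup.commutator_mono h1 hz).trans ?_
          rw [Subgroup.commutator_le]
          intro u hu v hv
          rw [commutatorElement_eq_one_iff_mul_comm.2 (setLike_mul_comm hu hv)]
          exact Subgroup.one_mem _
        have hAT : A ≤ (S : Subgroup G) ⊓ K := le_inf (hF.le _ A hA) hAK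
        have hFT : F ((S : Subgroup G) ⊓ K) A := hF.down _ A inf_le_left hA hAT
        have hWT : W F (S : Subgroup G) ≤ W F ((S : Subgroup G) ⊓ K) := by
          intro w hw
          rw [mem_W]
          intro A' hA'
          exact (mem_W F _ w).1 hw A' (hF.up _ A A' inf_le_left hA hAT hA')
        have hBWT : B ≤ W F ((S : Subgroup G) ⊓ K) := by
          apply hcl
          intro g x hx
          obtain ⟨n, hn, k, hk, rfl⟩ := frattini S K g
          obtain ⟨s, hs, c, hc, rfl⟩ := hK2 k hk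
          have hcx : c * x * c⁻¹ = x := by
            rw [Subgroup.mem_centralizer_iff] at hc
            rw [← hc x hx.2]; group
          have e : n * (s * c) * x * (n * (s * c))⁻¹ = (n * s) * (c * x * c⁻¹) * (n * s)⁻¹ := by
            group
          rw [e, hcx]
          exact W_conj' hF _ inf_le_left (n * s) (Subgroup.mul_mem _ hn (Subgroup.le_normalizer hs)) x
            (hWT hx.1)
        apply hnBA
        intro b hb
        exact (mem_W F _ b).1 (hBWT hb) A hFT
    · have hlt : Subgroup.normalClosure ((W F (S : Subgroup G) ⊓ B : Subgroup G) : Set G) < B :=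
        lt_of_le_of_ne hB₁B hEq
      have ih' := ih _ Subgroup.normalClosure_normal (hBp.to_le hB₁B)
        (by have := S0651.card_lt_of_lt hlt; omega) g x ⟨hx.1, hsub hx⟩
      exact ⟨ih'.1, hB₁B ih'.2⟩

theorem W_le_pCore' {G : Type*} [Group G] [Finite G] {p : ℕ} [Fact p.Prime]
    (hc : Subgroup.centralizer (Cfsg.pCore p G : Set G) ≤ Cfsg.pCore p G)
    (hst : ∀ (P : Subgroup G) [P.Normal], IsPGroup p P → Cfsg.IsPStableOn p P) (S : Sylow p G)
    (F : Subgroup G → Subgroup G → Prop) (hF : Fam' p (S : Subgroup G) F) :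
    W F (S : Subgroup G) ≤ pCore p G := by
  have hWS : ∀ s ∈ (S : Subgroup G), ∀ w ∈ W F (S : Subgroup G), s * w * s⁻¹ ∈ W F (S : Subgroup G) :=
    fun s hs w hw => W_conj' hF _ le_rfl s (Subgroup.le_normalizer hs) w hw
  have hWab := W_ab' hF (S : Subgroup G)
  haveI hQn : (pCore p G).Normal := Cfsg.Agent.Lib.Helper3.Core.pCore_normal (G := G) p
  have hQp : IsPGroup p (pCore p G) := pCore_isPGroup p
  have hQS : pCore p G ≤ (S : Subgroup G) := pCore_le_sylow S
  obtain ⟨K, hKn, hK1, -, hK3⟩ := K_props (pCore p G) S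
  have hKp : IsPGroup p K := by
    rintro ⟨k, hk⟩
    obtain ⟨n, hn⟩ := hK3 k hk
    obtain ⟨m, hm⟩ := hQp ⟨k ^ p ^ n, hc hn⟩
    refine ⟨n + m, ?_⟩
    apply Subtype.ext
    have h2 := congrArg Subtype.val hm
    rw [Subgroup.coe_pow] at h2 ⊢
    show k ^ p ^ (n + m) = 1
    rw [pow_add, pow_mul]; exact h2
  have hKQ : K ≤ pCore p G := le_pCore K hKn hKp
  intro a ha
  apply hKQ
  apply hK1
  apply hst (pCore p G) hQp
  have hz : Subgroup.zpowers a ≤ W F (S : Subgroup G) := by rw [Subgroup.zpowers_le]; exact ha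
  have h1 : ⁅pCore p G, Subgroup.zpowers a⁆ ≤ W F (S : Subgroup G) := by
    rw [Subgroup.commutator_le]
    intro q hq z hz'
    rw [commutatorElement_def]
    exact Subgroup.mul_mem _ (hWS q (hQS hq) z (hz hz')) (Subgroup.inv_mem _ (hz hz'))
  rw [eq_bot_iff]
  refine (Subgroup.commutator_mono h1 hz).trans ?_
  rw [Subgroup.commutator_le]
  intro u hu v hv
  rw [commutatorElement_eq_one_iff_mul_comm.2 (hWab u hu v hv)]
  exact Subgroup.one_mem _

theorem main' {G : Type*} [Group G] [Finite G] {p : ℕ} [Fact p.Prime]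
    (hc : Subgroup.centralizer (Cfsg.pCore p G : Set G) ≤ Cfsg.pCore p G)
    (hst : ∀ (P : Subgroup G) [P.Normal], IsPGroup p P → Cfsg.IsPStableOn p P) (S : Sylow p G)
    (F : Subgroup G → Subgroup G → Prop) (hF : Fam' p (S : Subgroup G) F) :
    (W F (S : Subgroup G)).Normal := by
  constructor
  intro x hx g
  exact (normal_step' hst S F hF (Nat.card (pCore p G)) (pCore p G)
    (Cfsg.Agent.Lib.Helper3.Core.pCore_normal (G := G) p)
    (pCore_isPGroup p) le_rfl g x ⟨hx, W_le_pCore' hc hst S F hF hx⟩).1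

theorem transfer0 {G : Type*} [Group G] [Finite G] {p : ℕ} [Fact p.Prime] (V : Subgroup G)
    [hV : V.Normal] (a : G) (haN : a ∈ Subgroup.normalizer (V : Set G))
    (ha : QuotientGroup.mk' ((Subgroup.centralizer (V : Set G)).subgroupOf
        (Subgroup.normalizer (V : Set G))) ⟨a, haN⟩ ∈
      pCore p (↥(Subgroup.normalizer (V : Set G)) ⧸
        (Subgroup.centralizer (V : Set G)).subgroupOf (Subgroup.normalizer (V : Set G)))) :
    (QuotientGroup.mk a : G ⧸ Subgroup.centralizer (V : Set G)) ∈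
      pCore p (G ⧸ Subgroup.centralizer (V : Set G)) := by
  have hKn : ((pCore p (↥(Subgroup.normalizer (V : Set G)) ⧸
      (Subgroup.centralizer (V : Set G)).subgroupOf (Subgroup.normalizer (V : Set G)))).comap
      (QuotientGroup.mk' ((Subgroup.centralizer (V : Set G)).subgroupOf
        (Subgroup.normalizer (V : Set G))))).Normal :=
    (Cfsg.Agent.Lib.Helper3.Core.pCore_normal p).comap _
  have hK3 : ∀ k ∈ ((pCore p (↥(Subgroup.normalizer (V : Set G)) ⧸
      (Subgroup.centralizer (V : Set G)).subgroupOf (Subgroup.normalizer (V : Set G)))).comap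
      (QuotientGroup.mk' ((Subgroup.centralizer (V : Set G)).subgroupOf
        (Subgroup.normalizer (V : Set G))))), ∃ j : ℕ,
      ((k : ↥(Subgroup.normalizer (V : Set G))) : G) ^ (p ^ j) ∈
        Subgroup.centralizer (V : Set G) := by
    intro k hk
    obtain ⟨j, hj⟩ := (Cfsg.Agent.Lib.Helper3.Core.pCore_isPGroup p) ⟨_, hk⟩
    refine ⟨j, ?_⟩
    have h2 := congrArg Subtype.val hj
    rw [Subgroup.coe_pow] at h2
    have h3 : QuotientGroup.mk' ((Subgroup.centralizer (V : Set G)).subgroupOf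
        (Subgroup.normalizer (V : Set G))) (k ^ p ^ j) = 1 := by
      rw [map_pow]; exact h2
    have h4 := (QuotientGroup.eq_one_iff _).1 h3
    rw [Subgroup.mem_subgroupOf] at h4
    rw [Subgroup.coe_pow] at h4
    exact h4
  generalize hKdef : ((pCore p (↥(Subgroup.normalizer (V : Set G)) ⧸
      (Subgroup.centralizer (V : Set G)).subgroupOf (Subgroup.normalizer (V : Set G)))).comap
      (QuotientGroup.mk' ((Subgroup.centralizer (V : Set G)).subgroupOf
        (Subgroup.normalizer (V : Set G))))) = K at hKn hK3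
  have haK : (⟨a, haN⟩ : ↥(Subgroup.normalizer (V : Set G))) ∈ K := by
    rw [← hKdef]; exact ha
  have hMp : IsPGroup p ((K.map (Subgroup.normalizer (V : Set G)).subtype).map
      (QuotientGroup.mk' (Subgroup.centralizer (V : Set G)))) := by
    rintro ⟨m, hm⟩
    obtain ⟨g, ⟨k, hk, rfl⟩, rfl⟩ := hm
    obtain ⟨j, hj⟩ := hK3 k hk
    refine ⟨j, Subtype.ext ?_⟩
    rw [Subgroup.coe_pow]
    show (QuotientGroup.mk' (Subgroup.centralizer (V : Set G))) (k : G) ^ p ^ j = 1
    rw [← map_pow]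
    exact (QuotientGroup.eq_one_iff _).2 hj
  have hMn : ((K.map (Subgroup.normalizer (V : Set G)).subtype).map
      (QuotientGroup.mk' (Subgroup.centralizer (V : Set G)))).Normal := by
    constructor
    rintro _ ⟨g, ⟨k, hk, rfl⟩, rfl⟩ gq
    obtain ⟨y, rfl⟩ := QuotientGroup.mk'_surjective _ gq
    have hy : y ∈ Subgroup.normalizer (V : Set G) := by
      rw [Subgroup.normalizer_eq_top]; trivial
    refine ⟨y * (k : G) * y⁻¹, ⟨⟨y, hy⟩ * k * ⟨y, hy⟩⁻¹, hKn.conj_mem k hk ⟨y, hy⟩, rfl⟩, ?_⟩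
    simp only [map_mul, map_inv]
    rfl
  have hmem : (QuotientGroup.mk a : G ⧸ Subgroup.centralizer (V : Set G)) ∈
      (K.map (Subgroup.normalizer (V : Set G)).subtype).map
      (QuotientGroup.mk' (Subgroup.centralizer (V : Set G))) := ⟨a, ⟨⟨a, haN⟩, haK, rfl⟩, rfl⟩
  exact Cfsg.Agent.Lib.Helper3.Core.le_pCore _ hMn hMp hmem

theorem stableOn_of_normalizer {G : Type*} [Group G] [Finite G] {p : ℕ} [Fact p.Prime]
    (hst : Cfsg.IsNormalizerPStable p G) (V : Subgroup G) [hV : V.Normal] (hVp : IsPGroup p V) :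
    Cfsg.IsPStableOn p V := by
  intro a hq
  have haN : a ∈ Subgroup.normalizer (V : Set G) := by
    rw [Subgroup.normalizer_eq_top]; trivial
  exact transfer0 V a haN (hst V hVp a haN hq)

/-- Strongly closed subgroups meet normalizers well. -/
theorem sc_norm {G : Type*} [Group G] [Finite G] (D P T : Subgroup G)
    (hD : Cfsg.IsStronglyClosed D P) (hT : T ≤ P) (n : G)
    (hn : n ∈ Subgroup.normalizer (T : Set G)) :
    n ∈ Subgroup.normalizer ((D ⊓ T : Subgroup G) : Set G) := by
  apply S0650.norm_of_conj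
  intro x hx
  rw [Subgroup.mem_normalizer_iff] at hn
  have h1 : n * x * n⁻¹ ∈ T := (hn x).1 hx.2
  exact ⟨hD.2 x hx.1 n (hT h1), h1⟩

theorem memD_ab {G : Type*} [Group G] [Finite G] (P D : Subgroup G) (hDP : D ≤ P)
    (X : Subgroup G) :
    X ∈ Set.image (fun A : Subgroup ↥P => A.map P.subtype)
      (Set.image (fun A : Subgroup ↥(D.subgroupOf P) => A.map (D.subgroupOf P).subtype)
        (Cfsg.maxAbelianSubgroups ↥(D.subgroupOf P))) ↔ IsMaxAb D X := by
  constructor
  · rintro ⟨X', hX', rfl⟩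
    obtain ⟨h1, h2, h3⟩ := (S0651.mem_fam (D.subgroupOf P) X').1 hX'
    refine ⟨?_, by haveI := h2; exact Subgroup.map_isMulCommutative X' _, ?_⟩
    · rintro _ ⟨x', hx', rfl⟩
      exact Subgroup.mem_subgroupOf.1 (h1 hx')
    · intro Y hY hYc
      have c1 : Nat.card (X'.map P.subtype) = Nat.card X' :=
        Subgroup.card_map_of_injective P.subtype_injective
      have c2 : Nat.card (Y.subgroupOf P) = Nat.card Y := by
        rw [S0003.card_subgroupOf_eq', inf_eq_left.2 (hY.trans hDP)]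
      show Nat.card Y ≤ Nat.card (X'.map P.subtype)
      rw [c1, ← c2]
      apply h3
      · intro y' hy'
        rw [Subgroup.mem_subgroupOf] at hy' ⊢
        exact hY hy'
      · haveI := hYc; exact Subgroup.subgroupOf_isMulCommutative P Y
  · rintro ⟨h1, h2, h3⟩
    refine ⟨X.subgroupOf P, ?_, Subgroup.map_subgroupOf_eq_of_le (h1.trans hDP)⟩
    apply (S0651.mem_fam (D.subgroupOf P) _).2
    refine ⟨?_, by haveI := h2; exact Subgroup.subgroupOf_isMulCommutative P X, ?_⟩
    · intro x' hx'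
      rw [Subgroup.mem_subgroupOf] at hx' ⊢
      exact h1 hx'
    · intro Y' hY' hYc
      have c1 : Nat.card (Y'.map P.subtype) = Nat.card Y' :=
        Subgroup.card_map_of_injective P.subtype_injective
      have c2 : Nat.card (X.subgroupOf P) = Nat.card X := by
        rw [S0003.card_subgroupOf_eq', inf_eq_left.2 (h1.trans hDP)]
      rw [c2, ← c1]
      apply h3
      · rintro _ ⟨y', hy', rfl⟩
        exact Subgroup.mem_subgroupOf.1 (hY' hy')
      · haveI := hYc; exact Subgroup.map_isMulCommutative Y' _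

theorem ea_map'' {H G : Type*} [Group H] [Group G] (p : ℕ) (f : H →* G) (A : Subgroup H)
    (hA : IsElementaryAbelian p A) : IsElementaryAbelian p (A.map f) := by
  refine ⟨by haveI := hA.1; exact Subgroup.map_isMulCommutative A _, ?_⟩
  rintro _ ⟨a, ha, rfl⟩
  have := hA.2 a ha
  rw [← map_pow, this, map_one]

theorem memD_ea {G : Type*} [Group G] [Finite G] (p : ℕ) (P D : Subgroup G) (hDP : D ≤ P)
    (X : Subgroup G) :
    X ∈ Set.image (fun A : Subgroup ↥P => A.map P.subtype)
      (Set.image (fun A : Subgroup ↥(D.subgroupOf P) => A.map (D.subgroupOf P).subtype)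
        (Cfsg.maxElementaryAbelianSubgroups p ↥(D.subgroupOf P))) ↔ S0654.IsMaxEA p D X := by
  constructor
  · rintro ⟨X', hX', rfl⟩
    obtain ⟨h1, h2, h3⟩ := (S0652.mem_fam p (D.subgroupOf P) X').1 hX'
    refine ⟨?_, ea_map'' p _ X' h2, ?_⟩
    · rintro _ ⟨x', hx', rfl⟩
      exact Subgroup.mem_subgroupOf.1 (h1 hx')
    · intro Y hY hYc
      have c1 : Nat.card (X'.map P.subtype) = Nat.card X' :=
        Subgroup.card_map_of_injective P.subtype_injective
      have c2 : Nat.card (Y.subgroupOf P) = Nat.card Y := by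
        rw [S0003.card_subgroupOf_eq', inf_eq_left.2 (hY.trans hDP)]
      show Nat.card Y ≤ Nat.card (X'.map P.subtype)
      rw [c1, ← c2]
      apply h3
      · intro y' hy'
        rw [Subgroup.mem_subgroupOf] at hy' ⊢
        exact hY hy'
      · exact S0652.ea_subgroupOf p P Y hYc
  · rintro ⟨h1, h2, h3⟩
    refine ⟨X.subgroupOf P, ?_, Subgroup.map_subgroupOf_eq_of_le (h1.trans hDP)⟩
    apply (S0652.mem_fam p (D.subgroupOf P) _).2
    refine ⟨?_, S0652.ea_subgroupOf p P X h2, ?_⟩
    · intro x' hx'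
      rw [Subgroup.mem_subgroupOf] at hx' ⊢
      exact h1 hx'
    · intro Y' hY' hYc
      have c1 : Nat.card (Y'.map P.subtype) = Nat.card Y' :=
        Subgroup.card_map_of_injective P.subtype_injective
      have c2 : Nat.card (X.subgroupOf P) = Nat.card X := by
        rw [S0003.card_subgroupOf_eq', inf_eq_left.2 (h1.trans hDP)]
      rw [c2, ← c1]
      apply h3
      · rintro _ ⟨y', hy', rfl⟩
        exact Subgroup.mem_subgroupOf.1 (hY' hy')
      · exact ea_map'' p _ Y' hYc

theorem sc_normal {G : Type*} [Group G] (D P : Subgroup G) (hD : Cfsg.IsStronglyClosed D P) :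
    (D.subgroupOf P).Normal := by
  constructor
  intro x hx g
  rw [Subgroup.mem_subgroupOf] at hx ⊢
  exact hD.2 _ hx g (P.mul_mem (P.mul_mem g.2 x.2) (P.inv_mem g.2))

theorem fam_ab' {G : Type*} [Group G] [Finite G] {p : ℕ} [Fact p.Prime] (hp : p ≠ 2)
    (P : Sylow p G) (D : Subgroup G) (hD : Cfsg.IsStronglyClosed D (P : Subgroup G)) :
    Fam' p (P : Subgroup G) (fun T A => IsMaxAb (D ⊓ T) A) where
  le := fun T A h => h.1.trans inf_le_right
  comm := fun T A h => h.2.1
  ex := fun T => (fam_ab (G := G) hp).ex (D ⊓ T)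
  conj := by
    intro T hT n hn A hA
    have h1 := (fam_ab (G := G) hp).map (MulAut.conj n) _ A hA
    rw [map_conj_eq _ n (sc_norm D P T hD hT n hn)] at h1
    exact h1
  up := fun T A₀ A hTS hA₀ hA₀T hA =>
    ⟨hA.1.trans (inf_le_inf_left D hTS), hA.2.1, fun Y hY hYc =>
      (hA₀.2.2 Y hY hYc).trans (hA.2.2 A₀ (le_inf (hA₀.1.trans inf_le_left) hA₀T) hA₀.2.1)⟩
  down := fun T A hTS hA hAT =>
    ⟨le_inf (hA.1.trans inf_le_left) hAT, hA.2.1, fun Y hY hYc =>
      hA.2.2 Y (hY.trans (inf_le_inf_left D hTS)) hYc⟩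
  repl := by
    intro B hBS hSB hB2 U hU hBU hnBU
    rw [inf_eq_left.2 hD.1] at hU ⊢
    haveI := sc_normal D P hD
    have h := transport (P : Subgroup G) B hBS hSB hB2
      (Set.image (fun A : Subgroup ↥(D.subgroupOf (P : Subgroup G)) =>
        A.map (D.subgroupOf (P : Subgroup G)).subtype)
        (Cfsg.maxAbelianSubgroups ↥(D.subgroupOf (P : Subgroup G))))
      (fun B' _ hB2' U' hU' h1 h2 =>
        S0651.result P.isPGroup' hp (D.subgroupOf (P : Subgroup G)) B' hB2' ⟨U', hU', h1, h2⟩)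
      U ((memD_ab _ D hD.1 U).2 hU) hBU hnBU
    obtain ⟨A, hA, h1, h2, h3⟩ := h
    exact ⟨A, (memD_ab _ D hD.1 A).1 hA, h1, h2, h3⟩

theorem fam_ea' {G : Type*} [Group G] [Finite G] {p : ℕ} [Fact p.Prime] (hp : p ≠ 2)
    (P : Sylow p G) (D : Subgroup G) (hD : Cfsg.IsStronglyClosed D (P : Subgroup G)) :
    Fam' p (P : Subgroup G) (fun T A => S0654.IsMaxEA p (D ⊓ T) A) where
  le := fun T A h => h.1.trans inf_le_right
  comm := fun T A h => h.2.1.1
  ex := fun T => (S0654.fam_ea (G := G) hp).ex (D ⊓ T)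
  conj := by
    intro T hT n hn A hA
    have h1 := (S0654.fam_ea (G := G) hp).map (MulAut.conj n) _ A hA
    rw [map_conj_eq _ n (sc_norm D P T hD hT n hn)] at h1
    exact h1
  up := fun T A₀ A hTS hA₀ hA₀T hA =>
    ⟨hA.1.trans (inf_le_inf_left D hTS), hA.2.1, fun Y hY hYc =>
      (hA₀.2.2 Y hY hYc).trans (hA.2.2 A₀ (le_inf (hA₀.1.trans inf_le_left) hA₀T) hA₀.2.1)⟩
  down := fun T A hTS hA hAT =>
    ⟨le_inf (hA.1.trans inf_le_left) hAT, hA.2.1, fun Y hY hYc =>
      hA.2.2 Y (hY.trans (inf_le_inf_left D hTS)) hYc⟩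
  repl := by
    intro B hBS hSB hB2 U hU hBU hnBU
    rw [inf_eq_left.2 hD.1] at hU ⊢
    haveI := sc_normal D P hD
    have h := transport (P : Subgroup G) B hBS hSB hB2
      (Set.image (fun A : Subgroup ↥(D.subgroupOf (P : Subgroup G)) =>
        A.map (D.subgroupOf (P : Subgroup G)).subtype)
        (Cfsg.maxElementaryAbelianSubgroups p ↥(D.subgroupOf (P : Subgroup G))))
      (fun B' _ hB2' U' hU' h1 h2 =>
        S0652.result P.isPGroup' hp (D.subgroupOf (P : Subgroup G)) B' hB2' ⟨U', hU', h1, h2⟩)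
      U ((memD_ea p _ D hD.1 U).2 hU) hBU hnBU
    obtain ⟨A, hA, h1, h2, h3⟩ := h
    exact ⟨A, (memD_ea p _ D hD.1 A).1 hA, h1, h2, h3⟩

theorem omega_map {G : Type*} [Group G] (p : ℕ) (D : Subgroup G) :
    Cfsg.omegaOne p (Cfsg.centerThompsonOf p D) =
      (Cfsg.omegaCenterThompson p ↥D).map D.subtype := by
  unfold omegaCenterThompson omegaOne
  rw [MonoidHom.map_closure]
  congr 1
  ext x
  constructor
  · rintro ⟨⟨hxJ, hxC⟩, hxp⟩
    obtain ⟨x', hx', rfl⟩ := hxJ
    have hxC' : (x' : G) ∈ Subgroup.centralizer (thompsonSubgroupOf p D : Set G) := hxC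
    rw [Subgroup.mem_centralizer_iff] at hxC'
    refine ⟨x', ⟨⟨hx', ?_⟩, ?_⟩, rfl⟩
    · show x' ∈ Subgroup.centralizer (thompsonSubgroup p ↥D : Set ↥D)
      rw [Subgroup.mem_centralizer_iff]
      intro y' hy'
      apply Subtype.ext
      exact hxC' (y' : G) ⟨y', hy', rfl⟩
    · apply Subtype.ext
      rw [Subgroup.coe_pow]
      exact hxp
  · rintro ⟨x', ⟨⟨hx', hxC⟩, hxp⟩, rfl⟩
    have hxC' : x' ∈ Subgroup.centralizer (thompsonSubgroup p ↥D : Set ↥D) := hxC
    rw [Subgroup.mem_centralizer_iff] at hxC'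
    refine ⟨⟨⟨x', hx', rfl⟩, ?_⟩, ?_⟩
    · show (x' : G) ∈ Subgroup.centralizer (thompsonSubgroupOf p D : Set G)
      rw [Subgroup.mem_centralizer_iff]
      rintro _ ⟨y', hy', rfl⟩
      exact congrArg Subtype.val (hxC' y' hy')
    · have := congrArg Subtype.val hxp
      rw [Subgroup.coe_pow] at this
      exact this

theorem result {G : Type*} [Group G] [Finite G] {p : ℕ} [Fact p.Prime] (hp : p ≠ 2) (P : Sylow p G) (D : Subgroup G) (hD : Cfsg.IsStronglyClosed D (P : Subgroup G)) (hst : Cfsg.IsNormalizerPStable p G) (hc : Subgroup.centralizer ((Cfsg.pCore p G : Subgroup G) : Set G) ≤ Cfsg.pCore p G) : (Cfsg.centerThompsonAOf D).Normal ∧ (Cfsg.omegaOne p (Cfsg.centerThompsonOf p D)).Normal := by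
  have hst' : ∀ (V : Subgroup G) [V.Normal], IsPGroup p V → Cfsg.IsPStableOn p V :=
    fun V _ hV => stableOn_of_normalizer hst V hV
  have hDp : IsPGroup p D := P.isPGroup'.to_le hD.1
  constructor
  · have h := main' hc hst' P _ (fam_ab' hp P D hD)
    have e : W (fun T A => IsMaxAb (D ⊓ T) A) (P : Subgroup G) = centerThompsonAOf D := by
      rw [center_eq hp D]
      show W IsMaxAb (D ⊓ (P : Subgroup G)) = W IsMaxAb D
      rw [inf_eq_left.2 hD.1]
    rw [e] at h
    exact h
  · have h := main' hc hst' P _ (fam_ea' hp P D hD)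
    have e : W (fun T A => S0654.IsMaxEA p (D ⊓ T) A) (P : Subgroup G) =
        Cfsg.omegaOne p (Cfsg.centerThompsonOf p D) := by
      rw [omega_map, S0654.omega_eq hp D hDp]
      show W (S0654.IsMaxEA p) (D ⊓ (P : Subgroup G)) = W (S0654.IsMaxEA p) D
      rw [inf_eq_left.2 hD.1]
    rw [e] at h
    exact h

end Cfsg.Agent.S3079
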