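import Mathlib
import Cfsg.Statements.S3080
import Cfsg.Agent.S3079
import Cfsg.Agent.S0667
import Cfsg.Agent.S0658
import Cfsg.Agent.S0654
import Cfsg.Agent.S0653
import Cfsg.Agent.S0650
import Cfsg.Agent.S0119
import Cfsg.Agent.S1961
import Cfsg.Agent.S1254
import Cfsg.Agent.Lib.Helper2.Lift
import Cfsg.Agent.Lib.Helper2.Local
import Cfsg.Agent.Lib.Helper2.AxB
import Cfsg.Agent.Lib.Helper3.Core
set_option autoImplicit false
open Pointwise
open Cfsg
open scoped commutatorElement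

namespace Cfsg.Agent.S3080

open Cfsg.Agent.Lib.Helper3.Core
open Cfsg.Agent.Lib.Helper2
open Cfsg.Agent.S0653

/-- generic "maximal order with property Φ" family -/
def IsMaxΦ {G : Type*} [Group G] (Φ : Subgroup G → Prop) (P A : Subgroup G) : Prop :=
  A ≤ P ∧ Φ A ∧ ∀ Y : Subgroup G, Y ≤ P → Φ Y → Nat.card Y ≤ Nat.card A

theorem W_hom {X Y : Type*} [Group X] [Group Y] (f : X →* Y) (P : Subgroup X)
    (hinj : ∀ x ∈ P, ∀ y ∈ P, f x = f y → x = y)
    (ΦX : Subgroup X → Prop) (ΦY : Subgroup Y → Prop)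
    (hex : ∃ A, IsMaxΦ ΦX P A)
    (hmap : ∀ A, A ≤ P → ΦX A → ΦY (A.map f))
    (hpull : ∀ Yb : Subgroup Y, Yb ≤ P.map f → ΦY Yb → ΦX (Yb.comap f ⊓ P)) :
    W (IsMaxΦ ΦY) (P.map f) = (W (IsMaxΦ ΦX) P).map f := by
  have hcard : ∀ A : Subgroup X, A ≤ P → Nat.card (A.map f) = Nat.card A := by
    intro A hA
    have hi : Function.Injective (f.comp A.subtype) := by
      intro a b hab
      exact Subtype.ext (hinj a (hA a.2) b (hA b.2) hab)
    have h1 : (f.comp A.subtype).range = A.map f := by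
      rw [MonoidHom.range_comp, Subgroup.range_subtype]
    rw [← h1]
    exact (Nat.card_congr (MonoidHom.ofInjective hi).toEquiv).symm
  have hpull' : ∀ Yb : Subgroup Y, Yb ≤ P.map f → (Yb.comap f ⊓ P).map f = Yb := by
    intro Yb hYb
    apply le_antisymm
    · rintro _ ⟨y, hy, rfl⟩; exact hy.1
    · intro yb hyb
      obtain ⟨y, hy, rfl⟩ := hYb hyb
      exact ⟨y, ⟨hyb, hy⟩, rfl⟩
  have hfwd : ∀ A, IsMaxΦ ΦX P A → IsMaxΦ ΦY (P.map f) (A.map f) := by
    rintro A ⟨hAP, hAc, hmax⟩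
    refine ⟨Subgroup.map_mono hAP, hmap A hAP hAc, ?_⟩
    intro Yb hYb hYc
    rw [hcard A hAP, ← hpull' Yb hYb, hcard _ inf_le_right]
    exact hmax _ inf_le_right (hpull Yb hYb hYc)
  have hbwd : ∀ Ab, IsMaxΦ ΦY (P.map f) Ab → ∃ A, IsMaxΦ ΦX P A ∧ A.map f = Ab := by
    rintro Ab ⟨hAP, hAc, hmax⟩
    refine ⟨_, ⟨inf_le_right, hpull Ab hAP hAc, ?_⟩, hpull' Ab hAP⟩
    intro Y hY hYc
    rw [← hcard _ inf_le_right, hpull' Ab hAP, ← hcard Y hY]
    exact hmax _ (Subgroup.map_mono hY) (hmap Y hY hYc)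
  ext xb
  rw [mem_W]
  constructor
  · intro hx
    obtain ⟨A₀, hA₀⟩ := hex
    obtain ⟨x₀, hx₀, rfl⟩ := hx _ (hfwd A₀ hA₀)
    refine ⟨x₀, (mem_W _ _ _).2 ?_, rfl⟩
    intro A hA
    obtain ⟨a, ha, hax⟩ := hx _ (hfwd A hA)
    have := hinj a (hA.1 ha) x₀ (hA₀.1 hx₀) hax
    rw [← this]; exact ha
  · rintro ⟨x, hx, rfl⟩ Ab hAb
    obtain ⟨A, hA, rfl⟩ := hbwd Ab hAb
    exact ⟨x, (mem_W _ _ _).1 hx A hA, rfl⟩

theorem comm_pull {X Y : Type*} [Group X] [Group Y] (f : X →* Y) (P : Subgroup X)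
    (hinj : ∀ x ∈ P, ∀ y ∈ P, f x = f y → x = y) (Yb : Subgroup Y) (hc : IsMulCommutative Yb) :
    IsMulCommutative ↥(Yb.comap f ⊓ P) := by
  apply IsMulCommutative.of_setLike_mul_comm
  intro x hx y hy
  apply hinj _ (P.mul_mem hx.2 hy.2) _ (P.mul_mem hy.2 hx.2)
  rw [map_mul, map_mul]
  exact setLike_mul_comm (Subgroup.mem_comap.1 hx.1) (Subgroup.mem_comap.1 hy.1)

theorem W_hom_ab {X Y : Type*} [Group X] [Group Y] [Finite X] (f : X →* Y) (P : Subgroup X)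
    (hinj : ∀ x ∈ P, ∀ y ∈ P, f x = f y → x = y) :
    W IsMaxAb (P.map f) = (W IsMaxAb P).map f :=
  W_hom f P hinj (fun A => IsMulCommutative A) (fun A => IsMulCommutative A)
    (S0667.exists_maxab P)
    (fun A _ hA => by haveI := hA; exact Subgroup.map_isMulCommutative A _)
    (fun Yb _ hc => comm_pull f P hinj Yb hc)

theorem W_hom_ea {X Y : Type*} [Group X] [Group Y] [Finite X] {p : ℕ} [Fact p.Prime] (hp : p ≠ 2)
    (f : X →* Y) (P : Subgroup X)
    (hinj : ∀ x ∈ P, ∀ y ∈ P, f x = f y → x = y) :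
    W (S0654.IsMaxEA p) (P.map f) = (W (S0654.IsMaxEA p) P).map f :=
  W_hom f P hinj (fun A => IsElementaryAbelian p A) (fun A => IsElementaryAbelian p A)
    ((S0654.fam_ea (G := X) hp).ex P)
    (fun A _ hA => S3079.ea_map'' p f A hA)
    (fun Yb _ hc => ⟨comm_pull f P hinj Yb hc.1, fun a ha =>
      hinj _ (Subgroup.pow_mem _ ha.2 p) _ P.one_mem (by
        rw [map_pow, map_one]; exact hc.2 _ (Subgroup.mem_comap.1 ha.1))⟩)

theorem conj_into_sylow {X : Type*} [Group X] [Finite X] {p : ℕ} [Fact p.Prime] (N : Subgroup X)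
    [N.Normal] (R : Sylow p X) (y : X) (hy : y ∈ N ⊔ (R : Subgroup X))
    (hyp : IsPGroup p (Subgroup.zpowers y)) : ∃ c ∈ N, c * y * c⁻¹ ∈ (R : Subgroup X) := by
  obtain ⟨R₂, hR₂⟩ := S0658.exists_sylow_ge (N ⊔ (R : Subgroup X)) (Subgroup.zpowers y) hyp
    (by rw [Subgroup.zpowers_le]; exact hy)
  obtain ⟨m, hmH, hm⟩ := S0658.sylow_conj (N ⊔ (R : Subgroup X)) R₂ (R.subtype le_sup_right)
  have h1 : m * y * m⁻¹ ∈ ((R.subtype (le_sup_right : (R : Subgroup X) ≤ N ⊔ R) :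
      Sylow p ↥(N ⊔ (R : Subgroup X))) : Subgroup ↥(N ⊔ (R : Subgroup X))).map
        (N ⊔ (R : Subgroup X)).subtype := by
    rw [hm]
    exact ⟨y, hR₂ (Subgroup.mem_zpowers y), rfl⟩
  rw [Sylow.coe_subtype] at h1
  obtain ⟨z, hz, hzeq⟩ := h1
  have h2 : m * y * m⁻¹ ∈ (R : Subgroup X) := by
    rw [← hzeq]; exact Subgroup.mem_subgroupOf.1 hz
  rw [sup_comm] at hmH
  obtain ⟨r, hr, n, hn, rfl⟩ := Subgroup.mem_sup_of_normal_right.1 hmH
  refine ⟨n, hn, ?_⟩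
  have e : n * y * n⁻¹ = r⁻¹ * (r * n * y * (r * n)⁻¹) * r := by group
  rw [e]
  exact Subgroup.mul_mem _ (Subgroup.mul_mem _ (Subgroup.inv_mem _ hr) h2) hr

theorem sc_quot {X : Type*} [Group X] [Finite X] {p : ℕ} [Fact p.Prime] (N : Subgroup X)
    [N.Normal] (R : Sylow p X) (D : Subgroup X)
    (hD : IsStronglyClosed D (R : Subgroup X)) :
    IsStronglyClosed (D.map (QuotientGroup.mk' N))
      ((R.mapSurjective (QuotientGroup.mk'_surjective N) : Sylow p (X ⧸ N)) :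
        Subgroup (X ⧸ N)) := by
  rw [Sylow.coe_mapSurjective]
  refine ⟨Subgroup.map_mono hD.1, ?_⟩
  rintro _ ⟨x, hx, rfl⟩ gb hgb
  obtain ⟨g, rfl⟩ := QuotientGroup.mk'_surjective N gb
  obtain ⟨r, hr, hreq⟩ := hgb
  have hreq' : QuotientGroup.mk' N r = QuotientGroup.mk' N (g * x * g⁻¹) := by
    rw [hreq, map_mul, map_mul, map_inv]
  have h1 : r⁻¹ * (g * x * g⁻¹) ∈ N := QuotientGroup.eq.1 hreq'
  have hy : g * x * g⁻¹ ∈ N ⊔ (R : Subgroup X) := by
    have e : g * x * g⁻¹ = r * (r⁻¹ * (g * x * g⁻¹)) := by group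
    rw [e, sup_comm]
    exact Subgroup.mul_mem_sup hr h1
  have hyp : IsPGroup p (Subgroup.zpowers (g * x * g⁻¹)) := by
    have h2 : IsPGroup p (Subgroup.zpowers x) :=
      R.isPGroup'.to_le (by rw [Subgroup.zpowers_le]; exact hD.1 hx)
    have h3 := h2.map (MulAut.conj g).toMonoidHom
    rw [MonoidHom.map_zpowers] at h3
    exact h3
  obtain ⟨c, hc, hcR⟩ := conj_into_sylow N R _ hy hyp
  have h4 : (c * g) * x * (c * g)⁻¹ ∈ D := by
    apply hD.2 x hx (c * g)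
    have e : (c * g) * x * (c * g)⁻¹ = c * (g * x * g⁻¹) * c⁻¹ := by group
    rw [e]; exact hcR
  refine ⟨(c * g) * x * (c * g)⁻¹, h4, ?_⟩
  have hc1 : QuotientGroup.mk' N c = 1 := (QuotientGroup.eq_one_iff c).2 hc
  rw [map_mul, map_mul, map_inv, map_mul, hc1, one_mul]

theorem hstab_sub {G : Type*} [Group G] [Finite G] {p : ℕ} [Fact p.Prime]
    (hst : IsNormalizerPStable p G) (H : Subgroup G) (A V : Subgroup ↥H) (hV : IsPGroup p V)
    (hq : ⁅⁅V, A⁆, A⁆ = ⊥) :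
    (A.subgroupOf (Subgroup.normalizer (V : Set ↥H))).map
        (QuotientGroup.mk' ((Subgroup.centralizer (V : Set ↥H)).subgroupOf
          (Subgroup.normalizer (V : Set ↥H)))) ≤ pCore p _ := by
  have hV'p : IsPGroup p (V.map H.subtype) := hV.map _
  have hincl : ∀ x : ↥(Subgroup.normalizer (V : Set ↥H)),
      (H.subtype.comp (Subgroup.normalizer (V : Set ↥H)).subtype) x ∈
        Subgroup.normalizer ((V.map H.subtype : Subgroup G) : Set G) := by
    intro x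
    apply S0650.norm_of_conj
    rintro _ ⟨v, hv, rfl⟩
    refine ⟨(x : ↥H) * v * (x : ↥H)⁻¹, ?_, rfl⟩
    exact (Subgroup.mem_normalizer_iff.1 x.2 v).1 hv
  let incl : ↥(Subgroup.normalizer (V : Set ↥H)) →*
      ↥(Subgroup.normalizer ((V.map H.subtype : Subgroup G) : Set G)) :=
    (H.subtype.comp (Subgroup.normalizer (V : Set ↥H)).subtype).codRestrict _ hincl
  let ψ := (QuotientGroup.mk' ((Subgroup.centralizer ((V.map H.subtype : Subgroup G) : Set G)).subgroupOf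
      (Subgroup.normalizer ((V.map H.subtype : Subgroup G) : Set G)))).comp incl
  have hker : ∀ x : ↥(Subgroup.normalizer (V : Set ↥H)), ψ x = 1 →
      x ∈ (Subgroup.centralizer (V : Set ↥H)).subgroupOf (Subgroup.normalizer (V : Set ↥H)) := by
    intro x hx
    have h1 : incl x ∈ (Subgroup.centralizer ((V.map H.subtype : Subgroup G) : Set G)).subgroupOf
        (Subgroup.normalizer ((V.map H.subtype : Subgroup G) : Set G)) :=
      (QuotientGroup.eq_one_iff _).1 hx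
    rw [Subgroup.mem_subgroupOf, Subgroup.mem_centralizer_iff] at h1
    rw [Subgroup.mem_subgroupOf, Subgroup.mem_centralizer_iff]
    intro v hv
    apply Subtype.ext
    exact h1 (v : G) ⟨v, hv, rfl⟩
  have hKn : ((pCore p _).comap ψ).Normal := (Cfsg.pCore_normal p _).comap ψ
  have hsurj := QuotientGroup.mk'_surjective ((Subgroup.centralizer (V : Set ↥H)).subgroupOf
      (Subgroup.normalizer (V : Set ↥H)))
  have hKmapn : (((pCore p _).comap ψ).map (QuotientGroup.mk'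
      ((Subgroup.centralizer (V : Set ↥H)).subgroupOf (Subgroup.normalizer (V : Set ↥H))))).Normal :=
    hKn.map _ hsurj
  have hKp : IsPGroup p ↥(((pCore p _).comap ψ).map (QuotientGroup.mk'
      ((Subgroup.centralizer (V : Set ↥H)).subgroupOf (Subgroup.normalizer (V : Set ↥H))))) := by
    rintro ⟨_, ⟨k, hk, rfl⟩⟩
    obtain ⟨j, hj⟩ := (pCore_isPGroup p) ⟨ψ k, hk⟩
    have hj' : (ψ k) ^ (p ^ j) = 1 := congrArg Subtype.val hj
    refine ⟨j, ?_⟩
    apply Subtype.ext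
    show (QuotientGroup.mk' _ k) ^ (p ^ j) = 1
    rw [← map_pow]
    apply (QuotientGroup.eq_one_iff _).2
    apply hker
    rw [map_pow]; exact hj'
  rintro _ ⟨b, hb, rfl⟩
  apply le_pCore _ hKmapn hKp
  refine ⟨b, ?_, rfl⟩
  show ψ b ∈ pCore p _
  have hbA : (b : ↥H) ∈ A := Subgroup.mem_subgroupOf.1 hb
  have hquad : ⁅⁅(V.map H.subtype : Subgroup G), Subgroup.zpowers ((b : ↥H) : G)⁆,
      Subgroup.zpowers ((b : ↥H) : G)⁆ = ⊥ := by
    have hz : Subgroup.zpowers ((b : ↥H) : G) ≤ A.map H.subtype := by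
      rw [Subgroup.zpowers_le]; exact ⟨(b : ↥H), hbA, rfl⟩
    rw [eq_bot_iff]
    calc ⁅⁅(V.map H.subtype : Subgroup G), Subgroup.zpowers ((b : ↥H) : G)⁆,
          Subgroup.zpowers ((b : ↥H) : G)⁆
        ≤ ⁅⁅(V.map H.subtype : Subgroup G), A.map H.subtype⁆, A.map H.subtype⁆ :=
          Subgroup.commutator_mono (Subgroup.commutator_mono le_rfl hz) hz
      _ = (⁅⁅V, A⁆, A⁆).map H.subtype := by
          rw [Subgroup.map_commutator, Subgroup.map_commutator]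
      _ = ⊥ := by rw [hq, Subgroup.map_bot]
  exact hst (V.map H.subtype) hV'p ((b : ↥H) : G) (hincl b) hquad

theorem lift_fact {X : Type*} [Group X] [Finite X] {p : ℕ} [Fact p.Prime] (N : Subgroup X)
    [N.Normal] (hNcop : (Nat.card N).Coprime p) (V : Subgroup X) (hVp : IsPGroup p V)
    (hVn : (V.map (QuotientGroup.mk' N)).Normal) (g : X) :
    ∃ k ∈ N, ∃ n ∈ Subgroup.normalizer (V : Set X), g = k * n := by
  haveI := hVn
  obtain ⟨y, hy, hyg⟩ := Lift.exists_lift_normalizer N hNcop V hVp g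
    (by rw [Subgroup.normalizer_eq_top]; trivial)
  refine ⟨g * y⁻¹, ?_, y, hy, by group⟩
  rw [← QuotientGroup.eq_one_iff]
  have : ((g * y⁻¹ : X) : X ⧸ N) = QuotientGroup.mk' N g * (QuotientGroup.mk' N y)⁻¹ := by
    rw [← map_inv, ← map_mul]; rfl
  rw [this, hyg, mul_inv_cancel]

theorem W_le {G : Type*} [Group G] (F : Subgroup G → Subgroup G → Prop) (P : Subgroup G)
    (hex : ∃ A, F P A) (hle : ∀ A, F P A → A ≤ P) : W F P ≤ P := by
  intro x hx
  obtain ⟨A, hA⟩ := hex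
  exact hle A hA ((mem_W F P x).1 hx A hA)

theorem localD {X : Type*} [Group X] [Finite X] {p : ℕ} [Fact p.Prime] (hp : p ≠ 2)
    (hc : IsPConstrained p X) (R : Sylow p X) (D : Subgroup X)
    (hD : IsStronglyClosed D (R : Subgroup X))
    (hstab : ∀ A V : Subgroup X, IsPGroup p V → ⁅⁅V, A⁆, A⁆ = ⊥ →
      (A.subgroupOf (Subgroup.normalizer (V : Set X))).map
          (QuotientGroup.mk' ((Subgroup.centralizer (V : Set X)).subgroupOf
            (Subgroup.normalizer (V : Set X)))) ≤ pCore p _) :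
    (∀ g : X, ∃ k ∈ pPrimeCore p X, ∃ n ∈ Subgroup.normalizer ((W IsMaxAb D : Subgroup X) : Set X),
      g = k * n) ∧
    (∀ g : X, ∃ k ∈ pPrimeCore p X,
      ∃ n ∈ Subgroup.normalizer ((W (S0654.IsMaxEA p) D : Subgroup X) : Set X), g = k * n) := by
  have hNcop := Local.pPrimeCore_coprime (G := X) p
  have hc' := S0667.constrained_quot hc
  have hst' : ∀ (Vb : Subgroup (X ⧸ pPrimeCore p X)) [Vb.Normal], IsPGroup p Vb →
      Cfsg.IsPStableOn p Vb := by
    intro Vb hVn hVp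
    exact S0667.stable_quot_aux (pPrimeCore p X) hNcop R
      (fun A V _ hV _ _ _ h4 => hstab A V hV h4) Vb hVp
  have hDb := sc_quot (pPrimeCore p X) R D hD
  have hDp : IsPGroup p D := R.isPGroup'.to_le hD.1
  have hinj : ∀ x ∈ D, ∀ y ∈ D, QuotientGroup.mk' (pPrimeCore p X) x =
      QuotientGroup.mk' (pPrimeCore p X) y → x = y := by
    intro x hx y hy hxy
    have h1 : x⁻¹ * y ∈ pPrimeCore p X := QuotientGroup.eq.1 hxy
    have h2 : x⁻¹ * y = 1 :=
      Local.eq_one_of_mem_pgroup_coprime hDp hNcop (D.mul_mem (D.inv_mem hx) hy) h1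
    calc x = x * (x⁻¹ * y) := by rw [h2, mul_one]
      _ = y := by group
  constructor
  · have h := S3079.main' hc' hst' (R.mapSurjective (QuotientGroup.mk'_surjective (pPrimeCore p X)))
      _ (S3079.fam_ab' hp _ (D.map (QuotientGroup.mk' (pPrimeCore p X))) hDb)
    have e : W (fun T A => IsMaxAb (D.map (QuotientGroup.mk' (pPrimeCore p X)) ⊓ T) A)
        ((R.mapSurjective (QuotientGroup.mk'_surjective (pPrimeCore p X)) :
          Sylow p (X ⧸ pPrimeCore p X)) : Subgroup (X ⧸ pPrimeCore p X)) =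
        (W IsMaxAb D).map (QuotientGroup.mk' (pPrimeCore p X)) := by
      show W IsMaxAb (D.map (QuotientGroup.mk' (pPrimeCore p X)) ⊓ _) = _
      rw [inf_eq_left.2 hDb.1, W_hom_ab _ _ hinj]
    rw [e] at h
    have hWp : IsPGroup p (W IsMaxAb D) :=
      hDp.to_le (W_le _ _ ((fam_ab (G := X) hp).ex D) (fun A hA => hA.1))
    exact fun g => lift_fact (pPrimeCore p X) hNcop _ hWp h g
  · have h := S3079.main' hc' hst' (R.mapSurjective (QuotientGroup.mk'_surjective (pPrimeCore p X)))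
      _ (S3079.fam_ea' hp _ (D.map (QuotientGroup.mk' (pPrimeCore p X))) hDb)
    have e : W (fun T A => S0654.IsMaxEA p (D.map (QuotientGroup.mk' (pPrimeCore p X)) ⊓ T) A)
        ((R.mapSurjective (QuotientGroup.mk'_surjective (pPrimeCore p X)) :
          Sylow p (X ⧸ pPrimeCore p X)) : Subgroup (X ⧸ pPrimeCore p X)) =
        (W (S0654.IsMaxEA p) D).map (QuotientGroup.mk' (pPrimeCore p X)) := by
      show W (S0654.IsMaxEA p) (D.map (QuotientGroup.mk' (pPrimeCore p X)) ⊓ _) = _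
      rw [inf_eq_left.2 hDb.1, W_hom_ea hp _ _ hinj]
    rw [e] at h
    have hWp : IsPGroup p (W (S0654.IsMaxEA p) D) :=
      hDp.to_le (W_le _ _ ((S0654.fam_ea (G := X) hp).ex D) (fun A hA => hA.1))
    exact fun g => lift_fact (pPrimeCore p X) hNcop _ hWp h g

theorem exists_c {G : Type*} [Group G] [Finite G] {p : ℕ} [Fact p.Prime] (K B B' : Subgroup G)
    (hKcop : (Nat.card K).Coprime p) (hB : IsPGroup p B)
    (hBK : ∀ b ∈ B, ∀ c ∈ K, b * c * b⁻¹ ∈ K)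
    (hB' : B' ≤ K ⊔ B) (hB'p : IsPGroup p B') (hcard : Nat.card B ≤ Nat.card B') :
    ∃ c ∈ K, ∀ b ∈ B, c * b * c⁻¹ ∈ B' := by
  obtain ⟨Q₂, hQ₂⟩ := S0658.exists_sylow_ge (K ⊔ B) B hB le_sup_right
  obtain ⟨Q₂', hQ₂'⟩ := S0658.exists_sylow_ge (K ⊔ B) B' hB'p hB'
  obtain ⟨m, hmM, hm⟩ := S0658.sylow_conj (K ⊔ B) Q₂ Q₂'
  have hQp : IsPGroup p ((Q₂ : Subgroup ↥(K ⊔ B)).map (K ⊔ B).subtype) := Q₂.isPGroup'.map _
  have hQB : (Q₂ : Subgroup ↥(K ⊔ B)).map (K ⊔ B).subtype = B := by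
    apply le_antisymm _ hQ₂
    intro q hq
    have hqM : q ∈ K ⊔ B := Subgroup.map_subtype_le _ hq
    obtain ⟨c, hc, b, hb, rfl⟩ := S1254.sup_decomp K B hBK q hqM
    have hc1 : c = 1 := by
      apply Local.eq_one_of_mem_pgroup_coprime hQp hKcop _ hc
      have e : c = (c * b) * b⁻¹ := by group
      rw [e]
      exact Subgroup.mul_mem _ hq (Subgroup.inv_mem _ (hQ₂ hb))
    rw [hc1, one_mul]; exact hb
  rw [hQB] at hm
  have hcard2 : Nat.card (B.map (MulAut.conj m).toMonoidHom) = Nat.card B :=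
    Subgroup.card_map_of_injective (MulAut.conj m).injective
  have hB'eq : B' = B.map (MulAut.conj m).toMonoidHom := by
    rw [← hm]
    apply Subgroup.eq_of_le_of_card_ge hQ₂'
    rw [hm, hcard2]; exact hcard
  obtain ⟨c, hc, s, hs, rfl⟩ := S1254.sup_decomp K B hBK m hmM
  refine ⟨c, hc, fun b hb => ?_⟩
  rw [hB'eq]
  refine ⟨s⁻¹ * b * s, B.mul_mem (B.mul_mem (B.inv_mem hs) hb) hs, ?_⟩
  show (c * s) * (s⁻¹ * b * s) * (c * s)⁻¹ = c * b * c⁻¹
  group

theorem ctrl_of_fact {G : Type*} [Group G] [Finite G] {p : ℕ} [Fact p.Prime]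
    (H R K V : Subgroup G) (hRH : R ≤ H) (hRp : IsPGroup p R)
    (hKn : ∀ h ∈ H, ∀ k ∈ K, h * k * h⁻¹ ∈ K) (hKcop : (Nat.card K).Coprime p)
    (hRV : R ≤ Subgroup.normalizer (V : Set G))
    (hfact : ∀ h ∈ H, ∃ k ∈ K, ∃ n ∈ H ⊓ Subgroup.normalizer (V : Set G), h = k * n)
    (A : Set G) (h : G) (hh : h ∈ H) (hA : A ⊆ R) (hAh : (fun a => h * a * h⁻¹) '' A ⊆ R) :
    ∃ x ∈ H ⊓ Subgroup.normalizer (V : Set G), ∀ a ∈ A, x * a * x⁻¹ = h * a * h⁻¹ := by
  obtain ⟨k, hk, n, hn, rfl⟩ := hfact h hh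
  have hRN : R ≤ H ⊓ Subgroup.normalizer (V : Set G) := le_inf hRH hRV
  have hA₁ : Subgroup.closure A ≤ R := (Subgroup.closure_le R).2 hA
  have hBN : (Subgroup.closure A).map (MulAut.conj n).toMonoidHom ≤
      H ⊓ Subgroup.normalizer (V : Set G) := by
    rintro _ ⟨a, ha, rfl⟩
    exact Subgroup.mul_mem _ (Subgroup.mul_mem _ hn (hRN (hA₁ ha))) (Subgroup.inv_mem _ hn)
  have hB'R : ((Subgroup.closure A).map (MulAut.conj n).toMonoidHom).map
      (MulAut.conj k).toMonoidHom ≤ R := by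
    rw [Subgroup.map_map, Subgroup.map_le_iff_le_comap, Subgroup.closure_le]
    intro a ha
    have := hAh ⟨a, ha, rfl⟩
    show k * (n * a * n⁻¹) * k⁻¹ ∈ R
    have e : k * (n * a * n⁻¹) * k⁻¹ = k * n * a * (k * n)⁻¹ := by group
    rw [e]; exact this
  have hBp : IsPGroup p ((Subgroup.closure A).map (MulAut.conj n).toMonoidHom) :=
    (hRp.to_le hA₁).map _
  have hB'p : IsPGroup p (((Subgroup.closure A).map (MulAut.conj n).toMonoidHom).map
      (MulAut.conj k).toMonoidHom) := hRp.to_le hB'R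
  have hKNcop : (Nat.card ↥(K ⊓ (H ⊓ Subgroup.normalizer (V : Set G)))).Coprime p :=
    Nat.Coprime.coprime_dvd_left (Subgroup.card_dvd_of_le inf_le_left) hKcop
  have hcomm : ∀ b ∈ (Subgroup.closure A).map (MulAut.conj n).toMonoidHom,
      k * b * k⁻¹ * b⁻¹ ∈ K ⊓ (H ⊓ Subgroup.normalizer (V : Set G)) := by
    intro b hb
    have hbN := hBN hb
    refine ⟨?_, ?_⟩
    · have e : k * b * k⁻¹ * b⁻¹ = k * (b * k⁻¹ * b⁻¹) := by group
      rw [e]
      exact K.mul_mem hk (hKn b hbN.1 k⁻¹ (K.inv_mem hk))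
    · exact Subgroup.mul_mem _ (hRN (hB'R ⟨b, hb, rfl⟩)) (Subgroup.inv_mem _ hbN)
  obtain ⟨c, hc, hcb⟩ := exists_c (K ⊓ (H ⊓ Subgroup.normalizer (V : Set G)))
    ((Subgroup.closure A).map (MulAut.conj n).toMonoidHom)
    (((Subgroup.closure A).map (MulAut.conj n).toMonoidHom).map (MulAut.conj k).toMonoidHom)
    hKNcop hBp
    (by
      intro b hb c hc
      have hbN := hBN hb
      exact ⟨hKn b hbN.1 c hc.1,
        Subgroup.mul_mem _ (Subgroup.mul_mem _ hbN hc.2) (Subgroup.inv_mem _ hbN)⟩)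
    (by
      rintro _ ⟨b, hb, rfl⟩
      have e : (MulAut.conj k).toMonoidHom b = (k * b * k⁻¹ * b⁻¹) * b := by
        show k * b * k⁻¹ = _
        group
      rw [e]
      exact Subgroup.mul_mem_sup (hcomm b hb) hb)
    hB'p
    (le_of_eq (Subgroup.card_map_of_injective (MulAut.conj k).injective).symm)
  have hceq : ∀ b ∈ (Subgroup.closure A).map (MulAut.conj n).toMonoidHom,
      c * b * c⁻¹ = k * b * k⁻¹ := by
    intro b hb
    have hbN := hBN hb
    have h1 : (c * b * c⁻¹) * (k * b * k⁻¹)⁻¹ ∈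
        ((Subgroup.closure A).map (MulAut.conj n).toMonoidHom).map (MulAut.conj k).toMonoidHom :=
      Subgroup.mul_mem _ (hcb b hb) (Subgroup.inv_mem _ ⟨b, hb, rfl⟩)
    have h2 : (c * b * c⁻¹) * (k * b * k⁻¹)⁻¹ ∈ K := by
      have e : (c * b * c⁻¹) * (k * b * k⁻¹)⁻¹ = (c * (b * c⁻¹ * b⁻¹)) * ((b * k * b⁻¹) * k⁻¹) := by
        group
      rw [e]
      exact K.mul_mem (K.mul_mem hc.1 (hKn b hbN.1 c⁻¹ (K.inv_mem hc.1)))
        (K.mul_mem (hKn b hbN.1 k hk) (K.inv_mem hk))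
    have h3 := Local.eq_one_of_mem_pgroup_coprime hB'p hKcop h1 h2
    exact mul_inv_eq_one.1 h3
  refine ⟨c * n, Subgroup.mul_mem _ hc.2 hn, ?_⟩
  intro a ha
  have h1 := hceq (n * a * n⁻¹) ⟨a, Subgroup.subset_closure ha, rfl⟩
  calc c * n * a * (c * n)⁻¹ = c * (n * a * n⁻¹) * c⁻¹ := by group
    _ = k * (n * a * n⁻¹) * k⁻¹ := h1
    _ = k * n * a * (k * n)⁻¹ := by group

theorem exists_central {G : Type*} [Group G] [Finite G] {p : ℕ} [Fact p.Prime] (S : Subgroup G)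
    (hS : IsPGroup p S) : ∀ n : ℕ, ∀ A : Subgroup G, A ≤ S →
      S ≤ Subgroup.normalizer (A : Set G) → A ≠ ⊥ → Nat.card A ≤ n →
      ∃ z ∈ A, z ≠ 1 ∧ ∀ s ∈ S, s * z = z * s := by
  intro n
  induction n with
  | zero =>
    intro A _ _ _ hc
    have := Nat.card_pos (α := A)
    omega
  | succ n ih =>
    intro A hAS hSA hne hcard
    by_cases hcomm : ⁅A, S⁆ = ⊥
    · obtain ⟨⟨z, hz⟩, hz1⟩ := Subgroup.ne_bot_iff_exists_ne_one.1 hne
      refine ⟨z, hz, fun h => hz1 (Subtype.ext h), fun s hs => ?_⟩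
      have h1 : ⁅z, s⁆ ∈ ⁅A, S⁆ := Subgroup.commutator_mem_commutator hz hs
      rw [hcomm, Subgroup.mem_bot, commutatorElement_eq_one_iff_mul_comm] at h1
      exact h1.symm
    · have hle : ⁅A, S⁆ ≤ A := AxB.commutator_le_of_le_normalizer hSA
      have hne2 : ⁅A, S⁆ ≠ A := AxB.commutator_ne_self_of_pgroup (hS.to_le hAS) hS hSA hne
      have hcardlt : Nat.card ↥⁅A, S⁆ < Nat.card A := S0651.card_lt_of_lt (lt_of_le_of_ne hle hne2)
      have hnorm : S ≤ Subgroup.normalizer ((⁅A, S⁆ : Subgroup G) : Set G) :=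
        fun s hs => AxB.mem_normalizer_commutator (hSA hs) (Subgroup.le_normalizer hs)
      obtain ⟨z, hz, hz1, hzc⟩ := ih ⁅A, S⁆ (hle.trans hAS) hnorm hcomm (by omega)
      exact ⟨z, hle hz, hz1, hzc⟩

theorem mem_maxea_of_central {G : Type*} [Group G] [Finite G] (p : ℕ) (P A : Subgroup G)
    (hA : S0654.IsMaxEA p P A) (x : G) (hxP : x ∈ P) (hxp : x ^ p = 1)
    (hx : ∀ a ∈ A, a * x = x * a) : x ∈ A := by
  haveI := hA.2.1.1
  have hcomm : ∀ a ∈ Subgroup.closure ((A : Set G) ∪ {x}),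
      ∀ b ∈ Subgroup.closure ((A : Set G) ∪ {x}), a * b = b * a := by
    apply S0119.closure_comm
    rintro a (ha | ha) b (hb | hb)
    · exact setLike_mul_comm ha hb
    · rw [Set.mem_singleton_iff] at hb
      rw [hb]; exact hx a ha
    · rw [Set.mem_singleton_iff] at ha
      rw [ha]; exact (hx b hb).symm
    · rw [Set.mem_singleton_iff] at ha hb
      rw [ha, hb]
  have hpow : ∀ a ∈ Subgroup.closure ((A : Set G) ∪ {x}), a ^ p = 1 := by
    intro a ha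
    induction ha using Subgroup.closure_induction with
    | mem a ha =>
      rcases ha with ha | ha
      · exact hA.2.1.2 a ha
      · rw [Set.mem_singleton_iff] at ha
        rw [ha]; exact hxp
    | one => exact one_pow p
    | mul a b ha hb iha ihb =>
      rw [(show Commute a b from hcomm a ha b hb).mul_pow, iha, ihb, one_mul]
    | inv a ha iha => rw [inv_pow, iha, inv_one]
  have hle : A ≤ Subgroup.closure ((A : Set G) ∪ {x}) :=
    fun a ha => Subgroup.subset_closure (Or.inl ha)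
  have hleP : Subgroup.closure ((A : Set G) ∪ {x}) ≤ P := by
    rw [Subgroup.closure_le]
    rintro a (ha | ha)
    · exact hA.1 ha
    · rw [Set.mem_singleton_iff] at ha
      rw [ha]; exact hxP
  have hcard := hA.2.2 _ hleP
    ⟨IsMulCommutative.of_setLike_mul_comm (fun a ha b hb => hcomm a ha b hb), hpow⟩
  have heq := Subgroup.eq_of_le_of_card_ge hle hcard
  rw [heq]
  exact Subgroup.subset_closure (Or.inr rfl)

theorem ea_ne_bot {G : Type*} [Group G] [Finite G] {p : ℕ} [Fact p.Prime]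
    (Q : Subgroup G) (hQ : IsPGroup p Q) (hne : Q ≠ ⊥) : W (S0654.IsMaxEA p) Q ≠ ⊥ := by
  have hp : p.Prime := Fact.out
  obtain ⟨z, hzQ, hz1, hzc⟩ := exists_central Q hQ _ Q le_rfl Subgroup.le_normalizer hne le_rfl
  obtain ⟨k, hk⟩ := hQ ⟨z, hzQ⟩
  have hk' : z ^ (p ^ k) = 1 := congrArg Subtype.val hk
  obtain ⟨j, hj, hjeq⟩ := (Nat.dvd_prime_pow hp).1 (orderOf_dvd_of_pow_eq_one hk')
  have hj0 : j ≠ 0 := by
    intro h0
    rw [h0, pow_zero] at hjeq
    exact hz1 (orderOf_eq_one_iff.1 hjeq)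
  have hpdvd : p ∣ orderOf z := by
    rw [hjeq]; exact dvd_pow_self p hj0
  have hord : orderOf (z ^ (orderOf z / p)) = p :=
    orderOf_pow_orderOf_div (orderOf_pos z).ne' hpdvd
  have hzp : (z ^ (orderOf z / p)) ^ p = 1 := by
    have h := pow_orderOf_eq_one (z ^ (orderOf z / p))
    rw [hord] at h; exact h
  have hz'1 : z ^ (orderOf z / p) ≠ 1 := by
    intro h
    rw [h, orderOf_one] at hord
    exact hp.one_lt.ne hord
  intro hbot
  apply hz'1
  have hmem : z ^ (orderOf z / p) ∈ W (S0654.IsMaxEA p) Q := by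
    rw [mem_W]
    intro A hA
    apply mem_maxea_of_central p Q A hA _ (Subgroup.pow_mem _ hzQ _) hzp
    intro a ha
    exact ((show Commute a z from hzc a (hA.1 ha)).pow_right _).eq
  rw [hbot, Subgroup.mem_bot] at hmem
  exact hmem

section gen

variable {G : Type*} [Group G]

/-- the part of `Q` lying in conjugates of `D` -/
def dOf (D Q : Subgroup G) : Subgroup G :=
  Subgroup.closure {x | x ∈ Q ∧ ∃ g : G, g⁻¹ * x * g ∈ D}

theorem dOf_le (D Q : Subgroup G) : dOf D Q ≤ Q :=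
  (Subgroup.closure_le Q).2 (fun _ hx => hx.1)

theorem dOf_conj (D Q : Subgroup G) (g : G) :
    dOf D (Q.map (MulAut.conj g).toMonoidHom) = (dOf D Q).map (MulAut.conj g).toMonoidHom := by
  unfold dOf
  rw [MonoidHom.map_closure]
  congr 1
  ext y
  constructor
  · rintro ⟨⟨x, hx, rfl⟩, u, hu⟩
    refine ⟨x, ⟨hx, g⁻¹ * u, ?_⟩, rfl⟩
    have e : (g⁻¹ * u)⁻¹ * x * (g⁻¹ * u) = u⁻¹ * (g * x * g⁻¹) * u := by group
    rw [e]; exact hu
  · rintro ⟨x, ⟨hx, u, hu⟩, rfl⟩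
    refine ⟨⟨x, hx, rfl⟩, g * u, ?_⟩
    show (g * u)⁻¹ * (g * x * g⁻¹) * (g * u) ∈ D
    have e : (g * u)⁻¹ * (g * x * g⁻¹) * (g * u) = u⁻¹ * x * u := by group
    rw [e]; exact hu

theorem dOf_eq (D S Q : Subgroup G) (hD : IsStronglyClosed D S) (hQ : Q ≤ S) :
    dOf D Q = D ⊓ Q := by
  apply le_antisymm
  · unfold dOf
    rw [Subgroup.closure_le]
    rintro x ⟨hxQ, g, hg⟩
    refine ⟨?_, hxQ⟩
    have e : g * (g⁻¹ * x * g) * g⁻¹ = x := by group
    have h1 := hD.2 _ hg g (by rw [e]; exact hQ hxQ)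
    rw [e] at h1; exact h1
  · intro x hx
    exact Subgroup.subset_closure ⟨hx.2, 1, by simpa using hx.1⟩

open Classical in
/-- the conjugacy functor attached to `D` and a raw functor `Wf` -/
noncomputable def Wfun (D : Subgroup G) (Wf : Subgroup G → Subgroup G) (Q : Subgroup G) :
    Subgroup G :=
  if dOf D Q = ⊥ then Q else Wf (dOf D Q)

theorem Wfun_functor {p : ℕ} (D : Subgroup G) (Wf : Subgroup G → Subgroup G)
    (hle : ∀ Q, Wf Q ≤ Q) (hne : ∀ Q : Subgroup G, IsPGroup p Q → Q ≠ ⊥ → Wf Q ≠ ⊥)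
    (hconj : ∀ (Q : Subgroup G) (g : G),
      Wf (Q.map (MulAut.conj g).toMonoidHom) = (Wf Q).map (MulAut.conj g).toMonoidHom) :
    IsConjugacyFunctor p (Wfun D Wf) := by
  intro Q hQ
  refine ⟨?_, ?_, ?_⟩
  · unfold Wfun
    split_ifs with h
    · exact le_rfl
    · exact (hle _).trans (dOf_le D Q)
  · intro hQne
    unfold Wfun
    split_ifs with h
    · exact hQne
    · exact hne _ (hQ.to_le (dOf_le D Q)) h
  · intro g
    unfold Wfun
    rw [dOf_conj]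
    by_cases h : dOf D Q = ⊥
    · rw [if_pos h, if_pos (by rw [h, Subgroup.map_bot])]
    · rw [if_neg h, if_neg (by
        rw [Subgroup.map_eq_bot_iff_of_injective _ (MulAut.conj g).injective]; exact h), hconj]

theorem Wf_norm [Finite G] (Wf : Subgroup G → Subgroup G)
    (hconj : ∀ (Q : Subgroup G) (g : G),
      Wf (Q.map (MulAut.conj g).toMonoidHom) = (Wf Q).map (MulAut.conj g).toMonoidHom)
    (Q : Subgroup G) (n : G) (hn : n ∈ Subgroup.normalizer (Q : Set G)) :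
    n ∈ Subgroup.normalizer ((Wf Q : Subgroup G) : Set G) := by
  apply S0650.norm_of_conj
  intro x hx
  have h1 : n * x * n⁻¹ ∈ (Wf Q).map (MulAut.conj n).toMonoidHom := ⟨x, hx, rfl⟩
  rw [← hconj, map_conj_eq Q n hn] at h1
  exact h1

theorem local_ctrl [Finite G] {p : ℕ} [Fact p.Prime] (P : Sylow p G) (D : Subgroup G)
    (hD : IsStronglyClosed D (P : Subgroup G)) (hDne : D ≠ ⊥)
    (Wf : Subgroup G → Subgroup G)
    (hconj : ∀ (Q : Subgroup G) (g : G),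
      Wf (Q.map (MulAut.conj g).toMonoidHom) = (Wf Q).map (MulAut.conj g).toMonoidHom)
    (H : Subgroup G) (T : Subgroup G) (hTP : T ≤ (P : Subgroup G))
    (hHT : H = Subgroup.normalizer (T : Set G))
    (h0 : ¬ p ∣ ((P : Subgroup G) ⊓ H).relIndex H)
    (hcH : IsPConstrained p ↥H)
    (hlocal : ∀ (R' : Sylow p ↥H) (D' : Subgroup ↥H),
      IsStronglyClosed D' (R' : Subgroup ↥H) → IsPConstrained p ↥H →
      ∀ g : ↥H, ∃ k ∈ pPrimeCore p ↥H, ∃ n : ↥H,
        (n : G) ∈ Subgroup.normalizer ((Wf (D'.map H.subtype) : Subgroup G) : Set G) ∧ g = k * n) :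
    ControlsStrongFusionIn p (Wfun D Wf) H := by
  have hRp : IsPGroup p ↥((P : Subgroup G) ⊓ H) := P.isPGroup'.to_le inf_le_left
  have hDnorm : (P : Subgroup G) ≤ Subgroup.normalizer (D : Set G) := by
    intro s hs
    apply S0650.norm_of_conj
    intro d hd
    exact hD.2 d hd s (Subgroup.mul_mem _ (Subgroup.mul_mem _ hs (hD.1 hd)) (Subgroup.inv_mem _ hs))
  obtain ⟨z, hzD, hz1, hzc⟩ := exists_central (P : Subgroup G) P.isPGroup' _ D hD.1 hDnorm hDne le_rfl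
  have hzR : z ∈ (P : Subgroup G) ⊓ H := by
    refine ⟨hD.1 hzD, ?_⟩
    rw [hHT]
    apply S0650.norm_of_conj
    intro t ht
    have h1 : z * t = t * z := (hzc t (hTP ht)).symm
    have e : z * t * z⁻¹ = t := by rw [h1]; group
    rw [e]; exact ht
  have hdR : dOf D ((P : Subgroup G) ⊓ H) = D ⊓ ((P : Subgroup G) ⊓ H) :=
    dOf_eq D P _ hD inf_le_left
  have hdne : D ⊓ ((P : Subgroup G) ⊓ H) ≠ ⊥ := by
    intro h
    have h1 : z ∈ D ⊓ ((P : Subgroup G) ⊓ H) := ⟨hzD, hzR⟩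
    rw [h] at h1
    exact hz1 (Subgroup.mem_bot.1 h1)
  have hWR : Wfun D Wf ((P : Subgroup G) ⊓ H) = Wf (D ⊓ ((P : Subgroup G) ⊓ H)) := by
    unfold Wfun
    rw [hdR, if_neg hdne]
  refine ⟨(P : Subgroup G) ⊓ H, inf_le_right, hRp, h0, ?_⟩
  intro A h hh hA hAh
  rw [hWR]
  have hRidx : ¬ p ∣ (((P : Subgroup G) ⊓ H).subgroupOf H).index := h0
  have hR'p : IsPGroup p (((P : Subgroup G) ⊓ H).subgroupOf H) := hRp.comap_subtype
  have hR'coe : ((hR'p.toSylow hRidx : Sylow p ↥H) : Subgroup ↥H) =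
      ((P : Subgroup G) ⊓ H).subgroupOf H := IsPGroup.toSylow_coe _ _
  have hD' : IsStronglyClosed ((D ⊓ ((P : Subgroup G) ⊓ H)).subgroupOf H)
      ((hR'p.toSylow hRidx : Sylow p ↥H) : Subgroup ↥H) := by
    rw [hR'coe]
    refine ⟨fun x hx => Subgroup.mem_subgroupOf.2 (Subgroup.mem_subgroupOf.1 hx).2, ?_⟩
    intro x hx g hg
    rw [Subgroup.mem_subgroupOf] at hx hg ⊢
    have hg' : (g : G) * (x : G) * (g : G)⁻¹ ∈ (P : Subgroup G) ⊓ H := hg
    exact ⟨hD.2 _ hx.1 (g : G) hg'.1, hg'⟩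
  have hf := hlocal (hR'p.toSylow hRidx) _ hD' hcH
  have hmapD : ((D ⊓ ((P : Subgroup G) ⊓ H)).subgroupOf H).map H.subtype =
      D ⊓ ((P : Subgroup G) ⊓ H) :=
    Subgroup.map_subgroupOf_eq_of_le (inf_le_right.trans inf_le_right)
  rw [hmapD] at hf
  apply ctrl_of_fact H ((P : Subgroup G) ⊓ H) ((pPrimeCore p ↥H).map H.subtype)
    (Wf (D ⊓ ((P : Subgroup G) ⊓ H))) inf_le_right hRp ?_ ?_ ?_ ?_ A h hh hA hAh
  · rintro h hh _ ⟨k, hk, rfl⟩
    exact ⟨⟨h, hh⟩ * k * ⟨h, hh⟩⁻¹, (Cfsg.pPrimeCore_normal p ↥H).conj_mem k hk ⟨h, hh⟩, rfl⟩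
  · rw [Subgroup.card_map_of_injective (Subgroup.subtype_injective H)]
    exact Local.pPrimeCore_coprime (G := ↥H) p
  · intro r hr
    exact Wf_norm Wf hconj _ r (S3079.sc_norm D P _ hD inf_le_left r (Subgroup.le_normalizer hr))
  · intro h hh
    obtain ⟨k, hk, n, hn, heq⟩ := hf ⟨h, hh⟩
    exact ⟨(k : G), ⟨k, hk, rfl⟩, (n : G), ⟨n.2, hn⟩, congrArg Subtype.val heq⟩

theorem main_gen [Finite G] {p : ℕ} [Fact p.Prime] (P : Sylow p G) (D : Subgroup G)
    (hD : IsStronglyClosed D (P : Subgroup G))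
    (hc : ∀ U : Subgroup G, U ≤ (P : Subgroup G) → U ≠ ⊥ →
      IsPConstrained p ↥(Subgroup.normalizer (U : Set G)))
    (Wf : Subgroup G → Subgroup G)
    (hle : ∀ Q, Wf Q ≤ Q) (hne : ∀ Q : Subgroup G, IsPGroup p Q → Q ≠ ⊥ → Wf Q ≠ ⊥)
    (hconj : ∀ (Q : Subgroup G) (g : G),
      Wf (Q.map (MulAut.conj g).toMonoidHom) = (Wf Q).map (MulAut.conj g).toMonoidHom)
    (hlocal : ∀ (H : Subgroup G) (R' : Sylow p ↥H) (D' : Subgroup ↥H),
      IsStronglyClosed D' (R' : Subgroup ↥H) → IsPConstrained p ↥H →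
      ∀ g : ↥H, ∃ k ∈ pPrimeCore p ↥H, ∃ n : ↥H,
        (n : G) ∈ Subgroup.normalizer ((Wf (D'.map H.subtype) : Subgroup G) : Set G) ∧ g = k * n) :
    ∀ A : Set G, A ⊆ (P : Subgroup G) →
      ControlsStrongFusionOf (Subgroup.normalizer ((Wf D : Subgroup G) : Set G)) (P : Subgroup G) A := by
  intro A hA
  refine ⟨hA, ?_⟩
  intro g hg
  by_cases hDne : D = ⊥
  · refine ⟨g, ?_, fun a _ => rfl⟩
    have h1 : Wf D = ⊥ := by
      rw [eq_bot_iff]; exact (hle D).trans hDne.le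
    rw [h1]
    apply S0650.norm_of_conj
    intro x hx
    rw [Subgroup.mem_bot] at hx ⊢
    rw [hx]; group
  have hfun := Wfun_functor (p := p) D Wf hle hne hconj
  have hloc : ∀ T : Subgroup G, T ≠ ⊥ → IsWellPlaced p (Wfun D Wf) (P : Subgroup G) T →
      ControlsStrongFusionIn p (Wfun D Wf) (Subgroup.normalizer ((T : Subgroup G) : Set G)) := by
    intro T hT hwp
    obtain ⟨hTS, htower⟩ := hwp
    exact local_ctrl P D hD hDne Wf hconj _ T hTS rfl (htower 0) (hc T hTS hT)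
      (hlocal (Subgroup.normalizer ((T : Subgroup G) : Set G)))
  have hctl := S1961.result P (Wfun D Wf) hfun hloc
  obtain ⟨T', -, hT'p, hT'i, hT'⟩ := hctl
  have hT'idx : ¬ p ∣ T'.index := by rwa [Subgroup.relIndex_top_right] at hT'i
  obtain ⟨u, hu⟩ := MulAction.exists_smul_eq G P (hT'p.toSylow hT'idx)
  have hT'eq : T' = (P : Subgroup G).map (MulAut.conj u).toMonoidHom := by
    rw [← S0658.coe_smul_sylow, hu, IsPGroup.toSylow_coe]
  have hWP : Wfun D Wf (P : Subgroup G) = Wf D := by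
    unfold Wfun
    have h1 : dOf D (P : Subgroup G) = D := by
      rw [dOf_eq D P P hD le_rfl, inf_eq_left.2 hD.1]
    rw [h1, if_neg hDne]
  have hWT' : Wfun D Wf T' = (Wf D).map (MulAut.conj u).toMonoidHom := by
    rw [hT'eq, (hfun P P.isPGroup').2.2 u, hWP]
  obtain ⟨x, hx, hxa⟩ := hT' ((fun a => u * a * u⁻¹) '' A) (u * g * u⁻¹) (Subgroup.mem_top _)
    (by
      rintro _ ⟨a, ha, rfl⟩
      rw [hT'eq]; exact ⟨a, hA ha, rfl⟩)
    (by
      rintro _ ⟨_, ⟨a, ha, rfl⟩, rfl⟩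
      rw [hT'eq]
      refine ⟨g * a * g⁻¹, hg ⟨a, ha, rfl⟩, ?_⟩
      show u * (g * a * g⁻¹) * u⁻¹ = u * g * u⁻¹ * (u * a * u⁻¹) * (u * g * u⁻¹)⁻¹
      group)
  rw [hWT'] at hx
  refine ⟨u⁻¹ * x * u, ?_, ?_⟩
  · apply S0650.norm_of_conj
    intro w hw
    have h3 : x * (u * w * u⁻¹) * x⁻¹ ∈ (Wf D).map (MulAut.conj u).toMonoidHom :=
      (Subgroup.mem_normalizer_iff.1 hx.2 _).1 ⟨w, hw, rfl⟩
    obtain ⟨w', hw', hw'eq⟩ := h3
    have hw'eq' : u * w' * u⁻¹ = x * (u * w * u⁻¹) * x⁻¹ := hw'eq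
    have e : u⁻¹ * x * u * w * (u⁻¹ * x * u)⁻¹ = u⁻¹ * (x * (u * w * u⁻¹) * x⁻¹) * u := by group
    rw [e, ← hw'eq']
    have e2 : u⁻¹ * (u * w' * u⁻¹) * u = w' := by group
    rw [e2]; exact hw'
  · intro a ha
    have h4 := hxa (u * a * u⁻¹) ⟨a, ha, rfl⟩
    calc g * a * g⁻¹ = u⁻¹ * ((u * g * u⁻¹) * (u * a * u⁻¹) * (u * g * u⁻¹)⁻¹) * u := by group
      _ = u⁻¹ * (x * (u * a * u⁻¹) * x⁻¹) * u := by rw [h4]
      _ = u⁻¹ * x * u * a * (u⁻¹ * x * u)⁻¹ := by group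

end gen

theorem result {G : Type*} [Group G] [Finite G] {p : ℕ} [Fact p.Prime] (hp : p ≠ 2) (P : Sylow p G) (D : Subgroup G) (hD : Cfsg.IsStronglyClosed D (P : Subgroup G)) (hst : Cfsg.IsNormalizerPStable p G) (hc : ∀ U : Subgroup G, U ≤ (P : Subgroup G) → U ≠ ⊥ → Cfsg.IsPConstrained p ↥(Subgroup.normalizer (U : Set G))) : (∀ A : Set G, A ⊆ (P : Subgroup G) → Cfsg.ControlsStrongFusionOf (Subgroup.normalizer ((Cfsg.centerThompsonAOf D) : Set G)) (P : Subgroup G) A) ∧ (∀ A : Set G, A ⊆ (P : Subgroup G) → Cfsg.ControlsStrongFusionOf (Subgroup.normalizer ((Cfsg.omegaOne p (Cfsg.centerThompsonOf p D)) : Set G)) (P : Subgroup G) A) := by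
  have hDp : IsPGroup p D := P.isPGroup'.to_le hD.1
  have hloc : ∀ (H : Subgroup G) (R' : Sylow p ↥H) (D' : Subgroup ↥H),
      IsStronglyClosed D' (R' : Subgroup ↥H) → IsPConstrained p ↥H →
      (∀ g : ↥H, ∃ k ∈ pPrimeCore p ↥H, ∃ n : ↥H,
        (n : G) ∈ Subgroup.normalizer ((W IsMaxAb (D'.map H.subtype) : Subgroup G) : Set G) ∧
          g = k * n) ∧
      (∀ g : ↥H, ∃ k ∈ pPrimeCore p ↥H, ∃ n : ↥H,
        (n : G) ∈ Subgroup.normalizer ((W (S0654.IsMaxEA p) (D'.map H.subtype) : Subgroup G) : Set G) ∧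
          g = k * n) := by
    intro H R' D' hD' hcH
    have hl := localD hp hcH R' D' hD' (fun A V hV hq => hstab_sub hst H A V hV hq)
    have hinj : ∀ x ∈ D', ∀ y ∈ D', H.subtype x = H.subtype y → x = y :=
      fun x _ y _ h => Subtype.ext h
    constructor
    · intro g
      obtain ⟨k, hk, n, hn, heq⟩ := hl.1 g
      refine ⟨k, hk, n, ?_, heq⟩
      rw [W_hom_ab _ _ hinj]
      apply S0650.norm_of_conj
      rintro _ ⟨w, hw, rfl⟩
      exact ⟨n * w * n⁻¹, (Subgroup.mem_normalizer_iff.1 hn w).1 hw, rfl⟩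
    · intro g
      obtain ⟨k, hk, n, hn, heq⟩ := hl.2 g
      refine ⟨k, hk, n, ?_, heq⟩
      rw [W_hom_ea hp _ _ hinj]
      apply S0650.norm_of_conj
      rintro _ ⟨w, hw, rfl⟩
      exact ⟨n * w * n⁻¹, (Subgroup.mem_normalizer_iff.1 hn w).1 hw, rfl⟩
  constructor
  · rw [center_eq hp D]
    exact main_gen P D hD hc (W IsMaxAb)
      (fun Q => W_le _ _ ((fam_ab (G := G) hp).ex Q) (fun A hA => hA.1))
      (fun Q hQ hne => by rw [← center_eq hp Q]; exact S0658.ZJ_ne_bot hp Q hQ hne)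
      (fun Q g => W_hom_ab _ _ (fun x _ y _ h => (MulAut.conj g).injective h))
      (fun H R' D' h1 h2 => (hloc H R' D' h1 h2).1)
  · rw [S3079.omega_map, S0654.omega_eq hp D hDp]
    exact main_gen P D hD hc (W (S0654.IsMaxEA p))
      (fun Q => W_le _ _ ((S0654.fam_ea (G := G) hp).ex Q) (fun A hA => hA.1))
      (fun Q hQ hne => ea_ne_bot Q hQ hne)
      (fun Q g => W_hom_ea hp _ _ (fun x _ y _ h => (MulAut.conj g).injective h))
      (fun H R' D' h1 h2 => (hloc H R' D' h1 h2).2)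

end Cfsg.Agent.S3080
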