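import Cfsg.Statements.S3225
import Mathlib

set_option autoImplicit false
open Cfsg

namespace Cfsg.Agent.S3225

theorem result {G : Type*} [Group G] [Finite G] (hev : Even (Nat.card G))
    (hG : ∀ H : Subgroup G, H.index ≠ 2) (S : Sylow 2 G) (M : Subgroup G) (hMS : M ≤ (S : Subgroup G)) (hM : M.relIndex (S : Subgroup G) = 2)
    (n : ℕ) (hn : 1 ≤ n) (hord : ∀ y ∈ (S : Subgroup G), y ∉ M → 2 ^ (n - 1) < orderOf y)
    (x : G) (hx : x ∈ (S : Subgroup G)) (hxn : orderOf x = 2 ^ n) :
    ∃ g : G, g * x * g⁻¹ ∈ M := by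
  classical
  by_contra hcon
  push Not at hcon
  have hidx : (M.subgroupOf (S : Subgroup G)).index = 2 := hM
  let ϕ : ↥(S : Subgroup G) →* ℤˣ := MonoidHom.mk' (fun s => if (s : G) ∈ M then 1 else -1) (by
    intro a b
    have h := Subgroup.mul_mem_iff_of_index_two hidx (a := a) (b := b)
    simp only [Subgroup.mem_subgroupOf, Subgroup.coe_mul] at h
    by_cases ha : (a : G) ∈ M <;> by_cases hb : (b : G) ∈ M <;> simp [h, ha, hb])
  have hϕ1 : ∀ s : ↥(S : Subgroup G), (s : G) ∈ M → ϕ s = 1 := by
    intro s hs; simp [ϕ, hs]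
  have hϕ2 : ∀ s : ↥(S : Subgroup G), (s : G) ∉ M → ϕ s = -1 := by
    intro s hs; simp [ϕ, hs]
  let _ : Fintype (Quotient (MulAction.orbitRel (Subgroup.zpowers x) (G ⧸ (S : Subgroup G)))) :=
    Fintype.ofFinite _
  have htr := MonoidHom.transfer_eq_prod_quotient_orbitRel_zpowers_quot (H := (S : Subgroup G)) ϕ x
  have hk : ∀ q : Quotient (MulAction.orbitRel (Subgroup.zpowers x) (G ⧸ (S : Subgroup G))),
      ∃ j ≤ n, Function.minimalPeriod (x • ·) q.out = 2 ^ j := by
    intro q
    have : Function.minimalPeriod (x • ·) q.out ∣ 2 ^ n := by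
      rw [← MulAction.pow_smul_eq_iff_minimalPeriod_dvd, ← hxn, pow_orderOf_eq_one, one_smul]
    exact (Nat.dvd_prime_pow Nat.prime_two).mp this
  have hterm : ∀ q : Quotient (MulAction.orbitRel (Subgroup.zpowers x) (G ⧸ (S : Subgroup G))),
      ϕ ⟨q.out.out⁻¹ * x ^ Function.minimalPeriod (x • ·) q.out * q.out.out,
            QuotientGroup.out_conj_pow_minimalPeriod_mem (S : Subgroup G) x q.out⟩ =
        (-1 : ℤˣ) ^ Function.minimalPeriod (x • ·) q.out := by
    intro q
    obtain ⟨j, hj, hkj⟩ := hk q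
    rcases Nat.eq_zero_or_pos j with rfl | hjpos
    · rw [hϕ2]
      · rw [hkj]; simp
      · simp only
        rw [hkj]
        simp only [pow_zero, pow_one]
        have := hcon (q.out.out⁻¹)
        simpa using this
    · rw [hϕ1]
      · rw [hkj]
        have : Even (2 ^ j) := (Nat.even_pow.mpr ⟨even_two, hjpos.ne'⟩)
        exact (Even.neg_one_pow this).symm
      · simp only
        by_contra hnot
        have hmemS := QuotientGroup.out_conj_pow_minimalPeriod_mem (S : Subgroup G) x q.out
        have h1 := hord _ hmemS hnot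
        have h2 : (q.out.out⁻¹ * x ^ Function.minimalPeriod (x • ·) q.out * q.out.out) ^ (2 ^ (n - 1))
            = 1 := by
          have e : q.out.out⁻¹ * x ^ Function.minimalPeriod (x • ·) q.out * q.out.out =
              MulAut.conj (q.out.out⁻¹) (x ^ Function.minimalPeriod (x • ·) q.out) := by
            simp
          rw [e, ← map_pow, ← pow_mul, hkj]
          have : 2 ^ j * 2 ^ (n - 1) = 2 ^ n * 2 ^ (j - 1) := by
            rw [← pow_add, ← pow_add]; congr 1; omega
          rw [this, pow_mul, ← hxn, pow_orderOf_eq_one, one_pow, map_one]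
        have h3 := Nat.le_of_dvd (by positivity) (orderOf_dvd_of_pow_eq_one h2)
        omega
  have hsum : ∑ q : Quotient (MulAction.orbitRel (Subgroup.zpowers x) (G ⧸ (S : Subgroup G))),
      Function.minimalPeriod (x • ·) q.out = (S : Subgroup G).index := by
    have e := Subgroup.quotientEquivSigmaZMod (S : Subgroup G) x
    have hfin : ∀ q : Quotient (MulAction.orbitRel (Subgroup.zpowers x) (G ⧸ (S : Subgroup G))),
        NeZero (Function.minimalPeriod (x • ·) (Quotient.out q)) := by
      intro q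
      obtain ⟨j, hj, hkj⟩ := hk q
      exact ⟨by rw [hkj]; positivity⟩
    rw [Subgroup.index, Nat.card_congr e, Nat.card_sigma]
    refine Finset.sum_congr rfl (fun q _ => ?_)
    exact (Nat.card_zmod _).symm
  have hodd : Odd (S : Subgroup G).index := by
    rw [← Nat.not_even_iff_odd, even_iff_two_dvd]
    exact S.not_dvd_index
  have hval : MonoidHom.transfer ϕ x = -1 := by
    rw [htr, Finset.prod_congr rfl (fun q _ => hterm q), Finset.prod_pow_eq_pow_sum, hsum]
    exact hodd.neg_one_pow
  apply hG (MonoidHom.transfer ϕ).ker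
  rw [Subgroup.index_ker]
  have hcard : Nat.card ℤˣ = 2 := by simp
  have hdvd : Nat.card (MonoidHom.transfer ϕ).range ∣ 2 := by
    have h0 := Subgroup.card_subgroup_dvd_card (MonoidHom.transfer ϕ).range
    rwa [hcard] at h0
  have hne1 : Nat.card (MonoidHom.transfer ϕ).range ≠ 1 := by
    intro h1
    rw [Subgroup.card_eq_one] at h1
    have : MonoidHom.transfer ϕ x ∈ (MonoidHom.transfer ϕ).range := ⟨x, rfl⟩
    rw [h1, Subgroup.mem_bot, hval] at this
    exact absurd this (by decide)
  rcases (Nat.dvd_prime Nat.prime_two).mp hdvd with h | h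
  · exact absurd h hne1
  · exact h

end Cfsg.Agent.S3225
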