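import Cfsg.Statements.S3178
import Mathlib
import Cfsg.Agent.S3225
import Cfsg.Agent.S0056
import Cfsg.Agent.S0086
import Cfsg.Agent.Lib.Helper1.Nil
import Cfsg.Agent.Lib.Helper5.Basic

set_option autoImplicit false
open Cfsg

namespace Cfsg.Agent.S3178

theorem ab_sq {G : Type*} [Group G] {a b z : G} (hza : a * z = z * a) (hbb : b * b = 1)
    (hba : b * a = z * a * b) : (a * b) * (a * b) = z * (a * a) := by
  calc (a * b) * (a * b) = a * (b * a) * b := by group
    _ = a * (z * a * b) * b := by rw [hba]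
    _ = (a * z) * a * (b * b) := by group
    _ = z * (a * a) := by rw [hza, hbb]; group

theorem aa_comm_b {G : Type*} [Group G] {a b z : G} (hzz : z * z = 1) (hza : a * z = z * a)
    (hba : b * a = z * a * b) : b * (a * a) = (a * a) * b := by
  calc b * (a * a) = (b * a) * a := by group
    _ = (z * a * b) * a := by rw [hba]
    _ = z * a * (b * a) := by group
    _ = z * a * (z * a * b) := by rw [hba]
    _ = z * (a * z) * a * b := by group
    _ = z * (z * a) * a * b := by rw [hza]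
    _ = (z * z) * a * a * b := by group
    _ = (a * a) * b := by rw [hzz]; group

theorem setup {G : Type*} [Group G] [Finite G]
    (S : Sylow 2 G) (n : ℕ) (hn : 3 ≤ n) (hS : Nat.card ↥(S : Subgroup G) = 2 ^ (n + 1))
    (a b : G) (ha : a ∈ (S : Subgroup G))
    (hao : orderOf a = 2 ^ n) (hbo : orderOf b = 2) (hrel : b * a * b⁻¹ = a ^ (2 ^ (n - 1) + 1)) :
    ∃ z : G, a ^ (2 ^ (n - 1)) = z ∧ z * z = 1 ∧ z ≠ 1 ∧ a * z = z * a ∧ b * b = 1 ∧
      b * a = z * a * b ∧ a ^ (2 ^ n) = 1 ∧ b ∉ Subgroup.zpowers a ∧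
      (Subgroup.zpowers a).relIndex (S : Subgroup G) = 2 := by
  have hapow : a ^ (2 ^ n) = 1 := by rw [← hao]; exact pow_orderOf_eq_one a
  have hzz : a ^ (2 ^ (n - 1)) * a ^ (2 ^ (n - 1)) = 1 := by
    rw [← pow_add, ← two_mul, ← pow_succ', show n - 1 + 1 = n by omega]; exact hapow
  have hz1 : a ^ (2 ^ (n - 1)) ≠ 1 := by
    apply pow_ne_one_of_lt_orderOf (by positivity)
    rw [hao]; exact Nat.pow_lt_pow_right (by norm_num) (by omega)
  have hbb : b * b = 1 := by rw [← pow_two, ← hbo]; exact pow_orderOf_eq_one b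
  have hba : b * a = a ^ (2 ^ (n - 1)) * a * b := by
    have h0 : b * a = (b * a * b⁻¹) * b := by group
    rw [h0, hrel, pow_succ]
  refine ⟨a ^ (2 ^ (n - 1)), rfl, hzz, hz1, ?_, hbb, hba, hapow, ?_, ?_⟩
  · rw [← pow_succ', ← pow_succ]
  · intro hbA
    obtain ⟨j, rfl⟩ := Subgroup.mem_zpowers_iff.mp hbA
    apply hz1
    have h1 : a ^ j * a * (a ^ j)⁻¹ = a := by
      rw [(Commute.zpow_self a j).eq, mul_assoc, mul_inv_cancel, mul_one]
    rw [h1] at hrel
    have h2 : a ^ (2 ^ (n - 1)) * a = 1 * a := by rw [one_mul, ← pow_succ]; exact hrel.symm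
    exact mul_right_cancel h2
  · have hle : Subgroup.zpowers a ≤ (S : Subgroup G) := by rw [Subgroup.zpowers_le]; exact ha
    have h1 : Nat.card (Subgroup.zpowers a) = 2 ^ n := by rw [Nat.card_zpowers, hao]
    have h2 := Cfsg.Agent.Lib.Helper5.Basic.card_eq_card_inf_mul_relIndex (S : Subgroup G)
      (Subgroup.zpowers a)
    rw [inf_eq_right.mpr hle, h1, hS, pow_succ] at h2
    exact (Nat.eq_of_mul_eq_mul_left (by positivity) h2).symm

theorem struct {G : Type*} [Group G] (S : Subgroup G) (a b : G) (hb : b ∈ S)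
    (hidx : (Subgroup.zpowers a).relIndex S = 2) (hbA : b ∉ Subgroup.zpowers a) (hbb : b * b = 1) :
    ∀ s ∈ S, ∃ c ∈ Subgroup.zpowers (a * a), s = c ∨ s = c * a ∨ s = c * b ∨ s = c * (a * b) := by
  intro s hs
  have key : ∀ t ∈ Subgroup.zpowers a, ∃ c ∈ Subgroup.zpowers (a * a), t = c ∨ t = c * a := by
    intro t ht
    obtain ⟨j, rfl⟩ := Subgroup.mem_zpowers_iff.mp ht
    obtain ⟨k, hk | hk⟩ := Int.even_or_odd' j
    · refine ⟨(a * a) ^ k, Subgroup.zpow_mem_zpowers _ _, Or.inl ?_⟩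
      rw [hk, ← pow_two, ← zpow_natCast, ← zpow_mul]
      norm_num
    · refine ⟨(a * a) ^ k, Subgroup.zpow_mem_zpowers _ _, Or.inr ?_⟩
      rw [hk, ← pow_two, ← zpow_natCast, ← zpow_mul, zpow_add, zpow_one]
      norm_num
  by_cases hsA : s ∈ Subgroup.zpowers a
  · obtain ⟨c, hc, h | h⟩ := key s hsA
    · exact ⟨c, hc, Or.inl h⟩
    · exact ⟨c, hc, Or.inr (Or.inl h)⟩
  · have h2 := Subgroup.mul_mem_iff_of_index_two hidx (a := (⟨s, hs⟩ : ↥S)) (b := ⟨b, hb⟩)
    simp only [Subgroup.mem_subgroupOf, Subgroup.coe_mul] at h2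
    have h3 : s * b ∈ Subgroup.zpowers a :=
      h2.mpr ⟨fun h => absurd h hsA, fun h => absurd h hbA⟩
    obtain ⟨c, hc, h | h⟩ := key _ h3
    · refine ⟨c, hc, Or.inr (Or.inr (Or.inl ?_))⟩
      calc s = s * b * b := by rw [mul_assoc, hbb, mul_one]
        _ = c * b := by rw [h]
    · refine ⟨c, hc, Or.inr (Or.inr (Or.inr ?_))⟩
      calc s = s * b * b := by rw [mul_assoc, hbb, mul_one]
        _ = c * (a * b) := by rw [h, mul_assoc]

theorem pow_facts {G : Type*} [Group G] {a b z : G} (n : ℕ) (hn : 3 ≤ n)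
    (hz : a ^ (2 ^ (n - 1)) = z) (hzz : z * z = 1) (hza : a * z = z * a)
    (hbb : b * b = 1) (hba : b * a = z * a * b) (hapow : a ^ (2 ^ n) = 1)
    (c : G) (hc : c ∈ Subgroup.zpowers (a * a)) :
    c ^ (2 ^ (n - 1)) = 1 ∧ (c * a) ^ (2 ^ (n - 1)) = z ∧ (c * b) ^ (2 ^ (n - 1)) = 1 ∧
      (c * (a * b)) ^ (2 ^ (n - 1)) = z ∧ c * a = a * c ∧ c * b = b * c := by
  obtain ⟨k, rfl⟩ := Subgroup.mem_zpowers_iff.mp hc
  have hca : Commute ((a * a) ^ k) a :=
    ((Commute.refl a).mul_left (Commute.refl a)).zpow_left k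
  have hcb : Commute ((a * a) ^ k) b := by
    have h0 : Commute (a * a) b := (aa_comm_b hzz hza hba).symm
    exact h0.zpow_left k
  have h1 : (a * a) ^ (2 ^ (n - 1)) = 1 := by
    rw [← pow_two, ← pow_mul, ← pow_succ', show n - 1 + 1 = n by omega, hapow]
  have hc1 : ((a * a) ^ k) ^ (2 ^ (n - 1)) = 1 := by
    rw [← zpow_natCast, ← zpow_mul, mul_comm, zpow_mul, zpow_natCast, h1, one_zpow]
  have e1 : 2 ^ (n - 1) = 2 * 2 ^ (n - 2) := by
    rw [show n - 1 = (n - 2) + 1 by omega, pow_succ']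
  have e2 : 2 ^ (n - 2) = 2 * 2 ^ (n - 3) := by
    rw [show n - 2 = (n - 3) + 1 by omega, pow_succ']
  have hb1 : b ^ (2 ^ (n - 1)) = 1 := by
    rw [e1, pow_mul, pow_two, hbb, one_pow]
  have hz2 : z ^ (2 ^ (n - 2)) = 1 := by
    rw [e2, pow_mul, pow_two, hzz, one_pow]
  have hab : (a * b) ^ (2 ^ (n - 1)) = z := by
    have hzaa : Commute z (a * a) := by
      have h0 : Commute z a := hza.symm
      exact h0.mul_right h0
    rw [e1, pow_mul, pow_two, ab_sq hza hbb hba, hzaa.mul_pow, hz2, one_mul, ← pow_two, ← pow_mul,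
      ← e1, hz]
  refine ⟨hc1, ?_, ?_, ?_, hca.eq, hcb.eq⟩
  · rw [hca.mul_pow, hc1, one_mul, hz]
  · rw [hcb.mul_pow, hc1, one_mul, hb1]
  · rw [(hca.mul_right hcb).mul_pow, hc1, one_mul, hab]

theorem invol_C {G : Type*} [Group G] {a z : G} (n : ℕ) (hn : 3 ≤ n) (hao : orderOf a = 2 ^ n)
    (hz : a ^ (2 ^ (n - 1)) = z) (hzz : z * z = 1)
    (c : G) (hc : c ∈ Subgroup.zpowers (a * a)) (hcc : c * c = 1) : c = 1 ∨ c = z := by
  obtain ⟨k, rfl⟩ := Subgroup.mem_zpowers_iff.mp hc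
  have h1 : a ^ (4 * k) = 1 := by
    have h0 : (a * a) ^ k * (a * a) ^ k = a ^ (4 * k) := by
      rw [← zpow_add, ← pow_two, ← zpow_natCast, ← zpow_mul]
      congr 1
      push_cast
      ring
    rw [← h0]; exact hcc
  have h2 := (orderOf_dvd_iff_zpow_eq_one).mpr h1
  rw [hao] at h2
  have h3 : ((2 : ℤ) ^ (n - 2)) ∣ k := by
    have e : ((2 ^ n : ℕ) : ℤ) = 4 * 2 ^ (n - 2) := by
      push_cast
      obtain ⟨m, rfl⟩ : ∃ m, n = m + 2 := ⟨n - 2, by omega⟩
      rw [show m + 2 - 2 = m by omega, pow_add]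
      ring
    rw [e] at h2
    exact Int.dvd_of_mul_dvd_mul_left (by norm_num) h2
  obtain ⟨m, rfl⟩ := h3
  have h4 : (a * a) ^ (2 ^ (n - 2) * m) = z ^ m := by
    rw [← hz, ← pow_two, ← zpow_natCast a, ← zpow_natCast a, ← zpow_mul, ← zpow_mul]
    congr 1
    push_cast
    obtain ⟨j, rfl⟩ : ∃ j, n = j + 2 := ⟨n - 2, by omega⟩
    rw [show j + 2 - 2 = j by omega, show j + 2 - 1 = j + 1 by omega, pow_succ]
    ring
  rw [h4]
  obtain ⟨q, hq | hq⟩ := Int.even_or_odd' m
  · left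
    rw [hq, zpow_mul, zpow_two, hzz, one_zpow]
  · right
    rw [hq, zpow_add, zpow_mul, zpow_two, hzz, one_zpow, one_mul, zpow_one]

theorem exists_M {G : Type*} [Group G] (S : Subgroup G) (n : ℕ) (hn : 3 ≤ n) (a b z : G)
    (ha : a ∈ S) (hb : b ∈ S)
    (hz : a ^ (2 ^ (n - 1)) = z) (hzz : z * z = 1) (hz1 : z ≠ 1) (hza : a * z = z * a)
    (hbb : b * b = 1) (hba : b * a = z * a * b) (hapow : a ^ (2 ^ n) = 1)
    (hbA : b ∉ Subgroup.zpowers a) (hidx : (Subgroup.zpowers a).relIndex S = 2) :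
    ∃ M : Subgroup G, M ≤ S ∧ M.relIndex S = 2 ∧ (∀ y ∈ M, y ^ (2 ^ (n - 1)) = 1) ∧
      (∀ y ∈ S, y ∉ M → y ^ (2 ^ (n - 1)) = z) := by
  have hP := pow_facts n hn hz hzz hza hbb hba hapow
  have hC : ∀ c ∈ Subgroup.zpowers (a * a), c * b = b * c := fun c hc => (hP c hc).2.2.2.2.2
  have hCS : Subgroup.zpowers (a * a) ≤ S := by
    rw [Subgroup.zpowers_le]; exact mul_mem ha ha
  have hzC : z ∈ Subgroup.zpowers (a * a) := by
    have h0 : z = (a * a) ^ (2 ^ (n - 2)) := by
      rw [← hz, ← pow_two, ← pow_mul, ← pow_succ', show n - 2 + 1 = n - 1 by omega]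
    rw [h0]
    exact Subgroup.npow_mem_zpowers _ _
  let M : Subgroup G :=
    { carrier := {s | ∃ c ∈ Subgroup.zpowers (a * a), s = c ∨ s = c * b}
      mul_mem' := by
        rintro x y ⟨c, hc, hx⟩ ⟨d, hd, hy⟩
        refine ⟨c * d, mul_mem hc hd, ?_⟩
        rcases hx with hx | hx <;> rcases hy with hy | hy
        · left; rw [hx, hy]
        · right; rw [hx, hy, mul_assoc]
        · right; rw [hx, hy, mul_assoc, ← hC d hd, mul_assoc]
        · left
          rw [hx, hy]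
          calc c * b * (d * b) = c * (b * d) * b := by group
            _ = c * (d * b) * b := by rw [hC d hd]
            _ = c * d * (b * b) := by group
            _ = c * d := by rw [hbb, mul_one]
      one_mem' := ⟨1, one_mem _, Or.inl rfl⟩
      inv_mem' := by
        rintro x ⟨c, hc, hx | hx⟩
        · exact ⟨c⁻¹, inv_mem hc, Or.inl (by rw [hx])⟩
        · refine ⟨c⁻¹, inv_mem hc, Or.inr ?_⟩
          have hb' : b⁻¹ = b := inv_eq_of_mul_eq_one_left hbb
          rw [hx, mul_inv_rev, hb', hC c⁻¹ (inv_mem hc)] }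
  have hmem : ∀ y, y ∈ M ↔ ∃ c ∈ Subgroup.zpowers (a * a), y = c ∨ y = c * b := fun y => Iff.rfl
  have hM3 : ∀ y ∈ M, y ^ (2 ^ (n - 1)) = 1 := by
    intro y hy
    obtain ⟨c, hc, h | h⟩ := (hmem y).mp hy
    · rw [h]; exact (hP c hc).1
    · rw [h]; exact (hP c hc).2.2.1
  have hst := struct S a b hb hidx hbA hbb
  refine ⟨M, ?_, ?_, hM3, ?_⟩
  · intro y hy
    obtain ⟨c, hc, h | h⟩ := (hmem y).mp hy
    · rw [h]; exact hCS hc
    · rw [h]; exact mul_mem (hCS hc) hb
  · rw [Subgroup.relIndex_eq_two_iff_exists_notMem_and]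
    refine ⟨a, ha, ?_, ?_⟩
    · intro haM
      have h0 := hM3 a haM
      rw [hz] at h0
      exact hz1 h0
    · intro s hs
      obtain ⟨c, hc, h | h | h | h⟩ := hst s hs
      · right; exact (hmem s).mpr ⟨c, hc, Or.inl h⟩
      · left
        refine (hmem _).mpr ⟨c * (a * a), mul_mem hc (Subgroup.mem_zpowers _), Or.inl ?_⟩
        rw [h, mul_assoc]
      · right; exact (hmem s).mpr ⟨c, hc, Or.inr h⟩
      · left
        refine (hmem _).mpr ⟨c * z * (a * a), mul_mem (mul_mem hc hzC) (Subgroup.mem_zpowers _),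
          Or.inr ?_⟩
        rw [h]
        calc c * (a * b) * a = c * a * (b * a) := by group
          _ = c * a * (z * a * b) := by rw [hba]
          _ = c * (a * z) * a * b := by group
          _ = c * (z * a) * a * b := by rw [hza]
          _ = c * z * (a * a) * b := by group
  · intro y hy hyM
    obtain ⟨c, hc, h | h | h | h⟩ := hst y hy
    · exact absurd ((hmem y).mpr ⟨c, hc, Or.inl h⟩) hyM
    · rw [h]; exact (hP c hc).2.1
    · exact absurd ((hmem y).mpr ⟨c, hc, Or.inr h⟩) hyM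
    · rw [h]; exact (hP c hc).2.2.2.1

theorem exists_index_two {G : Type*} [Group G] [Finite G]
    (S : Sylow 2 G) (n : ℕ) (hn : 3 ≤ n) (hS : Nat.card ↥(S : Subgroup G) = 2 ^ (n + 1))
    (a b : G) (ha : a ∈ (S : Subgroup G)) (hb : b ∈ (S : Subgroup G))
    (hao : orderOf a = 2 ^ n) (hbo : orderOf b = 2) (hrel : b * a * b⁻¹ = a ^ (2 ^ (n - 1) + 1)) :
    ∃ H : Subgroup G, H.index = 2 := by
  by_contra hno
  push Not at hno
  obtain ⟨z, hz, hzz, hz1, hza, hbb, hba, hapow, hbA, hidx⟩ := setup S n hn hS a b ha hao hbo hrel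
  obtain ⟨M, hMS, hM2, hM3, hM4⟩ :=
    exists_M (S : Subgroup G) n hn a b z ha hb hz hzz hz1 hza hbb hba hapow hbA hidx
  have hev : Even (Nat.card G) := by
    have h1 : 2 ∣ Nat.card (S : Subgroup G) := by rw [hS]; exact dvd_pow_self 2 (by omega)
    exact even_iff_two_dvd.mpr (h1.trans (Subgroup.card_subgroup_dvd_card _))
  have hord : ∀ y ∈ (S : Subgroup G), y ∉ M → 2 ^ (n - 1) < orderOf y := by
    intro y hy hyM
    by_contra hle
    push Not at hle
    have h1 := hM4 y hy hyM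
    obtain ⟨k, hk⟩ : ∃ k, orderOf y = 2 ^ k := by
      obtain ⟨k, hk⟩ := S.isPGroup' ⟨y, hy⟩
      have h2 : y ^ (2 ^ k) = 1 := by simpa using congrArg Subtype.val hk
      obtain ⟨j, -, hj⟩ := (Nat.dvd_prime_pow Nat.prime_two).mp (orderOf_dvd_of_pow_eq_one h2)
      exact ⟨j, hj⟩
    rw [hk] at hle
    have hkn : k ≤ n - 1 := (Nat.pow_le_pow_iff_right (by norm_num)).mp hle
    apply hz1
    rw [← h1]
    apply orderOf_dvd_iff_pow_eq_one.mp
    rw [hk]; exact pow_dvd_pow 2 hkn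
  obtain ⟨g, hg⟩ := Cfsg.Agent.S3225.result hev hno S M hMS hM2 n (by omega) hord a ha hao
  apply hz1
  have h1 := hM3 _ hg
  rw [conj_pow, hz] at h1
  calc z = g⁻¹ * (g * z * g⁻¹) * g := by group
    _ = 1 := by rw [h1]; group

theorem core {G : Type*} [Group G] [Finite G]
    (S : Sylow 2 G) (n : ℕ) (hn : 3 ≤ n) (hS : Nat.card ↥(S : Subgroup G) = 2 ^ (n + 1))
    (a b : G) (ha : a ∈ (S : Subgroup G)) (hb : b ∈ (S : Subgroup G))
    (hao : orderOf a = 2 ^ n) (hbo : orderOf b = 2) (hrel : b * a * b⁻¹ = a ^ (2 ^ (n - 1) + 1))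
    (S₁ : Subgroup G) (hS₁ : S₁ ≤ (S : Subgroup G)) (haa : a * a ∈ S₁)
    (hidx₁ : S₁.relIndex (S : Subgroup G) = 2) :
    (∀ x ∈ S₁, ∀ y ∈ S₁, x * y = y * x) ∧
    (∀ u : G, (orderOf u).Coprime 2 → u ∈ Subgroup.normalizer (S₁ : Set G) →
      ∀ x ∈ S₁, u * x = x * u) := by
  obtain ⟨z, hz, hzz, hz1, hza, hbb, hba, hapow, hbA, hidx⟩ := setup S n hn hS a b ha hao hbo hrel
  have hP := pow_facts n hn hz hzz hza hbb hba hapow
  have hst := struct (S : Subgroup G) a b hb hidx hbA hbb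
  have hCS₁ : Subgroup.zpowers (a * a) ≤ S₁ := by
    rw [Subgroup.zpowers_le]; exact haa
  have hcen : ∀ c ∈ Subgroup.zpowers (a * a), ∀ s ∈ (S : Subgroup G), c * s = s * c := by
    intro c hc s hs
    have hca : Commute c a := (hP c hc).2.2.2.2.1
    have hcb : Commute c b := (hP c hc).2.2.2.2.2
    have hcd : ∀ d ∈ Subgroup.zpowers (a * a), Commute c d := by
      intro d hd
      obtain ⟨k, rfl⟩ := Subgroup.mem_zpowers_iff.mp hc
      obtain ⟨l, rfl⟩ := Subgroup.mem_zpowers_iff.mp hd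
      exact Commute.zpow_zpow_self (a * a) k l
    obtain ⟨d, hd, h | h | h | h⟩ := hst s hs
    · rw [h]; exact (hcd d hd).eq
    · rw [h]; exact ((hcd d hd).mul_right hca).eq
    · rw [h]; exact ((hcd d hd).mul_right hcb).eq
    · rw [h]; exact ((hcd d hd).mul_right (hca.mul_right hcb)).eq
  have hcardS₁ : Nat.card S₁ = 2 ^ n := by
    have h2 := Cfsg.Agent.Lib.Helper5.Basic.card_eq_card_inf_mul_relIndex (S : Subgroup G) S₁
    rw [inf_eq_right.mpr hS₁, hidx₁, hS, pow_succ] at h2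
    exact (Nat.eq_of_mul_eq_mul_right (by norm_num) h2).symm
  have hcardC : Nat.card (Subgroup.zpowers (a * a)) = 2 ^ (n - 1) := by
    rw [Nat.card_zpowers, ← pow_two, orderOf_pow' a (by norm_num : (2 : ℕ) ≠ 0), hao]
    have h0 : Nat.gcd (2 ^ n) 2 = 2 := Nat.gcd_eq_right (dvd_pow_self 2 (by omega))
    rw [h0]
    obtain ⟨m, rfl⟩ : ∃ m, n = m + 1 := ⟨n - 1, by omega⟩
    rw [show m + 1 - 1 = m by omega, pow_succ, Nat.mul_div_cancel _ (by norm_num : 0 < 2)]
  have hidxC : (Subgroup.zpowers (a * a)).relIndex S₁ = 2 := by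
    have h2 := Cfsg.Agent.Lib.Helper5.Basic.card_eq_card_inf_mul_relIndex S₁
      (Subgroup.zpowers (a * a))
    rw [inf_eq_right.mpr hCS₁, hcardS₁, hcardC] at h2
    obtain ⟨m, rfl⟩ : ∃ m, n = m + 1 := ⟨n - 1, by omega⟩
    rw [show m + 1 - 1 = m by omega, pow_succ] at h2
    exact (Nat.eq_of_mul_eq_mul_left (by positivity) h2).symm
  have hcomm : ∀ x ∈ S₁, ∀ y ∈ S₁, x * y = y * x := by
    intro x hx y hy
    by_cases hxC : x ∈ Subgroup.zpowers (a * a)
    · exact hcen x hxC y (hS₁ hy)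
    · by_cases hyC : y ∈ Subgroup.zpowers (a * a)
      · exact (hcen y hyC x (hS₁ hx)).symm
      · have h2 := Subgroup.mul_mem_iff_of_index_two hidxC (a := (⟨x, hx⟩ : ↥S₁)) (b := ⟨y, hy⟩)
        simp only [Subgroup.mem_subgroupOf, Subgroup.coe_mul] at h2
        have h3 : x * y ∈ Subgroup.zpowers (a * a) :=
          h2.mpr ⟨fun h => absurd h hxC, fun h => absurd h hyC⟩
        have h4 := hcen _ h3 x (hS₁ hx)
        have h5 : x * (y * x) = x * (x * y) := by rw [← mul_assoc, h4]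
        exact (mul_left_cancel h5).symm
  refine ⟨hcomm, ?_⟩
  intro u hu hnorm x hx
  have hzC : z ∈ Subgroup.zpowers (a * a) := by
    have h0 : z = (a * a) ^ (2 ^ (n - 2)) := by
      rw [← hz, ← pow_two, ← pow_mul, ← pow_succ', show n - 2 + 1 = n - 1 by omega]
    rw [h0]
    exact Subgroup.npow_mem_zpowers _ _
  have hwC : a ^ (2 ^ (n - 2)) ∈ Subgroup.zpowers (a * a) := by
    have h0 : a ^ (2 ^ (n - 2)) = (a * a) ^ (2 ^ (n - 3)) := by
      rw [← pow_two, ← pow_mul, ← pow_succ', show n - 3 + 1 = n - 2 by omega]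
    rw [h0]
    exact Subgroup.npow_mem_zpowers _ _
  have hww : a ^ (2 ^ (n - 2)) * a ^ (2 ^ (n - 2)) = z := by
    rw [← hz, ← pow_add, ← two_mul, ← pow_succ', show n - 2 + 1 = n - 1 by omega]
  have hzA : z ∈ Subgroup.zpowers a := by
    rw [← hz]; exact Subgroup.npow_mem_zpowers _ _
  have hzbA : z * b ∉ Subgroup.zpowers a := by
    intro h
    apply hbA
    have h0 := mul_mem (inv_mem hzA) h
    rwa [inv_mul_cancel_left] at h0
  have hconj : ∀ y ∈ S₁, u * y * u⁻¹ ∈ S₁ := fun y hy =>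
    (Subgroup.mem_normalizer_iff.mp hnorm y).mp hy
  have hsq : ∀ s ∈ (S : Subgroup G), s * s ∈ Subgroup.zpowers a := by
    intro s hs
    have h2 := Subgroup.mul_self_mem_of_index_two hidx (⟨s, hs⟩ : ↥(S : Subgroup G))
    simpa only [Subgroup.mem_subgroupOf, Subgroup.coe_mul] using h2
  have hinv : ∀ s ∈ (S : Subgroup G), s * s = 1 → s = 1 ∨ s = z ∨ s = b ∨ s = z * b := by
    intro s hs hss
    have hsN : s ^ (2 ^ (n - 1)) = 1 := by
      rw [show n - 1 = (n - 2) + 1 by omega, pow_succ', pow_mul, pow_two, hss, one_pow]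
    obtain ⟨c, hc, h | h | h | h⟩ := hst s hs
    · rw [h] at hss ⊢
      rcases invol_C n hn hao hz hzz c hc hss with h' | h'
      · left; exact h'
      · right; left; exact h'
    · exfalso
      rw [h, (hP c hc).2.1] at hsN
      exact hz1 hsN
    · have hcc : c * c = 1 := by
        have h0 : c * b * (c * b) = c * c := by
          calc c * b * (c * b) = c * (b * c) * b := by group
            _ = c * (c * b) * b := by rw [(hP c hc).2.2.2.2.2]
            _ = c * c * (b * b) := by group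
            _ = c * c := by rw [hbb, mul_one]
        rw [← h0, ← h]; exact hss
      rcases invol_C n hn hao hz hzz c hc hcc with h' | h'
      · right; right; left; rw [h, h', one_mul]
      · right; right; right; rw [h, h']
    · exfalso
      rw [h, (hP c hc).2.2.2.1] at hsN
      exact hz1 hsN
  have hzS₁ : z ∈ S₁ := hCS₁ hzC
  have huz : u * z * u⁻¹ = z := by
    have h1 : u * z * u⁻¹ = (u * a ^ (2 ^ (n - 2)) * u⁻¹) * (u * a ^ (2 ^ (n - 2)) * u⁻¹) := by
      rw [← hww]; group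
    have h2 : u * z * u⁻¹ ∈ Subgroup.zpowers a := by
      rw [h1]; exact hsq _ (hS₁ (hconj _ (hCS₁ hwC)))
    have h3 : (u * z * u⁻¹) * (u * z * u⁻¹) = 1 := by
      calc (u * z * u⁻¹) * (u * z * u⁻¹) = u * (z * z) * u⁻¹ := by group
        _ = 1 := by rw [hzz]; group
    rcases hinv _ (hS₁ (hconj z hzS₁)) h3 with h | h | h | h
    · exfalso
      apply hz1
      calc z = u⁻¹ * (u * z * u⁻¹) * u := by group
        _ = 1 := by rw [h]; group
    · exact h
    · exfalso; rw [h] at h2; exact hbA h2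
    · exfalso; rw [h] at h2; exact hzbA h2
  have huodd : Odd (orderOf u) := Nat.Coprime.odd_of_right hu
  have hkey : ∀ v ∈ S₁, v * v = 1 → u * v = v * u := by
    intro v hv hvv
    have h3 : (u * v * u⁻¹) * (u * v * u⁻¹) = 1 := by
      calc (u * v * u⁻¹) * (u * v * u⁻¹) = u * (v * v) * u⁻¹ := by group
        _ = 1 := by rw [hvv]; group
    have hfin : u * v * u⁻¹ = v ∨ u * v * u⁻¹ = z * v → u * v = v * u := by
      rintro (h | h)
      · calc u * v = (u * v * u⁻¹) * u := by group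
          _ = v * u := by rw [h]
      · have h4 : (u * u) * v = v * (u * u) := by
          calc (u * u) * v = u * (u * v * u⁻¹) * u⁻¹ * (u * u) := by group
            _ = u * (z * v) * u⁻¹ * (u * u) := by rw [h]
            _ = (u * z * u⁻¹) * (u * v * u⁻¹) * (u * u) := by group
            _ = z * (z * v) * (u * u) := by rw [huz, h]
            _ = v * (u * u) := by rw [← mul_assoc z z v, hzz, one_mul]
        obtain ⟨k, hk⟩ := huodd
        have h5 : (u * u) ^ (k + 1) = u := by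
          rw [← pow_two, ← pow_mul, show 2 * (k + 1) = (2 * k + 1) + 1 by ring, pow_succ, ← hk,
            pow_orderOf_eq_one, one_mul]
        have h6 : Commute ((u * u) ^ (k + 1)) v := Commute.pow_left h4 (k + 1)
        rw [h5] at h6
        exact h6.eq
    have hne1 : v ≠ 1 → u * v * u⁻¹ ≠ 1 := by
      intro hv1 h
      apply hv1
      calc v = u⁻¹ * (u * v * u⁻¹) * u := by group
        _ = 1 := by rw [h]; group
    have hnez : v ≠ z → u * v * u⁻¹ ≠ z := by
      intro hvz h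
      apply hvz
      calc v = u⁻¹ * (u * v * u⁻¹) * u := by group
        _ = u⁻¹ * (u * z * u⁻¹) * u := by rw [h, huz]
        _ = z := by group
    have hbz : b ≠ z := fun h => hbA (h ▸ hzA)
    have hb1 : b ≠ 1 := fun h => hbA (h ▸ one_mem _)
    have hzbz : z * b ≠ z := by
      intro h
      apply hb1
      have h0 : z * b = z * 1 := by rw [mul_one]; exact h
      exact mul_left_cancel h0
    have hzb1 : z * b ≠ 1 := fun h => hzbA (h ▸ one_mem _)
    rcases hinv v (hS₁ hv) hvv with h | h | h | h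
    · rw [h, mul_one, one_mul]
    · rw [h]
      calc u * z = (u * z * u⁻¹) * u := by group
        _ = z * u := by rw [huz]
    · apply hfin
      rcases hinv _ (hS₁ (hconj v hv)) h3 with h' | h' | h' | h'
      · exact absurd h' (hne1 (h ▸ hb1))
      · exact absurd h' (hnez (h ▸ hbz))
      · left; rw [h', h]
      · right; rw [h', h]
    · apply hfin
      rcases hinv _ (hS₁ (hconj v hv)) h3 with h' | h' | h' | h'
      · exact absurd h' (hne1 (h ▸ hzb1))
      · exact absurd h' (hnez (h ▸ hzbz))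
      · right; rw [h', h, ← mul_assoc, hzz, one_mul]
      · left; rw [h', h]
  have hprime : ∀ v ∈ S₁, (orderOf v).Prime → u * v = v * u := by
    intro v hv hp
    apply hkey v hv
    obtain ⟨k, hk⟩ := S.isPGroup' ⟨v, hS₁ hv⟩
    have h2 : v ^ (2 ^ k) = 1 := by simpa using congrArg Subtype.val hk
    have h3 : orderOf v = 2 :=
      (Nat.prime_dvd_prime_iff_eq hp Nat.prime_two).mp
        (hp.dvd_of_dvd_pow (orderOf_dvd_of_pow_eq_one h2))
    rw [← pow_two, ← h3]
    exact pow_orderOf_eq_one v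
  have hinst : IsMulCommutative ↥S₁ := ⟨⟨fun x y => Subtype.ext (hcomm x x.2 y y.2)⟩⟩
  have hres := Cfsg.Agent.S0056.result (Subgroup.zpowers u) S₁
    (by rw [Subgroup.zpowers_le]; exact hnorm)
    (by
      rw [Nat.card_zpowers, hcardS₁]
      exact Nat.Coprime.pow_right n hu)
    (by
      intro v hv hp t ht
      obtain ⟨i, rfl⟩ := Subgroup.mem_zpowers_iff.mp ht
      have h0 : Commute u v := hprime v hv hp
      exact (h0.zpow_left i).eq)
  exact (Subgroup.mem_centralizer_iff.mp (hres (Subgroup.mem_zpowers u)) x hx).symm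

theorem normalizer_le_centralizer {H : Type*} [Group H] [Finite H] {p : ℕ} [Fact p.Prime]
    (P : Sylow p H)
    (hcomm : ∀ x ∈ (P : Subgroup H), ∀ y ∈ (P : Subgroup H), x * y = y * x)
    (hodd : ∀ u : H, (orderOf u).Coprime p → u ∈ Subgroup.normalizer ((P : Subgroup H) : Set H) →
      ∀ x ∈ (P : Subgroup H), u * x = x * u) :
    Subgroup.normalizer ((P : Subgroup H) : Set H) ≤
      Subgroup.centralizer ((P : Subgroup H) : Set H) := by
  intro g hg
  obtain ⟨u, w, hguw, -, hu, ⟨k, hw⟩, huz, hwz⟩ := Cfsg.Agent.Lib.Helper1.exists_p_decomp p g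
  have hzn : Subgroup.zpowers g ≤ Subgroup.normalizer ((P : Subgroup H) : Set H) := by
    rw [Subgroup.zpowers_le]; exact hg
  have hwP := Cfsg.Agent.Lib.Helper1.mem_sylow_of_pow_mem_normalizer p P w (hzn hwz) k hw
  rw [Subgroup.mem_centralizer_iff]
  intro x hx
  rw [hguw]
  calc x * (u * w) = (x * u) * w := by group
    _ = (u * x) * w := by rw [hodd u hu (hzn huz) x hx]
    _ = u * (x * w) := by group
    _ = u * (w * x) := by rw [hcomm x hx w hwP]
    _ = u * w * x := by group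

theorem result {G : Type*} [Group G] [Finite G]
    (S : Sylow 2 G) (n : ℕ) (hn : 3 ≤ n) (hS : Nat.card ↥(S : Subgroup G) = 2 ^ (n + 1))
    (a b : G) (ha : a ∈ (S : Subgroup G)) (hb : b ∈ (S : Subgroup G))
    (hao : orderOf a = 2 ^ n) (hbo : orderOf b = 2) (hrel : b * a * b⁻¹ = a ^ (2 ^ (n - 1) + 1)) :
    Cfsg.HasNormalPComplement 2 G := by
  classical
  have : Fact (Nat.Prime 2) := ⟨Nat.prime_two⟩
  obtain ⟨G₁, hG₁⟩ := exists_index_two S n hn hS a b ha hb hao hbo hrel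
  have hG₁n : G₁.Normal := Subgroup.normal_of_index_eq_two hG₁
  have hSodd : ¬ 2 ∣ (S : Subgroup G).index := S.not_dvd_index
  have h1 : (S : Subgroup G).relIndex G₁ * G₁.index = ((S : Subgroup G) ⊓ G₁).index := by
    rw [← Subgroup.inf_relIndex_right]; exact Subgroup.relIndex_mul_index inf_le_right
  have h2 : G₁.relIndex (S : Subgroup G) * (S : Subgroup G).index =
      ((S : Subgroup G) ⊓ G₁).index := by
    rw [← Subgroup.inf_relIndex_left]; exact Subgroup.relIndex_mul_index inf_le_left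
  have h3 : G₁.relIndex (S : Subgroup G) ∣ 2 := by
    have h0 := Subgroup.relIndex_dvd_index_of_normal G₁ (S : Subgroup G)
    rwa [hG₁] at h0
  have h4 : G₁.relIndex (S : Subgroup G) = 2 := by
    rcases (Nat.dvd_prime Nat.prime_two).mp h3 with h | h
    · exfalso
      rw [h, one_mul, ← h1, hG₁] at h2
      exact hSodd ⟨_, by rw [h2, mul_comm]⟩
    · exact h
  have h5 : (S : Subgroup G).relIndex G₁ = (S : Subgroup G).index := by
    rw [h4, ← h1, hG₁] at h2
    omega
  have hP₁2 : ¬ 2 ∣ ((S : Subgroup G).subgroupOf G₁).index := by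
    have h0 : ((S : Subgroup G).subgroupOf G₁).index = (S : Subgroup G).index := h5
    rw [h0]; exact hSodd
  obtain ⟨P₁, hP₁⟩ : ∃ P₁ : Sylow 2 ↥G₁, (P₁ : Subgroup ↥G₁) = (S : Subgroup G).subgroupOf G₁ :=
    ⟨IsPGroup.toSylow (S.isPGroup'.comap_subtype) hP₁2, IsPGroup.toSylow_coe _ _⟩
  have hmemP₁ : ∀ x : ↥G₁, x ∈ (P₁ : Subgroup ↥G₁) ↔ (x : G) ∈ (S : Subgroup G) := by
    intro x
    rw [hP₁, Subgroup.mem_subgroupOf]
  obtain ⟨hcomm, hcore⟩ := core S n hn hS a b ha hb hao hbo hrel ((S : Subgroup G) ⊓ G₁)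
    inf_le_left (Subgroup.mem_inf.mpr ⟨mul_mem ha ha, Subgroup.mul_self_mem_of_index_two hG₁ a⟩)
    (by rw [Subgroup.inf_relIndex_left]; exact h4)
  have hNC : Subgroup.normalizer ((P₁ : Subgroup ↥G₁) : Set ↥G₁) ≤
      Subgroup.centralizer ((P₁ : Subgroup ↥G₁) : Set ↥G₁) := by
    apply normalizer_le_centralizer P₁
    · intro x hx y hy
      apply Subtype.ext
      exact hcomm x (Subgroup.mem_inf.mpr ⟨(hmemP₁ x).mp hx, x.2⟩) y
        (Subgroup.mem_inf.mpr ⟨(hmemP₁ y).mp hy, y.2⟩)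
    · intro u hu hnorm x hx
      apply Subtype.ext
      have hu' : (orderOf (u : G)).Coprime 2 := by rw [Subgroup.orderOf_coe]; exact hu
      have hnorm' : (u : G) ∈ Subgroup.normalizer ((((S : Subgroup G) ⊓ G₁ : Subgroup G)) : Set G) := by
        rw [Subgroup.mem_normalizer_iff]
        intro h
        constructor
        · intro hh
          have hhG : h ∈ G₁ := (Subgroup.mem_inf.mp hh).2
          have h6 := (Subgroup.mem_normalizer_iff.mp hnorm ⟨h, hhG⟩).mp
            ((hmemP₁ ⟨h, hhG⟩).mpr (Subgroup.mem_inf.mp hh).1)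
          have h7 := (hmemP₁ _).mp h6
          exact Subgroup.mem_inf.mpr ⟨h7, mul_mem (mul_mem u.2 hhG) (inv_mem u.2)⟩
        · intro hh
          have hhG : h ∈ G₁ := by
            have h0 := mul_mem (mul_mem (inv_mem u.2) (Subgroup.mem_inf.mp hh).2) u.2
            have e0 : (u : G)⁻¹ * ((u : G) * h * (u : G)⁻¹) * (u : G) = h := by group
            rwa [e0] at h0
          have h6 := (Subgroup.mem_normalizer_iff.mp hnorm ⟨h, hhG⟩).mpr
            ((hmemP₁ _).mpr (Subgroup.mem_inf.mp hh).1)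
          exact Subgroup.mem_inf.mpr ⟨(hmemP₁ _).mp h6, hhG⟩
      exact hcore (u : G) hu' hnorm' (x : G) (Subgroup.mem_inf.mpr ⟨(hmemP₁ x).mp hx, x.2⟩)
  have hKc := MonoidHom.ker_transferSylow_isComplement' P₁ hNC
  obtain ⟨K, hKn, hKc⟩ : ∃ K : Subgroup ↥G₁, K.Normal ∧ K.IsComplement' (P₁ : Subgroup ↥G₁) :=
    ⟨(MonoidHom.transferSylow P₁ hNC).ker, inferInstance, hKc⟩
  have hKmem : ∀ x : ↥G₁, x ∈ K ↔ Nat.Coprime (orderOf x) 2 := fun x =>
    Cfsg.Agent.S0086.result P₁ K hKc x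
  have hKcard : Nat.card K = (S : Subgroup G).index := by
    rw [← hKc.index_eq_card, hP₁]; exact h5
  refine ⟨S, K.map G₁.subtype, ?_, ?_⟩
  · constructor
    intro k hk g
    obtain ⟨k', hk', rfl⟩ := Subgroup.mem_map.mp hk
    have hmem : g * (k' : G) * g⁻¹ ∈ G₁ := hG₁n.conj_mem _ k'.2 g
    refine Subgroup.mem_map.mpr ⟨⟨_, hmem⟩, ?_, rfl⟩
    rw [hKmem, ← Subgroup.orderOf_coe]
    have h6 : orderOf (g * (k' : G) * g⁻¹) = orderOf (k' : G) :=
      (MulAut.conj g).orderOf_eq (k' : G)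
    rw [h6, Subgroup.orderOf_coe]
    exact (hKmem k').mp hk'
  · apply Subgroup.isComplement'_of_coprime
    · rw [Subgroup.card_map_of_injective G₁.subtype_injective, hKcard]
      exact Subgroup.index_mul_card _
    · rw [Subgroup.card_map_of_injective G₁.subtype_injective, hKcard, hS]
      apply Nat.Coprime.pow_right
      exact (Nat.Prime.coprime_iff_not_dvd Nat.prime_two).mpr hSodd |>.symm

end Cfsg.Agent.S3178
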