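import Cfsg.Statements.S3190
import Mathlib
import Cfsg.Agent.S2896
import Cfsg.Agent.Lib.Helper2.CoprimeAct2

set_option autoImplicit false
open Cfsg

namespace Cfsg.Agent.S3190

open Cfsg.Agent.Lib.Helper2

theorem result {X : Type*} [Group X] [Finite X]
    {p : ℕ} (hp : p.Prime) (hodd : Odd p) (P T R : Subgroup X) (hP : IsPGroup p ↥P) (hT : IsKleinFour ↥T)
    (hTP : T ≤ Subgroup.normalizer (P : Set X)) (hRP : R ≤ P) (hRn : (R.subgroupOf P).Normal)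
    (hTR : T ≤ Subgroup.normalizer (R : Set X)) (hfac : R ⊔ (P ⊓ Subgroup.centralizer (T : Set X)) = P)
    (hZ : T ≤ Subgroup.centralizer (((Subgroup.center ↥P).map P.subtype : Subgroup X) : Set X)) :
    T ≤ Subgroup.centralizer (((Subgroup.center ↥R).map R.subtype : Subgroup X) : Set X) := by
  haveI : Fact p.Prime := ⟨hp⟩
  intro t ht
  rw [Subgroup.mem_centralizer_iff]
  rintro v ⟨⟨v₀, hv₀R⟩, hv₀, rfl⟩
  show v₀ * t = t * v₀
  have hv₀c : ∀ r ∈ R, r * v₀ = v₀ * r := by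
    intro r hr
    exact congrArg Subtype.val (Subgroup.mem_center_iff.1 hv₀ ⟨r, hr⟩)
  have htt : t * t = 1 := congrArg Subtype.val (IsKleinFour.mul_self (⟨t, ht⟩ : ↥T))
  have htinv : t⁻¹ = t := inv_eq_of_mul_eq_one_left htt
  have hnR : ∀ c ∈ P, ∀ r ∈ R, c * r * c⁻¹ ∈ R := by
    intro c hc r hr
    have h1 := hRn.conj_mem ⟨r, hRP hr⟩ (Subgroup.mem_subgroupOf.2 hr) ⟨c, hc⟩
    exact Subgroup.mem_subgroupOf.1 h1
  obtain ⟨Vm, hVm⟩ : ∃ Vm : Subgroup X, ∀ v, v ∈ Vm ↔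
      (v ∈ R ∧ (∀ r ∈ R, r * v = v * r)) ∧ t * v * t⁻¹ = v⁻¹ :=
    ⟨{ carrier := {v | (v ∈ R ∧ (∀ r ∈ R, r * v = v * r)) ∧ t * v * t⁻¹ = v⁻¹}
       mul_mem' := fun {a b} ha hb => ⟨⟨R.mul_mem ha.1.1 hb.1.1, fun r hr => by
          calc r * (a * b) = (r * a) * b := by group
            _ = a * (r * b) := by rw [ha.1.2 r hr]; group
            _ = a * b * r := by rw [hb.1.2 r hr]; group⟩, by
          have hab : a * b = b * a := hb.1.2 a ha.1.1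
          calc t * (a * b) * t⁻¹ = (t * a * t⁻¹) * (t * b * t⁻¹) := by group
            _ = a⁻¹ * b⁻¹ := by rw [ha.2, hb.2]
            _ = (b * a)⁻¹ := by group
            _ = (a * b)⁻¹ := by rw [hab]⟩
       one_mem' := ⟨⟨R.one_mem, fun r _ => by rw [mul_one, one_mul]⟩, by group⟩
       inv_mem' := fun {a} ha => ⟨⟨R.inv_mem ha.1.1, fun r hr => by
          calc r * a⁻¹ = a⁻¹ * (a * r) * a⁻¹ := by group
            _ = a⁻¹ * (r * a) * a⁻¹ := by rw [ha.1.2 r hr]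
            _ = a⁻¹ * r := by group⟩, by
          calc t * a⁻¹ * t⁻¹ = (t * a * t⁻¹)⁻¹ := by group
            _ = a⁻¹⁻¹ := by rw [ha.2]⟩ }, fun v => Iff.rfl⟩
  have hVmP : Vm ≤ P := fun v hv => hRP ((hVm v).1 hv).1.1
  have hconj : ∀ c ∈ P ⊓ Subgroup.centralizer (T : Set X), ∀ v ∈ Vm, c * v * c⁻¹ ∈ Vm := by
    intro c hc v hv
    obtain ⟨hcP, hcT⟩ := Subgroup.mem_inf.1 hc
    obtain ⟨⟨hvR, hvc⟩, hvt⟩ := (hVm v).1 hv
    have hct : t * c = c * t := Subgroup.mem_centralizer_iff.1 hcT t ht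
    refine (hVm _).2 ⟨⟨hnR c hcP v hvR, ?_⟩, ?_⟩
    · intro r hr
      have hr' : c⁻¹ * r * c⁻¹⁻¹ ∈ R := hnR c⁻¹ (P.inv_mem hcP) r hr
      have h1 := hvc _ hr'
      calc r * (c * v * c⁻¹) = c * ((c⁻¹ * r * c⁻¹⁻¹) * v) * c⁻¹ := by group
        _ = c * (v * (c⁻¹ * r * c⁻¹⁻¹)) * c⁻¹ := by rw [h1]
        _ = c * v * c⁻¹ * r := by group
    · have hct' : t * c * t⁻¹ = c := by rw [hct]; group
      calc t * (c * v * c⁻¹) * t⁻¹ = (t * c * t⁻¹) * (t * v * t⁻¹) * (t * c * t⁻¹)⁻¹ := by group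
        _ = c * v⁻¹ * c⁻¹ := by rw [hct', hvt]
        _ = (c * v * c⁻¹)⁻¹ := by group
  have hPN : P ≤ Subgroup.normalizer (Vm : Set X) := by
    rw [← hfac]
    refine sup_le ?_ ?_
    · intro r hr
      have hrv : ∀ v ∈ Vm, r * v * r⁻¹ = v := by
        intro v hv
        rw [((hVm v).1 hv).1.2 r hr]
        group
      have hrv' : ∀ v ∈ Vm, r⁻¹ * v * r = v := by
        intro v hv
        have h1 := ((hVm v).1 hv).1.2 r hr
        calc r⁻¹ * v * r = r⁻¹ * (v * r) := by group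
          _ = r⁻¹ * (r * v) := by rw [h1]
          _ = v := by group
      apply CoprimeAct.mem_normalizer_of_forall
      · intro v hv
        rw [hrv v hv]
        exact hv
      · intro v hv
        rw [hrv' v hv]
        exact hv
    · intro c hc
      apply CoprimeAct.mem_normalizer_of_forall
      · intro v hv
        exact hconj c hc v hv
      · intro v hv
        have h1 := hconj c⁻¹ (Subgroup.inv_mem _ hc) v hv
        rw [inv_inv] at h1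
        exact h1
  have hVbot : Vm = ⊥ := by
    by_contra hne
    obtain ⟨z, hzV, hzo, hzc⟩ := Cfsg.Agent.S2896.exists_central P Vm hP hVmP hne hPN
    have hzP : z ∈ P := hVmP hzV
    have hzZ : z ∈ ((Subgroup.center ↥P).map P.subtype : Subgroup X) := by
      exact ⟨⟨z, hzP⟩, Subgroup.mem_center_iff.2 (fun g => Subtype.ext (hzc g g.2)), rfl⟩
    have h1 : z * t = t * z := Subgroup.mem_centralizer_iff.1 (hZ ht) z hzZ
    have h2 : t * z * t⁻¹ = z⁻¹ := ((hVm z).1 hzV).2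
    have h3 : z = z⁻¹ := by
      rw [← h2, ← h1]
      group
    have h4 : z ^ 2 = 1 := by
      rw [pow_two]
      nth_rewrite 1 [h3]
      group
    have h5 : p ∣ 2 := by
      rw [← hzo]
      exact orderOf_dvd_of_pow_eq_one h4
    have h6 : p = 2 := (Nat.prime_dvd_prime_iff_eq hp Nat.prime_two).1 h5
    rw [h6] at hodd
    exact absurd hodd (by decide)
  have htN : ∀ r ∈ R, t * r * t⁻¹ ∈ R := by
    intro r hr
    exact (Subgroup.mem_normalizer_iff.1 (hTR ht) r).1 hr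
  have hw : v₀⁻¹ * (t * v₀ * t⁻¹) ∈ Vm := by
    refine (hVm _).2 ⟨⟨R.mul_mem (R.inv_mem hv₀R) (htN v₀ hv₀R), ?_⟩, ?_⟩
    · intro r hr
      have hr' : t⁻¹ * r * t⁻¹⁻¹ ∈ R :=
        (Subgroup.mem_normalizer_iff.1 (hTR (T.inv_mem ht)) r).1 hr
      have h1 := hv₀c r hr
      have h2 := hv₀c _ hr'
      have h3 : r * (t * v₀ * t⁻¹) = (t * v₀ * t⁻¹) * r := by
        calc r * (t * v₀ * t⁻¹) = t * ((t⁻¹ * r * t⁻¹⁻¹) * v₀) * t⁻¹ := by group
          _ = t * (v₀ * (t⁻¹ * r * t⁻¹⁻¹)) * t⁻¹ := by rw [h2]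
          _ = (t * v₀ * t⁻¹) * r := by group
      calc r * (v₀⁻¹ * (t * v₀ * t⁻¹)) = v₀⁻¹ * (v₀ * r) * v₀⁻¹ * (t * v₀ * t⁻¹) := by group
        _ = v₀⁻¹ * (r * v₀) * v₀⁻¹ * (t * v₀ * t⁻¹) := by rw [h1]
        _ = v₀⁻¹ * (r * (t * v₀ * t⁻¹)) := by group
        _ = v₀⁻¹ * ((t * v₀ * t⁻¹) * r) := by rw [h3]
        _ = v₀⁻¹ * (t * v₀ * t⁻¹) * r := by group
    · calc t * (v₀⁻¹ * (t * v₀ * t⁻¹)) * t⁻¹
          = (t * v₀ * t⁻¹)⁻¹ * ((t * t) * v₀ * (t * t)⁻¹) := by group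
        _ = (t * v₀ * t⁻¹)⁻¹ * v₀ := by rw [htt]; group
        _ = (v₀⁻¹ * (t * v₀ * t⁻¹))⁻¹ := by group
  rw [hVbot, Subgroup.mem_bot] at hw
  have h7 : t * v₀ * t⁻¹ = v₀ := by
    have e : t * v₀ * t⁻¹ = v₀ * (v₀⁻¹ * (t * v₀ * t⁻¹)) := by group
    rw [e, hw, mul_one]
  calc v₀ * t = (t * v₀ * t⁻¹) * t := by rw [h7]
    _ = t * v₀ := by group

end Cfsg.Agent.S3190
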