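import Cfsg.Statements.S3195
import Mathlib
import Cfsg.Agent.S3011

set_option autoImplicit false
open Cfsg

namespace Cfsg.Agent.S3195

theorem result {G : Type*} [Group G] [Finite G]
    (A : Subgroup G) (hA : IsKleinFour ↥A)
    (h : ∀ a ∈ A, a ≠ 1 → ∀ g : G, A ⊓ Subgroup.centralizer ({g * a * g⁻¹} : Set G) ≠ ⊥) :
    A ⊓ Cfsg.pCore 2 G ≠ ⊥ := by
---
  have hcomm : ∀ x ∈ A, ∀ y ∈ A, x * y = y * x := by
    intro x hx y hy
    have h1 := mul_comm_of_exponent_two hA.exponent_two (⟨x, hx⟩ : ↥A) ⟨y, hy⟩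
    exact congrArg Subtype.val h1
  have hsq : ∀ x ∈ A, x * x = 1 := by
    intro x hx
    have h1 := IsKleinFour.mul_self (⟨x, hx⟩ : ↥A)
    exact congrArg Subtype.val h1
  have hA1 : A ≠ ⊥ := by
    intro h0
    have h1 : Nat.card ↥A = 4 := hA.card_four
    rw [h0, Subgroup.card_bot] at h1
    omega
  obtain ⟨w0, hw0A, hw01⟩ : ∃ a ∈ A, a ≠ 1 := by
    by_contra hcon
    push Not at hcon
    exact hA1 ((Subgroup.eq_bot_iff_forall A).mpr hcon)
  apply Cfsg.Agent.S3011.result A
  · refine ⟨⟨⟨fun a b => ?_⟩⟩, fun a ha => by rw [sq]; exact hsq a ha⟩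
    exact Subtype.ext (hcomm a a.2 b b.2)
  · exact hA1
  · intro h' v hv ho hinv
    by_cases hh1 : h' = 1
    · exact ⟨w0, hw0A, hw01, by rw [hh1, mul_one, one_mul]⟩
    · have hv1 : v ≠ 1 := by
        intro hv1
        apply hh1
        apply Cfsg.Agent.S3011.odd_inv_self ho
        rw [← hinv, hv1]
        group
      have hconj : h'⁻¹ * v * h'⁻¹⁻¹ = v * (h' * h') := by
        calc h'⁻¹ * v * h'⁻¹⁻¹ = (v * h' * v⁻¹) * v * h' := by rw [hinv, inv_inv]
          _ = v * (h' * h') := by group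
      obtain ⟨w, hw, hw1⟩ : ∃ w ∈ A ⊓ Subgroup.centralizer ({h'⁻¹ * v * h'⁻¹⁻¹} : Set G),
          w ≠ 1 := by
        by_contra hcon
        push Not at hcon
        exact (h v hv hv1 h'⁻¹) ((Subgroup.eq_bot_iff_forall _).mpr hcon)
      have hwc := Subgroup.mem_centralizer_iff.mp hw.2 _ (Set.mem_singleton _)
      rw [hconj] at hwc
      have hwv : w * v = v * w := hcomm w hw.1 v hv
      have h2 : (h' * h') * w = w * (h' * h') := by
        have h3 : v * ((h' * h') * w) = v * (w * (h' * h')) := by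
          calc v * ((h' * h') * w) = v * (h' * h') * w := by group
            _ = w * (v * (h' * h')) := hwc
            _ = (w * v) * (h' * h') := by group
            _ = (v * w) * (h' * h') := by rw [hwv]
            _ = v * (w * (h' * h')) := by group
        exact mul_left_cancel h3
      exact ⟨w, hw.1, hw1, (Cfsg.Agent.S3011.odd_comm_of_sq ho h2).symm⟩
  · exact hA.card_four.le

end Cfsg.Agent.S3195
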