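import Cfsg.Statements.S3247
import Mathlib
import Cfsg.Agent.S0631
import Cfsg.Agent.S2897

set_option autoImplicit false
open Cfsg

namespace Cfsg.Agent.S3247

open Cfsg.Agent.Lib.Helper2 Cfsg.Agent.Lib.Helper2.PCons

theorem pcons_equiv {A B : Type*} [Group A] [Group B] [Finite A] (p : ℕ) [Fact p.Prime]
    (e : A ≃* B) (h : Cfsg.IsPConstrained p A) : Cfsg.IsPConstrained p B := by
  haveI : Finite B := Finite.of_equiv A e.toEquiv
  have hpL := (pConstrained_iff p).1 h
  have hlayer : Cfsg.layer (A ⧸ Cfsg.pPrimeCore p A) = ⊥ := by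
    rw [← PComp.map_pLayer p, hpL, Subgroup.map_bot]
  have hsurj : Function.Surjective ((QuotientGroup.mk' (Cfsg.pPrimeCore p A)).comp
      e.symm.toMonoidHom) := by
    intro y
    obtain ⟨a, rfl⟩ := QuotientGroup.mk'_surjective (Cfsg.pPrimeCore p A) y
    exact ⟨e a, by simp⟩
  have hker : (Nat.card ((QuotientGroup.mk' (Cfsg.pPrimeCore p A)).comp
      e.symm.toMonoidHom).ker).Coprime p := by
    have h1 : ((QuotientGroup.mk' (Cfsg.pPrimeCore p A)).comp e.symm.toMonoidHom).ker =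
        (Cfsg.pPrimeCore p A).map e.toMonoidHom := by
      ext y
      rw [MonoidHom.mem_ker, MonoidHom.comp_apply, QuotientGroup.mk'_apply,
        QuotientGroup.eq_one_iff]
      constructor
      · intro hy
        exact ⟨e.symm y, hy, by simp⟩
      · rintro ⟨a, ha, rfl⟩
        simpa using ha
    rw [h1]
    exact Nat.Coprime.coprime_dvd_left (Subgroup.card_map_dvd _ _) (Local.pPrimeCore_coprime p)
  exact (pConstrained_iff p).2 (pLayer_eq_bot_of_surjective p _ hsurj hker
    (PComp.pPrimeCore_quotient_eq_bot (G := A) p) hlayer).1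

theorem lemmaX {N : Type*} [Group N] [Finite N] (p : ℕ) [Fact p.Prime] (T : Subgroup N)
    (hTn : T.Normal) (hT : IsPGroup p T) (x : N) (hx : x ∈ T)
    (hC : Cfsg.IsPConstrained p ↥(Subgroup.centralizer ({x} : Set N))) :
    Cfsg.IsPConstrained p N := by
  have hsurj : Function.Surjective (QuotientGroup.mk' (Cfsg.pPrimeCore p N)) :=
    QuotientGroup.mk'_surjective _
  have hO : Cfsg.pPrimeCore p (N ⧸ Cfsg.pPrimeCore p N) = ⊥ :=
    PComp.pPrimeCore_quotient_eq_bot (G := N) p
  have hker0 : (Nat.card (QuotientGroup.mk' (Cfsg.pPrimeCore p N)).ker).Coprime p := by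
    rw [QuotientGroup.ker_mk']
    exact Local.pPrimeCore_coprime p
  suffices hlayer : Cfsg.layer (N ⧸ Cfsg.pPrimeCore p N) = ⊥ from
    (pConstrained_iff p).2 (pLayer_eq_bot_of_surjective p _ hsurj hker0 hO hlayer).1
  unfold Cfsg.layer
  rw [sSup_eq_bot]
  intro Kb hKb
  exfalso
  have hTbn : (T.map (QuotientGroup.mk' (Cfsg.pPrimeCore p N))).Normal := hTn.map _ hsurj
  have h1 := Comp.component_comm_normal_solvable hKb hTbn (Local.solvable_of_pgroup (hT.map _))
  rw [Subgroup.commutator_eq_bot_iff_le_centralizer] at h1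
  have hzx : IsPGroup p (Subgroup.zpowers x) := hT.to_le ((Subgroup.zpowers_le).2 hx)
  have hmapC := Cfsg.Agent.S0631.map_centralizer_eq p (Subgroup.zpowers x) hzx
  rw [Cfsg.Agent.S2909.cent_zpowers x] at hmapC
  have hKR : Kb ≤ ((QuotientGroup.mk' (Cfsg.pPrimeCore p N)).comp
      (Subgroup.centralizer ({x} : Set N)).subtype).range := by
    rw [MonoidHom.range_comp, Subgroup.range_subtype, hmapC]
    intro k hk
    rw [Subgroup.mem_centralizer_iff]
    rintro _ ⟨z, hz, rfl⟩
    exact (Subgroup.mem_centralizer_iff.1 (h1 hk)) _ ⟨z, (Subgroup.zpowers_le.2 hx) hz, rfl⟩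
  obtain ⟨f, hfdef⟩ : ∃ f : ↥(Subgroup.centralizer ({x} : Set N)) →* N ⧸ Cfsg.pPrimeCore p N,
      f = (QuotientGroup.mk' (Cfsg.pPrimeCore p N)).comp
        (Subgroup.centralizer ({x} : Set N)).subtype := ⟨_, rfl⟩
  rw [← hfdef] at hKR
  have hf' : Function.Surjective f.rangeRestrict := MonoidHom.rangeRestrict_surjective f
  have hkcop : (Nat.card f.rangeRestrict.ker).Coprime p := by
    have h2 : Nat.card f.rangeRestrict.ker ∣ Nat.card (Cfsg.pPrimeCore p N) := by
      rw [MonoidHom.ker_rangeRestrict]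
      have e := Nat.card_congr (Subgroup.equivMapOfInjective f.ker _
        (Subgroup.centralizer ({x} : Set N)).subtype_injective).toEquiv
      rw [e]
      apply Subgroup.card_dvd_of_le
      rintro _ ⟨c, hc, rfl⟩
      have hc' := MonoidHom.mem_ker.1 hc
      rw [hfdef] at hc'
      exact (QuotientGroup.eq_one_iff (c : N)).1 hc'
    exact Nat.Coprime.coprime_dvd_left h2 (Local.pPrimeCore_coprime p)
  have hkerle : f.rangeRestrict.ker ≤
      (QuotientGroup.mk' (Cfsg.pPrimeCore p ↥(Subgroup.centralizer ({x} : Set N)))).ker := by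
    rw [QuotientGroup.ker_mk']
    exact le_sSup ⟨MonoidHom.normal_ker _, hkcop⟩
  have hψ := MonoidHom.liftOfRightInverse_comp f.rangeRestrict (Function.surjInv hf')
    (Function.rightInverse_surjInv hf')
    ⟨QuotientGroup.mk' (Cfsg.pPrimeCore p ↥(Subgroup.centralizer ({x} : Set N))), hkerle⟩
  obtain ⟨ψ, hψdef⟩ : ∃ ψ : ↥f.range →* ↥(Subgroup.centralizer ({x} : Set N)) ⧸
      Cfsg.pPrimeCore p ↥(Subgroup.centralizer ({x} : Set N)),
      ψ = (f.rangeRestrict.liftOfRightInverse (Function.surjInv hf')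
        (Function.rightInverse_surjInv hf'))
        ⟨QuotientGroup.mk' (Cfsg.pPrimeCore p ↥(Subgroup.centralizer ({x} : Set N))), hkerle⟩ :=
    ⟨_, rfl⟩
  rw [← hψdef] at hψ
  have hψc : ∀ c : ↥(Subgroup.centralizer ({x} : Set N)), ψ (f.rangeRestrict c) =
      QuotientGroup.mk' (Cfsg.pPrimeCore p ↥(Subgroup.centralizer ({x} : Set N))) c := by
    intro c
    rw [← MonoidHom.comp_apply, hψ]
  have hψs : Function.Surjective ψ := by
    intro y
    obtain ⟨c, rfl⟩ := QuotientGroup.mk'_surjective _ y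
    exact ⟨f.rangeRestrict c, hψc c⟩
  have hLC : Cfsg.layer (↥(Subgroup.centralizer ({x} : Set N)) ⧸
      Cfsg.pPrimeCore p ↥(Subgroup.centralizer ({x} : Set N))) = ⊥ := by
    rw [← PComp.map_pLayer p, (pConstrained_iff p).1 hC, Subgroup.map_bot]
  have hKc : Cfsg.IsComponent (Kb.subgroupOf f.range) :=
    ⟨hKb.1.subgroupOf, Quasi.quasisimple_of_mulEquiv (Subgroup.subgroupOfEquivOfLe hKR).symm hKb.2⟩
  have hKne : Kb ≠ ⊥ := PComp.quasisimple_ne_bot hKb.2
  rcases PComp.component_map ψ hψs hKc with h3 | h3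
  · have h4 : Kb.subgroupOf f.range ≤ ψ.ker := (Subgroup.map_eq_bot_iff _).1 h3
    have h5 : ψ.ker ≤ (Cfsg.pPrimeCore p ↥(Subgroup.centralizer ({x} : Set N))).map
        f.rangeRestrict := by
      intro y hy
      obtain ⟨c, rfl⟩ := hf' y
      have h6 := MonoidHom.mem_ker.1 hy
      rw [hψc c] at h6
      exact ⟨c, (QuotientGroup.eq_one_iff c).1 h6, rfl⟩
    have h7 : (Nat.card ↥(Kb.subgroupOf f.range)).Coprime p :=
      Nat.Coprime.coprime_dvd_left
        ((Subgroup.card_dvd_of_le (h4.trans h5)).trans (Subgroup.card_map_dvd _ _))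
        (Local.pPrimeCore_coprime p)
    rw [Nat.card_congr (Subgroup.subgroupOfEquivOfLe hKR).toEquiv] at h7
    have h8 := PComp.sn_coprime_le_pPrimeCore p hKb.1 h7
    rw [hO] at h8
    exact hKne (le_bot_iff.1 h8)
  · have h4 := Comp.le_layer h3
    rw [hLC] at h4
    exact PComp.quasisimple_ne_bot h3.2 (le_bot_iff.1 h4)

theorem norm_sub {G : Type*} [Group G] [Finite G] (p : ℕ) [Fact p.Prime] (M T : Subgroup G)
    (hT : IsPGroup p T) (hNM : Subgroup.normalizer (T : Set G) ≤ M)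
    (hM : Cfsg.IsPConstrained p ↥M) :
    Cfsg.IsPConstrained p ↥(Subgroup.normalizer (T : Set G)) := by
  have hTM : T ≤ M := Subgroup.le_normalizer.trans hNM
  have h1 := (Cfsg.Agent.S0631.result hM (T.subgroupOf M) hT.comap_subtype).1
  exact pcons_equiv p ((MulEquiv.subgroupCongr (Subgroup.subgroupOf_normalizer_eq hTM).symm).trans
    (Subgroup.subgroupOfEquivOfLe hNM)) h1

theorem result {G : Type*} [Group G] [Finite G] (p : ℕ) [hp : Fact p.Prime]
    (h : (∀ M : Subgroup G, (∃ T : Subgroup G, IsPGroup p ↥T ∧ T ≠ ⊥ ∧ M = Subgroup.normalizer (T : Set G)) → M ≠ ⊤ →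
        (∀ M' : Subgroup G, (∃ T' : Subgroup G, IsPGroup p ↥T' ∧ T' ≠ ⊥ ∧ M' = Subgroup.normalizer (T' : Set G)) → M' ≠ ⊤ → M ≤ M' → M = M') →
        Cfsg.IsPConstrained p ↥M) ∨
      (∀ x : G, orderOf x = p → Cfsg.IsPConstrained p ↥(Subgroup.centralizer ({x} : Set G))))
    (T : Subgroup G) (hT : IsPGroup p ↥T) (hT1 : T ≠ ⊥) (hTG : Subgroup.normalizer (T : Set G) ≠ ⊤) :
    Cfsg.IsPConstrained p ↥(Subgroup.normalizer (T : Set G)) := by
  rcases h with hA | hB
  · have hfin : {M : Subgroup G | (∃ T' : Subgroup G, IsPGroup p ↥T' ∧ T' ≠ ⊥ ∧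
        M = Subgroup.normalizer (T' : Set G)) ∧ M ≠ ⊤ ∧
        Subgroup.normalizer (T : Set G) ≤ M}.Finite := Set.toFinite _
    obtain ⟨M, hM⟩ := hfin.exists_maximal ⟨Subgroup.normalizer (T : Set G),
      ⟨T, hT, hT1, rfl⟩, hTG, le_rfl⟩
    obtain ⟨hM1, hM2, hM3⟩ := hM.1
    have hcons := hA M hM1 hM2 (fun M' hM' hne' hle =>
      le_antisymm hle (hM.2 ⟨hM', hne', hM3.trans hle⟩ hle))
    exact norm_sub p M T hT hM3 hcons
  · obtain ⟨x, hxT, hxo, hxc⟩ := Cfsg.Agent.S2896.exists_central T T hT le_rfl hT1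
      Subgroup.le_normalizer
    have hC := hB x hxo
    have hTC : T ≤ Subgroup.centralizer ({x} : Set G) := by
      intro t ht
      rw [Subgroup.mem_centralizer_singleton_iff]
      exact hxc t ht
    have h1 := (Cfsg.Agent.S0631.result hC (T.subgroupOf (Subgroup.centralizer ({x} : Set G)))
      hT.comap_subtype).1
    have hxN : x ∈ Subgroup.normalizer (T : Set G) := Subgroup.le_normalizer hxT
    have h2 : Cfsg.IsPConstrained p
        ↥(Subgroup.centralizer ({(⟨x, hxN⟩ : ↥(Subgroup.normalizer (T : Set G)))} :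
          Set ↥(Subgroup.normalizer (T : Set G)))) :=
      pcons_equiv p
        (((MulEquiv.subgroupCongr (Subgroup.subgroupOf_normalizer_eq hTC).symm).trans
          (MulEquiv.subgroupCongr (Subgroup.inf_subgroupOf_right (Subgroup.normalizer (T : Set G))
            (Subgroup.centralizer ({x} : Set G))).symm)).trans
          ((Subgroup.subgroupOfEquivOfLe inf_le_right).trans
            (Cfsg.Agent.S2897.centEquiv (Subgroup.normalizer (T : Set G)) ⟨x, hxN⟩))) h1
    exact lemmaX p (T.subgroupOf (Subgroup.normalizer (T : Set G))) Subgroup.normal_in_normalizer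
      hT.comap_subtype ⟨x, hxN⟩ hxT h2

end Cfsg.Agent.S3247
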