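import Cfsg.Statements.S3494
import Mathlib

set_option autoImplicit false
open Cfsg

namespace Cfsg.Agent.S3494

open scoped Pointwise

theorem prim_rel {G Ω : Type*} [Group G] [MulAction G Ω] (hprim : MulAction.IsPreprimitive G Ω)
    (r : Ω → Ω → Prop) (hrefl : ∀ x, r x x) (hsymm : ∀ x y, r x y → r y x)
    (htrans : ∀ x y z, r x y → r y z → r x z) (hinv : ∀ (g : G) x y, r x y → r (g • x) (g • y))
    (x y : Ω) (hxy : x ≠ y) (h : r x y) : ∀ u v, r u v := by
  have hB : MulAction.IsBlock G {z | r x z} := by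
    rw [MulAction.isBlock_iff_smul_eq_of_mem]
    intro g a ha hga
    have ha' : r x a := ha
    have hga' : r x (g • a) := hga
    have h1 : r x (g • x) := htrans _ _ _ hga' (hsymm _ _ (hinv g x a ha'))
    ext z
    rw [Set.mem_smul_set_iff_inv_smul_mem]
    constructor
    · intro hz
      have hz' : r x (g⁻¹ • z) := hz
      have h2 := hinv g _ _ hz'
      rw [smul_inv_smul] at h2
      exact htrans _ _ _ h1 h2
    · intro hz
      have hz' : r x z := hz
      have h2 : r (g • x) z := htrans _ _ _ (hsymm _ _ h1) hz'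
      have h3 := hinv g⁻¹ _ _ h2
      rw [inv_smul_smul] at h3
      exact h3
  rcases hprim.isTrivialBlock_of_isBlock hB with h1 | h1
  · exact absurd (h1 (hrefl x) h) hxy
  · intro u v
    have hu : u ∈ {z | r x z} := by rw [h1]; trivial
    have hv : v ∈ {z | r x z} := by rw [h1]; trivial
    exact htrans _ _ _ (hsymm _ _ hu) hv

theorem h1 {G Ω : Type*} [Group G] [MulAction G Ω] (x ω : Ω)
    (hp : MulAction.IsPreprimitive (MulAction.stabilizer G x)
      (MulAction.orbit (MulAction.stabilizer G x) ω))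
    (M : Subgroup G) (hM : ∀ m ∈ M, m • x = x)
    (hMn : ∀ g : G, g • x = x → ∀ m ∈ M, g * m * g⁻¹ ∈ M)
    (m0 : G) (hm0 : m0 ∈ M) (hmove : m0 • ω ≠ ω) :
    ∀ h : G, h • x = x → ∃ m ∈ M, m • ω = h • ω := by
  intro h hh
  have key := prim_rel hp (fun u v => ∃ m ∈ M, m • (u : Ω) = (v : Ω))
    (fun u => ⟨1, M.one_mem, one_smul _ _⟩)
    (fun u v ⟨m, hm, e⟩ => ⟨m⁻¹, M.inv_mem hm, by rw [← e, inv_smul_smul]⟩)
    (fun u v w ⟨m, hm, e⟩ ⟨m', hm', e'⟩ => ⟨m' * m, M.mul_mem hm' hm, by rw [mul_smul, e, e']⟩)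
    (fun g u v ⟨m, hm, e⟩ => ⟨(g : G) * m * (g : G)⁻¹, hMn g g.2 m hm, by
      show ((g : G) * m * (g : G)⁻¹) • ((g : G) • (u : Ω)) = (g : G) • (v : Ω)
      rw [mul_smul, mul_smul, inv_smul_smul, e]⟩)
    ⟨ω, MulAction.mem_orbit_self ω⟩ ⟨m0 • ω, ⟨⟨m0, hM m0 hm0⟩, rfl⟩⟩
    (fun e => hmove (congrArg Subtype.val e).symm) ⟨m0, hm0, rfl⟩
  obtain ⟨m, hm, e⟩ := key ⟨ω, MulAction.mem_orbit_self ω⟩ ⟨h • ω, ⟨⟨h, hh⟩, rfl⟩⟩
  exact ⟨m, hm, e⟩

def D (G : Type*) {Ω : Type*} [Group G] [MulAction G Ω] (α ω x : Ω) : Set Ω :=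
  {y | ∃ g : G, g • α = x ∧ g • ω = y}

theorem D_smul {G Ω : Type*} [Group G] [MulAction G Ω] (α ω x y : Ω) (g : G)
    (h : y ∈ D G α ω x) : g • y ∈ D G α ω (g • x) := by
  obtain ⟨k, hk1, hk2⟩ := h
  exact ⟨g * k, by rw [mul_smul, hk1], by rw [mul_smul, hk2]⟩

theorem D_orbit {G Ω : Type*} [Group G] [MulAction G Ω] (α ω x y y' : Ω)
    (h : y ∈ D G α ω x) (h' : y' ∈ D G α ω x) : ∃ g : G, g • x = x ∧ g • y = y' := by
  obtain ⟨k, hk1, hk2⟩ := h
  obtain ⟨k', hk1', hk2'⟩ := h'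
  have e1 : k⁻¹ • x = α := by rw [inv_smul_eq_iff, hk1]
  have e2 : k⁻¹ • y = ω := by rw [inv_smul_eq_iff, hk2]
  refine ⟨k' * k⁻¹, ?_, ?_⟩
  · rw [mul_smul, e1, hk1']
  · rw [mul_smul, e2, hk2']

theorem D_fix {G Ω : Type*} [Group G] [MulAction G Ω] (α ω x y : Ω) (g : G) (hg : g • x = x)
    (h : y ∈ D G α ω x) : g • y ∈ D G α ω x := by
  have := D_smul α ω x y g h
  rwa [hg] at this

theorem D_not_self {G Ω : Type*} [Group G] [MulAction G Ω] (α ω x : Ω) (hω : ω ≠ α) :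
    x ∉ D G α ω x := by
  rintro ⟨k, hk1, hk2⟩
  exact hω (smul_left_cancel k (hk2.trans hk1.symm))

theorem D_nonempty {G Ω : Type*} [Group G] [MulAction G Ω] [MulAction.IsPretransitive G Ω]
    (α ω x : Ω) : ∃ y, y ∈ D G α ω x := by
  obtain ⟨g, hg⟩ := MulAction.exists_smul_eq G α x
  exact ⟨g • ω, g, hg, rfl⟩

theorem D_sub_eq {G Ω : Type*} [Group G] [MulAction G Ω] [Finite Ω]
    [MulAction.IsPretransitive G Ω] (α ω x x' : Ω) (h : D G α ω x' ⊆ D G α ω x) :
    D G α ω x' = D G α ω x := by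
  obtain ⟨g, hg⟩ := MulAction.exists_smul_eq G x' x
  have himg : D G α ω x = (fun y => g • y) '' D G α ω x' := by
    ext y
    constructor
    · intro hy
      refine ⟨g⁻¹ • y, ?_, smul_inv_smul g y⟩
      have := D_smul α ω x y g⁻¹ hy
      rwa [← hg, inv_smul_smul] at this
    · rintro ⟨y', hy', rfl⟩
      have := D_smul α ω x' y' g hy'
      rwa [hg] at this
  apply Set.eq_of_subset_of_ncard_le h
  rw [himg, Set.ncard_image_of_injective _ (MulAction.injective g)]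

theorem D_inj {G Ω : Type*} [Group G] [MulAction G Ω] (hprim : MulAction.IsPreprimitive G Ω)
    (α ω : Ω) (hω : ω ≠ α) (x x' : Ω) (h : D G α ω x = D G α ω x') : x = x' := by
  by_contra hne
  haveI := hprim.toIsPretransitive
  have key := prim_rel hprim (fun u v => D G α ω u = D G α ω v) (fun _ => rfl)
    (fun _ _ e => e.symm) (fun _ _ _ e e' => e.trans e')
    (fun g u v e => by
      ext z
      constructor
      · intro hz
        have h1 := D_smul α ω (g • u) z g⁻¹ hz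
        rw [inv_smul_smul, e] at h1
        have h2 := D_smul α ω v _ g h1
        rwa [smul_inv_smul] at h2
      · intro hz
        have h1 := D_smul α ω (g • v) z g⁻¹ hz
        rw [inv_smul_smul, ← e] at h1
        have h2 := D_smul α ω u _ g h1
        rwa [smul_inv_smul] at h2) x x' hne h
  obtain ⟨y, hy⟩ := D_nonempty (G := G) α ω x
  have h2 : D G α ω y = D G α ω x := key y x
  rw [← h2] at hy
  exact D_not_self α ω y hω hy

def K (G : Type*) {Ω : Type*} [Group G] [MulAction G Ω] (α ω x : Ω) : Subgroup G where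
  carrier := {k | k • x = x ∧ ∀ y ∈ D G α ω x, k • y = y}
  mul_mem' := by
    rintro a b ⟨ha1, ha2⟩ ⟨hb1, hb2⟩
    exact ⟨by rw [mul_smul, hb1, ha1], fun y hy => by rw [mul_smul, hb2 y hy, ha2 y hy]⟩
  one_mem' := ⟨one_smul _ _, fun y _ => one_smul _ _⟩
  inv_mem' := by
    rintro a ⟨ha1, ha2⟩
    exact ⟨by rw [inv_smul_eq_iff, ha1], fun y hy => by rw [inv_smul_eq_iff, ha2 y hy]⟩

theorem mem_K {G Ω : Type*} [Group G] [MulAction G Ω] (α ω x : Ω) (k : G) :
    k ∈ K G α ω x ↔ k • x = x ∧ ∀ y ∈ D G α ω x, k • y = y := Iff.rfl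

theorem K_conj {G Ω : Type*} [Group G] [MulAction G Ω] (α ω x : Ω) (g k : G)
    (hk : k ∈ K G α ω x) : g * k * g⁻¹ ∈ K G α ω (g • x) := by
  obtain ⟨h1, h2⟩ := hk
  refine ⟨by rw [mul_smul, mul_smul, inv_smul_smul, h1], fun y hy => ?_⟩
  have hy' : g⁻¹ • y ∈ D G α ω x := by
    have := D_smul α ω (g • x) y g⁻¹ hy
    rwa [inv_smul_smul] at this
  rw [mul_smul, mul_smul, h2 _ hy', smul_inv_smul]

theorem K_card {G Ω : Type*} [Group G] [MulAction G Ω] (α ω x : Ω) (g : G) :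
    Nat.card (K G α ω (g • x)) = Nat.card (K G α ω x) := by
  apply Nat.card_congr
  exact
    { toFun := fun k => ⟨g⁻¹ * k.1 * g, by
        have := K_conj α ω (g • x) g⁻¹ k.1 k.2
        rwa [inv_smul_smul, inv_inv] at this⟩
      invFun := fun k => ⟨g * k.1 * g⁻¹, K_conj α ω x g k.1 k.2⟩
      left_inv := fun k => Subtype.ext (by
        show g * (g⁻¹ * k.1 * g) * g⁻¹ = k.1
        group)
      right_inv := fun k => Subtype.ext (by
        show g⁻¹ * (g * k.1 * g⁻¹) * g = k.1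
        group) }

theorem K_eq_of_le {G Ω : Type*} [Group G] [Finite G] [MulAction G Ω]
    [MulAction.IsPretransitive G Ω] (α ω x y : Ω) (h : K G α ω x ≤ K G α ω y) :
    K G α ω x = K G α ω y := by
  obtain ⟨g, hg⟩ := MulAction.exists_smul_eq G x y
  apply Subgroup.eq_of_le_of_card_ge h
  rw [← hg, K_card]

theorem K_smul_eq {G Ω : Type*} [Group G] [MulAction G Ω] (α ω u v : Ω) (g : G)
    (e : K G α ω u = K G α ω v) : K G α ω (g • u) = K G α ω (g • v) := by
  ext k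
  constructor
  · intro hk
    have h1 := K_conj α ω (g • u) g⁻¹ k hk
    rw [inv_smul_smul, e] at h1
    have h2 := K_conj α ω v g _ h1
    have e2 : g * (g⁻¹ * k * g⁻¹⁻¹) * g⁻¹ = k := by group
    rwa [e2] at h2
  · intro hk
    have h1 := K_conj α ω (g • v) g⁻¹ k hk
    rw [inv_smul_smul, ← e] at h1
    have h2 := K_conj α ω u g _ h1
    have e2 : g * (g⁻¹ * k * g⁻¹⁻¹) * g⁻¹ = k := by group
    rwa [e2] at h2

theorem stepA {G Ω : Type*} [Group G] [Finite G] [MulAction G Ω] [Finite Ω]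
    (hprim : MulAction.IsPreprimitive G Ω)
    (hep : ∀ (a w : Ω), MulAction.IsPreprimitive (MulAction.stabilizer G a)
      (MulAction.orbit (MulAction.stabilizer G a) w))
    (α ω : Ω) (hω : ω ≠ α) (x y : Ω) (hy : y ∈ D G α ω x) (m0 : G) (hm0 : m0 ∈ K G α ω y) :
    m0 • x = x := by
  by_contra hmove
  haveI := hprim.toIsPretransitive
  have hKy : ∀ h : G, h • y = y → ∃ m ∈ K G α ω y, m • x = h • x :=
    h1 y x (hep y x) (K G α ω y) (fun m hm => hm.1) (fun g hg m hm => by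
      have := K_conj α ω y g m hm
      rwa [hg] at this) m0 hm0 hmove
  have hKxy : ∀ k ∈ K G α ω x, k • y = y := fun k hk => hk.2 y hy
  have hpres : ∀ k ∈ K G α ω x, ∀ z ∈ D G α ω y, k • z ∈ D G α ω y :=
    fun k hk z hz => D_fix α ω y z k (hKxy k hk) hz
  let L : Subgroup G :=
    { carrier := {l | l • y = y ∧ ∃ k ∈ K G α ω x, ∀ z ∈ D G α ω y, l • z = k • z}
      mul_mem' := by
        rintro a b ⟨ha1, ka, hka, ha2⟩ ⟨hb1, kb, hkb, hb2⟩
        refine ⟨by rw [mul_smul, hb1, ha1], ka * kb, (K G α ω x).mul_mem hka hkb, fun z hz => ?_⟩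
        rw [mul_smul, hb2 z hz, ha2 _ (hpres kb hkb z hz), mul_smul]
      one_mem' := ⟨one_smul _ _, 1, (K G α ω x).one_mem, fun z _ => rfl⟩
      inv_mem' := by
        rintro a ⟨ha1, ka, hka, ha2⟩
        refine ⟨by rw [inv_smul_eq_iff, ha1], ka⁻¹, (K G α ω x).inv_mem hka, fun z hz => ?_⟩
        rw [inv_smul_eq_iff, ha2 _ (hpres ka⁻¹ ((K G α ω x).inv_mem hka) z hz), smul_inv_smul] }
  have hLmem : ∀ l : G, l ∈ L ↔ (l • y = y ∧ ∃ k ∈ K G α ω x, ∀ z ∈ D G α ω y, l • z = k • z) :=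
    fun l => Iff.rfl
  have hLn : ∀ g : G, g • y = y → ∀ l ∈ L, g * l * g⁻¹ ∈ L := by
    intro g hg l hl
    obtain ⟨hl1, k, hk, hl2⟩ := (hLmem l).mp hl
    obtain ⟨m, hm, e⟩ := hKy g hg
    have hh'x : (m⁻¹ * g) • x = x := by rw [mul_smul, ← e, inv_smul_smul]
    have hk' : (m⁻¹ * g) * k * (m⁻¹ * g)⁻¹ ∈ K G α ω x := by
      have := K_conj α ω x (m⁻¹ * g) k hk
      rwa [hh'x] at this
    rw [hLmem]
    refine ⟨by rw [mul_smul, mul_smul, inv_smul_eq_iff.mpr hg.symm, hl1, hg], _, hk', fun z hz => ?_⟩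
    have hgz : g⁻¹ • z ∈ D G α ω y := D_fix α ω y z g⁻¹ (by rw [inv_smul_eq_iff, hg]) hz
    have hmz : ∀ w ∈ D G α ω y, m • w = w := fun w hw => hm.2 w hw
    have hmz' : m⁻¹ • z = z := by rw [inv_smul_eq_iff, hmz z hz]
    have e1 : (g * l * g⁻¹) • z = g • k • g⁻¹ • z := by
      rw [mul_smul, mul_smul, hl2 _ hgz]
    have e2 : ((m⁻¹ * g) * k * (m⁻¹ * g)⁻¹) • z = m⁻¹ • g • k • g⁻¹ • z := by
      have : (m⁻¹ * g) * k * (m⁻¹ * g)⁻¹ = m⁻¹ * (g * (k * (g⁻¹ * m))) := by group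
      rw [this, mul_smul, mul_smul, mul_smul, mul_smul, hmz z hz]
    have e3 : g • k • g⁻¹ • z ∈ D G α ω y := by
      rw [← e1]
      have : g • k • g⁻¹ • z = g • (k • (g⁻¹ • z)) := rfl
      rw [e1]
      exact D_fix α ω y _ g hg (hpres k hk _ hgz)
    rw [e1, e2, eq_comm, inv_smul_eq_iff, hmz _ e3]
  by_cases hL : ∃ z ∈ D G α ω y, ∃ l ∈ L, l • z ≠ z
  · obtain ⟨z1, hz1, l1, hl1, hl1z⟩ := hL
    have hLt := h1 y z1 (hep y z1) L (fun l hl => hl.1) hLn l1 hl1 hl1z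
    have hKxt : ∀ h : G, h • y = y → ∃ k ∈ K G α ω x, k • z1 = h • z1 := by
      intro h hh
      obtain ⟨l, hl, e⟩ := hLt h hh
      obtain ⟨_, k, hk, hl2⟩ := (hLmem l).mp hl
      exact ⟨k, hk, by rw [← hl2 z1 hz1, e]⟩
    obtain ⟨k1, hk1, hk1z⟩ : ∃ k1 ∈ K G α ω x, k1 • z1 ≠ z1 := by
      obtain ⟨_, k, hk, hl2⟩ := (hLmem l1).mp hl1
      exact ⟨k, hk, by rw [← hl2 z1 hz1]; exact hl1z⟩
    have hKxt2 := h1 x z1 (hep x z1) (K G α ω x) (fun k hk => hk.1) (fun g hg m hm => by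
      have := K_conj α ω x g m hm
      rwa [hg] at this) k1 hk1 hk1z
    have hsub : ∀ h : G, h • x = x → h • z1 ∈ D G α ω y := by
      intro h hh
      obtain ⟨k, hk, e⟩ := hKxt2 h hh
      rw [← e]
      exact hpres k hk z1 hz1
    have hDsub : ∀ y' ∈ D G α ω x, D G α ω y' = D G α ω y := by
      intro y' hy'
      apply D_sub_eq
      intro z' hz'
      obtain ⟨h, hh1, hh2⟩ := D_orbit α ω x y y' hy hy'
      have hz'' : h⁻¹ • z' ∈ D G α ω y := by
        have := D_smul α ω y' z' h⁻¹ hz'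
        rwa [← hh2, inv_smul_smul] at this
      obtain ⟨g, hg1, hg2⟩ := D_orbit α ω y z1 (h⁻¹ • z') hz1 hz''
      obtain ⟨k, hk, e⟩ := hKxt g hg1
      have e2 : z' = (h * k) • z1 := by
        rw [mul_smul, e, hg2, smul_inv_smul]
      rw [e2]
      exact hsub (h * k) (by rw [mul_smul, hk.1, hh1])
    obtain ⟨g0, hg0⟩ := MulAction.exists_smul_eq G y x
    have hy1 : g0 • z1 ∈ D G α ω x := by
      have := D_smul α ω y z1 g0 hz1
      rwa [hg0] at this
    have hy2 : g0 • (k1 • z1) ∈ D G α ω x := by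
      have := D_smul α ω y _ g0 (hpres k1 hk1 z1 hz1)
      rwa [hg0] at this
    have e := D_inj hprim α ω hω _ _ ((hDsub _ hy1).trans (hDsub _ hy2).symm)
    exact hk1z (smul_left_cancel g0 e).symm
  · push Not at hL
    have hle : K G α ω x ≤ K G α ω y := by
      intro k hk
      have hkL : k ∈ L := (hLmem k).mpr ⟨hKxy k hk, k, hk, fun z _ => rfl⟩
      exact ⟨hKxy k hk, fun z hz => hL z hz k hkL⟩
    have heq := K_eq_of_le α ω x y hle
    rw [← heq] at hm0
    exact hmove hm0.1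

/-- Manning's Theorem on extremely primitive groups. Let a finite group G act faithfully and primitively on a finite set Ω with non-trivial point stabilizers, and suppose every point stabilizer G_α acts primitively on each of its orbits. Then G_α acts faithfully on each of its orbits other than {α}: an element of G_α fixing every point of one such orbit is the identity. -/
theorem result {G : Type*} [Group G] [Finite G] {Ω : Type*} [Fintype Ω] [MulAction G Ω] [FaithfulSMul G Ω] (hprim : MulAction.IsPreprimitive G Ω) (hH : ∀ α : Ω, MulAction.stabilizer G α ≠ ⊥) (hep : ∀ (α : Ω) (ω : Ω), MulAction.IsPreprimitive (MulAction.stabilizer G α) (MulAction.orbit (MulAction.stabilizer G α) ω))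
    (α ω : Ω) (hω : ω ≠ α) (h : MulAction.stabilizer G α) (hfix : ∀ x ∈ MulAction.orbit (MulAction.stabilizer G α) ω, h • x = x) : h = 1 := by
  classical
  by_contra hne
  haveI := hprim.toIsPretransitive
  have hhK : (h : G) ∈ K G α ω α := by
    refine ⟨h.2, fun y hy => ?_⟩
    obtain ⟨g, hg1, hg2⟩ := hy
    exact hfix y ⟨⟨g, hg1⟩, hg2⟩
  have hω' : ω ∈ D G α ω α := ⟨1, one_smul _ _, one_smul _ _⟩
  have hA := stepA hprim hep α ω hω
  have hB1 : ∃ k ∈ K G α ω α, ∃ z ∈ D G α ω ω, k • z ≠ z := by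
    by_contra hcon
    push Not at hcon
    have hle : K G α ω α ≤ K G α ω ω := fun k hk => ⟨hk.2 ω hω', fun z hz => hcon k hk z hz⟩
    have heq := K_eq_of_le α ω α ω hle
    have key := prim_rel hprim (fun u v => K G α ω u = K G α ω v) (fun _ => rfl)
      (fun _ _ e => e.symm) (fun _ _ _ e e' => e.trans e')
      (fun g u v e => K_smul_eq α ω u v g e) α ω (Ne.symm hω) heq
    apply hne
    apply Subtype.ext
    apply FaithfulSMul.eq_of_smul_eq_smul (α := Ω)
    intro v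
    have hv : (h : G) ∈ K G α ω v := by rw [← key α v]; exact hhK
    show (h : G) • v = (1 : G) • v
    rw [one_smul]
    exact hv.1
  obtain ⟨k, hk, z, hz, hkz⟩ := hB1
  have hKt := h1 α z (hep α z) (K G α ω α) (fun k hk => hk.1) (fun g hg m hm => by
    have := K_conj α ω α g m hm
    rwa [hg] at this) k hk hkz
  have hsub : ∀ g : G, g • α = α → g • z ∈ D G α ω ω := by
    intro g hg
    obtain ⟨k', hk', e⟩ := hKt g hg
    rw [← e]
    exact D_fix α ω ω z k' (hk'.2 ω hω') hz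
  have hz_all : ∀ y' ∈ D G α ω α, z ∈ D G α ω y' := by
    intro y' hy'
    obtain ⟨g, hg1, hg2⟩ := D_orbit α ω α ω y' hω' hy'
    have h1' := hsub g⁻¹ (by rw [inv_smul_eq_iff, hg1])
    have h2' := D_smul α ω ω (g⁻¹ • z) g h1'
    rwa [smul_inv_smul, hg2] at h2'
  have hKz : ∀ m ∈ K G α ω z, ∀ y' ∈ D G α ω α, m • y' = y' :=
    fun m hm y' hy' => hA y' z (hz_all y' hy') m hm
  by_cases hmv : ∀ m ∈ K G α ω z, m • α = α
  · have hle : K G α ω z ≤ K G α ω α := fun m hm => ⟨hmv m hm, hKz m hm⟩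
    have heq := K_eq_of_le α ω z α hle
    have hkz' : k ∈ K G α ω z := by rw [heq]; exact hk
    exact hkz hkz'.1
  · push Not at hmv
    obtain ⟨m, hm, hmα⟩ := hmv
    have hD : D G α ω (m • α) = D G α ω α := by
      apply D_sub_eq
      intro y hy
      have h1' := D_smul α ω (m • α) y m⁻¹ hy
      rw [inv_smul_smul] at h1'
      have h2' := hKz m hm _ h1'
      rw [smul_inv_smul] at h2'
      rw [h2']
      exact h1'
    exact hmα (D_inj hprim α ω hω _ _ hD)

end Cfsg.Agent.S3494
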