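import Cfsg.Statements.S3495
import Mathlib
import Cfsg.Agent.S3494

set_option autoImplicit false
open Cfsg

namespace Cfsg.Agent.S3495

open scoped Pointwise

/-- Let a finite group G act faithfully and primitively on a finite set Ω with non-trivial point stabilizers, each acting primitively on every one of its orbits (an extremely primitive group), and suppose G has an elementary abelian normal p-subgroup N acting regularly on Ω (affine type). Then every non-trivial subgroup M of a point stabilizer G_α that is normal in G_α has the same orbits on Ω as G_α, and normalizes no subgroup of N other than 1 and N. -/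
theorem result {G : Type*} [Group G] [Finite G] {Ω : Type*} [Fintype Ω] [MulAction G Ω] [FaithfulSMul G Ω] (hprim : MulAction.IsPreprimitive G Ω) (hH : ∀ α : Ω, MulAction.stabilizer G α ≠ ⊥) (hep : ∀ (α : Ω) (ω : Ω), MulAction.IsPreprimitive (MulAction.stabilizer G α) (MulAction.orbit (MulAction.stabilizer G α) ω))
    (N : Subgroup G) [N.Normal] (hNc : IsMulCommutative N) (p : ℕ) (hp : p.Prime) (hNp : ∀ n ∈ N, n ^ p = 1)
    (hNtr : MulAction.IsPretransitive N Ω) (hNreg : ∀ ω : Ω, MulAction.stabilizer N ω = ⊥) (α : Ω) (M : Subgroup G) (hM : M ≠ ⊥) (hMle : M ≤ MulAction.stabilizer G α)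
    (hMn : MulAction.stabilizer G α ≤ Subgroup.normalizer (M : Set G)) :
    (∀ ω : Ω, MulAction.orbit M ω = MulAction.orbit (MulAction.stabilizer G α) ω) ∧
    (∀ L : Subgroup G, L ≤ N → M ≤ Subgroup.normalizer (L : Set G) → L = ⊥ ∨ L = N) := by
  classical
  haveI := hprim.toIsPretransitive
  have hMnorm : ∀ g : G, g • α = α → ∀ m ∈ M, g * m * g⁻¹ ∈ M := by
    intro g hg m hm
    have hgn : g ∈ Subgroup.normalizer (M : Set G) := hMn hg
    exact (Subgroup.mem_normalizer_iff.mp hgn m).mp hm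
  have hMfix : ∀ m ∈ M, m • α = α := fun m hm => hMle hm
  have horb : ∀ ω : Ω, MulAction.orbit M ω = MulAction.orbit (MulAction.stabilizer G α) ω := by
    intro ω
    by_cases hω : ω = α
    · rw [hω]
      ext x
      constructor
      · rintro ⟨m, rfl⟩
        exact ⟨⟨m.1, hMle m.2⟩, rfl⟩
      · rintro ⟨g, rfl⟩
        refine ⟨1, ?_⟩
        show (1 : M) • α = (g : G) • α
        rw [one_smul]
        exact g.2.symm
    · have hmove : ∃ m0 ∈ M, m0 • ω ≠ ω := by
        by_contra hcon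
        push Not at hcon
        apply hM
        rw [Subgroup.eq_bot_iff_forall]
        intro m hm
        have hman := Cfsg.Agent.S3494.result hprim hH hep α ω hω ⟨m, hMle hm⟩ (by
          rintro x ⟨g, rfl⟩
          show m • ((g : G) • ω) = (g : G) • ω
          have h1 := hMnorm (g : G)⁻¹ (by rw [inv_smul_eq_iff]; exact g.2.symm) m hm
          have h2 := hcon _ h1
          rw [inv_inv, mul_smul, mul_smul, inv_smul_eq_iff] at h2
          exact h2)
        exact congrArg Subtype.val hman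
      obtain ⟨m0, hm0, hm0ω⟩ := hmove
      have ht := Cfsg.Agent.S3494.h1 α ω (hep α ω) M hMfix hMnorm m0 hm0 hm0ω
      ext x
      constructor
      · rintro ⟨m, rfl⟩
        exact ⟨⟨m.1, hMle m.2⟩, rfl⟩
      · rintro ⟨g, rfl⟩
        obtain ⟨m, hm, e⟩ := ht (g : G) g.2
        exact ⟨⟨m, hm⟩, e⟩
  refine ⟨horb, ?_⟩
  intro L hLN hML
  by_cases hL : L = ⊥
  · exact Or.inl hL
  right
  have hreg : ∀ n1 ∈ N, ∀ n2 ∈ N, n1 • α = n2 • α → n1 = n2 := by
    intro n1 h1 n2 h2 e
    have hmem : (⟨n2⁻¹ * n1, N.mul_mem (N.inv_mem h2) h1⟩ : N) ∈ MulAction.stabilizer N α := by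
      rw [MulAction.mem_stabilizer_iff]
      show (n2⁻¹ * n1) • α = α
      rw [mul_smul, e, inv_smul_smul]
    rw [hNreg α, Subgroup.mem_bot] at hmem
    have h3 : n2⁻¹ * n1 = 1 := congrArg Subtype.val hmem
    exact (inv_mul_eq_one.mp h3).symm
  have hNn : ∀ g : G, ∀ n ∈ N, g * n * g⁻¹ ∈ N := fun g n hn => Subgroup.Normal.conj_mem inferInstance n hn g
  have hMLn : ∀ m ∈ M, ∀ l ∈ L, m * l * m⁻¹ ∈ L := by
    intro m hm l hl
    exact (Subgroup.mem_normalizer_iff.mp (hML hm) l).mp hl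
  -- (a) G_α normalizes L
  have ha : ∀ g : G, g • α = α → ∀ l ∈ L, g * l * g⁻¹ ∈ L := by
    intro g hg l hl
    by_cases hlα : l • α = α
    · have : l = 1 := hreg l (hLN hl) 1 N.one_mem (by rw [hlα, one_smul])
      rw [this]
      simp
    · have hmem : g • (l • α) ∈ MulAction.orbit (MulAction.stabilizer G α) (l • α) := ⟨⟨g, hg⟩, rfl⟩
      rw [← horb] at hmem
      obtain ⟨m, hm⟩ := hmem
      have hm' : (m : G) • (l • α) = g • (l • α) := hm
      have e1 : ((m : G) * l * (m : G)⁻¹) • α = (g * l * g⁻¹) • α := by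
        rw [mul_smul, mul_smul, mul_smul, mul_smul, inv_smul_eq_iff.mpr (hMfix m.1 m.2).symm,
          inv_smul_eq_iff.mpr hg.symm, hm']
      have e2 := hreg _ (hLN (hMLn m.1 m.2 l hl)) _ (hNn g l (hLN hl)) e1
      rw [← e2]
      exact hMLn m.1 m.2 l hl
  -- (b) L normal in G
  have hb : ∀ g : G, ∀ l ∈ L, g * l * g⁻¹ ∈ L := by
    intro g l hl
    obtain ⟨n, hn⟩ := MulAction.exists_smul_eq N α (g • α)
    have hn' : (n : G) • α = g • α := hn
    have hh : ((n : G)⁻¹ * g) • α = α := by rw [mul_smul, ← hn', inv_smul_smul]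
    have h1 := ha _ hh l hl
    have h1N : ((n : G)⁻¹ * g) * l * ((n : G)⁻¹ * g)⁻¹ ∈ N := hLN h1
    have hcomm : (n : G) * (((n : G)⁻¹ * g) * l * ((n : G)⁻¹ * g)⁻¹) =
        (((n : G)⁻¹ * g) * l * ((n : G)⁻¹ * g)⁻¹) * (n : G) := by
      have := hNc.is_comm.comm n ⟨_, h1N⟩
      exact congrArg Subtype.val this
    have e : g * l * g⁻¹ = ((n : G)⁻¹ * g) * l * ((n : G)⁻¹ * g)⁻¹ := by
      have e1 : g * l * g⁻¹ = (n : G) * (((n : G)⁻¹ * g) * l * ((n : G)⁻¹ * g)⁻¹) * (n : G)⁻¹ := by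
        group
      rw [e1, hcomm, mul_inv_cancel_right]
    rw [e]
    exact h1
  -- (c) L transitive
  obtain ⟨l0, hl0, hl01⟩ : ∃ l0 ∈ L, l0 ≠ 1 := by
    by_contra hcon
    push Not at hcon
    exact hL ((Subgroup.eq_bot_iff_forall L).mpr hcon)
  have hl0α : α ≠ l0 • α := by
    intro h
    exact hl01 (hreg l0 (hLN hl0) 1 N.one_mem (by rw [← h, one_smul]))
  have hLt := Cfsg.Agent.S3494.prim_rel hprim (fun u v => ∃ l ∈ L, l • u = v)
    (fun u => ⟨1, L.one_mem, one_smul _ _⟩)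
    (fun u v ⟨l, hl, e⟩ => ⟨l⁻¹, L.inv_mem hl, by rw [← e, inv_smul_smul]⟩)
    (fun u v w ⟨l, hl, e⟩ ⟨l', hl', e'⟩ => ⟨l' * l, L.mul_mem hl' hl, by rw [mul_smul, e, e']⟩)
    (fun g u v ⟨l, hl, e⟩ => ⟨g * l * g⁻¹, hb g l hl, by
      rw [mul_smul, mul_smul, inv_smul_smul, e]⟩)
    α (l0 • α) hl0α ⟨l0, hl0, rfl⟩
  apply le_antisymm hLN
  intro n hn
  obtain ⟨l, hl, e⟩ := hLt α (n • α)
  have := hreg l (hLN hl) n hn e
  rw [← this]
  exact hl

end Cfsg.Agent.S3495
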