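import Cfsg.Statements.S3554

set_option autoImplicit false
open Cfsg

namespace Cfsg.Agent.S3554

/-- Let G act faithfully and transitively on a finite set and suppose G has a non-trivial cyclic normal subgroup. Then some element of G of prime order fixes no point. -/
theorem result {G Ω : Type*} [Group G] [Finite G] [MulAction G Ω] [FaithfulSMul G Ω] [Finite Ω]
    (htrans : MulAction.IsPretransitive G Ω) (C : Subgroup G) (hC : C.Normal) (hC1 : C ≠ ⊥) (hcyc : IsCyclic ↥C) :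
    ∃ g : G, (orderOf g).Prime ∧ ∀ ω : Ω, g • ω ≠ ω := by
  obtain ⟨z, hz⟩ := hcyc.exists_generator
  have hn1 : orderOf z ≠ 1 := by
    intro h1
    rw [orderOf_eq_one_iff] at h1
    apply hC1
    rw [Subgroup.eq_bot_iff_forall]
    intro x hx
    have := hz ⟨x, hx⟩
    rw [h1, Subgroup.zpowers_one_eq_bot, Subgroup.mem_bot] at this
    exact congrArg Subtype.val this
  obtain ⟨n, hn⟩ : ∃ n, n = orderOf z := ⟨_, rfl⟩
  have hnpos : 0 < n := by rw [hn]; exact orderOf_pos z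
  obtain ⟨p, hp⟩ : ∃ p, p = n.minFac := ⟨_, rfl⟩
  have hpp : p.Prime := by rw [hp]; exact Nat.minFac_prime (by rw [hn]; exact hn1)
  have hpn : p ∣ n := by rw [hp]; exact Nat.minFac_dvd n
  obtain ⟨c, hc⟩ : ∃ c : G, c = ((z ^ (n / p) : C) : G) := ⟨_, rfl⟩
  have hnp0 : n / p ≠ 0 := by
    intro h0
    have := Nat.div_mul_cancel hpn
    rw [h0, zero_mul] at this
    omega
  have hordc : orderOf c = p := by
    rw [hc, Subgroup.orderOf_coe, orderOf_pow_of_dvd hnp0 (by rw [← hn]; exact Nat.div_dvd_of_dvd hpn),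
      ← hn, Nat.div_div_self hpn hnpos.ne']
  have hconj : ∀ g : G, ∃ j : ℤ, g * c * g⁻¹ = c ^ j := by
    intro g
    have hmem : g * c * g⁻¹ ∈ C := hC.conj_mem c (by rw [hc]; exact (z ^ (n / p)).2) g
    obtain ⟨k, hk⟩ := Subgroup.mem_zpowers_iff.1 (hz ⟨g * c * g⁻¹, hmem⟩)
    have h1 : (z ^ k) ^ p = 1 := by
      rw [hk]
      apply Subtype.ext
      show (g * c * g⁻¹) ^ p = 1
      rw [conj_pow, ← hordc, pow_orderOf_eq_one]
      group
    have h2 : (n : ℤ) ∣ k * p := by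
      rw [hn]
      apply orderOf_dvd_iff_zpow_eq_one.2
      rw [zpow_mul, zpow_natCast]
      exact h1
    obtain ⟨j, hj⟩ : ((n / p : ℕ) : ℤ) ∣ k := by
      have h3 : ((n / p : ℕ) : ℤ) * p ∣ k * p := by
        have e : ((n / p : ℕ) : ℤ) * p = n := by exact_mod_cast Nat.div_mul_cancel hpn
        rw [e]; exact h2
      exact Int.dvd_of_mul_dvd_mul_right (by exact_mod_cast hpp.ne_zero) h3
    refine ⟨j, ?_⟩
    have h4 : (z ^ k : C) = (z ^ (n / p)) ^ j := by rw [hj, zpow_mul, zpow_natCast]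
    calc g * c * g⁻¹ = ((z ^ k : C) : G) := by rw [hk]
      _ = c ^ j := by rw [h4, hc]; simp
  refine ⟨c, by rw [hordc]; exact hpp, ?_⟩
  intro ω₀ hfix
  have hall : ∀ ω : Ω, c • ω = ω := by
    intro ω
    obtain ⟨g, rfl⟩ := MulAction.exists_smul_eq G ω₀ ω
    obtain ⟨j, hj⟩ := hconj g⁻¹
    have h5 : c • g • ω₀ = g • (g⁻¹ * c * g⁻¹⁻¹) • ω₀ := by simp [mul_smul]
    rw [h5, hj]
    congr 1
    exact Subgroup.zpow_mem (MulAction.stabilizer G ω₀) hfix j
  have hc1 : c = 1 := FaithfulSMul.eq_of_smul_eq_smul (α := Ω) (by intro a; rw [hall a, one_smul])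
  rw [hc1, orderOf_one] at hordc
  exact hpp.one_lt.ne hordc

end Cfsg.Agent.S3554
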