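import Mathlib
import Cfsg.Statements.S3734
import Cfsg.Agent.S0026
import Cfsg.Agent.S0058
import Cfsg.Agent.S1302
import Cfsg.Agent.Lib.Helper5.CoprimeGen

set_option autoImplicit false
open Pointwise
open Cfsg
open scoped commutatorElement

namespace Cfsg.Agent.S3734

open Cfsg.Agent.Lib.Helper5.CoprimeGen

theorem exists_xy' {α : Type*} [Group α] [Finite α] (hc : ∀ a b : α, a * b = b * a)
    (hA : ¬ IsCyclic α) :
    ∃ p : ℕ, p.Prime ∧ ∃ x y : α, x ^ p = 1 ∧ y ^ p = 1 ∧ y ≠ 1 ∧ ∀ j : ℕ, x * y ^ j ≠ 1 := by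
  letI : CommGroup α := { ‹Group α› with mul_comm := hc }
  exact Cfsg.Agent.S0058.exists_xy hA

def fixS {K : Type*} [Group K] (γ : MulAut K) : Subgroup K where
  carrier := {k | γ k = k}
  mul_mem' := by
    intro a b ha hb
    simp only [Set.mem_setOf_eq] at *
    rw [map_mul, ha, hb]
  one_mem' := map_one γ
  inv_mem' := by
    intro a ha
    simp only [Set.mem_setOf_eq] at *
    rw [map_inv, ha]

theorem mem_fixS {K : Type*} [Group K] (γ : MulAut K) (k : K) : k ∈ fixS γ ↔ γ k = k := Iff.rfl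

theorem lemH {K : Type*} [Group K] [Finite K] (Ab : Subgroup (MulAut K))
    (hc : ∀ u ∈ Ab, ∀ v ∈ Ab, u * v = v * u)
    (hcop : (Nat.card Ab).Coprime (Nat.card K)) (p : ℕ) (hp : p.Prime) (α β : MulAut K)
    (hα : α ∈ Ab) (hβ : β ∈ Ab) (hαp : α ^ p = 1) (hβp : β ^ p = 1) (hβ1 : β ≠ 1) (k : K) :
    k ∈ (fixS β ⊔ ⨆ j : ℕ, fixS (α * β ^ j)) := by
  haveI : Fact p.Prime := ⟨hp⟩
  haveI : Finite (K ⋊[MonoidHom.id (MulAut K)] MulAut K) :=
    Finite.of_equiv _ SemidirectProduct.equivProd.symm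
  obtain ⟨inl, hinl⟩ : ∃ f : K →* K ⋊[MonoidHom.id (MulAut K)] MulAut K,
      f = SemidirectProduct.inl := ⟨_, rfl⟩
  obtain ⟨inr, hinr⟩ : ∃ f : MulAut K →* K ⋊[MonoidHom.id (MulAut K)] MulAut K,
      f = SemidirectProduct.inr := ⟨_, rfl⟩
  have hinj : Function.Injective inl := hinl ▸ SemidirectProduct.inl_injective
  have hinjr : Function.Injective inr := hinr ▸ SemidirectProduct.inr_injective
  have haut : ∀ (g : MulAut K) (n : K), inl (g n) = inr g * inl n * inr g⁻¹ := by
    intro g n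
    rw [hinl, hinr]
    exact SemidirectProduct.inl_aut (φ := MonoidHom.id (MulAut K)) g n
  haveI hnorm : (inl.range).Normal := by
    rw [hinl, SemidirectProduct.range_inl_eq_ker_rightHom]
    infer_instance
  haveI hcomm : IsMulCommutative ↥(Ab.map inr) := by
    refine ⟨⟨fun u v => ?_⟩⟩
    obtain ⟨a, ha, hu⟩ := Subgroup.mem_map.1 u.2
    obtain ⟨b, hb, hv⟩ := Subgroup.mem_map.1 v.2
    apply Subtype.ext
    show (u : K ⋊[MonoidHom.id (MulAut K)] MulAut K) * v = v * u
    rw [← hu, ← hv, ← map_mul, ← map_mul, hc a ha b hb]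
  have hcardK : Nat.card ↥inl.range = Nat.card K :=
    (Nat.card_congr (MonoidHom.ofInjective hinj).toEquiv).symm
  have hcardA : Nat.card ↥(Ab.map inr) = Nat.card Ab :=
    Subgroup.card_map_of_injective hinjr
  have hpK : (Nat.card K).Coprime p := by
    have h1 : orderOf β = p := orderOf_eq_prime hβp hβ1
    have h2 : p ∣ Nat.card Ab := h1 ▸ Subgroup.orderOf_dvd_natCard Ab hβ
    exact (Nat.Coprime.coprime_dvd_left h2 hcop).symm
  have hgen := gen_of_coprime (Ab.map inr) inl.range
    (by rw [Subgroup.normalizer_eq_top_iff.2 hnorm]; exact le_top)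
    (by rw [hcardK, hcardA]; exact hcop) p hp (by rw [hcardK]; exact hpK)
    (inr α) (inr β) (Subgroup.mem_map_of_mem _ hα) (Subgroup.mem_map_of_mem _ hβ)
    (by rw [← map_pow, hαp, map_one]) (by rw [← map_pow, hβp, map_one])
  have claim : ∀ γ : MulAut K,
      inl.range ⊓ Subgroup.centralizer {inr γ} ≤ (fixS γ).map inl := by
    intro γ y hy
    obtain ⟨hy1, hy2⟩ := Subgroup.mem_inf.1 hy
    obtain ⟨k', rfl⟩ := MonoidHom.mem_range.1 hy1
    have h1 : inr γ * inl k' = inl k' * inr γ :=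
      (Subgroup.mem_centralizer_iff.1 hy2) _ rfl
    have h2 : inl (γ k') = inl k' := by
      rw [haut, h1, mul_assoc, ← map_mul, mul_inv_cancel, map_one, mul_one]
    exact Subgroup.mem_map.2 ⟨k', hinj h2, rfl⟩
  have hk : inl k ∈ genY inl.range (inr α) (inr β) := by
    rw [hgen]; exact MonoidHom.mem_range.2 ⟨k, rfl⟩
  have hle : genY inl.range (inr α) (inr β) ≤
      (fixS β ⊔ ⨆ j : ℕ, fixS (α * β ^ j)).map inl := by
    unfold genY
    refine sup_le ((claim β).trans (Subgroup.map_mono le_sup_left)) (iSup_le fun j => ?_)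
    have h1 : inr α * inr β ^ j = inr (α * β ^ j) := by rw [map_mul, map_pow]
    rw [h1]
    exact (claim _).trans (Subgroup.map_mono ((le_iSup (fun j : ℕ => fixS (α * β ^ j)) j).trans
      le_sup_right))
  obtain ⟨k', hk', heq⟩ := Subgroup.mem_map.1 (hle hk)
  exact hinj heq ▸ hk'

theorem norm_inf_cent {G : Type*} [Group G] (K B : Subgroup G) (t : G)
    (ht : t ∈ Subgroup.normalizer (K : Set G)) (htB : ∀ b ∈ B, t * b = b * t) :
    t ∈ Subgroup.normalizer ((K ⊓ Subgroup.centralizer (B : Set G) : Subgroup G) : Set G) := by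
  have key : ∀ t : G, t ∈ Subgroup.normalizer (K : Set G) → (∀ b ∈ B, t * b = b * t) →
      ∀ h ∈ K ⊓ Subgroup.centralizer (B : Set G),
        t * h * t⁻¹ ∈ K ⊓ Subgroup.centralizer (B : Set G) := by
    intro t ht htB h hh
    obtain ⟨h1, h2⟩ := Subgroup.mem_inf.1 hh
    refine Subgroup.mem_inf.2 ⟨(Subgroup.mem_set_normalizer_iff.1 ht h).1 h1, ?_⟩
    rw [Subgroup.mem_centralizer_iff]
    intro b hb
    have e1 := htB b hb
    have e2 := (Subgroup.mem_centralizer_iff.1 h2) b hb
    have e3 : t⁻¹ * b = b * t⁻¹ := by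
      have := congrArg (fun u => t⁻¹ * u * t⁻¹) e1
      simpa [mul_assoc] using this.symm
    calc b * (t * h * t⁻¹) = (b * t) * h * t⁻¹ := by group
      _ = t * (b * h) * t⁻¹ := by rw [← e1]; group
      _ = t * h * (b * t⁻¹) := by rw [e2]; group
      _ = t * h * t⁻¹ * b := by rw [← e3]; group
  rw [Subgroup.mem_set_normalizer_iff]
  intro h
  constructor
  · exact key t ht htB h
  · intro hh
    have hB' : ∀ b ∈ B, t⁻¹ * b = b * t⁻¹ := by
      intro b hb
      have := congrArg (fun u => t⁻¹ * u * t⁻¹) (htB b hb)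
      simpa [mul_assoc] using this.symm
    have := key t⁻¹ (inv_mem ht) hB' _ hh
    simpa [mul_assoc] using this

theorem norm_biSup {G : Type*} [Group G] {ι : Type*} (s : Set ι) (f : ι → Subgroup G) (t : G)
    (h : ∀ i ∈ s, t ∈ Subgroup.normalizer ((f i : Subgroup G) : Set G)) :
    t ∈ Subgroup.normalizer ((⨆ i ∈ s, f i : Subgroup G) : Set G) := by
  apply Subgroup.iInf_normalizer_le_normalizer_iSup
  rw [Subgroup.mem_iInf]
  intro i
  apply Subgroup.iInf_normalizer_le_normalizer_iSup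
  rw [Subgroup.mem_iInf]
  intro hi
  exact h i hi

theorem part1 {X : Type*} [Group X] [Finite X] (A : Subgroup X) (hAab : IsMulCommutative A)
    (n : ℕ) : ∀ K : Subgroup X, Nat.card K = n → A ≤ Subgroup.normalizer (K : Set X) →
      (Nat.card A).Coprime (Nat.card K) →
      K ≤ ⨆ B ∈ {B : Subgroup X | B ≤ A ∧ ∃ a ∈ A, B ⊔ Subgroup.zpowers a = A},
        K ⊓ Subgroup.centralizer (B : Set X) := by
  induction n using Nat.strong_induction_on with
  | _ n ih =>
    intro K hKn hAK hcop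
    have hAc : ∀ a ∈ A, ∀ b ∈ A, a * b = b * a := by
      intro a ha b hb
      exact congrArg Subtype.val (hAab.is_comm.comm (⟨a, ha⟩ : ↥A) ⟨b, hb⟩)
    obtain ⟨φ, hφ⟩ : ∃ φ : ↥A →* MulAut ↥K, ∀ (a : ↥A) (k : ↥K),
        ((φ a k : ↥K) : X) = a * k * (a : X)⁻¹ :=
      ⟨K.normalizerMonoidHom.comp (Subgroup.inclusion hAK), fun _ _ => rfl⟩
    have hφ1 : ∀ a : ↥A, φ a = 1 → (a : X) ∈ Subgroup.centralizer (K : Set X) := by
      intro a ha
      rw [Subgroup.mem_centralizer_iff]
      intro k hk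
      have h1 := hφ a ⟨k, hk⟩
      rw [ha] at h1
      have h2 : k = a * k * (a : X)⁻¹ := h1
      calc k * (a : X) = (a * k * (a : X)⁻¹) * a := by rw [← h2]
        _ = a * k := by group
    have hmono : ∀ K' : Subgroup X, K' ≤ K →
        (⨆ B ∈ {B : Subgroup X | B ≤ A ∧ ∃ a ∈ A, B ⊔ Subgroup.zpowers a = A},
          K' ⊓ Subgroup.centralizer (B : Set X)) ≤
        ⨆ B ∈ {B : Subgroup X | B ≤ A ∧ ∃ a ∈ A, B ⊔ Subgroup.zpowers a = A},
          K ⊓ Subgroup.centralizer (B : Set X) :=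
      fun K' h => iSup₂_mono fun B _ => inf_le_inf_right _ h
    have hcr : ∀ u v : ↥φ.range, u * v = v * u := by
      intro u v
      obtain ⟨a, ha⟩ := MonoidHom.mem_range.1 u.2
      obtain ⟨b, hb⟩ := MonoidHom.mem_range.1 v.2
      apply Subtype.ext
      show (u : MulAut ↥K) * v = v * u
      rw [← ha, ← hb, ← map_mul, ← map_mul, hAab.is_comm.comm a b]
    by_cases hcyc : IsCyclic ↥φ.range
    · obtain ⟨g, hg⟩ := hcyc.exists_generator
      obtain ⟨a, ha⟩ := MonoidHom.mem_range.1 g.2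
      obtain ⟨C, hC⟩ : ∃ C : Subgroup X, C = A ⊓ Subgroup.centralizer (K : Set X) := ⟨_, rfl⟩
      have hCmem : C ∈ {B : Subgroup X | B ≤ A ∧ ∃ a ∈ A, B ⊔ Subgroup.zpowers a = A} := by
        refine ⟨hC ▸ inf_le_left, a, a.2, ?_⟩
        apply le_antisymm
        · exact sup_le (hC ▸ inf_le_left) (by rw [Subgroup.zpowers_le]; exact a.2)
        · intro b hb
          obtain ⟨m, hm⟩ := Subgroup.mem_zpowers_iff.1
            (hg ⟨φ ⟨b, hb⟩, MonoidHom.mem_range.2 ⟨_, rfl⟩⟩)
          have hm' : (φ a) ^ m = φ ⟨b, hb⟩ := by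
            have := congrArg Subtype.val hm
            rw [Subgroup.coe_zpow, ← ha] at this
            exact this
          have h1 : φ (⟨b, hb⟩ * (a ^ m)⁻¹) = 1 := by
            rw [map_mul, map_inv, map_zpow, hm', mul_inv_cancel]
          have h2 := hφ1 _ h1
          have h3 : b * ((a : X) ^ m)⁻¹ ∈ C := by
            rw [hC]
            refine Subgroup.mem_inf.2 ⟨mul_mem hb (inv_mem (zpow_mem a.2 m)), ?_⟩
            simpa using h2
          have h4 : b = (b * ((a : X) ^ m)⁻¹) * (a : X) ^ m := by group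
          rw [h4]
          exact Subgroup.mul_mem_sup h3 (zpow_mem (Subgroup.mem_zpowers _) m)
      have hKC : K ≤ Subgroup.centralizer (C : Set X) := by
        intro k hk
        rw [Subgroup.mem_centralizer_iff]
        intro c hc
        rw [hC] at hc
        exact ((Subgroup.mem_centralizer_iff.1 (Subgroup.mem_inf.1 hc).2) k hk).symm
      exact le_iSup₂_of_le C hCmem (le_inf le_rfl hKC)
    · obtain ⟨p, hp, xb, yb, hx, hy, hy1, hj⟩ := exists_xy' hcr hcyc
      obtain ⟨x, hx'⟩ := MonoidHom.mem_range.1 xb.2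
      obtain ⟨y, hy'⟩ := MonoidHom.mem_range.1 yb.2
      have hcopr : (Nat.card ↥φ.range).Coprime (Nat.card ↥K) :=
        Nat.Coprime.coprime_dvd_left (Subgroup.card_range_dvd φ) hcop
      have hxp : (φ x) ^ p = 1 := by
        have := congrArg Subtype.val hx
        rw [Subgroup.coe_pow, ← hx'] at this
        exact this
      have hyp : (φ y) ^ p = 1 := by
        have := congrArg Subtype.val hy
        rw [Subgroup.coe_pow, ← hy'] at this
        exact this
      have hy1' : φ y ≠ 1 := by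
        intro h
        apply hy1
        apply Subtype.ext
        rw [← hy', h]; rfl
      have hj' : ∀ j : ℕ, φ (x * y ^ j) ≠ 1 := by
        intro j h
        apply hj j
        apply Subtype.ext
        rw [Subgroup.coe_mul, Subgroup.coe_pow, ← hx', ← hy', ← map_pow, ← map_mul, h]; rfl
      have hH := lemH φ.range
        (fun u hu v hv => congrArg Subtype.val (hcr ⟨u, hu⟩ ⟨v, hv⟩)) hcopr p hp (φ x) (φ y)
        (MonoidHom.mem_range.2 ⟨_, rfl⟩) (MonoidHom.mem_range.2 ⟨_, rfl⟩) hxp hyp hy1'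
      have hfix : ∀ z : ↥A, φ z ≠ 1 → fixS (φ z) ≤
          (⨆ B ∈ {B : Subgroup X | B ≤ A ∧ ∃ a ∈ A, B ⊔ Subgroup.zpowers a = A},
            K ⊓ Subgroup.centralizer (B : Set X)).comap K.subtype := by
        intro z hz k hk
        rw [mem_fixS] at hk
        rw [Subgroup.mem_comap]
        have hkz : (k : X) ∈ K ⊓ Subgroup.centralizer {(z : X)} := by
          refine Subgroup.mem_inf.2 ⟨k.2, ?_⟩
          rw [mem_centralizer_singleton']
          have h1 := hφ z k
          rw [hk] at h1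
          show (z : X) * k = k * z
          calc (z : X) * k = ((z : X) * k * (z : X)⁻¹) * z := by group
            _ = k * z := by rw [← h1]
        have hne : K ⊓ Subgroup.centralizer {(z : X)} ≠ K := by
          intro h
          apply hz
          ext k'
          have h0 : (k' : X) ∈ K ⊓ Subgroup.centralizer {(z : X)} := by
            rw [h]; exact k'.2
          have h1 : (k' : X) ∈ Subgroup.centralizer {(z : X)} := h0.2
          rw [mem_centralizer_singleton'] at h1
          rw [hφ z k', MulAut.one_apply]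
          have h2 : (z : X) * k' = k' * z := h1
          rw [h2]; group
        have hlt : Nat.card ↥(K ⊓ Subgroup.centralizer {(z : X)}) < n := by
          by_contra hcon
          rw [not_lt, ← hKn] at hcon
          exact hne (Subgroup.eq_of_le_of_card_ge inf_le_left hcon)
        have h3 := ih _ hlt (K ⊓ Subgroup.centralizer {(z : X)}) rfl
          (fun t ht => mem_normalizer_inf_centralizer K t z (hAK ht) (hAc t ht z z.2))
          (Nat.Coprime.coprime_dvd_right (Subgroup.card_dvd_of_le inf_le_left) hcop)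
        exact hmono _ inf_le_left (h3 hkz)
      intro k hk
      have h1 := hH ⟨k, hk⟩
      have h2 : (fixS (φ y) ⊔ ⨆ j : ℕ, fixS (φ x * φ y ^ j)) ≤
          (⨆ B ∈ {B : Subgroup X | B ≤ A ∧ ∃ a ∈ A, B ⊔ Subgroup.zpowers a = A},
            K ⊓ Subgroup.centralizer (B : Set X)).comap K.subtype := by
        refine sup_le (hfix y hy1') (iSup_le fun j => ?_)
        have : φ x * φ y ^ j = φ (x * y ^ j) := by rw [map_mul, map_pow]
        rw [this]
        exact hfix _ (hj' j)
      exact h2 h1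

/-- Let A and G be subgroups of a finite group with A abelian, A normalizing G and the orders of A and G coprime. Then G is generated by the fixed-point subgroups C_G(B) of those subgroups B of A for which A/B is cyclic (that is, A = ⟨B, a⟩ for some a), and [G, A] is generated by the commutator subgroups [C_G(B), A] over the same subgroups B. -/
theorem result {X : Type*} [Group X] [Finite X] (A G : Subgroup X) (hAab : IsMulCommutative A) (hAG : A ≤ Subgroup.normalizer (G : Set X)) (hcop : (Nat.card A).Coprime (Nat.card G)) : (⨆ B ∈ {B : Subgroup X | B ≤ A ∧ ∃ a ∈ A, B ⊔ Subgroup.zpowers a = A}, G ⊓ Subgroup.centralizer (B : Set X)) = G ∧ (⨆ B ∈ {B : Subgroup X | B ≤ A ∧ ∃ a ∈ A, B ⊔ Subgroup.zpowers a = A}, ⁅G ⊓ Subgroup.centralizer (B : Set X), A⁆) = ⁅G, A⁆ := by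
  classical
  have hAc : ∀ a ∈ A, ∀ b ∈ A, a * b = b * a := by
    intro a ha b hb
    exact congrArg Subtype.val (hAab.is_comm.comm (⟨a, ha⟩ : ↥A) ⟨b, hb⟩)
  have hp1 : (⨆ B ∈ {B : Subgroup X | B ≤ A ∧ ∃ a ∈ A, B ⊔ Subgroup.zpowers a = A},
      G ⊓ Subgroup.centralizer (B : Set X)) = G :=
    le_antisymm (iSup₂_le fun B _ => inf_le_left) (part1 A hAab _ G rfl hAG hcop)
  refine ⟨hp1, ?_⟩
  apply le_antisymm
  · exact iSup₂_le fun B _ => Subgroup.commutator_mono inf_le_left le_rfl
  obtain ⟨N, hN⟩ : ∃ N : Subgroup X, N = ⨆ B ∈ {B : Subgroup X | B ≤ A ∧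
      ∃ a ∈ A, B ⊔ Subgroup.zpowers a = A}, ⁅G ⊓ Subgroup.centralizer (B : Set X), A⁆ :=
    ⟨_, rfl⟩
  rw [← hN]
  have hsolv : Group.IsSolvable ↥A :=
    Group.isSolvable_of_comm (fun a b => hAab.is_comm.comm a b)
  -- normalizers
  have hnorm1 : ∀ t : X, t ∈ Subgroup.normalizer (G : Set X) → (∀ b ∈ A, t * b = b * t) →
      t ∈ Subgroup.normalizer (N : Set X) := by
    intro t htG htA
    rw [hN]
    apply norm_biSup
    intro B hB
    have htA' : t ∈ Subgroup.normalizer (A : Set X) := by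
      rw [Subgroup.mem_set_normalizer_iff]
      intro h
      have e : ∀ h ∈ A, t * h * t⁻¹ = h := by
        intro h hh
        rw [htA h hh]; group
      constructor
      · intro hh
        rw [e h hh]; exact hh
      · intro hh
        have h2 := htA _ hh
        have h3 : t * (t * h * t⁻¹) = t * h := by rw [h2]; group
        have h5 := mul_left_cancel h3
        rw [h5] at hh
        exact hh
    exact Cfsg.Agent.S1302.norm_comm _ A t (norm_inf_cent G B t htG
      (fun b hb => htA b (hB.1 hb))) htA'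
  have hcomm_le : ⁅G, A⁆ ≤ G := by
    rw [Subgroup.commutator_le]
    intro x hx g hg
    have h1 : g * x⁻¹ * g⁻¹ ∈ G := (Subgroup.mem_set_normalizer_iff.1 (hAG hg) _).1 (inv_mem hx)
    have h2 : ⁅x, g⁆ = x * (g * x⁻¹ * g⁻¹) := by simp [commutatorElement_def, mul_assoc]
    rw [h2]
    exact mul_mem hx h1
  have hNG : N ≤ G := by
    rw [hN]
    exact iSup₂_le fun B _ => (Subgroup.commutator_mono inf_le_left le_rfl).trans hcomm_le
  have hNA : A ≤ Subgroup.normalizer (N : Set X) :=
    fun t ht => hnorm1 t (hAG ht) (fun b hb => hAc t ht b hb)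
  have hNC : ∀ c ∈ G ⊓ Subgroup.centralizer (A : Set X), c ∈ Subgroup.normalizer (N : Set X) :=
    fun c hc => hnorm1 c (Subgroup.le_normalizer hc.1)
      (fun b hb => ((Subgroup.mem_centralizer_iff.1 hc.2) b hb).symm)
  obtain ⟨W, hW⟩ : ∃ W : Subgroup X, ∀ g, g ∈ W ↔
      g ∈ Subgroup.normalizer (N : Set X) ∧ ∀ a ∈ A, ⁅g, a⁆ ∈ N := by
    refine ⟨
      { carrier := {g | g ∈ Subgroup.normalizer (N : Set X) ∧ ∀ a ∈ A, ⁅g, a⁆ ∈ N}
        mul_mem' := ?_
        one_mem' := ⟨one_mem _, fun a _ => by rw [commutatorElement_one_left]; exact one_mem _⟩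
        inv_mem' := ?_ }, fun g => Iff.rfl⟩
    · rintro g h ⟨hg1, hg2⟩ ⟨hh1, hh2⟩
      refine ⟨mul_mem hg1 hh1, fun a ha => ?_⟩
      have e : ⁅g * h, a⁆ = g * ⁅h, a⁆ * g⁻¹ * ⁅g, a⁆ := by
        simp only [commutatorElement_def]; group
      rw [e]
      exact mul_mem ((Subgroup.mem_set_normalizer_iff.1 hg1 _).1 (hh2 a ha)) (hg2 a ha)
    · rintro g ⟨hg1, hg2⟩
      refine ⟨inv_mem hg1, fun a ha => ?_⟩
      have e : ⁅g⁻¹, a⁆ = g⁻¹ * ⁅g, a⁆⁻¹ * g := by
        simp only [commutatorElement_def]; group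
      rw [e]
      have := (Subgroup.mem_set_normalizer_iff.1 (inv_mem hg1) _).1 (inv_mem (hg2 a ha))
      simpa using this
  have hNW : N ≤ W := by
    intro n hn
    refine (hW n).2 ⟨Subgroup.le_normalizer hn, fun a ha => ?_⟩
    have e : ⁅n, a⁆ = n * (a * n⁻¹ * a⁻¹) := by
      simp only [commutatorElement_def]; group
    rw [e]
    exact mul_mem hn ((Subgroup.mem_set_normalizer_iff.1 (hNA ha) _).1 (inv_mem hn))
  have hCW : G ⊓ Subgroup.centralizer (A : Set X) ≤ W := by
    intro c hc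
    refine (hW c).2 ⟨hNC c hc, fun a ha => ?_⟩
    have : ⁅c, a⁆ = 1 :=
      commutatorElement_eq_one_iff_mul_comm.2 ((Subgroup.mem_centralizer_iff.1 hc.2) a ha).symm
    rw [this]; exact one_mem _
  have hGW : G ≤ W := by
    calc G = ⨆ B ∈ {B : Subgroup X | B ≤ A ∧ ∃ a ∈ A, B ⊔ Subgroup.zpowers a = A},
          G ⊓ Subgroup.centralizer (B : Set X) := hp1.symm
      _ ≤ W := by
        refine iSup₂_le fun B hB => ?_
        have hAGB : A ≤ Subgroup.normalizer
            ((G ⊓ Subgroup.centralizer (B : Set X) : Subgroup X) : Set X) :=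
          fun t ht => norm_inf_cent G B t (hAG ht) (fun b hb => hAc t ht b (hB.1 hb))
        have h26 := Cfsg.Agent.S0026.result A (G ⊓ Subgroup.centralizer (B : Set X)) hAGB
          (Nat.Coprime.coprime_dvd_right (Subgroup.card_dvd_of_le inf_le_left) hcop)
          (Or.inl hsolv)
        rw [← h26]
        refine sup_le ?_ ((inf_le_inf_right _ inf_le_left).trans hCW)
        refine le_trans ?_ hNW
        rw [hN]
        exact le_iSup₂_of_le B hB le_rfl
  rw [Subgroup.commutator_le]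
  intro g hg a ha
  exact ((hW g).1 (hGW hg)).2 a ha

end Cfsg.Agent.S3734
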