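import Cfsg.Statements.S3919

import Mathlib
import Cfsg.Agent.S4477
import Cfsg.Agent.S4399
import Cfsg.Agent.S4403
import Cfsg.Agent.S0112
import Cfsg.Agent.Lib.Helper1.UniqP
import Cfsg.Agent.Lib.Helper1.MaxCl2

set_option autoImplicit false
open Cfsg
open scoped Pointwise

namespace Cfsg.Agent.S3919

open Cfsg.Agent.Lib.Helper1
open scoped commutatorElement

universe u

theorem nf_small {G : Type*} [Group G] [Finite G]
    (hSC : ∀ H : Subgroup G, ¬ IsCyclic ↥H → Subgroup.centralizer (H : Set G) ≤ H)
    (z u : G) (hzc : ∀ g : G, g * z = z * g) (hz1 : z ≠ 1) (hz2 : z * z = 1) (hu2 : u * u = 1)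
    (hu1 : u ≠ 1) (huz : u ≠ z) (hconj : ∀ x : G, x * u * x⁻¹ = u ∨ x * u * x⁻¹ = u * z) :
    Nat.card G ≤ 8 := by
  haveI : Fact (Nat.Prime 2) := ⟨Nat.prime_two⟩
  obtain ⟨E, hE⟩ : ∃ E : Subgroup G, E = Subgroup.zpowers z ⊔ Subgroup.zpowers u := ⟨_, rfl⟩
  have hzE : z ∈ E := by rw [hE]; exact Subgroup.mem_sup_left (Subgroup.mem_zpowers z)
  have huE : u ∈ E := by rw [hE]; exact Subgroup.mem_sup_right (Subgroup.mem_zpowers u)
  have hoz : orderOf z = 2 := orderOf_eq_prime (by rw [pow_two]; exact hz2) hz1
  have hou : orderOf u = 2 := orderOf_eq_prime (by rw [pow_two]; exact hu2) hu1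
  have hEnc : ¬ IsCyclic E := by
    intro hEcyc
    have h1 := S4403.cyc_unique 2 E hEcyc z u hzE huE hoz hou
    obtain ⟨k, hk⟩ := Subgroup.mem_zpowers_iff.1 h1
    rcases Int.even_or_odd' k with ⟨j, rfl | rfl⟩
    · apply hu1; rw [← hk, zpow_mul, zpow_two, hz2, one_zpow]
    · apply huz; rw [← hk, zpow_add, zpow_mul, zpow_two, hz2, one_zpow, one_mul, zpow_one]
  have hCE := hSC E hEnc
  have hCu : Subgroup.centralizer ({u} : Set G) ≤ E := by
    intro x hx
    apply hCE
    rw [Subgroup.mem_centralizer_singleton_iff] at hx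
    rw [Subgroup.mem_centralizer_iff]
    intro h hh
    have hle : E ≤ Subgroup.centralizer ({x} : Set G) := by
      rw [hE]; apply sup_le
      · rw [Subgroup.zpowers_le, Subgroup.mem_centralizer_singleton_iff]; exact (hzc x).symm
      · rw [Subgroup.zpowers_le, Subgroup.mem_centralizer_singleton_iff]; exact hx.symm
    have := hle hh
    rw [Subgroup.mem_centralizer_singleton_iff] at this
    exact this
  haveI hzn : (Subgroup.zpowers z).Normal := ⟨by
    intro w hw g
    have hwc : g * w = w * g := by
      obtain ⟨i, rfl⟩ := Subgroup.mem_zpowers_iff.1 hw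
      exact ((show Commute g z from hzc g).zpow_right i).eq
    have : g * w * g⁻¹ = w := by rw [hwc]; group
    rw [this]; exact hw⟩
  have hEcard : Nat.card E ≤ 4 := by
    have h1 : (Subgroup.zpowers z).relIndex E = (Subgroup.zpowers z).relIndex (Subgroup.zpowers u) := by
      rw [hE]; exact Subgroup.relIndex_sup_left (Subgroup.zpowers u) (Subgroup.zpowers z)
    have h2 := Subgroup.relIndex_mul_relIndex (⊥ : Subgroup G) (Subgroup.zpowers z) E bot_le
      (by rw [hE]; exact le_sup_left)
    rw [Subgroup.relIndex_bot_left, Subgroup.relIndex_bot_left, h1, Nat.card_zpowers, hoz] at h2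
    have h3 : (Subgroup.zpowers z).relIndex (Subgroup.zpowers u) ≤ 2 := by
      have := Subgroup.relIndex_dvd_card (Subgroup.zpowers z) (Subgroup.zpowers u)
      rw [Nat.card_zpowers, hou] at this
      exact Nat.le_of_dvd (by norm_num) this
    rw [← h2]
    omega
  have h1 := S0112.card_le_of_comm_mem (⊤ : Subgroup G) (Subgroup.zpowers z) u (by
    intro g _
    rw [commutatorElement_def]
    rcases hconj g with h | h
    · rw [h, mul_inv_cancel]; exact Subgroup.one_mem _
    · rw [h]
      have : u * z * u⁻¹ = z := by rw [hzc u]; group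
      rw [this]; exact Subgroup.mem_zpowers z)
  rw [top_inf_eq, Subgroup.card_top, Nat.card_zpowers, hoz] at h1
  have h2 := Subgroup.card_le_of_le hCu
  omega

theorem result {G : Type*} [Group G] [Finite G] (hna : ¬ IsMulCommutative G) (n : ℕ) (hG : Nat.card G = 2 ^ n) :
    (∀ H : Subgroup G, ¬ IsCyclic ↥H → Subgroup.centralizer (H : Set G) ≤ H) ↔ (⊤ : Subgroup G).lowerCentralSeries (n - 2) ≠ ⊥ := by
  classical
  haveI : Fact (Nat.Prime 2) := ⟨Nat.prime_two⟩
  have hGp : IsPGroup 2 G := IsPGroup.of_card hG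
  haveI : Group.IsNilpotent G := hGp.isNilpotent
  have hnc : ¬ ∀ a b : G, a * b = b * a := fun h => hna ⟨⟨h⟩⟩
  have hn3 : 3 ≤ n := by
    by_contra hlt; push_neg at hlt
    apply hnc
    interval_cases n
    · haveI : Subsingleton G := (Nat.card_eq_one_iff_unique.mp (by simpa using hG)).1
      intro a b; rw [Subsingleton.elim a b]
    · haveI := isCyclic_of_prime_card (α := G) (p := 2) (by simpa using hG)
      exact fun a b => (inferInstance : IsMulCommutative G).is_comm.comm a b
    · exact IsPGroup.commutative_of_card_eq_prime_sq (p := 2) (by simpa using hG)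
  rw [Ne, Subgroup.lowerCentralSeries_eq_bot_iff_nilpotencyClass_le]
  have hcle := MaxCl.class_le (p := 2) n G hG (by omega)
  have hc2 : 2 ≤ Group.nilpotencyClass G := by
    by_contra hlt; push_neg at hlt
    exact hnc (MaxCl.comm_of_class_le_one (by omega))
  constructor
  · intro hSC
    suffices h : Group.nilpotencyClass G = n - 1 by omega
    by_cases hNF : ∃ z u : G, (∀ g : G, g * z = z * g) ∧ z ≠ 1 ∧ z * z = 1 ∧ u * u = 1 ∧ u ≠ 1 ∧
        u ≠ z ∧ ∀ x : G, x * u * x⁻¹ = u ∨ x * u * x⁻¹ = u * z
    · obtain ⟨z, u, hzc, hz1, hz2, hu2, hu1, huz, hconj⟩ := hNF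
      have h8 := nf_small hSC z u hzc hz1 hz2 hu2 hu1 huz hconj
      rw [hG] at h8
      have hn : n = 3 := by
        by_contra hne
        have : 2 ^ 4 ≤ 2 ^ n := Nat.pow_le_pow_right (by norm_num) (by omega)
        omega
      omega
    · rcases S4477.lemmaA hGp hNF with hc | hidx
      · exfalso
        haveI := hc
        exact hnc (fun a b => (inferInstance : IsMulCommutative G).is_comm.comm a b)
      · exact MaxCl.maxclass_of_index n G (by omega) hG hidx
  · intro hcl
    have hc : Group.nilpotencyClass G = n - 1 := by omega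
    obtain ⟨a, hoa, hai, hall⟩ := MaxCl.maxclass_struct n hn3 hG hc
    obtain ⟨hZ2, -, -⟩ := MaxCl.card_center n hn3 hG hc
    haveI : Nontrivial (Subgroup.center G) := by
      rw [← Finite.one_lt_card_iff_nontrivial, hZ2]; norm_num
    obtain ⟨⟨z, hzc⟩, hz1'⟩ := exists_ne (1 : Subgroup.center G)
    have hz1 : z ≠ 1 := fun h => hz1' (Subtype.ext h)
    have hcen2 : ∀ w ∈ Subgroup.center G, w = 1 ∨ w = z :=
      fun w hw => S4399.two_elems hZ2 z hzc hz1 w hw
    have hoz : orderOf z = 2 := orderOf_eq_prime (S4399.sq_center hZ2 z hzc) hz1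
    obtain ⟨b₀, hb₀⟩ := MaxCl.exists_not_mem_of_index_two _ hai
    have ha4 : ¬ a ∈ Subgroup.center G := by
      intro h
      rcases hcen2 a h with h1 | h1
      · rw [h1, orderOf_one] at hoa
        have : 2 ^ 1 ≤ 2 ^ (n - 1) := Nat.pow_le_pow_right (by norm_num) (by omega)
        omega
      · rw [h1, hoz] at hoa
        have : 2 ^ 2 ≤ 2 ^ (n - 1) := Nat.pow_le_pow_right (by norm_num) (by omega)
        omega
    have hzA : z ∈ Subgroup.zpowers a := by
      obtain ⟨-, -, hcos, hcen⟩ := hall b₀ hb₀
      rcases hcos z with h | h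
      · exact h
      · exfalso
        apply ha4
        apply hcen a (Subgroup.mem_zpowers a)
        obtain ⟨i, hi⟩ := Subgroup.mem_zpowers_iff.1 h
        have hb : b₀ = z * (a ^ i)⁻¹ := by rw [hi]; group
        have hza : z * a = a * z := (Subgroup.mem_center_iff.mp hzc a).symm
        rw [hb]
        calc z * (a ^ i)⁻¹ * a = z * a * (a ^ i)⁻¹ := by group
          _ = a * z * (a ^ i)⁻¹ := by rw [hza]
          _ = a * (z * (a ^ i)⁻¹) := mul_assoc _ _ _
    have hzmem : ∀ h ∈ Subgroup.zpowers a, h ≠ 1 → z ∈ Subgroup.zpowers h := by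
      intro h hh hh1
      obtain ⟨e, he⟩ := UniqP.orderOf_eq_pow hGp h
      have he1 : 1 ≤ e := by
        by_contra h0
        have : e = 0 := by omega
        rw [this, pow_zero, orderOf_eq_one_iff] at he
        exact hh1 he
      obtain ⟨e', rfl⟩ : ∃ e', e = e' + 1 := ⟨e - 1, by omega⟩
      have h2 := UniqP.orderOf_pow_prime_pow_pred he
      have h3 := S4403.cyc_unique 2 (Subgroup.zpowers a) inferInstance (h ^ 2 ^ e') z
        (Subgroup.pow_mem _ hh _) hzA h2 hoz
      exact (Subgroup.zpowers_le.2 (Subgroup.pow_mem _ (Subgroup.mem_zpowers h) _)) h3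
    intro H hH
    obtain ⟨b, hbH, hbA⟩ : ∃ b ∈ H, b ∉ Subgroup.zpowers a := by
      by_contra hcon
      push_neg at hcon
      exact hH (Subgroup.isCyclic_of_le (H' := Subgroup.zpowers a) hcon)
    obtain ⟨hbb, -, hcos, hcen⟩ := hall b hbA
    have hzH : z ∈ H := by
      rcases hcen2 _ hbb with h1 | h1
      · by_contra hzH
        apply hH
        have : H = Subgroup.zpowers b := by
          apply le_antisymm
          · intro h hh
            by_cases hhA : h ∈ Subgroup.zpowers a
            · by_cases hh1 : h = 1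
              · rw [hh1]; exact Subgroup.one_mem _
              · exact absurd ((Subgroup.zpowers_le.2 hh) (hzmem h hhA hh1)) hzH
            · have h2 : b⁻¹ * h ∈ Subgroup.zpowers a := (hcos h).resolve_left hhA
              by_cases hh1 : b⁻¹ * h = 1
              · have : h = b := by
                  calc h = b * (b⁻¹ * h) := by group
                    _ = b := by rw [hh1, mul_one]
                rw [this]; exact Subgroup.mem_zpowers b
              · exfalso
                apply hzH
                exact (Subgroup.zpowers_le.2 (H.mul_mem (H.inv_mem hbH) hh)) (hzmem _ h2 hh1)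
          · exact Subgroup.zpowers_le.2 hbH
        rw [this]; infer_instance
      · rw [← h1]; exact H.mul_mem hbH hbH
    intro g hg
    rw [Subgroup.mem_centralizer_iff] at hg
    have hgb : b * g = g * b := hg b hbH
    by_cases hgA : g ∈ Subgroup.zpowers a
    · have := hcen g hgA hgb
      rcases hcen2 g this with h | h
      · rw [h]; exact H.one_mem
      · rw [h]; exact hzH
    · have h2 : b⁻¹ * g ∈ Subgroup.zpowers a := (hcos g).resolve_left hgA
      have h3 : b * (b⁻¹ * g) = (b⁻¹ * g) * b := by
        calc b * (b⁻¹ * g) = b⁻¹ * (b * g) := by group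
          _ = b⁻¹ * (g * b) := by rw [hgb]
          _ = (b⁻¹ * g) * b := by group
      have h4 := hcen _ h2 h3
      have h5 : g = b * (b⁻¹ * g) := by group
      rw [h5]
      rcases hcen2 _ h4 with h | h
      · rw [h, mul_one]; exact hbH
      · rw [h]; exact H.mul_mem hbH hzH

end Cfsg.Agent.S3919
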