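import Cfsg.Statements.S3761

import Mathlib
import Cfsg.Agent.S4399
import Cfsg.Agent.S3919
import Cfsg.Agent.S0519
import Cfsg.Agent.S0112
import Cfsg.Agent.S4126

set_option autoImplicit false
open Cfsg
open scoped Pointwise

namespace Cfsg.Agent.S3761

open Cfsg.Agent.Lib.Helper1
open scoped commutatorElement

universe u

theorem conj_iter {G : Type*} [Group G] (g x : G) (r : ℕ) (h : g * x * g⁻¹ = x ^ r) (k : ℕ) :
    g ^ k * x * (g ^ k)⁻¹ = x ^ (r ^ k) := by
  induction k with
  | zero => simp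
  | succ k ih =>
    calc g ^ (k + 1) * x * (g ^ (k + 1))⁻¹ = g * (g ^ k * x * (g ^ k)⁻¹) * g⁻¹ := by
          rw [pow_succ']; group
      _ = g * x ^ (r ^ k) * g⁻¹ := by rw [ih]
      _ = (g * x * g⁻¹) ^ (r ^ k) := by rw [conj_pow]
      _ = x ^ (r ^ (k + 1)) := by rw [h, ← pow_mul, pow_succ']

theorem dsq_of_index {G : Type*} [Group G] [Finite G] (hG : IsPGroup 2 G)
    (hnc : ¬ ∀ a b : G, a * b = b * a) (hidx : (commutator G).index = 4) :
    (∃ m : ℕ, Nonempty (G ≃* DihedralGroup m)) ∨ (∃ m : ℕ, Nonempty (G ≃* QuaternionGroup m)) ∨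
      Cfsg.IsQuasiDihedral G := by
  haveI : Fact (Nat.Prime 2) := ⟨Nat.prime_two⟩
  have hab : Nat.card (Abelianization G) = 4 := by
    rw [← hidx, Subgroup.index_eq_card]; rfl
  rcases S4399.core hG hab with h4 | h | h | h
  · exfalso
    exact hnc (IsPGroup.commutative_of_card_eq_prime_sq (p := 2) (by rw [h4]; norm_num))
  · obtain ⟨k, hk⟩ := h; exact Or.inl ⟨_, hk⟩
  · right; right
    obtain ⟨k, hk, a', b', hoa', hob', hrel⟩ := h
    exact ⟨k + 3, by omega, hk, a', b', hoa', hob', hrel⟩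
  · obtain ⟨k, hk⟩ := h; exact Or.inr (Or.inl ⟨_, hk⟩)

theorem result {G : Type*} [Group G] [Finite G] {p : ℕ} [Fact p.Prime] (hG : IsPGroup p G) (hna : ¬ IsMulCommutative G) (U : Subgroup G) [U.Normal] (hU : IsCyclic U) (n : ℕ) (hUn : Nat.card U = p ^ n) (hC : Subgroup.centralizer (U : Set G) = U) : (p = 2 ∧ Nat.card G = 2 ^ (n + 1) ∧ ((∃ m : ℕ, Nonempty (G ≃* DihedralGroup m)) ∨ (∃ m : ℕ, Nonempty (G ≃* QuaternionGroup m)) ∨ Cfsg.IsQuasiDihedral G)) ∨ (U.relIndex (Subgroup.centralizer (Cfsg.powerClosure p 1 U : Set G)) = p ∧ Cfsg.IsElementaryAbelian p (Cfsg.omegaOne p (Subgroup.centralizer (Cfsg.powerClosure p 1 U : Set G))) ∧ Nat.card ↥(Cfsg.omegaOne p (Subgroup.centralizer (Cfsg.powerClosure p 1 U : Set G))) = p ^ 2 ∧ (Cfsg.omegaOne p (Subgroup.centralizer (Cfsg.powerClosure p 1 U : Set G))).Characteristic) := by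
  classical
  have hpp : p.Prime := Fact.out
  haveI : Group.IsNilpotent G := hG.isNilpotent
  have hnc : ¬ ∀ a b : G, a * b = b * a := fun h => hna ⟨⟨h⟩⟩
  obtain ⟨u, huU, hUz⟩ : ∃ u ∈ U, U = Subgroup.zpowers u := by
    obtain ⟨g, hg⟩ := IsCyclic.exists_generator (α := U)
    refine ⟨g, g.2, ?_⟩
    apply le_antisymm
    · intro x hx
      obtain ⟨k, hk⟩ := Subgroup.mem_zpowers_iff.mp (hg ⟨x, hx⟩)
      rw [Subgroup.mem_zpowers_iff]
      refine ⟨k, ?_⟩
      have h1 := congrArg Subtype.val hk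
      simpa using h1
    · exact (Subgroup.zpowers_le).mpr g.2
  have hou : orderOf u = p ^ n := by rw [← Nat.card_zpowers, ← hUz, hUn]
  have hcent : ∀ g : G, g * u = u * g → g ∈ U := by
    intro g hg
    rw [← hC, Subgroup.mem_centralizer_iff]
    intro x hx
    have hx' : x ∈ Subgroup.zpowers u := by rw [← hUz]; exact hx
    obtain ⟨k, rfl⟩ := Subgroup.mem_zpowers_iff.mp hx'
    exact ((Commute.zpow_right (show Commute g u from hg) k).eq).symm
  have hUne : U ≠ ⊤ := by
    intro h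
    apply hnc
    intro a b
    have ha : a ∈ Subgroup.zpowers u := by rw [← hUz, h]; trivial
    have hb : b ∈ Subgroup.zpowers u := by rw [← hUz, h]; trivial
    obtain ⟨i, rfl⟩ := Subgroup.mem_zpowers_iff.mp ha
    obtain ⟨j, rfl⟩ := Subgroup.mem_zpowers_iff.mp hb
    rw [← zpow_add, ← zpow_add, add_comm]
  have hu1 : u ≠ 1 := by
    intro h
    apply hUne
    rw [eq_top_iff]; intro g _
    exact hcent g (by rw [h, mul_one, one_mul])
  have hmult : ∀ g : G, ∃ r : ℕ, 1 ≤ r ∧ g * u * g⁻¹ = u ^ r := by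
    intro g
    have h1 : g * u * g⁻¹ ∈ Subgroup.zpowers u := by
      rw [← hUz]; exact (inferInstance : U.Normal).conj_mem u huU g
    rw [← mem_powers_iff_mem_zpowers, Submonoid.mem_powers_iff] at h1
    obtain ⟨r, hr⟩ := h1
    refine ⟨r, ?_, hr.symm⟩
    by_contra h0
    have hr0 : r = 0 := by omega
    rw [hr0, pow_zero] at hr
    apply hu1
    have h2 : g * u * g⁻¹ = 1 := hr.symm
    calc u = g⁻¹ * (g * u * g⁻¹) * g := by group
      _ = 1 := by rw [h2]; group
  have hn1 : 1 ≤ n := by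
    by_contra h0
    have hn0 : n = 0 := by omega
    rw [hn0, pow_zero] at hou
    exact hu1 (orderOf_eq_one_iff.mp hou)
  have hR1 : ∀ (g : G) (r : ℕ), g * u * g⁻¹ = u ^ r → r ≡ 1 [MOD p] := by
    intro g r hr
    obtain ⟨k, hk⟩ := hG g
    have h1 := conj_iter g u r hr (p ^ k)
    rw [hk, one_mul, inv_one, mul_one] at h1
    have h2 : 1 ≡ r ^ p ^ k [MOD p ^ n] := by
      have h := pow_eq_pow_iff_modEq.mp (show u ^ 1 = u ^ (r ^ p ^ k) by rw [pow_one]; exact h1)
      rwa [hou] at h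
    have h3 : 1 ≡ r ^ p ^ k [MOD p] := h2.of_dvd (dvd_pow_self p (by omega))
    have h4 : ((r ^ p ^ k : ℕ) : ZMod p) = ((1 : ℕ) : ZMod p) :=
      ((ZMod.natCast_eq_natCast_iff _ _ _).mpr h3).symm
    rw [Nat.cast_pow, ZMod.pow_card_pow] at h4
    exact (ZMod.natCast_eq_natCast_iff _ _ _).mp h4
  have hn2 : 2 ≤ n := by
    by_contra hlt
    have hn' : n = 1 := by omega
    rw [hn', pow_one] at hou
    apply hUne
    rw [eq_top_iff]; intro g _
    apply hcent
    obtain ⟨r, hr1, hr⟩ := hmult g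
    have h1 := hR1 g r hr
    have h2 : u ^ r = u ^ 1 := pow_eq_pow_iff_modEq.mpr (by rw [hou]; exact h1)
    rw [pow_one] at h2
    calc g * u = (g * u * g⁻¹) * g := by group
      _ = u * g := by rw [hr, h2]
  obtain ⟨z, hzdef⟩ : ∃ z : G, z = u ^ (p ^ (n - 1)) := ⟨_, rfl⟩
  have hzp : z ^ p = 1 := by
    rw [hzdef, ← pow_mul, ← pow_succ, show n - 1 + 1 = n by omega, ← hou, pow_orderOf_eq_one]
  have hz1 : z ≠ 1 := by
    intro h
    rw [hzdef] at h
    have h1 := orderOf_dvd_of_pow_eq_one h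
    rw [hou] at h1
    have h2 := Nat.le_of_dvd (pow_pos hpp.pos _) h1
    have h3 : p ^ (n - 1) < p ^ n := Nat.pow_lt_pow_right hpp.one_lt (by omega)
    omega
  have hoz : orderOf z = p := orderOf_eq_prime hzp hz1
  have hzU : z ∈ U := by rw [hzdef]; exact U.pow_mem huU _
  have hzc : ∀ g : G, g * z = z * g := by
    intro g
    obtain ⟨r, hr1, hr⟩ := hmult g
    have h1 := hR1 g r hr
    have h2 : g * z * g⁻¹ = z := by
      have h3 : g * z * g⁻¹ = z ^ r := by
        rw [hzdef, ← conj_pow, hr, ← pow_mul, mul_comm r, pow_mul]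
      rw [h3]
      obtain ⟨q, hq⟩ := (Nat.modEq_iff_dvd' hr1).mp h1.symm
      have h4 : r = 1 + p * q := by omega
      rw [h4, pow_add, pow_one, pow_mul, hzp, one_pow, mul_one]
    calc g * z = (g * z * g⁻¹) * g := by group
      _ = z * g := by rw [h2]
  have hzpc : ∀ w ∈ Subgroup.zpowers z, ∀ g : G, g * w = w * g := by
    intro w hw g
    obtain ⟨k, rfl⟩ := Subgroup.mem_zpowers_iff.mp hw
    exact (Commute.zpow_right (show Commute g z from hzc g) k).eq
  have hzpp : ∀ w ∈ Subgroup.zpowers z, w ^ p = 1 := by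
    intro w hw
    obtain ⟨k, rfl⟩ := Subgroup.mem_zpowers_iff.mp hw
    rw [← zpow_natCast, ← zpow_mul, mul_comm, zpow_mul, zpow_natCast, hzp, one_zpow]
  have hL1 : ∀ v ∈ U, v ^ p = 1 → v ∈ Subgroup.zpowers z := by
    intro v hv hvp
    have hv' : v ∈ Subgroup.zpowers u := by rw [← hUz]; exact hv
    rw [← mem_powers_iff_mem_zpowers, Submonoid.mem_powers_iff] at hv'
    obtain ⟨i, rfl⟩ := hv'
    rw [← pow_mul] at hvp
    have h1 := orderOf_dvd_of_pow_eq_one hvp
    rw [hou] at h1
    have h2 : p ^ (n - 1) ∣ i := by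
      have e : p ^ n = p ^ (n - 1) * p := by rw [← pow_succ]; congr 1; omega
      rw [e] at h1
      exact Nat.dvd_of_mul_dvd_mul_right hpp.pos h1
    obtain ⟨q, rfl⟩ := h2
    rw [pow_mul, ← hzdef]
    exact Subgroup.pow_mem _ (Subgroup.mem_zpowers z) q
  obtain ⟨M, hMdef⟩ : ∃ M : Subgroup G,
      M = Subgroup.centralizer (Cfsg.powerClosure p 1 U : Set G) := ⟨_, rfl⟩
  have hM : ∀ g : G, g ∈ M ↔ g * u ^ p = u ^ p * g := by
    intro g
    rw [hMdef, Subgroup.mem_centralizer_iff]
    constructor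
    · intro h
      have h1 : u ^ p ∈ Cfsg.powerClosure p 1 U :=
        Subgroup.subset_closure ⟨u, huU, by rw [pow_one]⟩
      exact (h _ h1).symm
    · intro h x hx
      have hle : Cfsg.powerClosure p 1 U ≤ Subgroup.centralizer ({g} : Set G) := by
        unfold Cfsg.powerClosure
        rw [Subgroup.closure_le]
        rintro y ⟨x', hx', rfl⟩
        rw [SetLike.mem_coe, Subgroup.mem_centralizer_singleton_iff, pow_one]
        have hx'' : x' ∈ Subgroup.zpowers u := by rw [← hUz]; exact hx'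
        obtain ⟨k, rfl⟩ := Subgroup.mem_zpowers_iff.mp hx''
        have e : (u ^ k) ^ p = (u ^ p) ^ k := by
          rw [← zpow_natCast, ← zpow_mul, mul_comm, zpow_mul, zpow_natCast]
        rw [e]
        exact ((Commute.zpow_right (show Commute g (u ^ p) from h) k).eq).symm
      exact Subgroup.mem_centralizer_singleton_iff.mp (hle hx)
  have hUM : U ≤ M := by
    intro x hx
    rw [hM]
    have hx' : x ∈ Subgroup.zpowers u := by rw [← hUz]; exact hx
    obtain ⟨k, rfl⟩ := Subgroup.mem_zpowers_iff.mp hx'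
    exact (Commute.zpow_left (Commute.pow_right (Commute.refl u) p) k).eq
  have hF4 : ∀ g ∈ M, ∀ v ∈ U, g * v * g⁻¹ * v⁻¹ ∈ Subgroup.zpowers z := by
    intro g hg v hv
    obtain ⟨r, hr1, hr⟩ := hmult g
    have h1 : u ^ (r * p) = u ^ (1 * p) := by
      rw [one_mul, pow_mul, ← hr, conj_pow, (hM g).mp hg]; group
    have h2 : r * p ≡ 1 * p [MOD p ^ (n - 1) * p] := by
      have h := pow_eq_pow_iff_modEq.mp h1
      rw [hou] at h
      have e : p ^ (n - 1) * p = p ^ n := by rw [← pow_succ]; congr 1; omega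
      rw [e]; exact h
    have h3 : r ≡ 1 [MOD p ^ (n - 1)] := Nat.ModEq.mul_right_cancel' hpp.ne_zero h2
    obtain ⟨j, hj⟩ := (Nat.modEq_iff_dvd' hr1).mp h3.symm
    have hc : g * u * g⁻¹ * u⁻¹ = z ^ j := by
      rw [hr, hzdef, ← pow_mul, ← hj, pow_sub u hr1, pow_one]
    have hv' : v ∈ Subgroup.zpowers u := by rw [← hUz]; exact hv
    obtain ⟨k, rfl⟩ := Subgroup.mem_zpowers_iff.mp hv'
    have h4 : g * u ^ k * g⁻¹ = (z ^ j * u) ^ k := by
      rw [← hc]
      have h5 : g * u * g⁻¹ * u⁻¹ * u = g * u * g⁻¹ := by group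
      rw [h5, conj_zpow]
    have h5 : (z ^ j * u) ^ k = (z ^ j) ^ k * u ^ k :=
      Commute.mul_zpow ((commute_iff_eq _ _).mpr
        (hzpc _ (Subgroup.pow_mem _ (Subgroup.mem_zpowers z) j) u).symm) k
    rw [h4, h5, mul_inv_cancel_right]
    exact Subgroup.zpow_mem _ (Subgroup.pow_mem _ (Subgroup.mem_zpowers z) j) k
  have hMcard : Nat.card M ≤ p * Nat.card U := by
    have h1 := S0112.card_le_of_comm_mem M (Subgroup.zpowers z) u (by
      intro g hg
      rw [commutatorElement_def]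
      exact hF4 g hg u huU)
    rw [Nat.card_zpowers, hoz] at h1
    have h2 : Nat.card (M ⊓ Subgroup.centralizer ({u} : Set G) : Subgroup G) ≤ Nat.card U := by
      apply Subgroup.card_le_of_le
      intro x hx
      have h3 := (Subgroup.mem_inf.mp hx).2
      rw [Subgroup.mem_centralizer_singleton_iff] at h3
      exact hcent x h3
    calc Nat.card M ≤ p * Nat.card (M ⊓ Subgroup.centralizer ({u} : Set G) : Subgroup G) := h1
      _ ≤ p * Nat.card U := Nat.mul_le_mul_left p h2
  by_cases hMU : M = U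
  · left
    have hp2 : p = 2 := by
      rcases hpp.eq_two_or_odd' with hp2 | hodd
      · exact hp2
      exfalso
      obtain ⟨g, hg⟩ : ∃ g, g ∉ U := by
        by_contra h; push_neg at h
        exact hUne (eq_top_iff.mpr (fun x _ => h x))
      obtain ⟨j, hj1, hj2⟩ := UniqP.exists_pow_mem hG U g hg
      obtain ⟨g', hg'def⟩ : ∃ g' : G, g' = g ^ p ^ j := ⟨_, rfl⟩
      rw [← hg'def] at hj1
      have hg'p : g' ^ p ∈ U := by rw [hg'def, ← pow_mul, ← pow_succ]; exact hj2
      obtain ⟨r, hr1, hr⟩ := hmult g'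
      have h1 := conj_iter g' u r hr p
      have h2 : g' ^ p * u * (g' ^ p)⁻¹ = u := by
        have h3 : g' ^ p ∈ Subgroup.zpowers u := by rw [← hUz]; exact hg'p
        obtain ⟨k, hk⟩ := Subgroup.mem_zpowers_iff.mp h3
        rw [← hk, (Commute.zpow_left (Commute.refl u) k).eq, mul_inv_cancel_right]
      rw [h2] at h1
      have h4 : 1 ≡ r ^ p [MOD p ^ n] := by
        have h := pow_eq_pow_iff_modEq.mp (show u ^ 1 = u ^ (r ^ p) by rw [pow_one]; exact h1)
        rwa [hou] at h
      have hr2 : 2 ≤ r := by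
        by_contra hlt
        have hr' : r = 1 := by omega
        rw [hr', pow_one] at hr
        apply hj1; apply hcent
        calc g' * u = (g' * u * g'⁻¹) * g' := by group
          _ = u * g' := by rw [hr]
      have h5 : p ^ n ∣ r ^ p - 1 := (Nat.modEq_iff_dvd' (Nat.one_le_pow _ _ (by omega))).mp h4
      obtain ⟨-, h6⟩ := S0519.lte_odd p hodd r n hr2 hn1 h5
      apply hj1
      rw [← hMU, hM]
      have h7 : g' * u ^ p * g'⁻¹ = u ^ p := by
        rw [← conj_pow, hr, ← pow_mul]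
        obtain ⟨q, hq⟩ := h6
        have h8 : r * p = p + p ^ n * q := by
          have h9 : r = 1 + p ^ (n - 1) * q := by omega
          have e : p ^ n = p ^ (n - 1) * p := by rw [← pow_succ]; congr 1; omega
          rw [h9, e]; ring
        rw [h8, pow_add, pow_mul, ← hou, pow_orderOf_eq_one, one_pow, mul_one]
      calc g' * u ^ p = (g' * u ^ p * g'⁻¹) * g' := by group
        _ = u ^ p * g' := by rw [h7]
    subst hp2
    have hn3 : 3 ≤ n := by
      by_contra hlt
      have hn2' : n = 2 := by omega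
      apply hUne
      rw [← hMU, eq_top_iff]
      intro g _
      rw [hM]
      have h1 : u ^ 2 = z := by rw [hzdef, hn2']; norm_num
      rw [h1]; exact hzc g
    have hNF : ¬ ∃ z' u' : G, (∀ g : G, g * z' = z' * g) ∧ z' ≠ 1 ∧ z' * z' = 1 ∧ u' * u' = 1 ∧
        u' ≠ 1 ∧ u' ≠ z' ∧ ∀ x : G, x * u' * x⁻¹ = u' ∨ x * u' * x⁻¹ = u' * z' := by
      rintro ⟨z', u', hz'c, hz'1, hz'2, hu'2, hu'1, hu'z, hconj⟩
      have hz'U : z' ∈ U := hcent z' (hz'c u).symm
      have hu'U : u' ∈ U := by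
        rw [← hMU, hM]
        rcases hconj u with h | h
        · have h1 : u * u' = u' * u := by
            calc u * u' = (u * u' * u⁻¹) * u := by group
              _ = u' * u := by rw [h]
          exact ((Commute.pow_left (show Commute u u' from h1) 2).eq).symm
        · symm
          calc u ^ 2 * u' = u * (u * u' * u⁻¹) * u := by rw [pow_two]; group
            _ = u * (u' * z') * u := by rw [h]
            _ = (u * u' * u⁻¹) * (u * z') * u := by group
            _ = (u' * z') * (z' * u) * u := by rw [h, hz'c u]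
            _ = u' * (z' * z') * u ^ 2 := by rw [pow_two]; group
            _ = u' * u ^ 2 := by rw [hz'2, mul_one]
      have ho1 : orderOf z' = 2 := orderOf_eq_prime (by rw [pow_two]; exact hz'2) hz'1
      have ho2 : orderOf u' = 2 := orderOf_eq_prime (by rw [pow_two]; exact hu'2) hu'1
      have h1 := S4403.cyc_unique 2 U hU z' u' hz'U hu'U ho1 ho2
      obtain ⟨k, hk⟩ := Subgroup.mem_zpowers_iff.mp h1
      rcases Int.even_or_odd' k with ⟨m, rfl | rfl⟩
      · apply hu'1; rw [← hk, zpow_mul, zpow_two, hz'2, one_zpow]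
      · apply hu'z; rw [← hk, zpow_add, zpow_mul, zpow_two, hz'2, one_zpow, one_mul, zpow_one]
    rcases S4477.lemmaA hG hNF with hc | hidx
    · exfalso
      haveI := hc
      exact hnc (fun a b => (inferInstance : IsMulCommutative G).is_comm.comm a b)
    obtain ⟨m, hm⟩ := IsPGroup.iff_card.mp hG
    have hm3 : 3 ≤ m := by
      by_contra hlt; push_neg at hlt
      apply hnc
      interval_cases m
      · haveI : Subsingleton G := (Nat.card_eq_one_iff_unique.mp (by simpa using hm)).1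
        intro a b; rw [Subsingleton.elim a b]
      · haveI := isCyclic_of_prime_card (α := G) (p := 2) (by simpa using hm)
        exact fun a b => (inferInstance : IsMulCommutative G).is_comm.comm a b
      · exact IsPGroup.commutative_of_card_eq_prime_sq (p := 2) (by simpa using hm)
    have hcl := MaxCl.maxclass_of_index m G (by omega) hm hidx
    obtain ⟨a, hoa, hai, hall⟩ := MaxCl.maxclass_struct m hm3 hm hcl
    obtain ⟨hZ2, -, -⟩ := MaxCl.card_center m hm3 hm hcl
    have hua : u ∈ Subgroup.zpowers a := by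
      by_contra hnot
      obtain ⟨hbb, -, -, -⟩ := hall u hnot
      have h4 := S4399.sq_center hZ2 _ hbb
      have h5 : u ^ 4 = 1 := by
        have e : u ^ 4 = (u * u) ^ 2 := by rw [← pow_two, ← pow_mul]
        rw [e]; exact h4
      have hd := orderOf_dvd_of_pow_eq_one h5
      rw [hou] at hd
      have h6 : 2 ^ n ≤ 4 := Nat.le_of_dvd (by norm_num) hd
      have h7 : 2 ^ 3 ≤ 2 ^ n := Nat.pow_le_pow_right (by norm_num) hn3
      omega
    have haU : a ∈ U := by
      apply hcent
      obtain ⟨k, hk⟩ := Subgroup.mem_zpowers_iff.mp hua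
      rw [← hk]
      exact ((Commute.zpow_right (Commute.refl a) k).eq)
    have hcardU : Nat.card U = 2 ^ (m - 1) := by
      have h1 : Subgroup.zpowers a ≤ U := (Subgroup.zpowers_le).mpr haU
      have h2 : U ≤ Subgroup.zpowers a := by rw [hUz]; exact (Subgroup.zpowers_le).mpr hua
      rw [le_antisymm h2 h1, Nat.card_zpowers, hoa]
    have hnm : n = m - 1 := Nat.pow_right_injective (le_refl 2) (hUn.symm.trans hcardU)
    refine ⟨rfl, ?_, dsq_of_index hG hnc hidx⟩
    rw [hm]; congr 1; omega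
  have hMcard' : Nat.card M = p * Nat.card U := by
    have hlt : Nat.card U < Nat.card M := by
      by_contra hle; push_neg at hle
      exact hMU (Subgroup.eq_of_le_of_card_ge hUM hle).symm
    obtain ⟨a, ha⟩ := (IsPGroup.iff_card.mp (hG.to_subgroup M))
    rw [hUn] at hlt hMcard ⊢
    rw [ha] at hlt hMcard ⊢
    have h1 : n < a := (Nat.pow_lt_pow_iff_right hpp.one_lt).mp hlt
    have h2 : a ≤ n + 1 := by
      have h3 : p ^ a ≤ p ^ (n + 1) := by rw [pow_succ, mul_comm]; exact hMcard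
      exact (Nat.pow_le_pow_iff_right hpp.one_lt).mp h3
    have h4 : a = n + 1 := by omega
    rw [h4, pow_succ, mul_comm]
  obtain ⟨g, hgM, hgU⟩ : ∃ g ∈ M, g ∉ U := by
    by_contra h; push_neg at h
    exact hMU (le_antisymm h hUM)
  by_cases hspecial : p = 2 ∧ n = 2
  · obtain ⟨hp2, hn2'⟩ := hspecial
    subst hp2; subst hn2'
    left
    have hMtop : M = ⊤ := by
      rw [eq_top_iff]; intro g' _
      rw [hM]
      have h1 : u ^ 2 = z := by rw [hzdef]; norm_num
      rw [h1]; exact hzc g'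
    have hG8 : Nat.card G = 2 ^ 3 := by
      rw [← Subgroup.card_top (G := G), ← hMtop, hMcard', hUn]; norm_num
    have hcle := MaxCl.class_le (p := 2) 3 G hG8 (by norm_num)
    have hc : Group.nilpotencyClass G = 3 - 1 := by
      have h2 : 2 ≤ Group.nilpotencyClass G := by
        by_contra hlt; push_neg at hlt
        exact hnc (MaxCl.comm_of_class_le_one (by omega))
      omega
    have hidx := MaxCl.index_commutator_of_maxclass 3 G (by norm_num) hG8 hc
    exact ⟨rfl, hG8, dsq_of_index hG hnc hidx⟩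
  right
  have hn3 : p = 2 → 3 ≤ n := by
    intro h; by_contra hlt; exact hspecial ⟨h, by omega⟩
  have hMconj : ∀ m ∈ M, ∀ g' : G, g' * m * g'⁻¹ ∈ M := by
    intro m hm g'
    rw [hM]
    obtain ⟨s, -, hs⟩ := hmult g'⁻¹
    rw [inv_inv] at hs
    have h1 : g'⁻¹ * u ^ p * g' = (u ^ p) ^ s := by
      have h0 : g'⁻¹ * u ^ p * g' = (g'⁻¹ * u * g') ^ p := by
        have h := conj_pow (a := g'⁻¹) (b := u) (i := p)
        rw [inv_inv] at h
        exact h.symm
      rw [h0, hs, ← pow_mul, ← pow_mul, mul_comm]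
    have h2 : m * (u ^ p) ^ s = (u ^ p) ^ s * m :=
      (Commute.pow_right (show Commute m (u ^ p) from (hM m).mp hm) s).eq
    calc g' * m * g'⁻¹ * u ^ p = g' * (m * (g'⁻¹ * u ^ p * g')) * g'⁻¹ := by group
      _ = g' * (m * (u ^ p) ^ s) * g'⁻¹ := by rw [h1]
      _ = g' * ((u ^ p) ^ s * m) * g'⁻¹ := by rw [h2]
      _ = g' * ((g'⁻¹ * u ^ p * g') * m) * g'⁻¹ := by rw [h1]
      _ = u ^ p * (g' * m * g'⁻¹) := by group
  obtain ⟨t, htM, htU, htp⟩ : ∃ t ∈ M, t ∉ U ∧ t ^ p = 1 := by
    rcases hpp.eq_two_or_odd' with hp2 | hodd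
    · subst hp2
      have hn3' := hn3 rfl
      have hMp : IsPGroup 2 ↥M := hG.to_subgroup M
      have hMc : Nat.card ↥M = 2 ^ (n + 1) := by rw [hMcard', hUn, pow_succ, mul_comm]
      have hMnc : ¬ ∀ a b : ↥M, a * b = b * a := by
        intro h
        apply hgU
        apply hcent
        exact congrArg Subtype.val (h ⟨g, hgM⟩ ⟨u, hUM huU⟩)
      have hNF : ∃ z' u' : ↥M, (∀ g : ↥M, g * z' = z' * g) ∧ z' ≠ 1 ∧ z' * z' = 1 ∧
          u' * u' = 1 ∧ u' ≠ 1 ∧ u' ≠ z' ∧
          ∀ x : ↥M, x * u' * x⁻¹ = u' ∨ x * u' * x⁻¹ = u' * z' := by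
        by_contra hNF
        rcases S4477.lemmaA hMp hNF with hc | hidx
        · haveI := hc
          exact hMnc (fun a b => (inferInstance : IsMulCommutative ↥M).is_comm.comm a b)
        · have hcl := MaxCl.maxclass_of_index (n + 1) ↥M (by omega) hMc hidx
          obtain ⟨hZ2, -, -⟩ := MaxCl.card_center (n + 1) (by omega) hMc hcl
          have hzcen : (⟨z, hUM hzU⟩ : ↥M) ∈ Subgroup.center ↥M := by
            rw [Subgroup.mem_center_iff]; intro m; exact Subtype.ext (hzc m)
          have hu2cen : (⟨u ^ 2, hUM (U.pow_mem huU 2)⟩ : ↥M) ∈ Subgroup.center ↥M := by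
            rw [Subgroup.mem_center_iff]; intro m; exact Subtype.ext ((hM m).mp m.2)
          rcases S4399.two_elems hZ2 ⟨z, hUM hzU⟩ hzcen
            (fun h => hz1 (congrArg Subtype.val h)) _ hu2cen with h | h
          · have h' : u ^ 2 = 1 := congrArg Subtype.val h
            have h1 := orderOf_dvd_of_pow_eq_one h'
            rw [hou] at h1
            have h2 := Nat.le_of_dvd (by norm_num) h1
            have h3 : 2 ^ 3 ≤ 2 ^ n := Nat.pow_le_pow_right (by norm_num) hn3'
            omega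
          · have h' : u ^ 2 = z := congrArg Subtype.val h
            rw [hzdef] at h'
            have h1 := pow_eq_pow_iff_modEq.mp h'
            rw [hou] at h1
            have h2 : 2 % 2 ^ n = 2 ^ (n - 1) % 2 ^ n := h1
            have h3 : 2 ^ (n - 1) < 2 ^ n := Nat.pow_lt_pow_right (by norm_num) (by omega)
            have h4 : 2 ^ 2 ≤ 2 ^ (n - 1) := Nat.pow_le_pow_right (by norm_num) (by omega)
            rw [Nat.mod_eq_of_lt h3, Nat.mod_eq_of_lt (by omega)] at h2
            omega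
      obtain ⟨z', u', hz'c, hz'1, hz'2, hu'2, hu'1, hu'z, -⟩ := hNF
      have hz'2G : (z' : G) * (z' : G) = 1 := congrArg Subtype.val hz'2
      have hu'2G : (u' : G) * (u' : G) = 1 := congrArg Subtype.val hu'2
      by_cases hz'U : (z' : G) ∈ U
      · by_cases hu'U : (u' : G) ∈ U
        · exfalso
          have ho1 : orderOf (z' : G) = 2 :=
            orderOf_eq_prime (by rw [pow_two]; exact hz'2G) (fun h => hz'1 (Subtype.ext h))
          have ho2 : orderOf (u' : G) = 2 :=
            orderOf_eq_prime (by rw [pow_two]; exact hu'2G) (fun h => hu'1 (Subtype.ext h))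
          have h1 := S4403.cyc_unique 2 U hU (z' : G) (u' : G) hz'U hu'U ho1 ho2
          obtain ⟨k, hk⟩ := Subgroup.mem_zpowers_iff.mp h1
          rcases Int.even_or_odd' k with ⟨m, rfl | rfl⟩
          · have h2 : (u' : G) = 1 := by rw [← hk, zpow_mul, zpow_two, hz'2G, one_zpow]
            exact hu'1 (Subtype.ext h2)
          · have h2 : (u' : G) = (z' : G) := by
              rw [← hk, zpow_add, zpow_mul, zpow_two, hz'2G, one_zpow, one_mul, zpow_one]
            exact hu'z (Subtype.ext h2)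
        · exact ⟨u', u'.2, hu'U, by rw [pow_two]; exact hu'2G⟩
      · exact ⟨z', z'.2, hz'U, by rw [pow_two]; exact hz'2G⟩
    · obtain ⟨c, hcdef⟩ : ∃ c : G, c = g * u * g⁻¹ * u⁻¹ := ⟨_, rfl⟩
      have hcz : c ∈ Subgroup.zpowers z := by rw [hcdef]; exact hF4 g hgM u huU
      have hcp : c ^ p = 1 := hzpp c hcz
      have hc1 : c ≠ 1 := by
        intro h
        apply hgU; apply hcent
        calc g * u = (g * u * g⁻¹ * u⁻¹) * u * g := by group
          _ = u * g := by rw [← hcdef, h, one_mul]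
      have hgu : g * u = c * u * g := by rw [hcdef]; group
      have h1 := S4126.pow_mul_c2 u g c hgu ((commute_iff_eq _ _).mpr (hzpc c hcz g).symm) p
      rw [hcp, one_mul] at h1
      have hgpU : g ^ p ∈ U := hcent _ h1
      have hgpU' : g ^ p ∈ Subgroup.zpowers u := by rw [← hUz]; exact hgpU
      rw [← mem_powers_iff_mem_zpowers, Submonoid.mem_powers_iff] at hgpU'
      obtain ⟨e, he⟩ := hgpU'
      have hpe : p ∣ e := by
        have h2 : g * u ^ e * g⁻¹ = u ^ e := by rw [he]; group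
        have h3 : g * u ^ e * g⁻¹ = c ^ e * u ^ e := by
          rw [← conj_pow]
          have h0 : g * u * g⁻¹ = c * u := by rw [hcdef]; group
          rw [h0]
          exact Commute.mul_pow ((commute_iff_eq _ _).mpr (hzpc c hcz u).symm) e
        have h4 : c ^ e = 1 := by
          have h5 : c ^ e * u ^ e = 1 * u ^ e := by rw [one_mul, ← h3, h2]
          exact mul_right_cancel h5
        have h5 := orderOf_dvd_of_pow_eq_one h4
        rwa [orderOf_eq_prime hcp hc1] at h5
      obtain ⟨e', rfl⟩ := hpe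
      refine ⟨(u ^ e')⁻¹ * g, M.mul_mem (M.inv_mem (hUM (U.pow_mem huU e'))) hgM, ?_, ?_⟩
      · intro h
        apply hgU
        have h2 := U.mul_mem (U.pow_mem huU e') h
        rwa [mul_inv_cancel_left] at h2
      · obtain ⟨c', hc'def⟩ : ∃ c' : G, c' = g * (u ^ e')⁻¹ * g⁻¹ * ((u ^ e')⁻¹)⁻¹ := ⟨_, rfl⟩
        have hc'z : c' ∈ Subgroup.zpowers z := by
          rw [hc'def]; exact hF4 g hgM _ (U.inv_mem (U.pow_mem huU e'))
        have hyx : g * (u ^ e')⁻¹ = c' * (u ^ e')⁻¹ * g := by rw [hc'def]; group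
        have h6 := S4126.mul_pow_c2 (u ^ e')⁻¹ g c' hyx
          ((commute_iff_eq _ _).mpr (hzpc c' hc'z _).symm)
          ((commute_iff_eq _ _).mpr (hzpc c' hc'z g).symm) p
        rw [h6]
        have hdvd : p ∣ p.choose 2 := hpp.dvd_choose_self (by norm_num) (by
          have h7 := hpp.two_le
          rcases hodd with ⟨q, hq⟩
          omega)
        obtain ⟨q, hq⟩ := hdvd
        rw [hq, pow_mul, hzpp c' hc'z, one_pow, one_mul, ← he, inv_pow, ← pow_mul, mul_comm e' p]
        exact inv_mul_cancel _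
  have ht1 : t ≠ 1 := fun h => htU (by rw [h]; exact U.one_mem)
  have hot : orderOf t = p := orderOf_eq_prime htp ht1
  have hsup : U ⊔ Subgroup.zpowers t = M := by
    have hle : U ⊔ Subgroup.zpowers t ≤ M := sup_le hUM ((Subgroup.zpowers_le).mpr htM)
    apply Subgroup.eq_of_le_of_card_ge hle
    have h2 : Nat.card U < Nat.card (U ⊔ Subgroup.zpowers t : Subgroup G) := by
      by_contra hle'; push_neg at hle'
      have h3 := Subgroup.eq_of_le_of_card_ge (le_sup_left : U ≤ U ⊔ Subgroup.zpowers t) hle'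
      apply htU
      rw [h3]
      exact Subgroup.mem_sup_right (Subgroup.mem_zpowers t)
    obtain ⟨q, hq⟩ := Subgroup.card_dvd_of_le (le_sup_left : U ≤ U ⊔ Subgroup.zpowers t)
    have h4 := Subgroup.card_dvd_of_le hle
    rw [hMcard', hq, mul_comm p] at h4
    have h5 : q ∣ p := Nat.dvd_of_mul_dvd_mul_left Nat.card_pos h4
    rcases (Nat.dvd_prime hpp).mp h5 with h6 | h6
    · rw [hq, h6, mul_one] at h2; omega
    · rw [hMcard', hq, h6, mul_comm]
  have hdec : ∀ x ∈ M, ∃ v ∈ U, ∃ w ∈ Subgroup.zpowers t, x = v * w := by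
    intro x hx
    rw [← hsup] at hx
    have h1 : x ∈ ((U ⊔ Subgroup.zpowers t : Subgroup G) : Set G) := hx
    rw [Subgroup.normal_mul, Set.mem_mul] at h1
    obtain ⟨v, hv, w, hw, rfl⟩ := h1
    exact ⟨v, hv, w, hw, rfl⟩
  obtain ⟨E, hEdef⟩ : ∃ E : Subgroup G, E = Subgroup.zpowers z ⊔ Subgroup.zpowers t := ⟨_, rfl⟩
  haveI hzn : (Subgroup.zpowers z).Normal := ⟨fun w hw g' => by
    have h1 := hzpc w hw g'
    have e : g' * w * g'⁻¹ = w := by rw [h1]; group
    rw [e]; exact hw⟩
  have hEdec : ∀ x ∈ E, ∃ a ∈ Subgroup.zpowers z, ∃ b ∈ Subgroup.zpowers t, x = a * b := by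
    intro x hx
    rw [hEdef] at hx
    have h1 : x ∈ ((Subgroup.zpowers z ⊔ Subgroup.zpowers t : Subgroup G) : Set G) := hx
    rw [Subgroup.normal_mul, Set.mem_mul] at h1
    obtain ⟨a, ha, b, hb, rfl⟩ := h1
    exact ⟨a, ha, b, hb, rfl⟩
  have htpp : ∀ w ∈ Subgroup.zpowers t, w ^ p = 1 := by
    intro w hw
    obtain ⟨k, rfl⟩ := Subgroup.mem_zpowers_iff.mp hw
    rw [← zpow_natCast, ← zpow_mul, mul_comm, zpow_mul, zpow_natCast, htp, one_zpow]
  have hEp : ∀ x ∈ E, x ^ p = 1 := by
    intro x hx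
    obtain ⟨a, ha, b, hb, rfl⟩ := hEdec x hx
    rw [Commute.mul_pow ((commute_iff_eq _ _).mpr (hzpc a ha b).symm), hzpp a ha, htpp b hb,
      one_mul]
  have hEM : E ≤ M := by
    rw [hEdef]
    exact sup_le ((Subgroup.zpowers_le).mpr (hUM hzU)) ((Subgroup.zpowers_le).mpr htM)
  have hEcomm : ∀ x ∈ E, ∀ y ∈ E, x * y = y * x := by
    intro x hx y hy
    obtain ⟨a, ha, b, hb, rfl⟩ := hEdec x hx
    obtain ⟨a', ha', b', hb', rfl⟩ := hEdec y hy
    obtain ⟨k, rfl⟩ := Subgroup.mem_zpowers_iff.mp hb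
    obtain ⟨l, rfl⟩ := Subgroup.mem_zpowers_iff.mp hb'
    have h1 : t ^ k * t ^ l = t ^ l * t ^ k := by rw [← zpow_add, ← zpow_add, add_comm]
    calc a * t ^ k * (a' * t ^ l) = a * (t ^ k * a') * t ^ l := by group
      _ = a * (a' * t ^ k) * t ^ l := by rw [hzpc a' ha' (t ^ k)]
      _ = a * a' * (t ^ k * t ^ l) := by group
      _ = a * a' * (t ^ l * t ^ k) := by rw [h1]
      _ = a' * a * (t ^ l * t ^ k) := by rw [hzpc a' ha' a]
      _ = a' * (a * t ^ l) * t ^ k := by group
      _ = a' * (t ^ l * a) * t ^ k := by rw [← hzpc a ha (t ^ l)]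
      _ = a' * t ^ l * (a * t ^ k) := by group
  have hinf : Subgroup.zpowers z ⊓ Subgroup.zpowers t = ⊥ := by
    have h1 : Nat.card (Subgroup.zpowers z ⊓ Subgroup.zpowers t : Subgroup G) ∣ p := by
      have h0 := Subgroup.card_dvd_of_le
        (inf_le_right : Subgroup.zpowers z ⊓ Subgroup.zpowers t ≤ Subgroup.zpowers t)
      rwa [Nat.card_zpowers, hot] at h0
    rcases (Nat.dvd_prime hpp).mp h1 with h | h
    · exact Subgroup.card_eq_one.mp h
    · exfalso
      have h2 : Subgroup.zpowers z ⊓ Subgroup.zpowers t = Subgroup.zpowers t :=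
        Subgroup.eq_of_le_of_card_ge inf_le_right (by rw [h, Nat.card_zpowers, hot])
      have h3 : t ∈ Subgroup.zpowers z := by
        have h4 : t ∈ Subgroup.zpowers z ⊓ Subgroup.zpowers t := by
          rw [h2]; exact Subgroup.mem_zpowers t
        exact (Subgroup.mem_inf.mp h4).1
      exact htU ((Subgroup.zpowers_le.mpr hzU) h3)
  have hEcard : Nat.card E = p ^ 2 := by
    have h1 := Subgroup.relIndex_mul_relIndex ⊥ (Subgroup.zpowers z)
      (Subgroup.zpowers z ⊔ Subgroup.zpowers t) bot_le le_sup_left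
    rw [Subgroup.relIndex_bot_left, Subgroup.relIndex_bot_left, Subgroup.relIndex_sup_left,
      ← Subgroup.inf_relIndex_right, hinf, Subgroup.relIndex_bot_left, Nat.card_zpowers,
      Nat.card_zpowers, hoz, hot] at h1
    rw [hEdef, ← h1, pow_two]
  have hOm : Cfsg.omegaOne p M = E := by
    apply le_antisymm
    · unfold Cfsg.omegaOne
      rw [Subgroup.closure_le]
      rintro x ⟨hxM, hxp⟩
      obtain ⟨v, hv, w, hw, rfl⟩ := hdec x hxM
      have hwE : w ∈ E := by rw [hEdef]; exact Subgroup.mem_sup_right hw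
      suffices hvz : v ∈ Subgroup.zpowers z by
        exact E.mul_mem (by rw [hEdef]; exact Subgroup.mem_sup_left hvz) hwE
      have hwM : w ∈ M := (Subgroup.zpowers_le.mpr htM) hw
      obtain ⟨c2, hc2def⟩ : ∃ c2 : G, c2 = w * v * w⁻¹ * v⁻¹ := ⟨_, rfl⟩
      have hc2z : c2 ∈ Subgroup.zpowers z := by rw [hc2def]; exact hF4 w hwM v hv
      have hyx : w * v = c2 * v * w := by rw [hc2def]; group
      have h6 := S4126.mul_pow_c2 v w c2 hyx
        ((commute_iff_eq _ _).mpr (hzpc c2 hc2z v).symm)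
        ((commute_iff_eq _ _).mpr (hzpc c2 hc2z w).symm) p
      rw [hxp, htpp w hw, mul_one] at h6
      rcases hpp.eq_two_or_odd' with hp2 | hodd
      · subst hp2
        have hn3' := hn3 rfl
        rw [show Nat.choose 2 2 = 1 from rfl, pow_one] at h6
        have hv2 : v ^ 2 = c2⁻¹ := eq_inv_of_mul_eq_one_right h6.symm
        have hv4 : v ^ 4 = 1 := by
          have h7 : (v ^ 2) ^ 2 = 1 := by
            rw [hv2, inv_pow, hzpp c2 hc2z, inv_one]
          rwa [← pow_mul] at h7
        have hvw : w * v = v * w := by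
          have hv' : v ∈ Subgroup.zpowers u := by rw [← hUz]; exact hv
          rw [← mem_powers_iff_mem_zpowers, Submonoid.mem_powers_iff] at hv'
          obtain ⟨i, rfl⟩ := hv'
          rw [← pow_mul] at hv4
          have h1 := orderOf_dvd_of_pow_eq_one hv4
          rw [hou] at h1
          have h2 : 2 ∣ i := by
            have e : 2 ^ n = 2 ^ (n - 2) * 4 := by
              rw [show (4 : ℕ) = 2 ^ 2 by norm_num, ← pow_add]; congr 1; omega
            rw [e] at h1
            have h3 : 2 ^ (n - 2) ∣ i := Nat.dvd_of_mul_dvd_mul_right (by norm_num) h1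
            exact dvd_trans (dvd_pow_self 2 (by omega)) h3
          obtain ⟨i', rfl⟩ := h2
          rw [pow_mul]
          exact (Commute.pow_right (show Commute w (u ^ 2) from (hM w).mp hwM) i').eq
        have hc21 : c2 = 1 := by rw [hc2def, hvw]; group
        rw [hc21, inv_one] at hv2
        exact hL1 v hv hv2
      · have hdvd : p ∣ p.choose 2 := hpp.dvd_choose_self (by norm_num) (by
          have h7 := hpp.two_le
          rcases hodd with ⟨q, hq⟩
          omega)
        obtain ⟨q, hq⟩ := hdvd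
        rw [hq, pow_mul, hzpp c2 hc2z, one_pow, one_mul] at h6
        exact hL1 v hv h6.symm
    · rw [hEdef]
      apply sup_le
      · rw [Subgroup.zpowers_le]; exact Subgroup.subset_closure ⟨hUM hzU, hzp⟩
      · rw [Subgroup.zpowers_le]; exact Subgroup.subset_closure ⟨htM, htp⟩
  rw [← hMdef, hOm]
  refine ⟨?_, ⟨⟨⟨fun a b => Subtype.ext (hEcomm a a.2 b b.2)⟩⟩, hEp⟩, hEcard, ?_⟩
  · have h1 := Subgroup.relIndex_mul_relIndex ⊥ U M bot_le hUM
    rw [Subgroup.relIndex_bot_left, Subgroup.relIndex_bot_left, hMcard', mul_comm] at h1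
    exact Nat.eq_of_mul_eq_mul_right Nat.card_pos h1
  · rw [Subgroup.characteristic_iff_map_le]
    intro φ a ha
    obtain ⟨e, he, hea⟩ := ha
    have hea' : a = φ e := hea.symm
    subst hea'
    have hEn : ∀ x ∈ E, ∀ g' : G, g' * x * g'⁻¹ ∈ E := by
      intro x hx g'
      rw [← hOm]
      apply Subgroup.subset_closure
      refine ⟨hMconj x (hEM hx) g', ?_⟩
      rw [conj_pow, hEp x hx]; group
    have hφE : ∀ x ∈ E, (φ x) ^ p = 1 := fun x hx => by rw [← map_pow, hEp x hx, map_one]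
    rw [← hOm]
    apply Subgroup.subset_closure
    refine ⟨?_, hφE e he⟩
    rw [hM]
    obtain ⟨c3, hc3def⟩ : ∃ c3 : G, c3 = u * φ e * u⁻¹ * (φ e)⁻¹ := ⟨_, rfl⟩
    have hc3U : c3 ∈ U := by
      rw [hc3def]
      have h0 : u * φ e * u⁻¹ * (φ e)⁻¹ = u * (φ e * u⁻¹ * (φ e)⁻¹) := by group
      rw [h0]
      exact U.mul_mem huU ((inferInstance : U.Normal).conj_mem _ (U.inv_mem huU) _)
    have hc3p : c3 ^ p = 1 := by
      have h0 : c3 = φ (φ.symm u * e * (φ.symm u)⁻¹ * e⁻¹) := by
        rw [hc3def]; simp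
      rw [h0]
      apply hφE
      exact E.mul_mem (hEn e he _) (E.inv_mem he)
    have hc3z := hL1 c3 hc3U hc3p
    have h1 : φ e * u * (φ e)⁻¹ = c3⁻¹ * u := by rw [hc3def]; group
    have h2 : φ e * u ^ p * (φ e)⁻¹ = u ^ p := by
      rw [← conj_pow, h1, Commute.mul_pow ((commute_iff_eq _ _).mpr
        (hzpc _ (Subgroup.inv_mem _ hc3z) u).symm), inv_pow, hzpp c3 hc3z, inv_one, one_mul]
    calc φ e * u ^ p = (φ e * u ^ p * (φ e)⁻¹) * φ e := by group
      _ = u ^ p * φ e := by rw [h2]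

end Cfsg.Agent.S3761
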