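import Mathlib
import Cfsg.Statements.S3785
import Cfsg.Agent.S1443
import Cfsg.Agent.S0044
import Cfsg.Agent.S0667
import Cfsg.Agent.Lib.Helper2.Fit

set_option autoImplicit false
open Pointwise
open Cfsg
open scoped commutatorElement

namespace Cfsg.Agent.S3785

open Cfsg.Agent.Lib

/-- If every element of `K` has a `q`-power in the centre, the `q`-elements form a subgroup. -/
theorem qsub {K : Type*} [Group K] [Finite K] (q : ℕ) [Fact q.Prime]
    (hK : ∀ x : K, ∃ k, x ^ (q ^ k) ∈ Subgroup.center K) :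
    ∃ Q : Subgroup K, ∀ x : K, x ∈ Q ↔ ∃ k, x ^ (q ^ k) = 1 := by
  have hq' : q.Prime := Fact.out
  have hq : IsPGroup q (K ⧸ Subgroup.center K) := by
    intro y
    obtain ⟨x, rfl⟩ := QuotientGroup.mk_surjective y
    obtain ⟨k, hk⟩ := hK x
    exact ⟨k, by rw [← QuotientGroup.mk_pow, (QuotientGroup.eq_one_iff _).mpr hk]⟩
  obtain ⟨f, hf⟩ := IsPGroup.iff_card.mp hq
  have hidx : (Subgroup.center K).index = q ^ f := by rw [Subgroup.index_eq_card]; exact hf
  let ψ : K →* Subgroup.center K :=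
    { toFun := fun x => (MonoidHom.transferCenterPow K x) ^ (q ^ Nat.card K)
      map_one' := by rw [map_one, one_pow]
      map_mul' := fun a b => by
        have hc : Commute (MonoidHom.transferCenterPow K a) (MonoidHom.transferCenterPow K b) :=
          Subtype.ext ((Subgroup.mem_center_iff.mp (MonoidHom.transferCenterPow K b).2)
            (MonoidHom.transferCenterPow K a))
        rw [map_mul, hc.mul_pow] }
  refine ⟨ψ.ker, fun x => ?_⟩
  rw [MonoidHom.mem_ker]
  have hψ : ((ψ x : Subgroup.center K) : K) = x ^ (q ^ (f + Nat.card K)) := by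
    show (((MonoidHom.transferCenterPow K x) ^ (q ^ Nat.card K) : Subgroup.center K) : K) = _
    rw [Subgroup.coe_pow, MonoidHom.transferCenterPow_apply, hidx, ← pow_mul, ← pow_add]
  constructor
  · intro h
    exact ⟨f + Nat.card K, by rw [← hψ, h]; rfl⟩
  · rintro ⟨k, hk⟩
    apply Subtype.ext
    rw [hψ]
    obtain ⟨i, hi, hxi⟩ := (Nat.dvd_prime_pow hq').mp (orderOf_dvd_of_pow_eq_one hk)
    have h1 : q ^ i ≤ Nat.card K := by
      rw [← hxi]; exact Nat.le_of_dvd Nat.card_pos (orderOf_dvd_natCard x)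
    have h2 : i ≤ Nat.card K := (Nat.lt_pow_self hq'.one_lt).le.trans h1
    show x ^ (q ^ (f + Nat.card K)) = 1
    apply orderOf_dvd_iff_pow_eq_one.mp
    rw [hxi]; exact pow_dvd_pow q (by omega)

theorem result {G : Type*} [Group G] [Finite G] (hG : Group.IsSolvable G) (hodd : Odd (Nat.card (Cfsg.fittingSubgroup G))) (g : G) (hg : ∀ x ∈ Cfsg.fittingSubgroup G, (orderOf x).Prime → g * x = x * g) : g ∈ Cfsg.fittingSubgroup G := by
  haveI := hG
  have hFn : (Cfsg.fittingSubgroup G).Normal := Helper2.Fit.fitting_normal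
  obtain ⟨Ω, hΩ⟩ : ∃ Ω : Set G,
      Ω = {x : G | x ∈ Cfsg.fittingSubgroup G ∧ (orderOf x).Prime} := ⟨_, rfl⟩
  have hΩconj : ∀ x ∈ Ω, ∀ y : G, y⁻¹ * x * y ∈ Ω := by
    intro x hx y
    rw [hΩ] at hx ⊢
    refine ⟨?_, ?_⟩
    · have := hFn.conj_mem x hx.1 y⁻¹
      simpa using this
    · have e : y⁻¹ * x * y = MulAut.conj y⁻¹ x := by simp [MulAut.conj_apply]
      rw [e, MulEquiv.orderOf_eq]; exact hx.2
  have norm_cent : ∀ S : Set G, (∀ x ∈ S, ∀ y : G, y⁻¹ * x * y ∈ S) →
      (Subgroup.centralizer S).Normal := by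
    intro S hS
    constructor
    intro c hc y
    rw [Subgroup.mem_centralizer_iff] at hc ⊢
    intro x hx
    have h1 := hc _ (hS x hx y)
    calc x * (y * c * y⁻¹) = y * ((y⁻¹ * x * y) * c) * y⁻¹ := by group
      _ = y * (c * (y⁻¹ * x * y)) * y⁻¹ := by rw [h1]
      _ = y * c * y⁻¹ * x := by group
  have hCn : (Subgroup.centralizer Ω).Normal := norm_cent Ω hΩconj
  have hgC : g ∈ Subgroup.centralizer Ω := by
    rw [Subgroup.mem_centralizer_iff]
    intro x hx
    rw [hΩ] at hx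
    exact (hg x hx.1 hx.2).symm
  have hRp : ∀ p : ℕ, p.Prime → IsPGroup p (Cfsg.pCore p G) :=
    fun p _ => Helper2.Fit.pCore_isPGroup p
  have hRn : ∀ p : ℕ, (Cfsg.pCore p G).Normal := fun p => Helper2.Fit.pCore_normal p
  have hRF : ∀ p : ℕ, p.Prime → Cfsg.pCore p G ≤ Cfsg.fittingSubgroup G := by
    intro p hp
    haveI : Fact p.Prime := ⟨hp⟩
    exact Helper2.Fit.pCore_le_fitting p
  have hR2 : Cfsg.pCore 2 G = ⊥ := by
    haveI : Fact (2 : ℕ).Prime := ⟨Nat.prime_two⟩
    obtain ⟨k, hk⟩ := IsPGroup.iff_card.mp (hRp 2 Nat.prime_two)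
    have hdvd : Nat.card (Cfsg.pCore 2 G) ∣ Nat.card (Cfsg.fittingSubgroup G) :=
      Subgroup.card_dvd_of_le (hRF 2 Nat.prime_two)
    rw [hk] at hdvd
    have : k = 0 := by
      by_contra hk0
      have h2 : 2 ∣ Nat.card (Cfsg.fittingSubgroup G) := (dvd_pow_self 2 hk0).trans hdvd
      exact (Nat.not_even_iff_odd.mpr hodd) (even_iff_two_dvd.mpr h2)
    rw [this, pow_zero] at hk
    exact Subgroup.card_eq_one.mp hk
  have ha' : ∀ p : ℕ, p.Prime → ∀ c ∈ Subgroup.centralizer Ω, (orderOf c).Coprime p →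
      ∀ u ∈ Cfsg.pCore p G, c * u = u * c := by
    intro p hp c hc hcop
    haveI : Fact p.Prime := ⟨hp⟩
    by_cases hp2 : p = 2
    · subst hp2
      intro u hu
      rw [hR2, Subgroup.mem_bot] at hu
      subst hu; simp
    · apply S1443.omega_coprime p hp2 c hcop _ (hRp p hp)
        (by haveI := hRn p; rw [Subgroup.normalizer_eq_top]; trivial)
      intro u hu hup
      by_cases hu1 : u = 1
      · subst hu1; simp
      · have hord : orderOf u = p := orderOf_eq_prime hup hu1
        have huΩ : u ∈ Ω := by rw [hΩ]; exact ⟨hRF p hp hu, hord ▸ hp⟩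
        exact (Subgroup.mem_centralizer_iff.mp hc u huΩ).symm
  have hqclaim : ∀ q : ℕ, q.Prime → ∀ y ∈ Subgroup.centralizer Ω, (∃ k, y ^ (q ^ k) = 1) →
      y ∈ Cfsg.pCore q G := by
    intro q hq y hyC hyq
    haveI : Fact q.Prime := ⟨hq⟩
    obtain ⟨Sq, hSq⟩ : ∃ Sq : Set G,
        Sq = {u : G | ∃ p : ℕ, p.Prime ∧ p ≠ q ∧ u ∈ Cfsg.pCore p G} := ⟨_, rfl⟩
    have hSqconj : ∀ x ∈ Sq, ∀ y : G, y⁻¹ * x * y ∈ Sq := by
      intro x hx y
      rw [hSq] at hx ⊢
      obtain ⟨p, hp, hpq, hxp⟩ := hx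
      refine ⟨p, hp, hpq, ?_⟩
      have := (hRn p).conj_mem x hxp y⁻¹
      simpa using this
    have hDn : (Subgroup.centralizer Sq).Normal := norm_cent Sq hSqconj
    haveI hKn : (Subgroup.centralizer Ω ⊓ Subgroup.centralizer Sq).Normal := by
      haveI := hCn
      haveI := hDn
      infer_instance
    have hqD : ∀ c ∈ Subgroup.centralizer Ω, (∃ k, c ^ (q ^ k) = 1) →
        c ∈ Subgroup.centralizer Sq := by
      intro c hc ⟨k, hk⟩
      rw [Subgroup.mem_centralizer_iff]
      intro u hu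
      rw [hSq] at hu
      obtain ⟨p, hp, hpq, hup⟩ := hu
      have hcop : (orderOf c).Coprime p := by
        have h1 : orderOf c ∣ q ^ k := orderOf_dvd_of_pow_eq_one hk
        exact Nat.Coprime.coprime_dvd_left h1
          (Nat.Coprime.pow_left k ((Nat.coprime_primes hq hp).mpr (Ne.symm hpq)))
      exact (ha' p hp c hc hcop u hup).symm
    have hqpow : ∀ c : G, (∃ k, c ^ (q ^ k) = 1) → c ^ (q ^ Nat.card G) = 1 := by
      intro c ⟨k, hk⟩
      obtain ⟨i, hi, hci⟩ := (Nat.dvd_prime_pow hq).mp (orderOf_dvd_of_pow_eq_one hk)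
      have h1 : q ^ i ≤ Nat.card G := by
        rw [← hci]; exact Nat.le_of_dvd Nat.card_pos (orderOf_dvd_natCard c)
      have h2 : i ≤ Nat.card G := (Nat.lt_pow_self hq.one_lt).le.trans h1
      apply orderOf_dvd_iff_pow_eq_one.mp
      rw [hci]; exact pow_dvd_pow q h2
    have hF1 : ∀ z ∈ Cfsg.fittingSubgroup G, ∀ d ∈ Subgroup.centralizer Sq,
        z ^ (q ^ Nat.card G) * d = d * z ^ (q ^ Nat.card G) := by
      intro z hz d hd
      have hle : Cfsg.fittingSubgroup G ≤ Cfsg.pCore q G ⊔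
          Subgroup.centralizer ((Subgroup.centralizer Sq : Subgroup G) : Set G) := by
        rw [Helper2.Fit.fitting_eq_iSup_pCore]
        apply iSup_le
        intro p
        by_cases hpq : (p : ℕ) = q
        · rw [hpq]; exact le_sup_left
        · refine le_trans ?_ le_sup_right
          intro u hu
          rw [Subgroup.mem_centralizer_iff]
          intro d hd
          have : u ∈ Sq := by rw [hSq]; exact ⟨p, p.2, hpq, hu⟩
          exact ((Subgroup.mem_centralizer_iff.mp hd) u this).symm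
      haveI := hRn q
      obtain ⟨a, ha, b, hb, rfl⟩ := Subgroup.mem_sup_of_normal_left.mp (hle hz)
      have haD : a ∈ Subgroup.centralizer Sq := by
        rw [Subgroup.mem_centralizer_iff]
        intro u hu
        rw [hSq] at hu
        obtain ⟨p, hp, hpq, hup⟩ := hu
        haveI : Fact p.Prime := ⟨hp⟩
        have hdisj := IsPGroup.disjoint_of_ne p q hpq _ _ (hRp p hp) (hRp q hq)
        exact (Subgroup.commute_of_normal_of_disjoint _ _ (hRn p) (hRn q) hdisj u a hup ha).eq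
      have hab : Commute a b := Subgroup.mem_centralizer_iff.mp hb a haD
      have haq : a ^ (q ^ Nat.card G) = 1 := by
        apply hqpow
        obtain ⟨k, hk⟩ := (hRp q hq) ⟨a, ha⟩
        exact ⟨k, congrArg Subtype.val hk⟩
      rw [hab.mul_pow, haq, one_mul]
      have hbd : Commute d b := Subgroup.mem_centralizer_iff.mp hb d hd
      exact (hbd.pow_right _).eq.symm
    have hcen : ∀ x ∈ Subgroup.centralizer Ω ⊓ Subgroup.centralizer Sq,
        ∀ z ∈ Subgroup.centralizer Ω ⊓ Subgroup.centralizer Sq,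
        z * x ^ (q ^ (Nat.card G + Nat.card G)) = x ^ (q ^ (Nat.card G + Nat.card G)) * z := by
      intro x hx z hz
      obtain ⟨a₁, a₂, ha₁, ha₂, hxa, ha₁q, ha₂q⟩ := S0667.decomp q x
      have hzx : Subgroup.zpowers x ≤ Subgroup.centralizer Ω ⊓ Subgroup.centralizer Sq := by
        rw [Subgroup.zpowers_le]; exact hx
      have ha₂K := hzx ha₂
      have hFle : Cfsg.fittingSubgroup G ≤ Subgroup.centralizer ({a₂} : Set G) := by
        rw [Helper2.Fit.fitting_eq_iSup_pCore]
        apply iSup_le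
        intro p u hu
        rw [Subgroup.mem_centralizer_iff]
        intro c hc
        rw [Set.mem_singleton_iff] at hc
        subst hc
        by_cases hpq : (p : ℕ) = q
        · rw [hpq] at hu
          exact ha' q hq c ha₂K.1 ha₂q u hu
        · have : u ∈ Sq := by rw [hSq]; exact ⟨p, p.2, hpq, hu⟩
          exact (Subgroup.mem_centralizer_iff.mp ha₂K.2 u this).symm
      have ha₂F : a₂ ∈ Subgroup.centralizer ((Cfsg.fittingSubgroup G : Subgroup G) : Set G) := by
        rw [Subgroup.mem_centralizer_iff]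
        intro h hh
        exact (Subgroup.mem_centralizer_iff.mp (hFle hh) a₂ (Set.mem_singleton a₂)).symm
      have ha₂Fit : a₂ ∈ Cfsg.fittingSubgroup G := S0044.result ha₂F
      have hcomm : Commute a₂ a₁ := by
        obtain ⟨i, rfl⟩ := Subgroup.mem_zpowers_iff.mp ha₁
        obtain ⟨j, rfl⟩ := Subgroup.mem_zpowers_iff.mp ha₂
        exact ((Commute.refl x).zpow_left j).zpow_right i
      have ha₁pow : a₁ ^ (q ^ Nat.card G) = 1 := by
        apply hqpow
        obtain ⟨k, hk⟩ := ha₁q ⟨a₁, Subgroup.mem_zpowers a₁⟩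
        exact ⟨k, congrArg Subtype.val hk⟩
      have hxN : x ^ (q ^ Nat.card G) = a₂ ^ (q ^ Nat.card G) := by
        rw [hxa, hcomm.mul_pow, ha₁pow, mul_one]
      have hfin : x ^ (q ^ (Nat.card G + Nat.card G)) =
          (a₂ ^ (q ^ Nat.card G)) ^ (q ^ Nat.card G) := by
        rw [pow_add, pow_mul, hxN]
      rw [hfin]
      exact (hF1 _ (Subgroup.pow_mem _ ha₂Fit (q ^ Nat.card G)) z hz.2).symm
    obtain ⟨Q', hQ'⟩ := qsub (K := ↥(Subgroup.centralizer Ω ⊓ Subgroup.centralizer Sq)) q (by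
      intro x
      refine ⟨Nat.card G + Nat.card G, ?_⟩
      rw [Subgroup.mem_center_iff]
      intro z
      apply Subtype.ext
      exact hcen x x.2 z z.2)
    have hQn : (Q'.map (Subgroup.subtype _)).Normal := by
      constructor
      rintro _ ⟨w, hw, rfl⟩ y
      obtain ⟨k, hk⟩ := (hQ' w).mp hw
      have hmem : y * (w : G) * y⁻¹ ∈ Subgroup.centralizer Ω ⊓ Subgroup.centralizer Sq :=
        hKn.conj_mem _ w.2 y
      refine ⟨⟨_, hmem⟩, (hQ' _).mpr ⟨k, ?_⟩, rfl⟩
      apply Subtype.ext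
      show (y * (w : G) * y⁻¹) ^ (q ^ k) = 1
      rw [conj_pow]
      have : (w : G) ^ (q ^ k) = 1 := congrArg Subtype.val hk
      rw [this]; simp
    have hQp : IsPGroup q (Q'.map (Subgroup.subtype _)) := by
      rintro ⟨_, ⟨w, hw, rfl⟩⟩
      obtain ⟨k, hk⟩ := (hQ' w).mp hw
      refine ⟨k, Subtype.ext ?_⟩
      have : (w : G) ^ (q ^ k) = 1 := congrArg Subtype.val hk
      exact this
    apply Helper2.Fit.le_pCore _ hQn hQp
    have hyK : y ∈ Subgroup.centralizer Ω ⊓ Subgroup.centralizer Sq :=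
      Subgroup.mem_inf.mpr ⟨hyC, hqD y hyC hyq⟩
    obtain ⟨k, hk⟩ := hyq
    exact ⟨⟨y, hyK⟩, (hQ' _).mpr ⟨k, Subtype.ext hk⟩, rfl⟩
  have key : ∀ n : ℕ, ∀ c ∈ Subgroup.centralizer Ω, orderOf c = n →
      c ∈ Cfsg.fittingSubgroup G := by
    intro n
    induction n using Nat.strong_induction_on with
    | _ n ih =>
      intro c hc hn
      by_cases hc1 : c = 1
      · subst hc1; exact Subgroup.one_mem _
      have hn1 : orderOf c ≠ 1 := by rw [Ne, orderOf_eq_one_iff]; exact hc1
      obtain ⟨q, hq, hqd⟩ := Nat.exists_prime_and_dvd hn1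
      haveI : Fact q.Prime := ⟨hq⟩
      obtain ⟨a₁, a₂, ha₁, ha₂, hca, ha₁q, ha₂q⟩ := S0667.decomp q c
      have hzc : Subgroup.zpowers c ≤ Subgroup.centralizer Ω := by
        rw [Subgroup.zpowers_le]; exact hc
      have h1 : a₁ ∈ Cfsg.fittingSubgroup G := by
        apply hRF q hq
        apply hqclaim q hq a₁ (hzc ha₁)
        obtain ⟨k, hk⟩ := ha₁q ⟨a₁, Subgroup.mem_zpowers a₁⟩
        exact ⟨k, congrArg Subtype.val hk⟩
      have h2 : a₂ ∈ Cfsg.fittingSubgroup G := by
        have hd : orderOf a₂ ∣ orderOf c := orderOf_dvd_of_mem_zpowers ha₂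
        have hlt : orderOf a₂ < n := by
          rw [← hn]
          apply lt_of_le_of_ne (Nat.le_of_dvd (orderOf_pos c) hd)
          intro heq
          rw [heq] at ha₂q
          have := Nat.eq_one_of_dvd_coprimes ha₂q hqd dvd_rfl
          exact hq.one_lt.ne' this
        exact ih _ hlt a₂ (hzc ha₂) rfl
      rw [hca]; exact Subgroup.mul_mem _ h2 h1
  exact key _ g hgC rfl

end Cfsg.Agent.S3785
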