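import Cfsg.Statements.S3807
import Mathlib
import Cfsg.Agent.Lib.Helper6.AbIdx

set_option autoImplicit false
open Cfsg

namespace Cfsg.Agent.S3807

open Cfsg.Agent.Lib.Helper6
open scoped commutatorElement

/-- Let S be a non-abelian finite p-group with an abelian subgroup A of index p. Then [S : Z(S)] = p·#[S,S], and either [S,S] has order p, S/Z(S) is elementary abelian of order p², and S has exactly p + 1 abelian subgroups of index p; or [S,S] has order at least p² and A is the only abelian subgroup of index p in S. -/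
theorem result {S : Type*} [Group S] [Finite S] (p : ℕ) [Fact p.Prime] (hS : IsPGroup p S) (hna : ¬ IsMulCommutative S)
    (A : Subgroup S) (hA : IsMulCommutative ↥A) (hAi : A.index = p) :
    (Subgroup.center S).index = p * Nat.card (commutator S) ∧
      ((Nat.card (commutator S) = p ∧ Cfsg.IsElementaryAbelian p (⊤ : Subgroup (S ⧸ Subgroup.center S)) ∧
          Nat.card (S ⧸ Subgroup.center S) = p ^ 2 ∧
          Nat.card {B : Subgroup S // IsMulCommutative ↥B ∧ B.index = p} = p + 1) ∨
        (p ^ 2 ≤ Nat.card (commutator S) ∧ ∀ B : Subgroup S, IsMulCommutative ↥B → B.index = p → B = A)) := by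
  classical
  have hp : p.Prime := Fact.out
  obtain ⟨m, hm⟩ := IsPGroup.iff_card.1 hS
  have hm0 : m ≠ 0 := by
    rintro rfl
    apply hna
    rw [pow_zero] at hm
    haveI : Subsingleton S := (Nat.card_eq_one_iff_unique.1 hm).1
    exact ⟨⟨fun a b => Subsingleton.elim _ _⟩⟩
  haveI hAn : A.Normal := Subgroup.normal_of_index_eq_minFac_card (by
    rw [hAi, hm, hp.pow_minFac hm0])
  have hZA := AbIdx.center_le hp hna A hA hAi
  have hcc := AbIdx.card_commutator hp A hA hAi
  have hidx := Subgroup.relIndex_mul_index hZA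
  rw [hAi, ← hcc] at hidx
  have h1 : (Subgroup.center S).index = p * Nat.card (commutator S) := by
    rw [← hidx, mul_comm]
  refine ⟨h1, ?_⟩
  obtain ⟨k, hk⟩ := IsPGroup.iff_card.1 (hS.to_subgroup (commutator S))
  have hk0 : k ≠ 0 := by
    rintro rfl
    rw [pow_zero] at hk
    apply hna
    have h2 : commutator S = ⊥ := Subgroup.card_eq_one.1 hk
    exact ⟨⟨fun a b => by
      have h3 : ⁅a, b⁆ ∈ commutator S := by
        rw [commutator_def]
        exact Subgroup.commutator_mem_commutator (Subgroup.mem_top a) (Subgroup.mem_top b)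
      rw [h2, Subgroup.mem_bot] at h3
      exact (commutatorElement_eq_one_iff_commute.1 h3).eq⟩⟩
  rcases Nat.lt_or_ge k 2 with hk2 | hk2
  · left
    have hk1 : k = 1 := by omega
    rw [hk1, pow_one] at hk
    rw [hk] at h1
    have hZ2 : (Subgroup.center S).index = p ^ 2 := by rw [h1]; ring
    have hZ2' : Nat.card (S ⧸ Subgroup.center S) = p ^ 2 := hZ2
    refine ⟨hk, ?_, hZ2', ?_⟩
    · have hcomm : IsMulCommutative (S ⧸ Subgroup.center S) :=
        IsPGroup.isMulCommutative_of_card_eq_prime_sq hZ2'
      refine ⟨⟨⟨fun a b => Subtype.ext (hcomm.is_comm.comm a.1 b.1)⟩⟩, ?_⟩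
      intro a _
      have hd : orderOf a ∣ p ^ 2 := by rw [← hZ2']; exact orderOf_dvd_natCard a
      obtain ⟨j, hj2, hj⟩ := (Nat.dvd_prime_pow hp).1 hd
      have hjne : j ≠ 2 := by
        rintro rfl
        apply hna
        haveI : IsCyclic (S ⧸ Subgroup.center S) :=
          isCyclic_of_orderOf_eq_card a (by rw [hj]; exact hZ2'.symm)
        exact isMulCommutative_of_isCyclic_quotient_center_self S
      have hdp : orderOf a ∣ p := by
        rw [hj]
        interval_cases j
        · simp
        · simp
        · exact absurd rfl hjne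
      exact orderOf_dvd_iff_pow_eq_one.1 hdp
    · rw [Nat.card_congr (Equiv.subtypeEquivRight (AbIdx.abelian_iff hp hna hZ2))]
      exact AbIdx.card_index_p hp hna hZ2
  · right
    refine ⟨by rw [hk]; exact Nat.pow_le_pow_right hp.pos hk2, ?_⟩
    intro B hB hBi
    by_contra hne
    haveI hBn : B.Normal := Subgroup.normal_of_index_eq_minFac_card (by
      rw [hBi, hm, hp.pow_minFac hm0])
    have h2 := AbIdx.relIndex_of_two hp hna A B hA hAi hB hBi hne
    rw [← hcc, hk] at h2
    have h3 : p ^ k = p ^ 1 := by rw [h2, pow_one]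
    have h4 := Nat.pow_right_injective hp.two_le h3
    omega

end Cfsg.Agent.S3807
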