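import Cfsg.Statements.S3808
import Mathlib

set_option autoImplicit false
open Cfsg

namespace Cfsg.Agent.S3808

/-- Let S be a finite p-group with an extraspecial subgroup Q of index p. Then either Z(S) = Z(Q), or S = Q·Z(S) and Z(S) has order p². -/
theorem result {S : Type*} [Group S] [Finite S] (p : ℕ) [Fact p.Prime] (hS : IsPGroup p S) (Q : Subgroup S) (hQ : Cfsg.IsExtraspecial p ↥Q) (hQi : Q.index = p) :
    Subgroup.center S = (Subgroup.center ↥Q).map Q.subtype ∨
      (Q ⊔ Subgroup.center S = ⊤ ∧ Nat.card (Subgroup.center S) = p ^ 2) := by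
  have hp : p.Prime := Fact.out
  obtain ⟨-, hZQ⟩ := hQ
  have hcardZQ : Nat.card ((Subgroup.center ↥Q).map Q.subtype) = p := by
    rw [Subgroup.card_map_of_injective (Subgroup.subtype_injective Q), hZQ]
  have hle1 : Subgroup.center S ⊓ Q ≤ (Subgroup.center ↥Q).map Q.subtype := by
    rintro z ⟨hz, hzQ⟩
    refine ⟨⟨z, hzQ⟩, ?_, rfl⟩
    refine Subgroup.mem_center_iff.mpr ?_
    intro g
    apply Subtype.ext
    exact Subgroup.mem_center_iff.mp hz g
  obtain ⟨n, hn⟩ := IsPGroup.iff_card.mp hS
  have hn0 : n ≠ 0 := by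
    rintro rfl
    have h1 := Q.index_dvd_card
    rw [hQi, hn, pow_zero] at h1
    exact hp.one_lt.ne' (Nat.dvd_one.mp h1)
  haveI hQn : Q.Normal := Subgroup.normal_of_index_eq_minFac_card (by
    rw [hQi, hn, hp.pow_minFac hn0])
  by_cases hZ : Subgroup.center S ≤ Q
  · left
    have hle : Subgroup.center S ≤ (Subgroup.center ↥Q).map Q.subtype := by
      intro z hz
      exact hle1 ⟨hz, hZ hz⟩
    apply Subgroup.eq_of_le_of_card_ge hle
    rw [hcardZQ]
    have hnt : Nontrivial S := by
      rw [← Finite.one_lt_card_iff_nontrivial, hn]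
      exact Nat.one_lt_pow hn0 hp.one_lt
    have hcn : Nontrivial (Subgroup.center S) := hS.center_nontrivial
    have h1 : Nat.card (Subgroup.center S) ∣ p := by
      rw [← hcardZQ]; exact Subgroup.card_dvd_of_le hle
    rcases (Nat.dvd_prime hp).mp h1 with h2 | h2
    · exfalso
      have h3 := Finite.one_lt_card_iff_nontrivial.mpr hcn
      omega
    · exact h2.ge
  · right
    have htop : Q ⊔ Subgroup.center S = ⊤ := by
      have h1 := Subgroup.relIndex_mul_index (le_sup_left : Q ≤ Q ⊔ Subgroup.center S)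
      rw [hQi] at h1
      have h2 : Q.relIndex (Q ⊔ Subgroup.center S) ≠ 1 := by
        intro h
        rw [Subgroup.relIndex_eq_one] at h
        exact hZ (le_sup_right.trans h)
      have h3 : Q.relIndex (Q ⊔ Subgroup.center S) ∣ p := Dvd.intro _ h1
      rcases (Nat.dvd_prime hp).mp h3 with h4 | h4
      · exact absurd h4 h2
      · rw [h4] at h1
        have h5 : (Q ⊔ Subgroup.center S).index = 1 := by
          have hp0 := hp.pos
          nlinarith
        exact Subgroup.index_eq_one.mp h5
    refine ⟨htop, ?_⟩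
    have hle2 : (Subgroup.center ↥Q).map Q.subtype ≤ Subgroup.center S ⊓ Q := by
      rintro _ ⟨c, hc, rfl⟩
      refine ⟨?_, c.2⟩
      refine Subgroup.mem_center_iff.mpr ?_
      intro g
      have hg : g ∈ Q ⊔ Subgroup.center S := htop ▸ Subgroup.mem_top g
      obtain ⟨q, hq, z, hz, rfl⟩ := Subgroup.mem_sup_of_normal_right.mp hg
      have h1 : q * (c : S) = (c : S) * q := by
        have h2 := Subgroup.mem_center_iff.mp hc ⟨q, hq⟩
        exact congrArg Subtype.val h2
      have h3 : z * (c : S) = (c : S) * z := (Subgroup.mem_center_iff.mp hz (c : S)).symm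
      show q * z * (c : S) = (c : S) * (q * z)
      calc q * z * (c : S) = q * ((c : S) * z) := by rw [mul_assoc, h3]
        _ = (q * (c : S)) * z := by rw [mul_assoc]
        _ = (c : S) * (q * z) := by rw [h1, mul_assoc]
    have heq : Subgroup.center S ⊓ Q = (Subgroup.center ↥Q).map Q.subtype :=
      le_antisymm hle1 hle2
    have hc1 : Nat.card (Subgroup.center S ⊓ Q : Subgroup S) = p := by rw [heq, hcardZQ]
    have h6 := ((Subgroup.center S ⊓ Q).subgroupOf (Subgroup.center S)).card_mul_index
    have h7 : Nat.card ((Subgroup.center S ⊓ Q).subgroupOf (Subgroup.center S)) = p := by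
      rw [Nat.card_congr (Subgroup.subgroupOfEquivOfLe inf_le_left).toEquiv, hc1]
    have h8 : ((Subgroup.center S ⊓ Q).subgroupOf (Subgroup.center S)).index = p := by
      show (Subgroup.center S ⊓ Q).relIndex (Subgroup.center S) = p
      rw [inf_comm, Subgroup.inf_relIndex_right, ← Subgroup.relIndex_sup_right (Subgroup.center S) Q,
        sup_comm, htop, Subgroup.relIndex_top_right, hQi]
    rw [h7, h8] at h6
    rw [← h6, pow_two]

end Cfsg.Agent.S3808
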