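import Cfsg.Statements.S3809
import Mathlib
import Cfsg.Agent.S0095

set_option autoImplicit false
open Cfsg

namespace Cfsg.Agent.S3809

open scoped commutatorElement

/-- Let S be a finite p-group with an extraspecial subgroup of index p. Then S has order p^(2+2n) for some n ≥ 1, derived length at most 3, and exponent dividing p³. -/
theorem result {S : Type*} [Group S] [Finite S] (p : ℕ) [Fact p.Prime] (hS : IsPGroup p S) (Q : Subgroup S) (hQ : Cfsg.IsExtraspecial p ↥Q) (hQi : Q.index = p) :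
    (∃ n : ℕ, 1 ≤ n ∧ Nat.card S = p ^ (2 + 2 * n)) ∧ derivedSeries S 3 = ⊥ ∧ ∀ x : S, x ^ (p ^ 3) = 1 := by
  classical
  have hp : p.Prime := Fact.out
  obtain ⟨n, hn1, hn⟩ := Cfsg.Agent.S0095.result hQ
  have hcardS : Nat.card S = p ^ (2 + 2 * n) := by
    rw [← Subgroup.card_mul_index Q, hQi, hn]; ring
  haveI hQn : Q.Normal := Subgroup.normal_of_index_eq_minFac_card (by
    rw [hQi, hcardS, hp.pow_minFac (by omega)])
  obtain ⟨⟨-, -, hcomm⟩, hZcard⟩ := hQ
  have hD1 : derivedSeries S 1 ≤ Q := by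
    haveI hcyc : IsCyclic (S ⧸ Q) := by
      haveI : Fact (Nat.card (S ⧸ Q)).Prime := ⟨by
        have h1 : Nat.card (S ⧸ Q) = p := hQi
        rw [h1]; exact hp⟩
      exact isCyclic_of_prime_card (p := Nat.card (S ⧸ Q)) rfl
    have hc : IsMulCommutative (S ⧸ Q) := IsCyclic.isMulCommutative
    exact Subgroup.Normal.quotient_commutative_iff_commutator_le.1 hc
  have hD2 : derivedSeries S 2 ≤ (Subgroup.center ↥Q).map Q.subtype := by
    rw [derivedSeries_succ]
    have h1 : ⁅derivedSeries S 1, derivedSeries S 1⁆ ≤ ⁅Q, Q⁆ := Subgroup.commutator_mono hD1 hD1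
    have h2 : ⁅Q, Q⁆ = (commutator ↥Q).map Q.subtype := by
      rw [commutator_def, Subgroup.map_commutator, ← MonoidHom.range_eq_map, Subgroup.range_subtype]
    rw [h2, hcomm] at h1
    exact h1
  have hD3 : derivedSeries S 3 = ⊥ := by
    rw [derivedSeries_succ, eq_bot_iff]
    refine (Subgroup.commutator_mono hD2 hD2).trans ?_
    rw [le_bot_iff, Subgroup.commutator_eq_bot_iff_le_centralizer]
    rintro _ ⟨c, hc, rfl⟩
    rw [Subgroup.mem_centralizer_iff]
    rintro _ ⟨d, hd, rfl⟩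
    have h1 := Subgroup.mem_center_iff.1 hc d
    exact congrArg Subtype.val h1
  refine ⟨⟨n, hn1, hcardS⟩, hD3, ?_⟩
  intro x
  have hxQ : x ^ p ∈ Q := by
    have h1 := Subgroup.pow_index_mem Q x
    rwa [hQi] at h1
  have hZ : ∀ a b : ↥Q, ⁅a, b⁆ ∈ Subgroup.center ↥Q := by
    intro a b
    rw [← hcomm]
    exact Subgroup.commutator_mem_commutator (Subgroup.mem_top a) (Subgroup.mem_top b)
  have hpow : ∀ z : ↥(Subgroup.center ↥Q), z ^ p = 1 := by
    intro z
    have h1 := pow_card_eq_one' (x := z)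
    rwa [hZcard] at h1
  have hqZ : (⟨x ^ p, hxQ⟩ : ↥Q) ^ p ∈ Subgroup.center ↥Q := by
    rw [Subgroup.mem_center_iff]
    intro y
    have h1 := map_pow (Cfsg.Agent.S0095.commHom (Subgroup.center ↥Q) hZ le_rfl y)
      (⟨x ^ p, hxQ⟩ : ↥Q) p
    have h2 : (Cfsg.Agent.S0095.commHom (Subgroup.center ↥Q) hZ le_rfl y
        (⟨x ^ p, hxQ⟩ : ↥Q)) ^ p = 1 := hpow _
    rw [h2] at h1
    have h3 := (Cfsg.Agent.S0095.commHom_eq_one_iff (Subgroup.center ↥Q) hZ le_rfl y _).1 h1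
    exact (Subgroup.mem_centralizer_singleton_iff.1 h3).symm
  have h4 : (⟨(⟨x ^ p, hxQ⟩ : ↥Q) ^ p, hqZ⟩ : ↥(Subgroup.center ↥Q)) ^ p = 1 := hpow _
  have h5 : ((x ^ p) ^ p) ^ p = 1 := by
    have h6 := congrArg (fun z : ↥(Subgroup.center ↥Q) => ((z : ↥Q) : S)) h4
    simpa using h6
  have h7 : p ^ 3 = p * p * p := by ring
  rw [h7, pow_mul, pow_mul]
  exact h5

end Cfsg.Agent.S3809
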