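import Cfsg.Statements.S3810
import Mathlib
import Cfsg.Agent.S0095
import Cfsg.Agent.Lib.Helper6.P4Abel

set_option autoImplicit false
open Cfsg

namespace Cfsg.Agent.S3810

open Cfsg.Agent.Lib.Helper6

/-- Let S be a finite p-group with an extraspecial subgroup of index p. Then S has an abelian subgroup of index p if and only if S has order p⁴. -/
theorem result {S : Type*} [Group S] [Finite S] (p : ℕ) [Fact p.Prime] (hS : IsPGroup p S) (Q : Subgroup S) (hQ : Cfsg.IsExtraspecial p ↥Q) (hQi : Q.index = p) :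
    (∃ A : Subgroup S, IsMulCommutative ↥A ∧ A.index = p) ↔ Nat.card S = p ^ 4 := by
  classical
  have hp : p.Prime := Fact.out
  obtain ⟨n, hn1, hn⟩ := Cfsg.Agent.S0095.result hQ
  have hcardS : Nat.card S = p ^ (2 + 2 * n) := by
    rw [← Subgroup.card_mul_index Q, hQi, hn]; ring
  obtain ⟨⟨-, -, hcomm⟩, hZcard⟩ := hQ
  have hQna : ¬ IsMulCommutative ↥Q := by
    intro hc
    have h1 : Subgroup.center ↥Q = ⊤ := by
      rw [eq_top_iff]
      intro z _
      rw [Subgroup.mem_center_iff]
      intro g
      exact hc.is_comm.comm g z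
    rw [h1, Subgroup.card_top, hn] at hZcard
    have h2 : p ^ (2 * n + 1) = p ^ 1 := by rw [hZcard, pow_one]
    have h3 := Nat.pow_right_injective hp.two_le h2
    omega
  constructor
  · rintro ⟨A, hA, hAi⟩
    haveI hAn : A.Normal := Subgroup.normal_of_index_eq_minFac_card (by
      rw [hAi, hcardS, hp.pow_minFac (by omega)])
    have hrel : A.relIndex Q = p := by
      have h1 : A.relIndex Q ∣ p := by
        rw [← hAi]; exact Subgroup.relIndex_dvd_index_of_normal A Q
      rcases (Nat.dvd_prime hp).1 h1 with h | h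
      · exfalso
        rw [Subgroup.relIndex_eq_one] at h
        apply hQna
        exact ⟨⟨fun x y => by
          have h2 := hA.is_comm.comm (⟨x.1, h x.2⟩ : ↥A) ⟨y.1, h y.2⟩
          have h3 : (x : S) * (y : S) = (y : S) * (x : S) := congrArg Subtype.val h2
          exact Subtype.ext h3⟩⟩
      · exact h
    have hB : IsMulCommutative ↥(A.subgroupOf Q) := by
      refine ⟨⟨fun x y => ?_⟩⟩
      have h2 := hA.is_comm.comm (⟨x.1.1, Subgroup.mem_subgroupOf.1 x.2⟩ : ↥A)
        ⟨y.1.1, Subgroup.mem_subgroupOf.1 y.2⟩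
      have h3 : ((x : ↥Q) : S) * ((y : ↥Q) : S) = ((y : ↥Q) : S) * ((x : ↥Q) : S) :=
        congrArg Subtype.val h2
      exact Subtype.ext (Subtype.ext h3)
    have hle := P4Abel.card_le_of_abelian_index_p p hcomm hZcard (A.subgroupOf Q) hB hrel
    rw [hn] at hle
    have h3 := (Nat.pow_le_pow_iff_right hp.one_lt).1 hle
    have hn' : n = 1 := by omega
    rw [hcardS, hn']
  · intro h4
    have hna : ¬ IsMulCommutative S := by
      intro hc
      apply hQna
      exact ⟨⟨fun x y => Subtype.ext (hc.is_comm.comm x.1 y.1)⟩⟩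
    exact P4Abel.exists_abelian_index_p p h4 hna

end Cfsg.Agent.S3810
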