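import Cfsg.Statements.S3824
import Mathlib
import Cfsg.Agent.S0143
import Cfsg.Agent.S0144

set_option autoImplicit false
open Cfsg

namespace Cfsg.Agent.S3824

universe u

theorem relIndex_dvd_index_of_normal_right {G : Type u} [Group G] [Finite G] (A K : Subgroup G)
    [K.Normal] : A.relIndex K ∣ A.index := by
  have h1 : Nat.card (A ⊓ K : Subgroup G) * A.relIndex K = Nat.card K := by
    have := Subgroup.relIndex_mul_relIndex ⊥ (A ⊓ K) K bot_le inf_le_right
    rw [Subgroup.relIndex_bot_left, Subgroup.relIndex_bot_left, Subgroup.inf_relIndex_right] at this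
    exact this
  have h2 : Nat.card (A ⊓ K : Subgroup G) * K.relIndex A = Nat.card A := by
    have := Subgroup.relIndex_mul_relIndex ⊥ (K ⊓ A) A bot_le inf_le_right
    rw [Subgroup.relIndex_bot_left, Subgroup.relIndex_bot_left, Subgroup.inf_relIndex_right,
      inf_comm] at this
    exact this
  have h3 : Nat.card K * K.relIndex A = Nat.card (A ⊔ K : Subgroup G) := by
    have := Subgroup.relIndex_mul_relIndex ⊥ K (A ⊔ K) bot_le le_sup_right
    rw [Subgroup.relIndex_bot_left, Subgroup.relIndex_bot_left, Subgroup.relIndex_sup_right] at this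
    exact this
  have h4 : Nat.card A * A.relIndex (A ⊔ K) = Nat.card (A ⊔ K : Subgroup G) := by
    have := Subgroup.relIndex_mul_relIndex ⊥ A (A ⊔ K) bot_le le_sup_left
    rw [Subgroup.relIndex_bot_left, Subgroup.relIndex_bot_left] at this
    exact this
  have h5 : A.relIndex (A ⊔ K) = A.relIndex K := by
    have hApos : 0 < Nat.card A := Nat.card_pos
    apply Nat.eq_of_mul_eq_mul_left hApos
    rw [h4, ← h3, ← h1, ← h2]
    ring
  rw [← h5]
  exact Subgroup.relIndex_dvd_index_of_le le_sup_left

theorem abelian_two_index_aux :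
    ∀ N : ℕ, ∀ (G : Type u) [Group G] [Finite G], Nat.card G = N →
      (∃ A : Subgroup G, (∀ a ∈ A, ∀ b ∈ A, a * b = b * a) ∧ ∃ k : ℕ, A.index = 2 ^ k) →
      Group.IsSolvable G := by
  intro N
  induction N using Nat.strong_induction_on with
  | _ N ih =>
    intro G _ _ hN ⟨A, hA, k, hk⟩
    by_cases hex : ∃ K : Subgroup G, K.Normal ∧ K ≠ ⊥ ∧ K ≠ ⊤
    · obtain ⟨K, hKn, hK0, hK1⟩ := hex
      have hcard := Subgroup.card_eq_card_quotient_mul_card_subgroup K
      have hK1' : 1 < Nat.card K := K.one_lt_card_iff_ne_bot.mpr hK0
      have hQpos : 0 < Nat.card (G ⧸ K) := Nat.card_pos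
      have hKlt : Nat.card K < N := by
        rw [← hN]
        have h1 : Nat.card K ≤ Nat.card G := K.card_le_card_group
        rcases lt_or_eq_of_le h1 with h2 | h2
        · exact h2
        · exact absurd (K.card_eq_iff_eq_top.mp h2) hK1
      have hQlt : Nat.card (G ⧸ K) < N := by
        rw [← hN, hcard]
        nlinarith
      have hKs : Group.IsSolvable K := by
        apply ih _ hKlt K rfl
        refine ⟨A.subgroupOf K, ?_, ?_⟩
        · intro a ha b hb
          apply Subtype.ext
          exact hA a.1 (Subgroup.mem_subgroupOf.mp ha) b.1 (Subgroup.mem_subgroupOf.mp hb)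
        · have h1 : (A.subgroupOf K).index ∣ 2 ^ k := by
            rw [← hk]
            exact relIndex_dvd_index_of_normal_right A K
          obtain ⟨j, -, hj⟩ := (Nat.dvd_prime_pow Nat.prime_two).mp h1
          exact ⟨j, hj⟩
      have hQs : Group.IsSolvable (G ⧸ K) := by
        apply ih _ hQlt (G ⧸ K) rfl
        refine ⟨A.map (QuotientGroup.mk' K), ?_, ?_⟩
        · rintro _ ⟨a, ha, rfl⟩ _ ⟨b, hb, rfl⟩
          rw [← map_mul, ← map_mul, hA a ha b hb]
        · have h1 : (A.map (QuotientGroup.mk' K)).index ∣ 2 ^ k := by
            rw [← hk]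
            exact Subgroup.index_map_dvd A (QuotientGroup.mk'_surjective K)
          obtain ⟨j, -, hj⟩ := (Nat.dvd_prime_pow Nat.prime_two).mp h1
          exact ⟨j, hj⟩
      exact Group.isSolvable_of_ker_le_range K.subtype (QuotientGroup.mk' K) (by simp)
    · by_cases hsub : Subsingleton G
      · infer_instance
      · rw [not_subsingleton_iff_nontrivial] at hsub
        have hsimple : IsSimpleGroup G := by
          refine { toNontrivial := hsub, eq_bot_or_eq_top_of_normal := ?_ }
          intro H hH
          by_contra hcon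
          push_neg at hcon
          exact hex ⟨H, hH, hcon.1, hcon.2⟩
        by_cases hAbot : A = ⊥
        · rw [hAbot, Subgroup.index_bot] at hk
          exact Cfsg.Agent.S0144.result 2 2 k 0 Nat.prime_two Nat.prime_two (by rw [hk]; simp)
        · obtain ⟨a, haA, ha1⟩ : ∃ a ∈ A, a ≠ 1 := by
            by_contra hcon
            push_neg at hcon
            exact hAbot ((Subgroup.eq_bot_iff_forall A).mpr hcon)
          have hle : A ≤ Subgroup.centralizer ({a} : Set G) := by
            intro x hx
            rw [Subgroup.mem_centralizer_iff]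
            intro y hy
            rw [Set.mem_singleton_iff] at hy
            subst hy
            exact hA y haA x hx
          have h1 : (Subgroup.centralizer ({a} : Set G)).index ∣ 2 ^ k := by
            rw [← hk]
            exact Subgroup.index_dvd_of_le hle
          obtain ⟨j, -, hj⟩ := (Nat.dvd_prime_pow Nat.prime_two).mp h1
          have hprime := Cfsg.Agent.S0143.result 2 j Nat.prime_two a ha1 hj
          haveI : Fact (Nat.card G).Prime := ⟨hprime⟩
          haveI : IsCyclic G := isCyclic_of_prime_card rfl
          letI : CommGroup G := IsCyclic.commGroup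
          infer_instance

/-- Every finite group having an abelian subgroup whose index is a power of 2 is solvable. -/
theorem result {G : Type*} [Group G] [Finite G]
    (A : Subgroup G) (hA : IsMulCommutative A) (hidx : ∃ k : ℕ, A.index = 2 ^ k) : Group.IsSolvable G := by
  exact abelian_two_index_aux _ G rfl ⟨A, fun a ha b hb => by
    have h1 := hA.is_comm.comm (⟨a, ha⟩ : A) ⟨b, hb⟩
    exact congrArg Subtype.val h1, hidx⟩

end Cfsg.Agent.S3824
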