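import Cfsg.Statements.S5164

import Mathlib
import Cfsg.Agent.S1905

set_option autoImplicit false
open Cfsg
open scoped Pointwise

namespace Cfsg.Agent.S5164

theorem pz {G : Type*} [Group G] (p : ℕ) (x : G) (hx : x ^ p = 1) :
    IsPGroup p (Subgroup.zpowers x) := by
  rintro ⟨g, hg⟩
  obtain ⟨m, rfl⟩ := Subgroup.mem_zpowers_iff.mp hg
  refine ⟨1, Subtype.ext ?_⟩
  show (x ^ m) ^ (p ^ 1) = 1
  rw [pow_one, ← zpow_natCast, ← zpow_mul, mul_comm, zpow_mul, zpow_natCast, hx, one_zpow]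

theorem zp_le_norm {G : Type*} [Group G] [Finite G] (K : Subgroup G) (t : G)
    (h : ∀ k ∈ K, t * k * t⁻¹ ∈ K) : Subgroup.zpowers t ≤ Subgroup.normalizer (K : Set G) := by
  rw [Subgroup.zpowers_le]
  exact Cfsg.Agent.S1905.norm_of_conj_le K t h

theorem pgroup_three {G : Type*} [Group G] [Finite G] (p : ℕ) [Fact p.Prime] (a b c : G)
    (ha : a ^ p = 1) (hb : b ^ p = 1) (hc : c ^ p = 1) (hbc : b * c = c * b)
    (h1 : a * b * a⁻¹ ∈ Subgroup.zpowers b ⊔ Subgroup.zpowers c)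
    (h2 : a * c * a⁻¹ ∈ Subgroup.zpowers b ⊔ Subgroup.zpowers c) :
    IsPGroup p ↥(Subgroup.zpowers a ⊔ (Subgroup.zpowers b ⊔ Subgroup.zpowers c)) := by
  have hK' : IsPGroup p ↥(Subgroup.zpowers b ⊔ Subgroup.zpowers c) := by
    apply IsPGroup.to_sup_of_normal_right' (pz p b hb) (pz p c hc)
    apply zp_le_norm
    intro k hk
    obtain ⟨m, rfl⟩ := Subgroup.mem_zpowers_iff.mp hk
    have hcm : Commute b (c ^ m) := Commute.zpow_right (show Commute b c from hbc) m
    have h3 : b * c ^ m * b⁻¹ = c ^ m := by rw [hcm.eq]; group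
    rw [h3]
    exact Subgroup.zpow_mem_zpowers c m
  apply IsPGroup.to_sup_of_normal_right' (pz p a ha) hK'
  apply zp_le_norm
  have hle : Subgroup.zpowers b ⊔ Subgroup.zpowers c ≤
      (Subgroup.zpowers b ⊔ Subgroup.zpowers c).comap (MulAut.conj a).toMonoidHom := by
    apply sup_le
    · rw [Subgroup.zpowers_le]; exact h1
    · rw [Subgroup.zpowers_le]; exact h2
  intro k hk
  exact hle hk

theorem comm_of_small {n p : ℕ} [hp : Fact p.Prime] (T : Subgroup (Equiv.Perm (Fin n)))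
    (hT : IsPGroup p T) (hn : n < p ^ 2) (g h : Equiv.Perm (Fin n)) (hg : g ∈ T) (hh : h ∈ T) :
    g * h = h * g := by
  classical
  apply Equiv.ext
  intro x
  let φ : ↥T →* Equiv.Perm ↥(MulAction.orbit ↥T x) :=
    MulAction.toPermHom ↥T ↥(MulAction.orbit ↥T x)
  obtain ⟨m, hm⟩ := hT.card_orbit x
  have hOle : Nat.card ↥(MulAction.orbit ↥T x) ≤ n := by
    have h1 := Nat.card_le_card_of_injective
      (Subtype.val : ↥(MulAction.orbit ↥T x) → Fin n) Subtype.val_injective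
    rwa [Nat.card_fin] at h1
  have hm1 : m ≤ 1 := by
    by_contra hlt
    have h1 : p ^ 2 ≤ p ^ m := Nat.pow_le_pow_right hp.out.pos (by omega)
    rw [hm] at hOle
    omega
  have hOp : Nat.card ↥(MulAction.orbit ↥T x) ≤ p := by
    rw [hm]
    calc p ^ m ≤ p ^ 1 := Nat.pow_le_pow_right hp.out.pos hm1
      _ = p := pow_one p
  have hR : IsPGroup p φ.range := hT.of_surjective φ.rangeRestrict φ.rangeRestrict_surjective
  obtain ⟨j, hj⟩ := (IsPGroup.iff_card (p := p)).mp hR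
  have hdvd : Nat.card φ.range ∣ (Nat.card ↥(MulAction.orbit ↥T x)).factorial := by
    have h1 := Subgroup.card_subgroup_dvd_card φ.range
    rwa [Nat.card_perm] at h1
  have hj1 : j ≤ 1 := by
    by_contra hlt
    have h2 : p ^ 2 ∣ p ^ j := pow_dvd_pow p (by omega)
    have h3 : p ^ 2 ∣ p.factorial :=
      (h2.trans (hj ▸ hdvd)).trans (Nat.factorial_dvd_factorial hOp)
    rw [← Nat.mul_factorial_pred hp.out.ne_zero, pow_two] at h3
    have h5 : p ∣ (p - 1).factorial := (Nat.mul_dvd_mul_iff_left hp.out.pos).mp h3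
    have h6 := (hp.out.dvd_factorial).mp h5
    have h7 := hp.out.pos
    omega
  haveI hcyc : IsCyclic φ.range := isCyclic_of_card_dvd_prime (p := p) (by
    rw [hj]
    calc p ^ j ∣ p ^ 1 := pow_dvd_pow p hj1
      _ = p := pow_one p)
  have hc := (inferInstance : IsMulCommutative ↥φ.range).is_comm.comm
    ⟨φ ⟨g, hg⟩, ⟨_, rfl⟩⟩ ⟨φ ⟨h, hh⟩, ⟨_, rfl⟩⟩
  have hc' : φ ⟨g, hg⟩ * φ ⟨h, hh⟩ = φ ⟨h, hh⟩ * φ ⟨g, hg⟩ := congrArg Subtype.val hc
  have hx : x ∈ MulAction.orbit ↥T x := MulAction.mem_orbit_self x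
  have h7 := congrArg
    (fun σ : Equiv.Perm ↥(MulAction.orbit ↥T x) => ((σ ⟨x, hx⟩ : ↥(MulAction.orbit ↥T x)) : Fin n)) hc'
  exact h7

theorem transfer {n p : ℕ} {α : Type} [Fintype α] [DecidableEq α] (ι : α ↪ Fin n)
    (K : Subgroup (Equiv.Perm α)) (hK : IsPGroup p K)
    (hsign : ∀ g ∈ K, Equiv.Perm.sign g = 1) (a b : Equiv.Perm α) (ha : a ∈ K) (hb : b ∈ K)
    (hab : a * b ≠ b * a) :
    ∃ H : Subgroup (alternatingGroup (Fin n)), IsPGroup p H ∧
      ∃ a' ∈ H, ∃ b' ∈ H, a' * b' ≠ b' * a' := by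
  have hφ : Function.Injective (Equiv.Perm.viaEmbeddingHom ι) :=
    Equiv.Perm.viaEmbeddingHom_injective ι
  have hsg : ∀ g : Equiv.Perm α,
      Equiv.Perm.sign (Equiv.Perm.viaEmbeddingHom ι g) = Equiv.Perm.sign g := by
    intro g
    letI : DecidablePred (fun a => a ∈ Set.range ι.toFun) := fun a => Classical.propDecidable _
    exact Equiv.Perm.sign_extendDomain g (Equiv.ofInjective ι.1 ι.2)
  have hmem : ∀ g ∈ K, Equiv.Perm.viaEmbeddingHom ι g ∈ alternatingGroup (Fin n) :=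
    fun g hg => Equiv.Perm.mem_alternatingGroup.mpr ((hsg g).trans (hsign g hg))
  refine ⟨(K.map (Equiv.Perm.viaEmbeddingHom ι)).comap (alternatingGroup (Fin n)).subtype, ?_,
    ⟨Equiv.Perm.viaEmbeddingHom ι a, hmem a ha⟩, ?_,
    ⟨Equiv.Perm.viaEmbeddingHom ι b, hmem b hb⟩, ?_, ?_⟩
  · exact (hK.map _).comap_of_injective _ (Subgroup.subtype_injective _)
  · exact Subgroup.mem_comap.mpr (Subgroup.mem_map_of_mem _ ha)
  · exact Subgroup.mem_comap.mpr (Subgroup.mem_map_of_mem _ hb)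
  · intro h
    apply hab
    apply hφ
    rw [map_mul, map_mul]
    exact congrArg Subtype.val h

theorem sign_one {α : Type*} [Fintype α] [DecidableEq α] (p : ℕ) (hp : Odd p)
    (K : Subgroup (Equiv.Perm α)) (hK : IsPGroup p K) (g : Equiv.Perm α) (hg : g ∈ K) :
    Equiv.Perm.sign g = 1 := by
  obtain ⟨k, hk⟩ := hK ⟨g, hg⟩
  have hk' : g ^ (p ^ k) = 1 := congrArg Subtype.val hk
  have h1 : Equiv.Perm.sign g ^ (p ^ k) = 1 := by rw [← map_pow, hk', map_one]
  rcases Int.units_eq_one_or (Equiv.Perm.sign g) with h | h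
  · exact h
  · rw [h, Odd.neg_one_pow (hp.pow)] at h1
    exact absurd h1 (by decide)

theorem exists_odd (n p : ℕ) [hp : Fact p.Prime] (hp2 : p ≠ 2) (hn : p ^ 2 ≤ n) :
    ∃ H : Subgroup (alternatingGroup (Fin n)), IsPGroup p H ∧
      ∃ a' ∈ H, ∃ b' ∈ H, a' * b' ≠ b' * a' := by
  haveI : NeZero p := ⟨hp.out.ne_zero⟩
  haveI : Fact (1 < p) := ⟨hp.out.one_lt⟩
  have hcard : Fintype.card (ZMod p × ZMod p) ≤ Fintype.card (Fin n) := by
    rw [Fintype.card_prod, ZMod.card, Fintype.card_fin]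
    rw [pow_two] at hn
    exact hn
  obtain ⟨ι⟩ := Function.Embedding.nonempty_of_card_le hcard
  let a : Equiv.Perm (ZMod p × ZMod p) :=
    ⟨fun x => (x.1 + 1, x.2), fun x => (x.1 - 1, x.2), fun x => by simp, fun x => by simp⟩
  let b : Equiv.Perm (ZMod p × ZMod p) :=
    ⟨fun x => (x.1, x.2 + x.1), fun x => (x.1, x.2 - x.1), fun x => by simp, fun x => by simp⟩
  let c : Equiv.Perm (ZMod p × ZMod p) :=
    ⟨fun x => (x.1, x.2 + 1), fun x => (x.1, x.2 - 1), fun x => by simp, fun x => by simp⟩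
  have hapow : ∀ (m : ℕ) (x : ZMod p × ZMod p), (a ^ m) x = (x.1 + m, x.2) := by
    intro m
    induction m with
    | zero => intro x; simp
    | succ m ih =>
      intro x
      rw [pow_succ, Equiv.Perm.mul_apply, ih]
      exact Prod.ext (by
        show x.1 + 1 + (m : ZMod p) = x.1 + ((m + 1 : ℕ) : ZMod p)
        push_cast; ring) rfl
  have hbpow : ∀ (m : ℕ) (x : ZMod p × ZMod p), (b ^ m) x = (x.1, x.2 + m * x.1) := by
    intro m
    induction m with
    | zero => intro x; simp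
    | succ m ih =>
      intro x
      rw [pow_succ, Equiv.Perm.mul_apply, ih]
      exact Prod.ext rfl (by
        show x.2 + x.1 + (m : ZMod p) * x.1 = x.2 + ((m + 1 : ℕ) : ZMod p) * x.1
        push_cast; ring)
  have hcpow : ∀ (m : ℕ) (x : ZMod p × ZMod p), (c ^ m) x = (x.1, x.2 + m) := by
    intro m
    induction m with
    | zero => intro x; simp
    | succ m ih =>
      intro x
      rw [pow_succ, Equiv.Perm.mul_apply, ih]
      exact Prod.ext rfl (by
        show x.2 + 1 + (m : ZMod p) = x.2 + ((m + 1 : ℕ) : ZMod p)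
        push_cast; ring)
  have ha : a ^ p = 1 := by
    apply Equiv.ext
    intro x
    have h := hapow p x
    rw [ZMod.natCast_self, add_zero] at h
    exact h
  have hb : b ^ p = 1 := by
    apply Equiv.ext
    intro x
    have h := hbpow p x
    rw [ZMod.natCast_self, zero_mul, add_zero] at h
    exact h
  have hc : c ^ p = 1 := by
    apply Equiv.ext
    intro x
    have h := hcpow p x
    rw [ZMod.natCast_self, add_zero] at h
    exact h
  have hbc : b * c = c * b := by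
    apply Equiv.ext
    intro x
    exact Prod.ext rfl (by show x.2 + 1 + x.1 = x.2 + x.1 + 1; ring)
  have h1 : a * b * a⁻¹ = b * c⁻¹ := by
    apply Equiv.ext
    intro x
    exact Prod.ext (by show x.1 - 1 + 1 = x.1; ring)
      (by show x.2 + (x.1 - 1) = x.2 - 1 + x.1; ring)
  have h2 : a * c * a⁻¹ = c := by
    apply Equiv.ext
    intro x
    exact Prod.ext (by show x.1 - 1 + 1 = x.1; ring) rfl
  have hab : a * b ≠ b * a := by
    intro h
    have h3 := congrArg (fun σ : Equiv.Perm (ZMod p × ZMod p) => (σ (0, 0)).2) h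
    have h4 : (0 : ZMod p) + 0 = 0 + (0 + 1) := h3
    simp at h4
  have hpK := pgroup_three p a b c ha hb hc hbc
    (by rw [h1]
        exact mul_mem (Subgroup.mem_sup_left (Subgroup.mem_zpowers b))
          (Subgroup.mem_sup_right (inv_mem (Subgroup.mem_zpowers c))))
    (by rw [h2]
        exact Subgroup.mem_sup_right (Subgroup.mem_zpowers c))
  have hodd : Odd p := hp.out.odd_of_ne_two hp2
  exact transfer ι _ hpK (fun g hg => sign_one p hodd _ hpK g hg) a b
    (Subgroup.mem_sup_left (Subgroup.mem_zpowers a))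
    (Subgroup.mem_sup_right (Subgroup.mem_sup_left (Subgroup.mem_zpowers b))) hab

def u6 : Equiv.Perm (Fin 6) := Equiv.swap 0 1 * Equiv.swap 2 3
def v6 : Equiv.Perm (Fin 6) := Equiv.swap 0 2 * Equiv.swap 1 3
def t6 : Equiv.Perm (Fin 6) := Equiv.swap 0 1 * Equiv.swap 4 5

theorem hu6 : u6 ^ 2 = 1 := Equiv.ext (by decide)
theorem hv6 : v6 ^ 2 = 1 := Equiv.ext (by decide)
theorem ht6 : t6 ^ 2 = 1 := Equiv.ext (by decide)
theorem huv6 : v6 * u6 = u6 * v6 := Equiv.ext (by decide)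
theorem htv6 : t6 * v6 * t6⁻¹ = v6 * u6 := Equiv.ext (by decide)
theorem htu6 : t6 * u6 * t6⁻¹ = u6 := Equiv.ext (by decide)
theorem hne6 : t6 * v6 ≠ v6 * t6 := fun h =>
  absurd (congrArg (fun σ : Equiv.Perm (Fin 6) => σ 0) h) (by decide)
theorem sgu6 : Equiv.Perm.sign u6 = 1 := by
  simp [u6, Equiv.Perm.sign_swap']
theorem sgv6 : Equiv.Perm.sign v6 = 1 := by
  simp [v6, Equiv.Perm.sign_swap']
theorem sgt6 : Equiv.Perm.sign t6 = 1 := by
  simp [t6, Equiv.Perm.sign_swap']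

theorem exists_two (n : ℕ) (hn6 : 6 ≤ n) :
    ∃ H : Subgroup (alternatingGroup (Fin n)), IsPGroup 2 H ∧
      ∃ a' ∈ H, ∃ b' ∈ H, a' * b' ≠ b' * a' := by
  have hpK := pgroup_three 2 t6 v6 u6 ht6 hv6 hu6 huv6
    (by rw [htv6]
        exact mul_mem (Subgroup.mem_sup_left (Subgroup.mem_zpowers v6))
          (Subgroup.mem_sup_right (Subgroup.mem_zpowers u6)))
    (by rw [htu6]
        exact Subgroup.mem_sup_right (Subgroup.mem_zpowers u6))
  have hle : Subgroup.zpowers t6 ⊔ (Subgroup.zpowers v6 ⊔ Subgroup.zpowers u6) ≤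
      alternatingGroup (Fin 6) := by
    refine sup_le ?_ (sup_le ?_ ?_)
    · rw [Subgroup.zpowers_le]; exact Equiv.Perm.mem_alternatingGroup.mpr sgt6
    · rw [Subgroup.zpowers_le]; exact Equiv.Perm.mem_alternatingGroup.mpr sgv6
    · rw [Subgroup.zpowers_le]; exact Equiv.Perm.mem_alternatingGroup.mpr sgu6
  exact transfer (Fin.castLEEmb hn6) _ hpK
    (fun g hg => Equiv.Perm.mem_alternatingGroup.mp (hle hg)) t6 v6
    (Subgroup.mem_sup_left (Subgroup.mem_zpowers t6))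
    (Subgroup.mem_sup_right (Subgroup.mem_sup_left (Subgroup.mem_zpowers v6))) hne6

theorem exists_nonab (n p : ℕ) [hp : Fact p.Prime] (hn6 : 6 ≤ n) (hn : p ^ 2 ≤ n) :
    ∃ H : Subgroup (alternatingGroup (Fin n)), IsPGroup p H ∧
      ∃ a' ∈ H, ∃ b' ∈ H, a' * b' ≠ b' * a' := by
  by_cases hp2 : p = 2
  · subst hp2
    exact exists_two n hn6
  · exact exists_odd n p hp2 hn

theorem result (n p : ℕ) (hn : 6 ≤ n) [Fact p.Prime] (S : Sylow p (alternatingGroup (Fin n))) (hS : (S : Subgroup (alternatingGroup (Fin n))) ≠ ⊥) : IsMulCommutative S ↔ n < p ^ 2 := by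
  constructor
  · intro hcomm
    by_contra hlt
    push Not at hlt
    obtain ⟨H, hH, a', ha', b', hb', hab'⟩ := exists_nonab n p hn hlt
    obtain ⟨S', hS'⟩ := hH.exists_le_sylow
    apply hab'
    have h1 := hcomm.is_comm.comm ((Sylow.equiv S S').symm ⟨a', hS' ha'⟩)
      ((Sylow.equiv S S').symm ⟨b', hS' hb'⟩)
    have h2 := congrArg (Sylow.equiv S S') h1
    rw [map_mul, map_mul, MulEquiv.apply_symm_apply, MulEquiv.apply_symm_apply] at h2
    exact congrArg Subtype.val h2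
  · intro hlt
    refine ⟨⟨fun a b => ?_⟩⟩
    apply Subtype.ext
    apply Subtype.ext
    exact comm_of_small
      ((S : Subgroup (alternatingGroup (Fin n))).map (alternatingGroup (Fin n)).subtype)
      (S.isPGroup'.map _) hlt a.1.1 b.1.1 ⟨a.1, a.2, rfl⟩ ⟨b.1, b.2, rfl⟩

end Cfsg.Agent.S5164
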