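import Cfsg.Statements.S3835

import Mathlib
import Cfsg.Agent.S2231
import Cfsg.Agent.S5164

set_option autoImplicit false
open Cfsg
open scoped Pointwise

namespace Cfsg.Agent.S3835

def Um (p : ℕ) (α : ZMod p) : Matrix.SpecialLinearGroup (Fin 3) (ZMod p) :=
  ⟨!![1, α, 0; 0, 1, 0; 0, 0, 1], by simp [Matrix.det_fin_three]⟩

def Lm (p : ℕ) (c : ZMod p) : Matrix.SpecialLinearGroup (Fin 3) (ZMod p) :=
  ⟨!![1, 0, 0; c, 1, 0; 0, 0, 1], by simp [Matrix.det_fin_three]⟩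

def Tm (p : ℕ) (e f : ZMod p) : Matrix.SpecialLinearGroup (Fin 3) (ZMod p) :=
  ⟨!![1, 0, e; 0, 1, f; 0, 0, 1], by simp [Matrix.det_fin_three]⟩

theorem Um_val (p : ℕ) (α : ZMod p) : (Um p α).1 = !![1, α, 0; 0, 1, 0; 0, 0, 1] := rfl

theorem Lm_val (p : ℕ) (c : ZMod p) : (Lm p c).1 = !![1, 0, 0; c, 1, 0; 0, 0, 1] := rfl

theorem Tm_val (p : ℕ) (e f : ZMod p) : (Tm p e f).1 = !![1, 0, e; 0, 1, f; 0, 0, 1] := rfl

theorem Um_sq (p : ℕ) (α : ZMod p) : ((Um p α).1 - 1) ^ 2 = 0 := by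
  rw [pow_two, Um_val]
  ext i j
  fin_cases i <;> fin_cases j <;> simp [Matrix.mul_apply, Fin.sum_univ_three]

theorem Lm_sq (p : ℕ) (c : ZMod p) : ((Lm p c).1 - 1) ^ 2 = 0 := by
  rw [pow_two, Lm_val]
  ext i j
  fin_cases i <;> fin_cases j <;> simp [Matrix.mul_apply, Fin.sum_univ_three]

theorem Tm_sq (p : ℕ) (e f : ZMod p) : ((Tm p e f).1 - 1) ^ 2 = 0 := by
  rw [pow_two, Tm_val]
  ext i j
  fin_cases i <;> fin_cases j <;> simp [Matrix.mul_apply, Fin.sum_univ_three]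

theorem hdet {p : ℕ} (x : Matrix.SpecialLinearGroup (Fin 3) (ZMod p))
    (h20 : x.1 2 0 = 0) (h21 : x.1 2 1 = 0) (h22 : x.1 2 2 = 1) :
    x.1 0 0 * x.1 1 1 - x.1 0 1 * x.1 1 0 = 1 := by
  have hd := x.2
  rw [Matrix.det_fin_three, h20, h21, h22] at hd
  linear_combination hd

theorem qd_row {p : ℕ} (g : Matrix.SpecialLinearGroup (Fin 3) (ZMod p)) (hg : g ∈ Cfsg.qd p) :
    g.1 2 0 = 0 ∧ g.1 2 1 = 0 ∧ g.1 2 2 = 1 := by
  unfold Cfsg.qd at hg
  induction hg using Subgroup.closure_induction with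
  | mem x hx => exact hx
  | one => simp
  | mul x y _ _ hx hy =>
    obtain ⟨x1, x2, x3⟩ := hx
    obtain ⟨y1, y2, y3⟩ := hy
    refine ⟨?_, ?_, ?_⟩ <;>
      simp [Matrix.SpecialLinearGroup.coe_mul, Matrix.mul_apply, Fin.sum_univ_three, x1, x2, x3,
        y1, y2, y3]
  | inv x _ hx =>
    obtain ⟨x1, x2, x3⟩ := hx
    have hd := hdet x x1 x2 x3
    refine ⟨?_, ?_, ?_⟩
    · rw [Matrix.SpecialLinearGroup.coe_inv, Matrix.adjugate_fin_three]
      simp [x1, x2, x3]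
    · rw [Matrix.SpecialLinearGroup.coe_inv, Matrix.adjugate_fin_three]
      simp [x1, x2, x3]
    · rw [Matrix.SpecialLinearGroup.coe_inv, Matrix.adjugate_fin_three]
      simp [x1, x2, x3]
      linear_combination hd

theorem pow_p_of_sq {p : ℕ} [Fact p.Prime] (g : Matrix.SpecialLinearGroup (Fin 3) (ZMod p))
    (hN : (g.1 - 1) ^ 2 = 0) : g ^ p = 1 := by
  have hNp : (g.1 - 1) ^ p = 0 := pow_eq_zero_of_le (Fact.out : p.Prime).two_le hN
  have h1 : g.1 ^ p = 1 := by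
    have h2 : g.1 = (g.1 - 1) + 1 := by abel
    rw [h2, add_pow_char_of_commute _ (Commute.one_right _), hNp, one_pow, zero_add]
  apply Subtype.ext
  rw [Matrix.SpecialLinearGroup.coe_pow, h1]
  rfl

theorem ker_top {p : ℕ} [Fact p.Prime] (hp : p ≠ 2) (ψ : ↥(Cfsg.qd p) →* ℤˣ)
    (g : ↥(Cfsg.qd p)) : ψ g = 1 := by
  have hodd : Odd p := (Fact.out : p.Prime).odd_of_ne_two hp
  let K : Subgroup (Matrix.SpecialLinearGroup (Fin 3) (ZMod p)) :=
    ψ.ker.map (Cfsg.qd p).subtype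
  have hS : ∀ x : Matrix.SpecialLinearGroup (Fin 3) (ZMod p),
      x.1 2 0 = 0 → x.1 2 1 = 0 → x.1 2 2 = 1 → x ∈ Cfsg.qd p := fun x h1 h2 h3 =>
    Subgroup.subset_closure ⟨h1, h2, h3⟩
  have sq0 : ∀ u : Matrix.SpecialLinearGroup (Fin 3) (ZMod p), u ∈ Cfsg.qd p →
      (u.1 - 1) ^ 2 = 0 → u ∈ K := by
    intro u hu hN
    have h1 : (⟨u, hu⟩ : ↥(Cfsg.qd p)) ^ p = 1 := Subtype.ext (pow_p_of_sq u hN)
    have h2 : ψ ⟨u, hu⟩ ^ p = 1 := by rw [← map_pow, h1, map_one]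
    have h3 : ψ ⟨u, hu⟩ = 1 := by
      rcases Int.units_eq_one_or (ψ ⟨u, hu⟩) with h | h
      · exact h
      · rw [h, Odd.neg_one_pow hodd] at h2
        exact absurd h2 (by decide)
    exact Subgroup.mem_map.2 ⟨⟨u, hu⟩, MonoidHom.mem_ker.2 h3, rfl⟩
  have hU : ∀ α : ZMod p, Um p α ∈ K := fun α =>
    sq0 _ (hS _ (by simp [Um_val]) (by simp [Um_val]) (by simp [Um_val])) (Um_sq p α)
  have hL : ∀ c : ZMod p, Lm p c ∈ K := fun c =>
    sq0 _ (hS _ (by simp [Lm_val]) (by simp [Lm_val]) (by simp [Lm_val])) (Lm_sq p c)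
  have hT : ∀ e f : ZMod p, Tm p e f ∈ K := fun e f =>
    sq0 _ (hS _ (by simp [Tm_val]) (by simp [Tm_val]) (by simp [Tm_val])) (Tm_sq p e f)
  have caseA : ∀ x : Matrix.SpecialLinearGroup (Fin 3) (ZMod p),
      x.1 2 0 = 0 → x.1 2 1 = 0 → x.1 2 2 = 1 → x.1 1 0 ≠ 0 → x ∈ K := by
    intro x h20 h21 h22 hc
    have hd := hdet x h20 h21 h22
    obtain ⟨α, hα⟩ : ∃ α : ZMod p, x.1 0 0 = 1 + α * x.1 1 0 :=
      ⟨(x.1 0 0 - 1) / x.1 1 0, by rw [div_mul_cancel₀ _ hc]; ring⟩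
    obtain ⟨β, hβ⟩ : ∃ β : ZMod p, x.1 1 1 = 1 + β * x.1 1 0 :=
      ⟨(x.1 1 1 - 1) / x.1 1 0, by rw [div_mul_cancel₀ _ hc]; ring⟩
    have h01 : x.1 0 1 = α + β + α * β * x.1 1 0 := by
      apply mul_left_cancel₀ hc
      linear_combination (x.1 1 1) * hα + (1 + α * x.1 1 0) * hβ - hd
    have hx : x = Tm p (x.1 0 2) (x.1 1 2) * Um p α * Lm p (x.1 1 0) * Um p β := by
      apply Subtype.ext
      simp only [Matrix.SpecialLinearGroup.coe_mul, Tm_val, Um_val, Lm_val]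
      ext i j
      fin_cases i <;> fin_cases j <;> simp [Matrix.mul_apply, Fin.sum_univ_three] <;>
        first
          | linear_combination hα
          | linear_combination h01
          | linear_combination hβ
          | linear_combination h20
          | linear_combination h21
          | linear_combination h22
    rw [hx]
    exact K.mul_mem (K.mul_mem (K.mul_mem (hT _ _) (hU _)) (hL _)) (hU _)
  have caseB : ∀ x : Matrix.SpecialLinearGroup (Fin 3) (ZMod p),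
      x.1 2 0 = 0 → x.1 2 1 = 0 → x.1 2 2 = 1 → x ∈ K := by
    intro x h20 h21 h22
    by_cases hc : x.1 1 0 = 0
    · have hd := hdet x h20 h21 h22
      have h00 : x.1 0 0 ≠ 0 := by
        intro h0
        rw [h0, hc] at hd
        simp at hd
      have hy : Lm p 1 * x ∈ K := by
        apply caseA
        · simp [Matrix.SpecialLinearGroup.coe_mul, Lm_val, Matrix.mul_apply, Fin.sum_univ_three,
            h20]
        · simp [Matrix.SpecialLinearGroup.coe_mul, Lm_val, Matrix.mul_apply, Fin.sum_univ_three,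
            h21]
        · simp [Matrix.SpecialLinearGroup.coe_mul, Lm_val, Matrix.mul_apply, Fin.sum_univ_three,
            h22]
        · simp [Matrix.SpecialLinearGroup.coe_mul, Lm_val, Matrix.mul_apply, Fin.sum_univ_three,
            hc, h00]
      exact (K.mul_mem_cancel_left (hL 1)).1 hy
    · exact caseA x h20 h21 h22 hc
  have hle : Subgroup.closure {M : Matrix.SpecialLinearGroup (Fin 3) (ZMod p) |
      (M : Matrix (Fin 3) (Fin 3) (ZMod p)) 2 0 = 0 ∧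
      (M : Matrix (Fin 3) (Fin 3) (ZMod p)) 2 1 = 0 ∧
      (M : Matrix (Fin 3) (Fin 3) (ZMod p)) 2 2 = 1} ≤ K :=
    (Subgroup.closure_le K).2 (fun x hx => caseB x hx.1 hx.2.1 hx.2.2)
  obtain ⟨g', hg', hgg⟩ := Subgroup.mem_map.1 (hle g.2)
  have hge : g' = g := Subtype.ext hgg
  rw [← hge]
  exact MonoidHom.mem_ker.1 hg'

abbrev Pl (p : ℕ) : Type := {v : Fin 3 → ZMod p // v 2 = 1}

noncomputable def rhoV (p : ℕ) :
    Matrix.SpecialLinearGroup (Fin 3) (ZMod p) →* Equiv.Perm (Fin 3 → ZMod p) :=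
  (MulAction.toPermHom ((Fin 3 → ZMod p) ≃ₗ[ZMod p] (Fin 3 → ZMod p)) (Fin 3 → ZMod p)).comp
    Matrix.SpecialLinearGroup.toLin'

theorem rhoV_apply (p : ℕ) (g : Matrix.SpecialLinearGroup (Fin 3) (ZMod p))
    (v : Fin 3 → ZMod p) : rhoV p g v = g.1.mulVec v := rfl

theorem rho_inv {p : ℕ} (g : Matrix.SpecialLinearGroup (Fin 3) (ZMod p)) (hg : g ∈ Cfsg.qd p)
    (v : Fin 3 → ZMod p) : (rhoV p g v) 2 = 1 ↔ v 2 = 1 := by
  obtain ⟨h1, h2, h3⟩ := qd_row g hg
  rw [rhoV_apply]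
  simp [Matrix.mulVec, dotProduct, Fin.sum_univ_three, h1, h2, h3]

noncomputable def sig (p : ℕ) : ↥(Cfsg.qd p) →* Equiv.Perm (Pl p) where
  toFun g := (rhoV p g.1).subtypePerm (fun v => rho_inv g.1 g.2 v)
  map_one' := by
    apply Equiv.ext
    intro v
    apply Subtype.ext
    simp [Equiv.Perm.subtypePerm_apply]
  map_mul' a b := by
    apply Equiv.ext
    intro v
    apply Subtype.ext
    show rhoV p (a * b).1 v.1 = rhoV p a.1 (rhoV p b.1 v.1)
    rw [Subgroup.coe_mul, map_mul, Equiv.Perm.mul_apply]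

theorem sig_inj (p : ℕ) : Function.Injective (sig p) := by
  rw [injective_iff_map_eq_one]
  intro g hg
  have key : ∀ v : Fin 3 → ZMod p, v 2 = 1 → g.1.1.mulVec v = v := by
    intro v hv
    have h1 : sig p g ⟨v, hv⟩ = ⟨v, hv⟩ := by rw [hg]; rfl
    exact congrArg Subtype.val h1
  have h0 := key ![0, 0, 1] (by simp)
  have h1 := key ![1, 0, 1] (by simp)
  have h2 := key ![0, 1, 1] (by simp)
  have a02 : g.1.1 0 2 = 0 := by
    simpa [Matrix.mulVec, dotProduct, Fin.sum_univ_three] using congrFun h0 0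
  have a12 : g.1.1 1 2 = 0 := by
    simpa [Matrix.mulVec, dotProduct, Fin.sum_univ_three] using congrFun h0 1
  have a22 : g.1.1 2 2 = 1 := by
    simpa [Matrix.mulVec, dotProduct, Fin.sum_univ_three] using congrFun h0 2
  have a00 : g.1.1 0 0 = 1 := by
    simpa [Matrix.mulVec, dotProduct, Fin.sum_univ_three, a02] using congrFun h1 0
  have a10 : g.1.1 1 0 = 0 := by
    simpa [Matrix.mulVec, dotProduct, Fin.sum_univ_three, a12] using congrFun h1 1
  have a20 : g.1.1 2 0 = 0 := by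
    simpa [Matrix.mulVec, dotProduct, Fin.sum_univ_three, a22] using congrFun h1 2
  have a01 : g.1.1 0 1 = 0 := by
    simpa [Matrix.mulVec, dotProduct, Fin.sum_univ_three, a02] using congrFun h2 0
  have a11 : g.1.1 1 1 = 1 := by
    simpa [Matrix.mulVec, dotProduct, Fin.sum_univ_three, a12] using congrFun h2 1
  have a21 : g.1.1 2 1 = 0 := by
    simpa [Matrix.mulVec, dotProduct, Fin.sum_univ_three, a22] using congrFun h2 2
  apply Subtype.ext
  apply Subtype.ext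
  ext i j
  fin_cases i <;> fin_cases j <;> simp [a00, a01, a02, a10, a11, a12, a20, a21, a22]

theorem card_Pl (p : ℕ) [Fact p.Prime] : Nat.card (Pl p) ≤ p ^ 2 := by
  have : NeZero p := ⟨(Fact.out : p.Prime).ne_zero⟩
  have hinj : Function.Injective (fun v : Pl p => (v.1 0, v.1 1)) := by
    intro v w h
    obtain ⟨e0, e1⟩ := Prod.mk.inj h
    apply Subtype.ext
    funext i
    fin_cases i
    · exact e0
    · exact e1
    · show v.1 2 = w.1 2
      rw [v.2, w.2]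
  have h1 := Nat.card_le_card_of_injective _ hinj
  have h2 : Nat.card (ZMod p × ZMod p) = p ^ 2 := by
    rw [Nat.card_prod, Nat.card_zmod, pow_two]
  omega

theorem result {p : ℕ} [Fact p.Prime] (hp : p ≠ 2) (n : ℕ) : ((∃ H : Subgroup (alternatingGroup (Fin n)), Nonempty (↥H ≃* ↥(Cfsg.qd p))) ↔ p ^ 2 ≤ n) ∧ (n < p ^ 2 → ¬ Cfsg.Involves ↥(Cfsg.qd p) ↥(alternatingGroup (Fin n))) := by
  classical
  have : NeZero p := ⟨(Fact.out : p.Prime).ne_zero⟩
  have hPAb : n < p ^ 2 → Cfsg.Agent.S2231.PAb p (alternatingGroup (Fin n)) := by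
    intro hn
    have h1 : Cfsg.Agent.S2231.PAb p (Equiv.Perm (Fin n)) := fun P hP a ha b hb =>
      Cfsg.Agent.S5164.comm_of_small P hP hn a b ha hb
    exact Cfsg.Agent.S2231.PAb_subgroup h1 _
  refine ⟨⟨?_, ?_⟩, ?_⟩
  · rintro ⟨H, ⟨e⟩⟩
    by_contra hlt
    push Not at hlt
    have h3 : Cfsg.Agent.S2231.PAb p H := Cfsg.Agent.S2231.PAb_subgroup (hPAb hlt) H
    exact Cfsg.Agent.S2231.qd_not_PAb hp (Cfsg.Agent.S2231.PAb_equiv e h3)
  · intro hn
    haveI : Fintype (Pl p) := Fintype.ofFinite _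
    have hcard : Fintype.card (Pl p) ≤ Fintype.card (Fin n) := by
      rw [← Nat.card_eq_fintype_card, Fintype.card_fin]
      exact (card_Pl p).trans hn
    obtain ⟨ι⟩ := Function.Embedding.nonempty_of_card_le hcard
    have hsg : ∀ g : Equiv.Perm (Pl p),
        Equiv.Perm.sign (Equiv.Perm.viaEmbeddingHom ι g) = Equiv.Perm.sign g := by
      intro g
      letI : DecidablePred (fun a => a ∈ Set.range ι.toFun) := fun a => Classical.propDecidable _
      exact Equiv.Perm.sign_extendDomain g (Equiv.ofInjective ι.1 ι.2)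
    have hsig1 : ∀ g : ↥(Cfsg.qd p), Equiv.Perm.sign (sig p g) = 1 := fun g =>
      ker_top hp (Equiv.Perm.sign.comp (sig p)) g
    let f : ↥(Cfsg.qd p) →* Equiv.Perm (Fin n) := (Equiv.Perm.viaEmbeddingHom ι).comp (sig p)
    have hf : Function.Injective f := (Equiv.Perm.viaEmbeddingHom_injective ι).comp (sig_inj p)
    have hmem : ∀ g, f g ∈ alternatingGroup (Fin n) := fun g =>
      Equiv.Perm.mem_alternatingGroup.mpr ((hsg _).trans (hsig1 g))
    let F : ↥(Cfsg.qd p) →* ↥(alternatingGroup (Fin n)) := f.codRestrict _ hmem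
    have hF : Function.Injective F := by
      intro a b hab
      exact hf (congrArg Subtype.val hab)
    exact ⟨F.range, ⟨(MonoidHom.ofInjective hF).symm⟩⟩
  · intro hn
    rintro ⟨K₁, R, hnorm, ⟨e⟩⟩
    have := hnorm
    have h3 : Cfsg.Agent.S2231.PAb p K₁ := Cfsg.Agent.S2231.PAb_subgroup (hPAb hn) K₁
    have h4 : Cfsg.Agent.S2231.PAb p (K₁ ⧸ R.subgroupOf K₁) :=
      Cfsg.Agent.S2231.PAb_quotient h3 _
    exact Cfsg.Agent.S2231.qd_not_PAb hp (Cfsg.Agent.S2231.PAb_equiv e h4)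

end Cfsg.Agent.S3835
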