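import Cfsg.Statements.S3870
import Mathlib
import Cfsg.Agent.Lib.Helper6.TateAux

set_option autoImplicit false
open Cfsg

namespace Cfsg.Agent.S3870

open Subgroup

theorem norm_grow {G : Type*} [Group G] [Finite G] {p : ℕ} [Fact p.Prime] (P : Subgroup G)
    (hP : IsPGroup p P) (D : Subgroup G) (hD : D < P) :
    ∃ x ∈ P, x ∈ normalizer (D : Set G) ∧ x ∉ D := by
  haveI : Group.IsNilpotent P := hP.isNilpotent
  have hnc := normalizerCondition_of_isNilpotent (G := P)
  have hlt : D.subgroupOf P < ⊤ := by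
    rw [lt_top_iff_ne_top]
    intro h
    rw [Subgroup.subgroupOf_eq_top] at h
    exact hD.ne (le_antisymm hD.le h)
  have h2 := hnc _ hlt
  obtain ⟨x, hx, hxn⟩ := SetLike.exists_of_lt h2
  refine ⟨x, x.2, ?_, fun h => hxn (Subgroup.mem_subgroupOf.2 h)⟩
  apply Cfsg.Agent.Lib.Helper6.TateAux.mem_normalizer_of_conj_le
  intro d hd
  rw [Subgroup.mem_normalizer_iff] at hx
  have := (hx ⟨d, hD.le hd⟩).1 (Subgroup.mem_subgroupOf.2 hd)
  exact Subgroup.mem_subgroupOf.1 this

/-- Let G be a finite simple group whose Sylow p-subgroups are not normal but such that every proper subgroup of G has a normal Sylow p-subgroup. Then any two distinct Sylow p-subgroups of G intersect trivially, and for every Sylow p-subgroup P the normalizer of every non-identity subgroup of P lies in the normalizer of P. -/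
theorem result {G : Type*} [Group G] [Finite G] [IsSimpleGroup G] {p : ℕ} [Fact p.Prime]
    (hnc : ¬ Cfsg.IsPClosed p G) (hsub : ∀ H : Subgroup G, H ≠ ⊤ → Cfsg.IsPClosed p ↥H) :
    (∀ P Q : Sylow p G, P ≠ Q → (P : Subgroup G) ⊓ (Q : Subgroup G) = ⊥) ∧
      ∀ (P : Sylow p G) (R : Subgroup G), R ≤ P → R ≠ ⊥ →
        Subgroup.normalizer (R : Set G) ≤ Subgroup.normalizer ((P : Subgroup G) : Set G) := by
  classical
  have hPne : ∀ P : Sylow p G, (P : Subgroup G) ≠ ⊤ := by
    intro P hP
    apply hnc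
    intro Q
    obtain ⟨g, rfl⟩ := MulAction.exists_smul_eq G P Q
    have : ((g • P : Sylow p G) : Subgroup G) = ⊤ := by
      rw [Sylow.coe_subgroup_smul, hP]
      ext x
      simp only [Subgroup.mem_top, iff_true]
      rw [Subgroup.mem_pointwise_smul_iff_inv_smul_mem]
      trivial
    rw [this]
    infer_instance
  have hnorm : ∀ D : Subgroup G, D ≠ ⊥ → IsPGroup p D → normalizer (D : Set G) ≠ ⊤ := by
    intro D hD hDp h
    have hDn : D.Normal := Subgroup.normalizer_eq_top_iff.1 h
    rcases hDn.eq_bot_or_eq_top with h1 | h1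
    · exact hD h1
    · obtain ⟨P, hP⟩ := hDp.exists_le_sylow
      exact hPne P (top_le_iff.1 (h1 ▸ hP))
  have hcommon : ∀ H : Subgroup G, H ≠ ⊤ → ∀ K1 K2 : Subgroup G, IsPGroup p K1 →
      IsPGroup p K2 → K1 ≤ H → K2 ≤ H →
      ∃ T : Sylow p G, K1 ≤ (T : Subgroup G) ∧ K2 ≤ (T : Subgroup G) := by
    intro H hH K1 K2 h1 h2 hK1 hK2
    have hcl := hsub H hH
    obtain ⟨S, hS⟩ := (h1.comap_subtype (K := H)).exists_le_sylow
    haveI := Sylow.unique_of_normal S (hcl S)
    obtain ⟨S2, hS2⟩ := (h2.comap_subtype (K := H)).exists_le_sylow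
    have hS2S : S2 = S := Subsingleton.elim _ _
    rw [hS2S] at hS2
    have hSp : IsPGroup p ((S : Subgroup H).map H.subtype) := S.isPGroup'.map _
    obtain ⟨T, hT⟩ := hSp.exists_le_sylow
    refine ⟨T, fun x hx => hT ?_, fun x hx => hT ?_⟩
    · exact Subgroup.mem_map.2 ⟨⟨x, hK1 hx⟩, hS (Subgroup.mem_comap.2 hx), rfl⟩
    · exact Subgroup.mem_map.2 ⟨⟨x, hK2 hx⟩, hS2 (Subgroup.mem_comap.2 hx), rfl⟩
  have hTI : ∀ k : ℕ, ∀ P Q : Sylow p G, P ≠ Q → (P : Subgroup G) ⊓ (Q : Subgroup G) ≠ ⊥ →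
      Nat.card G - Nat.card ((P : Subgroup G) ⊓ (Q : Subgroup G) : Subgroup G) = k → False := by
    intro k
    induction k using Nat.strong_induction_on with
    | _ k ih =>
      intro P Q hPQ hD hk
      set D : Subgroup G := (P : Subgroup G) ⊓ (Q : Subgroup G) with hDdef
      have hDp : IsPGroup p D := P.isPGroup'.to_le inf_le_left
      have hH := hnorm D hD hDp
      have hDP : D < (P : Subgroup G) := by
        refine lt_of_le_of_ne inf_le_left ?_
        intro h
        have hle : (P : Subgroup G) ≤ (Q : Subgroup G) := by rw [← h]; exact inf_le_right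
        exact hPQ (Sylow.ext (P.is_maximal' Q.isPGroup' hle).symm)
      have hDQ : D < (Q : Subgroup G) := by
        refine lt_of_le_of_ne inf_le_right ?_
        intro h
        have hle : (Q : Subgroup G) ≤ (P : Subgroup G) := by rw [← h]; exact inf_le_left
        exact hPQ (Sylow.ext (Q.is_maximal' P.isPGroup' hle))
      obtain ⟨x, hxP, hxN, hxD⟩ := norm_grow (P : Subgroup G) P.isPGroup' D hDP
      obtain ⟨y, hyQ, hyN, hyD⟩ := norm_grow (Q : Subgroup G) Q.isPGroup' D hDQ
      obtain ⟨T, hT1, hT2⟩ := hcommon _ hH ((P : Subgroup G) ⊓ normalizer (D : Set G))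
        ((Q : Subgroup G) ⊓ normalizer (D : Set G)) (P.isPGroup'.to_le inf_le_left)
        (Q.isPGroup'.to_le inf_le_left) inf_le_right inf_le_right
      have hcardG : ∀ K : Subgroup G, Nat.card K ≤ Nat.card G := fun K =>
        Subgroup.card_le_card_group K
      have key : ∀ (P' : Sylow p G) (z : G), D ≤ (P' : Subgroup G) → z ∈ (P' : Subgroup G) →
          z ∈ (T : Subgroup G) → z ∉ D → D ≤ (T : Subgroup G) → P' = T := by
        intro P' z hDP' hzP' hzT hzD hDT
        by_contra hne
        have hlt : D < (P' : Subgroup G) ⊓ (T : Subgroup G) := by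
          refine lt_of_le_of_ne (le_inf hDP' hDT) ?_
          intro h
          apply hzD
          rw [h]
          exact Subgroup.mem_inf.2 ⟨hzP', hzT⟩
        have hcl : Nat.card D < Nat.card ((P' : Subgroup G) ⊓ (T : Subgroup G) : Subgroup G) := by
          have := Set.ncard_lt_ncard (SetLike.coe_ssubset_coe.2 hlt) (Set.toFinite _)
          rw [← Nat.card_coe_set_eq, ← Nat.card_coe_set_eq] at this
          exact this
        have hne2 : (P' : Subgroup G) ⊓ (T : Subgroup G) ≠ ⊥ := by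
          intro h
          rw [h] at hlt
          exact not_lt_bot hlt
        have h1 := hcardG ((P' : Subgroup G) ⊓ (T : Subgroup G))
        have h2 := hcardG D
        exact ih (Nat.card G - Nat.card ((P' : Subgroup G) ⊓ (T : Subgroup G) : Subgroup G))
          (by omega) P' T hne hne2 rfl
      have hDT : D ≤ (T : Subgroup G) := fun d hd =>
        hT1 (Subgroup.mem_inf.2 ⟨hDP.le hd, Subgroup.le_normalizer hd⟩)
      have e1 := key P x hDP.le hxP (hT1 (Subgroup.mem_inf.2 ⟨hxP, hxN⟩)) hxD hDT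
      have e2 := key Q y hDQ.le hyQ (hT2 (Subgroup.mem_inf.2 ⟨hyQ, hyN⟩)) hyD hDT
      exact hPQ (e1.trans e2.symm)
  have hTI' : ∀ P Q : Sylow p G, P ≠ Q → (P : Subgroup G) ⊓ (Q : Subgroup G) = ⊥ := by
    intro P Q hPQ
    by_contra h
    exact hTI _ P Q hPQ h rfl
  refine ⟨hTI', ?_⟩
  intro P R hRP hR g hg
  by_contra hgP
  have hne : g • P ≠ P := by
    intro h
    apply hgP
    have := Sylow.smul_eq_iff_mem_normalizer.1 h
    exact this
  have h0 := hTI' (g • P) P hne
  apply hR
  rw [eq_bot_iff, ← h0]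
  intro r hr
  refine Subgroup.mem_inf.2 ⟨?_, hRP hr⟩
  rw [Sylow.coe_subgroup_smul, Subgroup.mem_pointwise_smul_iff_inv_smul_mem]
  rw [Subgroup.mem_normalizer_iff] at hg
  have h1 : g⁻¹ * r * g ∈ R := by
    rw [hg]
    have : g * (g⁻¹ * r * g) * g⁻¹ = r := by group
    rw [this]; exact hr
  have h2 : (MulAut.conj g)⁻¹ • r = g⁻¹ * r * g := by
    simp [MulAut.smul_def]
  rw [h2]
  exact hRP h1

end Cfsg.Agent.S3870
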