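import Cfsg.Statements.S3873
import Mathlib
import Cfsg.Agent.Lib.Helper6.MinNPC2
import Cfsg.Agent.Lib.Helper6.SylowConj

set_option autoImplicit false
open Cfsg

namespace Cfsg.Agent.S3873

/-- Say that a finite group is p-exponent closed when its elements of order dividing p form a subgroup. Let G be a finite group that is not p-exponent closed, but all of whose proper subgroups and proper quotients are, and suppose G is neither simple nor a p-group. Then there is a prime q ≠ p such that G has order p · q^e, where e is the multiplicative order of q modulo p, and G has a normal elementary abelian subgroup of order q^e that is a minimal normal subgroup of G. -/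
theorem result {G : Type*} [Group G] [Finite G] {p : ℕ} [Fact p.Prime]
    (hnc : ¬ (∃ H : Subgroup G, (H : Set G) = {g : G | g ^ p = 1})) (hsub : ∀ K : Subgroup G, K ≠ ⊤ → (∃ H : Subgroup ↥K, (H : Set ↥K) = {g : ↥K | g ^ p = 1}))
    (hquo : ∀ (N : Subgroup G) [N.Normal], N ≠ ⊥ → (∃ H : Subgroup (G ⧸ N), (H : Set (G ⧸ N)) = {g : (G ⧸ N) | g ^ p = 1}))
    (hns : ¬ IsSimpleGroup G) (hnp : ¬ IsPGroup p G) :
    ∃ q : ℕ, q.Prime ∧ q ≠ p ∧ Nat.card G = p * q ^ orderOf (q : ZMod p) ∧
      ∃ A : Subgroup G, A.Normal ∧ Nat.card ↥A = q ^ orderOf (q : ZMod p) ∧ Cfsg.IsElementaryAbelian q A ∧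
        ∀ B : Subgroup G, B.Normal → B ≤ A → B = ⊥ ∨ B = A := by
  classical
  have hp : p.Prime := Fact.out
  obtain ⟨x, y, hx, hy, hxy⟩ : ∃ x y : G, x ^ p = 1 ∧ y ^ p = 1 ∧ (x * y) ^ p ≠ 1 := by
    by_contra hcon
    push_neg at hcon
    apply hnc
    exact ⟨{ carrier := {g : G | g ^ p = 1}
             mul_mem' := fun {a b} ha hb => hcon a b ha hb
             one_mem' := one_pow p
             inv_mem' := fun {a} ha => by
               show a⁻¹ ^ p = 1
               rw [inv_pow, show a ^ p = 1 from ha, inv_one] }, rfl⟩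
  have hgen : Subgroup.closure ({x, y} : Set G) = ⊤ := by
    by_contra hK
    obtain ⟨H, hH⟩ := hsub _ hK
    have hxK : x ∈ Subgroup.closure ({x, y} : Set G) := Subgroup.subset_closure (by simp)
    have hyK : y ∈ Subgroup.closure ({x, y} : Set G) := Subgroup.subset_closure (by simp)
    have hxH : (⟨x, hxK⟩ : ↥(Subgroup.closure ({x, y} : Set G))) ∈ H := by
      rw [← SetLike.mem_coe, hH]
      exact Subtype.ext (by simpa using hx)
    have hyH : (⟨y, hyK⟩ : ↥(Subgroup.closure ({x, y} : Set G))) ∈ H := by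
      rw [← SetLike.mem_coe, hH]
      exact Subtype.ext (by simpa using hy)
    have hmul := H.mul_mem hxH hyH
    rw [← SetLike.mem_coe, hH] at hmul
    have hmul' : ((⟨x, hxK⟩ : ↥(Subgroup.closure ({x, y} : Set G))) * ⟨y, hyK⟩) ^ p = 1 := hmul
    have : (x * y) ^ p = 1 := by simpa using congrArg Subtype.val hmul'
    exact hxy this
  have hnt : Nontrivial G := by
    by_contra h
    rw [not_nontrivial_iff_subsingleton] at h
    exact hxy (by rw [Subsingleton.elim (x * y) 1, one_pow])
  obtain ⟨N0, hN0n, hN0b, hN0t⟩ : ∃ N0 : Subgroup G, N0.Normal ∧ N0 ≠ ⊥ ∧ N0 ≠ ⊤ := by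
    by_contra hcon
    push_neg at hcon
    apply hns
    exact { exists_pair_ne := exists_pair_ne G
            eq_bot_or_eq_top_of_normal := fun H hH => by
              by_cases hb : H = ⊥
              · exact Or.inl hb
              · exact Or.inr (hcon H hH hb) }
  haveI : Nonempty {B : Subgroup G // B.Normal ∧ B ≠ ⊥} := ⟨⟨N0, hN0n, hN0b⟩⟩
  obtain ⟨⟨N, hNn, hNb⟩, hNmin⟩ := Finite.exists_min
    (fun B : {B : Subgroup G // B.Normal ∧ B ≠ ⊥} => Nat.card B.1)
  haveI := hNn
  have hmin : ∀ B : Subgroup G, B.Normal → B ≤ N → B = ⊥ ∨ B = N := by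
    intro B hBn hBN
    by_cases hb : B = ⊥
    · exact Or.inl hb
    · exact Or.inr (Subgroup.eq_of_le_of_card_ge hBN (hNmin ⟨B, hBn, hb⟩))
  have hNt : N ≠ ⊤ := by
    intro h
    have h1 : Nat.card N ≤ Nat.card N0 := hNmin ⟨N0, hN0n, hN0b⟩
    have h2 : Nat.card N = Nat.card G := by rw [h]; exact Subgroup.card_top
    have h3 : Nat.card N0 ≤ Nat.card G := Subgroup.card_le_card_group N0
    exact hN0t (Subgroup.eq_top_of_card_eq N0 (by omega))
  have hexp : ∀ (N' : Subgroup G) [N'.Normal], N' ≠ ⊥ → ∀ g : G, g ^ p ∈ N' := by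
    intro N' _ hN' g
    obtain ⟨Hb, hHb⟩ := hquo N' hN'
    have hmem : ∀ a : G, a ^ p = 1 → a ∈ Hb.comap (QuotientGroup.mk' N') := by
      intro a ha
      rw [Subgroup.mem_comap, ← SetLike.mem_coe, hHb]
      show (QuotientGroup.mk' N' a) ^ p = 1
      rw [← map_pow, ha, map_one]
    have hle : Subgroup.closure ({x, y} : Set G) ≤ Hb.comap (QuotientGroup.mk' N') := by
      rw [Subgroup.closure_le]
      intro a ha
      rcases ha with rfl | rfl
      · exact hmem _ hx
      · exact hmem _ hy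
    rw [hgen] at hle
    have hg : g ∈ Hb.comap (QuotientGroup.mk' N') := hle (Subgroup.mem_top g)
    rw [Subgroup.mem_comap, ← SetLike.mem_coe, hHb] at hg
    have hg' : (QuotientGroup.mk' N' g) ^ p = 1 := hg
    rw [← map_pow] at hg'
    exact (QuotientGroup.eq_one_iff _).1 hg'
  have hNp : ¬ p ∣ Nat.card N := by
    intro hdvd
    obtain ⟨H, hH⟩ := hsub N hNt
    haveI hHc : H.Characteristic := by
      rw [Subgroup.characteristic_iff_comap_le]
      intro φ a ha
      rw [Subgroup.mem_comap] at ha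
      rw [← SetLike.mem_coe, hH] at ha ⊢
      have h1 : (φ a) ^ p = 1 := ha
      show a ^ p = 1
      apply φ.injective
      rw [map_pow, map_one]; exact h1
    have hBn : (H.map N.subtype).Normal := ConjAct.normal_of_characteristic_of_normal
    obtain ⟨z, hz⟩ := exists_prime_orderOf_dvd_card' p hdvd
    have hzH : z ∈ H := by
      rw [← SetLike.mem_coe, hH]
      show z ^ p = 1
      rw [← hz]; exact pow_orderOf_eq_one z
    rcases hmin _ hBn (Subgroup.map_subtype_le _) with h | h
    · have hHbot : H = ⊥ := (Subgroup.map_eq_bot_iff_of_injective _ N.subtype_injective).1 h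
      rw [hHbot, Subgroup.mem_bot] at hzH
      rw [hzH, orderOf_one] at hz
      exact hp.one_lt.ne hz
    · apply hnp
      intro g
      refine ⟨2, ?_⟩
      have h1 : g ^ p ∈ N := hexp N hNb g
      have h2 : g ^ p ∈ H.map N.subtype := by rw [h]; exact h1
      obtain ⟨m, hm, hmg⟩ := Subgroup.mem_map.1 h2
      rw [← SetLike.mem_coe, hH] at hm
      have h3 : m ^ p = 1 := hm
      have h4 : (g ^ p) ^ p = 1 := by
        rw [← hmg]
        have := congrArg Subtype.val h3
        simpa using this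
      rw [pow_two, pow_mul]; exact h4
  have hdelta : ∀ g : G, (∃ k : ℕ, g ^ (p ^ k) = 1) → g ^ p = 1 := by
    rintro g ⟨k, hk⟩
    have h1 : g ^ p ∈ N := hexp N hNb g
    have h2 : orderOf (g ^ p) ∣ Nat.card N := by
      have := orderOf_dvd_natCard (⟨g ^ p, h1⟩ : N)
      rwa [Subgroup.orderOf_mk] at this
    have h3 : orderOf (g ^ p) ∣ p ^ k := by
      apply orderOf_dvd_of_pow_eq_one
      rw [← pow_mul, mul_comm, pow_mul, hk, one_pow]
    have hcop : Nat.Coprime (p ^ k) (Nat.card N) :=
      Nat.Coprime.pow_left k ((Nat.Prime.coprime_iff_not_dvd hp).2 hNp)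
    have h4 := Nat.dvd_gcd h3 h2
    rw [hcop.gcd_eq_one] at h4
    exact orderOf_eq_one_iff.1 (Nat.dvd_one.1 h4)
  have hα : ¬ Cfsg.IsPClosed p G := by
    intro hcl
    apply hnc
    let P : Sylow p G := default
    haveI := Sylow.unique_of_normal P (hcl P)
    refine ⟨(P : Subgroup G), ?_⟩
    ext g
    constructor
    · intro hg
      obtain ⟨k, hk⟩ := P.isPGroup' ⟨g, hg⟩
      exact hdelta g ⟨k, by simpa using congrArg Subtype.val hk⟩
    · intro hg
      have hg' : g ^ p = 1 := hg
      have hord : ∃ n : ℕ, orderOf g = p ^ n := by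
        rcases (Nat.dvd_prime hp).1 (orderOf_dvd_of_pow_eq_one hg') with h | h
        · exact ⟨0, by rw [h, pow_zero]⟩
        · exact ⟨1, by rw [h, pow_one]⟩
      obtain ⟨n, hn⟩ := hord
      obtain ⟨Q, hQ⟩ :=
        (Cfsg.Agent.Lib.Helper6.SylowConj.isPGroup_zpowers g n hn).exists_le_sylow
      have hQP : Q = P := Subsingleton.elim _ _
      rw [hQP] at hQ
      exact hQ (Subgroup.mem_zpowers g)
  have hβ : ∀ H : Subgroup G, H ≠ ⊤ → Cfsg.IsPClosed p ↥H := by
    intro H hH Q
    obtain ⟨S, hS⟩ := hsub H hH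
    have hSp : IsPGroup p S := by
      intro s
      refine ⟨1, ?_⟩
      have hs : (s : H) ∈ (S : Set H) := s.2
      rw [hS] at hs
      have h1 : (s : H) ^ p = 1 := hs
      rw [pow_one]
      exact Subtype.ext (by simpa using h1)
    have hQS : (Q : Subgroup H) ≤ S := by
      intro a ha
      rw [← SetLike.mem_coe, hS]
      show a ^ p = 1
      obtain ⟨k, hk⟩ := Q.isPGroup' ⟨a, ha⟩
      have hk' : (a : G) ^ (p ^ k) = 1 := by
        have := congrArg Subtype.val (congrArg Subtype.val hk)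
        simpa using this
      exact Subtype.ext (by simpa using hdelta (a : G) ⟨k, hk'⟩)
    have hSQ : S = (Q : Subgroup H) := Q.is_maximal' hSp hQS
    rw [← hSQ]
    refine ⟨fun n hn g => ?_⟩
    rw [← SetLike.mem_coe, hS] at hn ⊢
    have h1 : n ^ p = 1 := hn
    show (g * n * g⁻¹) ^ p = 1
    rw [conj_pow, h1, mul_one, mul_inv_cancel]
  have hγ : ∀ (N' : Subgroup G) [N'.Normal], N' ≠ ⊥ → Cfsg.IsPClosed p (G ⧸ N') := by
    intro N' _ hN' Q
    have hpg : IsPGroup p (G ⧸ N') := by
      intro g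
      obtain ⟨g', rfl⟩ := QuotientGroup.mk_surjective g
      refine ⟨1, ?_⟩
      rw [pow_one, ← QuotientGroup.mk_pow]
      exact (QuotientGroup.eq_one_iff _).2 (hexp N' hN' g')
    have htop : (⊤ : Subgroup (G ⧸ N')) = (Q : Subgroup (G ⧸ N')) :=
      Q.is_maximal' (hpg.to_subgroup ⊤) le_top
    rw [← htop]
    infer_instance
  exact Cfsg.Agent.Lib.Helper6.MinNPC2.structure_thm hα hβ hγ hns

end Cfsg.Agent.S3873
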