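import Cfsg.Statements.S3889
import Mathlib

set_option autoImplicit false
open Cfsg

namespace Cfsg.Agent.S3889

theorem order_dvd_of_partition {G : Type*} [CommGroup G] [Finite G] (𝓑 : Set (Subgroup G))
    (hcov : ∀ g : G, ∃ B ∈ 𝓑, g ∈ B) (hdisj : ∀ B ∈ 𝓑, ∀ C ∈ 𝓑, B ≠ C → B ⊓ C = ⊥)
    (a b : G) (B : Subgroup G) (hB : B ∈ 𝓑) (ha : a ∈ B) (ha1 : a ≠ 1) (hb : b ∉ B) :
    orderOf a ∣ orderOf b := by
  by_contra h
  have h1 : a ^ orderOf b ≠ 1 := fun h' => h (orderOf_dvd_of_pow_eq_one h')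
  obtain ⟨C, hC, habC⟩ := hcov (a * b)
  have h2 : a ^ orderOf b ∈ C := by
    have := Subgroup.pow_mem C habC (orderOf b)
    rwa [mul_pow, pow_orderOf_eq_one, mul_one] at this
  have h3 : a ^ orderOf b ∈ B := Subgroup.pow_mem B ha _
  by_cases hBC : B = C
  · subst hBC
    apply hb
    have := Subgroup.mul_mem B (Subgroup.inv_mem B ha) habC
    rwa [inv_mul_cancel_left] at this
  · have h4 : a ^ orderOf b ∈ B ⊓ C := ⟨h3, h2⟩
    rw [hdisj B hB C hC hBC, Subgroup.mem_bot] at h4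
    exact h1 h4

theorem order_eq_of_partition {G : Type*} [CommGroup G] [Finite G] (𝓑 : Set (Subgroup G))
    (hcov : ∀ g : G, ∃ B ∈ 𝓑, g ∈ B) (hdisj : ∀ B ∈ 𝓑, ∀ C ∈ 𝓑, B ≠ C → B ⊓ C = ⊥)
    (a b : G) (B : Subgroup G) (hB : B ∈ 𝓑) (ha : a ∈ B) (ha1 : a ≠ 1) (hb : b ∉ B) :
    orderOf a = orderOf b := by
  apply Nat.dvd_antisymm (order_dvd_of_partition 𝓑 hcov hdisj a b B hB ha ha1 hb)
  have hb1 : b ≠ 1 := fun h => hb (h ▸ Subgroup.one_mem B)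
  obtain ⟨B', hB', hbB'⟩ := hcov b
  have haB' : a ∉ B' := by
    intro haB'
    have hne : B ≠ B' := fun h => hb (h ▸ hbB')
    have h4 : a ∈ B ⊓ B' := ⟨ha, haB'⟩
    rw [hdisj B hB B' hB' hne, Subgroup.mem_bot] at h4
    exact ha1 h4
  exact order_dvd_of_partition 𝓑 hcov hdisj b a B' hB' hbB' hb1 haB'

/-- A finite abelian group that is the union of a family of proper subgroups any two of which intersect trivially is elementary abelian: its exponent is a prime. -/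
theorem result {G : Type*} [CommGroup G] [Finite G] (𝓑 : Set (Subgroup G)) (hprop : ∀ B ∈ 𝓑, B ≠ ⊤)
    (hcov : ∀ g : G, ∃ B ∈ 𝓑, g ∈ B) (hdisj : ∀ B ∈ 𝓑, ∀ C ∈ 𝓑, B ≠ C → B ⊓ C = ⊥) :
    (Monoid.exponent G).Prime := by
  obtain ⟨B₀, hB₀, h1B₀⟩ := hcov 1
  have hex : ∀ B ∈ 𝓑, ∃ b : G, b ∉ B := by
    intro B hB
    by_contra hcon
    push Not at hcon
    exact hprop B hB ((Subgroup.eq_top_iff' B).2 hcon)
  obtain ⟨a₀, ha₀⟩ := hex B₀ hB₀
  have ha₀1 : a₀ ≠ 1 := fun h => ha₀ (h ▸ h1B₀)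
  have hall : ∀ g : G, g ≠ 1 → orderOf g = orderOf a₀ := by
    intro g hg
    obtain ⟨B, hB, hgB⟩ := hcov g
    by_cases haB : a₀ ∈ B
    · obtain ⟨b, hb⟩ := hex B hB
      rw [order_eq_of_partition 𝓑 hcov hdisj g b B hB hgB hg hb,
        order_eq_of_partition 𝓑 hcov hdisj a₀ b B hB haB ha₀1 hb]
    · exact order_eq_of_partition 𝓑 hcov hdisj g a₀ B hB hgB hg haB
  have hn1 : orderOf a₀ ≠ 1 := fun h => ha₀1 (orderOf_eq_one_iff.1 h)
  have hnpos : 0 < orderOf a₀ := orderOf_pos a₀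
  obtain ⟨q, hq, hqn⟩ := Nat.exists_prime_and_dvd hn1
  obtain ⟨m, hm⟩ := hqn
  have hm0 : m ≠ 0 := by
    rintro rfl
    rw [mul_zero] at hm
    omega
  have hmdvd : m ∣ orderOf a₀ := ⟨q, by rw [hm, mul_comm]⟩
  have h2 : orderOf (a₀ ^ m) = q := by
    rw [orderOf_pow_of_dvd hm0 hmdvd]
    nth_rewrite 1 [hm]
    exact Nat.mul_div_cancel _ (Nat.pos_of_ne_zero hm0)
  have h3 : a₀ ^ m ≠ 1 := by
    intro h
    rw [← orderOf_eq_one_iff, h2] at h
    exact hq.one_lt.ne' h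
  have h4 : orderOf a₀ = q := by rw [← hall _ h3, h2]
  have h5 : Monoid.exponent G ∣ q := by
    apply Monoid.exponent_dvd_of_forall_pow_eq_one
    intro g
    by_cases hg : g = 1
    · rw [hg, one_pow]
    · rw [← h4, ← hall g hg, pow_orderOf_eq_one]
  rcases (Nat.dvd_prime hq).1 h5 with h | h
  · exfalso
    apply ha₀1
    have := Monoid.pow_exponent_eq_one a₀
    rwa [h, pow_one] at this
  · rw [h]
    exact hq

end Cfsg.Agent.S3889
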