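import Mathlib
import Cfsg.Statements.S3946
import Cfsg.Agent.S0033
import Cfsg.Agent.Lib.Helper3.Core
set_option autoImplicit false
open Pointwise
open Cfsg
open scoped commutatorElement

namespace Cfsg.Agent.S3946

/-- ordered product `x * φ x * ... * φ^(n-1) x` -/
def P {G : Type*} [Group G] (φ : G ≃* G) (n : ℕ) (x : G) : G :=
  ((List.range n).map (fun i : ℕ => (φ ^ i) x)).prod

def Spl {G : Type*} [Group G] (p : ℕ) (φ : G ≃* G) : Prop := ∀ x : G, P φ p x = 1

theorem P_zero {G : Type*} [Group G] (φ : G ≃* G) (x : G) : P φ 0 x = 1 := by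
  simp [P]

theorem P_succ {G : Type*} [Group G] (φ : G ≃* G) (n : ℕ) (x : G) :
    P φ (n + 1) x = P φ n x * (φ ^ n) x := by
  unfold P
  rw [List.range_succ, List.map_append, List.prod_append]
  simp

theorem P_succ' {G : Type*} [Group G] (φ : G ≃* G) (n : ℕ) (x : G) :
    P φ (n + 1) x = x * φ (P φ n x) := by
  induction n with
  | zero => simp [P]
  | succ n ih =>
    conv_lhs => rw [P_succ, ih]
    rw [P_succ φ n x, map_mul, mul_assoc]
    have h2 : (φ ^ (n + 1)) x = φ ((φ ^ n) x) := by rw [pow_succ']; rfl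
    rw [h2]

theorem spl_pow {G : Type*} [Group G] (p : ℕ) (φ : G ≃* G) (h : Spl p φ) : φ ^ p = 1 := by
  apply MulEquiv.ext
  intro x
  have h1 := P_succ φ p x
  have h2 := P_succ' φ p x
  rw [h x] at h1 h2
  rw [h2] at h1
  simp at h1
  exact h1.symm

theorem P_fix {G : Type*} [Group G] (φ : G ≃* G) (x : G) (hx : φ x = x) (n : ℕ) :
    P φ n x = x ^ n := by
  induction n with
  | zero => simp [P]
  | succ n ih =>
    rw [P_succ', ih, map_pow, hx, pow_succ']

theorem pow_fix {G : Type*} [Group G] (φ : G ≃* G)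
    (p : ℕ) (hp : p.Prime) (hφp : φ ^ p = 1) (j : ℕ) (hj1 : 1 ≤ j) (hjp : j < p) (y : G)
    (hy : (φ ^ j) y = y) : φ y = y := by
  have hcop : Nat.Coprime j p := (Nat.coprime_of_lt_prime (by omega) hjp hp).symm
  have h1 : ∀ m : ℕ, ((φ ^ j) ^ m) y = y := by
    intro m
    induction m with
    | zero => rfl
    | succ m ih =>
      rw [pow_succ']
      show (φ ^ j) (((φ ^ j) ^ m) y) = y
      rw [ih, hy]
  obtain ⟨m, -, hm⟩ := Nat.exists_mul_mod_eq_one_of_coprime hcop hp.one_lt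
  have h2 : φ ^ (j * m) = φ := by rw [pow_eq_pow_mod (j * m) hφp, hm, pow_one]
  have := h1 m
  rw [← pow_mul, h2] at this
  exact this

theorem twist_pow {G : Type*} [Group G] (φ : G ≃* G) (g : G) (n : ℕ) (x : G) :
    ((MulAut.conj g * φ) ^ n) x = P φ n g * (φ ^ n) x * (P φ n g)⁻¹ := by
  induction n generalizing x with
  | zero => simp [P]
  | succ n ih =>
    rw [pow_succ]
    show ((MulAut.conj g * φ) ^ n) (g * φ x * g⁻¹) = _
    rw [ih, P_succ, map_mul, map_mul, map_inv]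
    have h2 : (φ ^ n) (φ x) = (φ ^ (n + 1)) x := by rw [pow_succ]; rfl
    rw [h2]; group

theorem twist_P {G : Type*} [Group G] (φ : G ≃* G) (g : G) (n : ℕ) (x : G) :
    P (MulAut.conj g * φ) n x = P φ n (x * g) * (P φ n g)⁻¹ := by
  induction n with
  | zero => simp [P]
  | succ n ih =>
    rw [P_succ, ih, twist_pow, P_succ, P_succ, map_mul]; group

theorem spl_twist {G : Type*} [Group G] (p : ℕ) (φ : G ≃* G) (h : Spl p φ) (g : G) :
    Spl p (MulAut.conj g * φ) := by
  intro x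
  rw [twist_P, h, h]; simp

theorem res_exists {G : Type*} [Group G] [Finite G] (φ : G ≃* G) (X : Subgroup G)
    (hφX : ∀ x ∈ X, φ x ∈ X) : ∃ φX : ↥X ≃* ↥X, ∀ x : ↥X, ((φX x : ↥X) : G) = φ (x : G) := by
  have hinj : Function.Injective
      ((φ.toMonoidHom.comp X.subtype).codRestrict X (fun x => hφX x.1 x.2)) := by
    intro a b hab
    exact Subtype.ext (φ.injective (congrArg Subtype.val hab))
  exact ⟨MulEquiv.ofBijective _ ⟨hinj, Finite.injective_iff_surjective.1 hinj⟩, fun x => rfl⟩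

theorem res_pow {G : Type*} [Group G] (φ : G ≃* G) (X : Subgroup G) (φX : ↥X ≃* ↥X)
    (h : ∀ x : ↥X, ((φX x : ↥X) : G) = φ (x : G)) (j : ℕ) (x : ↥X) :
    (((φX ^ j) x : ↥X) : G) = (φ ^ j) (x : G) := by
  induction j generalizing x with
  | zero => rfl
  | succ j ih =>
    rw [pow_succ', pow_succ']
    exact (h _).trans (congrArg φ (ih x))

theorem res_P {G : Type*} [Group G] (φ : G ≃* G) (X : Subgroup G) (φX : ↥X ≃* ↥X)
    (h : ∀ x : ↥X, ((φX x : ↥X) : G) = φ (x : G)) (n : ℕ) (x : ↥X) :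
    ((P φX n x : ↥X) : G) = P φ n (x : G) := by
  induction n with
  | zero => simp [P]
  | succ n ih => rw [P_succ, P_succ, Subgroup.coe_mul, ih, res_pow φ X φX h]

theorem res_spl {G : Type*} [Group G] (p : ℕ) (φ : G ≃* G) (X : Subgroup G) (φX : ↥X ≃* ↥X)
    (h : ∀ x : ↥X, ((φX x : ↥X) : G) = φ (x : G)) (hs : Spl p φ) : Spl p φX := by
  intro x
  apply Subtype.ext
  rw [res_P φ X φX h, hs]; rfl

theorem map_eq_of_inv {G : Type*} [Group G] [Finite G] (φ : G ≃* G) (Z : Subgroup G)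
    (hφZ : ∀ x ∈ Z, φ x ∈ Z) : Z.map (φ : G →* G) = Z := by
  apply (Subgroup.eq_of_le_of_card_ge _ _)
  · rintro _ ⟨x, hx, rfl⟩; exact hφZ x hx
  · rw [Subgroup.card_map_of_injective φ.injective]

theorem quot_exists {G : Type*} [Group G] [Finite G] (φ : G ≃* G) (Z : Subgroup G) [Z.Normal]
    (hφZ : ∀ x ∈ Z, φ x ∈ Z) : ∃ φb : G ⧸ Z ≃* G ⧸ Z,
      ∀ x : G, φb (QuotientGroup.mk' Z x) = QuotientGroup.mk' Z (φ x) :=
  ⟨QuotientGroup.congr Z Z φ (map_eq_of_inv φ Z hφZ), fun x => rfl⟩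

theorem quot_pow {G : Type*} [Group G] (φ : G ≃* G) (Z : Subgroup G) [Z.Normal]
    (φb : G ⧸ Z ≃* G ⧸ Z)
    (h : ∀ x : G, φb (QuotientGroup.mk' Z x) = QuotientGroup.mk' Z (φ x)) (j : ℕ) (x : G) :
    (φb ^ j) (QuotientGroup.mk' Z x) = QuotientGroup.mk' Z ((φ ^ j) x) := by
  induction j generalizing x with
  | zero => rfl
  | succ j ih =>
    rw [pow_succ', pow_succ']
    exact (congrArg φb (ih x)).trans (h _)

theorem quot_P {G : Type*} [Group G] (φ : G ≃* G) (Z : Subgroup G) [Z.Normal]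
    (φb : G ⧸ Z ≃* G ⧸ Z)
    (h : ∀ x : G, φb (QuotientGroup.mk' Z x) = QuotientGroup.mk' Z (φ x)) (n : ℕ) (x : G) :
    P φb n (QuotientGroup.mk' Z x) = QuotientGroup.mk' Z (P φ n x) := by
  induction n with
  | zero => simp [P]
  | succ n ih => rw [P_succ, P_succ, map_mul, ih, quot_pow φ Z φb h]

theorem quot_spl {G : Type*} [Group G] (p : ℕ) (φ : G ≃* G) (Z : Subgroup G) [Z.Normal]
    (φb : G ⧸ Z ≃* G ⧸ Z)
    (h : ∀ x : G, φb (QuotientGroup.mk' Z x) = QuotientGroup.mk' Z (φ x)) (hs : Spl p φ) :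
    Spl p φb := by
  intro x
  obtain ⟨x, rfl⟩ := QuotientGroup.mk'_surjective Z x
  rw [quot_P φ Z φb h, hs, map_one]

theorem prod_range_eq_P {N : Type*} [CommGroup N] (f : N ≃* N) (n : ℕ) (w : N) :
    ∏ j ∈ Finset.range n, (f ^ j) w = P f n w := by
  induction n with
  | zero => simp [P]
  | succ n ih => rw [Finset.prod_range_succ, ih, P_succ]

/-- Lemma E -/
theorem lemE {N : Type*} [CommGroup N] [Finite N] (p : ℕ) (hp : p.Prime) (a f : MulAut N)
    (hc : a * f = f * a) (ha : a ^ p = 1) (hcop : p.Coprime (Nat.card N))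
    (hT : ∀ (i : ℕ) (v : N), ∏ j ∈ Finset.range p, ((a ^ i * f) ^ j) v = 1) : a = 1 := by
  classical
  haveI : Fact p.Prime := ⟨hp⟩
  have hpv : ∀ m : ℕ, a ^ m = a ^ ((m : ZMod p).val) := by
    intro m
    rw [ZMod.val_natCast]
    exact pow_eq_pow_mod m ha
  obtain ⟨T, hTdef⟩ : ∃ T : N → N, T = fun w => ∏ y : ZMod p, (a ^ y.val) w := ⟨_, rfl⟩
  have hTa : ∀ w, a (T w) = T w := by
    intro w
    rw [hTdef]
    show a (∏ y : ZMod p, (a ^ y.val) w) = ∏ y : ZMod p, (a ^ y.val) w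
    rw [map_prod]
    have h1 : ∀ y : ZMod p, a ((a ^ y.val) w) = (a ^ (y + 1).val) w := by
      intro y
      have h2 : a ((a ^ y.val) w) = (a ^ (y.val + 1)) w := by rw [pow_succ']; rfl
      rw [h2, hpv (y.val + 1)]
      congr 3
      push_cast
      rw [ZMod.natCast_zmod_val]
    simp_rw [h1]
    exact Fintype.prod_equiv (Equiv.addRight (1 : ZMod p)) _ _ (fun _ => rfl)
  have hcm : ∀ i : ℕ, Commute (a ^ i) f := fun i => (show Commute a f from hc).pow_left i
  apply MulEquiv.ext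
  intro v
  show a v = v
  have h1 : ∏ x : ZMod p, ∏ j ∈ Finset.range p, ((a ^ x.val * f) ^ j) v = 1 :=
    Finset.prod_eq_one (fun x _ => hT x.val v)
  rw [Finset.prod_comm] at h1
  obtain ⟨k, rfl⟩ : ∃ k, p = k + 1 := ⟨p - 1, (Nat.sub_add_cancel hp.one_le).symm⟩
  rw [Finset.prod_range_succ'] at h1
  have h5 : ∏ x : ZMod (k + 1), ((a ^ x.val * f) ^ 0) v = v ^ (k + 1) := by
    simp [Finset.prod_const]
  rw [h5] at h1
  have hkey : ∀ j ∈ Finset.range k,
      ∏ x : ZMod (k + 1), ((a ^ x.val * f) ^ (j + 1)) v = T ((f ^ (j + 1)) v) := by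
    intro j hj
    have hj' : j < k := Finset.mem_range.1 hj
    have hc0 : ((j + 1 : ℕ) : ZMod (k + 1)) ≠ 0 := by
      intro h0
      rw [ZMod.natCast_eq_zero_iff] at h0
      have := Nat.le_of_dvd (by omega) h0
      omega
    have h2 : ∀ x : ZMod (k + 1), ((a ^ x.val * f) ^ (j + 1)) v =
        (a ^ (x * ((j + 1 : ℕ) : ZMod (k + 1))).val) ((f ^ (j + 1)) v) := by
      intro x
      rw [(hcm x.val).mul_pow, ← pow_mul, hpv (x.val * (j + 1))]
      have h3 : ((x.val * (j + 1) : ℕ) : ZMod (k + 1)) = x * ((j + 1 : ℕ) : ZMod (k + 1)) := by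
        rw [Nat.cast_mul, ZMod.natCast_zmod_val]
      rw [h3]; rfl
    simp_rw [h2]
    rw [hTdef]
    exact Fintype.prod_equiv (Equiv.mulRight₀ _ hc0) _ _ (fun _ => rfl)
  rw [Finset.prod_congr rfl hkey] at h1
  have h6 : a (v ^ (k + 1)) = v ^ (k + 1) := by
    have h7 : v ^ (k + 1) = (∏ j ∈ Finset.range k, T ((f ^ (j + 1)) v))⁻¹ :=
      eq_inv_of_mul_eq_one_right h1
    rw [h7, map_inv, map_prod]
    congr 1
    exact Finset.prod_congr rfl (fun j _ => hTa _)
  have h8 : (a v / v) ^ (k + 1) = 1 := by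
    rw [div_pow, ← map_pow, h6, div_self']
  have h9 : (a v / v) ^ Nat.card N = 1 := pow_card_eq_one'
  exact div_eq_one.1 (S0579.eq_one_of_pow_coprime h8 h9 hcop)

theorem cent_lemma {G : Type*} [Group G] [Finite G] (p : ℕ) (hp : p.Prime) (N : Subgroup G)
    [hNn : N.Normal] (hc : ∀ a ∈ N, ∀ b ∈ N, a * b = b * a) (ψ : G ≃* G) (hψ : Spl p ψ)
    (hψN : ∀ x ∈ N, ψ x ∈ N) (q : ℕ) [hq : Fact q.Prime] (Q : Subgroup G) (hQ : IsPGroup q Q)
    (hψQ : ∀ x ∈ Q, ψ x ∈ Q) (hcop : (Nat.card Q).Coprime (Nat.card N)) :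
    ∀ z ∈ Q, ∀ v ∈ N, z * v * z⁻¹ = v := by
  classical
  letI : CommGroup ↥N :=
    { (inferInstance : Group ↥N) with mul_comm := fun a b => Subtype.ext (hc a a.2 b b.2) }
  obtain ⟨f, hf⟩ := res_exists ψ N hψN
  obtain ⟨ρ, hρ⟩ : ∃ ρ : G →* MulAut ↥N, ∀ (g : G) (w : ↥N), ((ρ g w : ↥N) : G) = g * w * g⁻¹ :=
    ⟨MulAut.conjNormal, fun g w => rfl⟩
  have hcomm : ∀ y : G, (f : MulAut ↥N) * ρ y = ρ (ψ y) * f := by
    intro y
    apply MulEquiv.ext
    intro w
    apply Subtype.ext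
    show ((f (ρ y w) : ↥N) : G) = ((ρ (ψ y) (f w) : ↥N) : G)
    rw [hf, hρ, hρ, hf, map_mul, map_mul, map_inv]
  have hTgen : ∀ (Ψ : G ≃* G) (F : MulAut ↥N), Spl p Ψ → (∀ w : ↥N, ((F w : ↥N) : G) = Ψ w) →
      ∀ w : ↥N, ∏ j ∈ Finset.range p, (F ^ j) w = 1 := by
    intro Ψ F hΨ hF w
    rw [prod_range_eq_P]
    exact res_spl p Ψ N F hF hΨ w
  have hψp := spl_pow p ψ hψ
  suffices hmain : ∀ z ∈ Q, ρ z = 1 by
    intro z hz v hv
    have := hρ z ⟨v, hv⟩
    rw [hmain z hz] at this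
    exact this.symm
  by_cases hQb : Q = ⊥
  · intro z hz
    rw [hQb, Subgroup.mem_bot] at hz
    rw [hz, map_one]
  have hqdvd : q ∣ Nat.card Q := by
    obtain ⟨k, hk⟩ := IsPGroup.iff_card.1 hQ
    rcases Nat.eq_zero_or_pos k with h0 | h0
    · rw [h0, pow_zero] at hk
      exact absurd (Subgroup.card_eq_one.1 hk) hQb
    · rw [hk]; exact dvd_pow_self q h0.ne'
  by_cases hqp : q = p
  · subst hqp
    have hqN : q.Coprime (Nat.card N) := Nat.Coprime.coprime_dvd_left hqdvd hcop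
    obtain ⟨A, hA⟩ : ∃ A : Subgroup (MulAut ↥N), A = Q.map ρ := ⟨_, rfl⟩
    have hAp : IsPGroup q A := hA ▸ hQ.map ρ
    have hfA : ∀ a ∈ A, (f : MulAut ↥N) * a * (f : MulAut ↥N)⁻¹ ∈ A := by
      intro a ha
      rw [hA] at ha ⊢
      obtain ⟨z, hz, rfl⟩ := ha
      refine ⟨ψ z, hψQ z hz, ?_⟩
      rw [hcomm z]; group
    have hfix1 : ∀ a ∈ A, a * (f : MulAut ↥N) = f * a → a ^ q = 1 → a = 1 := by
      intro a ha hac haq
      rw [hA] at ha
      obtain ⟨z, hz, rfl⟩ := ha
      apply lemE q hp (ρ z) f hac haq hqN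
      intro i v
      apply hTgen (MulAut.conj (z ^ i) * ψ) (ρ z ^ i * f) (spl_twist q ψ hψ (z ^ i))
      intro w
      rw [← map_pow]
      show ((ρ (z ^ i) (f w) : ↥N) : G) = (z ^ i) * ψ w * (z ^ i)⁻¹
      rw [hρ, hf]
    have hfix : ∀ (k : ℕ), ∀ a ∈ A, a * (f : MulAut ↥N) = f * a → a ^ (q ^ k) = 1 → a = 1 := by
      intro k
      induction k with
      | zero => intro a _ _ h; simpa using h
      | succ k ih =>
        intro a ha hac h
        apply ih a ha hac
        apply hfix1 _ (A.pow_mem ha _) ?_ ?_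
        · exact ((show Commute a f from hac).pow_left _).eq
        · rw [← pow_mul, ← pow_succ]; exact h
    have hfp : (f : MulAut ↥N) ^ q = 1 := by
      apply MulEquiv.ext
      intro w
      apply Subtype.ext
      rw [res_pow ψ N f hf q w, hψp]; rfl
    obtain ⟨cf, hcf⟩ : ∃ cf : Function.End ↥A, ∀ a : ↥A,
        ((cf a : ↥A) : MulAut ↥N) = f * a * (f : MulAut ↥N)⁻¹ :=
      ⟨fun a => ⟨f * a * (f : MulAut ↥N)⁻¹, hfA a a.2⟩, fun a => rfl⟩
    have hcfpow : ∀ (n : ℕ) (a : ↥A), (((cf ^ n) a : ↥A) : MulAut ↥N) =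
        (f : MulAut ↥N) ^ n * a * ((f : MulAut ↥N) ^ n)⁻¹ := by
      intro n
      induction n with
      | zero =>
        intro a
        rw [pow_zero, pow_zero]
        show ((a : ↥A) : MulAut ↥N) = 1 * a * 1⁻¹
        simp
      | succ n ih =>
        intro a
        rw [pow_succ']
        show ((cf ((cf ^ n) a) : ↥A) : MulAut ↥N) = _
        rw [hcf, ih, pow_succ']; group
    have hcfp : cf ^ q ^ 1 = 1 := by
      funext a
      apply Subtype.ext
      rw [pow_one, hcfpow, hfp]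
      show (1 : MulAut ↥N) * ((a : ↥A) : MulAut ↥N) * 1⁻¹ = ((a : ↥A) : MulAut ↥N)
      simp
    haveI : Fintype ↥A := Fintype.ofFinite _
    have hmod0 := Equiv.Perm.card_fixedPoints_modEq (f := cf) (p := q) (n := 1) hcfp
    have hmod : Nat.card ↥A ≡ Nat.card ↥(Function.fixedPoints cf) [MOD q] := by
      convert hmod0 using 2 <;> exact Fintype.card_eq_nat_card.symm
    have hfpts : Nat.card ↥(Function.fixedPoints cf) = 1 := by
      rw [Nat.card_eq_one_iff_exists]
      refine ⟨⟨1, ?_⟩, ?_⟩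
      · show cf 1 = 1
        apply Subtype.ext
        rw [hcf]; simp
      · rintro ⟨a, ha⟩
        apply Subtype.ext
        show a = 1
        have ha' : cf a = a := ha
        have h1 : (f : MulAut ↥N) * (a : MulAut ↥N) * (f : MulAut ↥N)⁻¹ = a := by
          rw [← hcf, ha']
        have h2 : (a : MulAut ↥N) * f = f * a := by
          conv_lhs => rw [← h1]
          group
        obtain ⟨k, hk⟩ := hAp a
        have hk' : (a : MulAut ↥N) ^ (q ^ k) = 1 := congrArg Subtype.val hk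
        exact Subtype.ext (hfix k a a.2 h2 hk')
    rw [hfpts] at hmod
    have hAbot : A = ⊥ := by
      obtain ⟨k, hk⟩ := IsPGroup.iff_card.1 hAp
      rw [hk] at hmod
      rcases Nat.eq_zero_or_pos k with h0 | h0
      · rw [h0, pow_zero] at hk
        exact Subgroup.card_eq_one.1 hk
      · exfalso
        have h3 : q ^ k ≡ 0 [MOD q] := (Nat.modEq_zero_iff_dvd).2 (dvd_pow_self q h0.ne')
        have h4 : (0 : ℕ) ≡ 1 [MOD q] := h3.symm.trans hmod
        have h5 := (Nat.modEq_zero_iff_dvd).1 h4.symm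
        exact hp.one_lt.ne' (Nat.dvd_one.1 h5)
    intro z hz
    have : ρ z ∈ A := by rw [hA]; exact ⟨z, hz, rfl⟩
    rw [hAbot, Subgroup.mem_bot] at this
    exact this
  · have hB : ∀ j, 1 ≤ j → j < (p - 1) + 1 → ∀ y ∈ Q, (ψ ^ j) y = y → y = 1 := by
      intro j hj1 hj2 y hy hfixy
      have h1 : ψ y = y := pow_fix ψ p hp hψp j hj1 (by omega) y hfixy
      have h2 : y ^ p = 1 := by rw [← P_fix ψ y h1 p]; exact hψ y
      obtain ⟨e, he⟩ := hQ ⟨y, hy⟩
      have he' : y ^ (q ^ e) = 1 := congrArg Subtype.val he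
      exact S0579.eq_one_of_pow_coprime h2 he'
        (Nat.Coprime.pow_right e ((Nat.coprime_primes hp hq.out).2 (Ne.symm hqp)))
    have hp1 : p - 1 + 1 = p := Nat.sub_add_cancel hp.one_le
    have hT : ∀ w : ↥N, ∏ j ∈ Finset.range (p - 1 + 1), ((f : MulAut ↥N) ^ j) w = 1 := by
      rw [hp1]; exact hTgen ψ f hψ hf
    have key := S0033.frob_lemma Q ρ ψ f hcomm (p - 1) hT hψQ hB hcop
    intro z hz
    apply MulEquiv.ext
    intro v
    exact key z hz v

theorem lemZ {G : Type*} [Group G] [Finite G] (φ : G ≃* G) (r : ℕ) [Fact r.Prime]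
    (R : Subgroup G) [hRn : R.Normal] (hRne : R ≠ ⊥) (hR : IsPGroup r R)
    (hφR : ∀ x ∈ R, φ x ∈ R) :
    ∃ N : Subgroup G, N.Normal ∧ N ≠ ⊥ ∧ (∀ x ∈ N, φ x ∈ N) ∧ IsPGroup r N ∧
      (∀ a ∈ N, ∀ b ∈ N, a * b = b * a) := by
  refine ⟨R ⊓ Subgroup.centralizer (R : Set G), inferInstance, ?_, ?_, hR.to_le inf_le_left, ?_⟩
  · haveI : Nontrivial ↥R := (Subgroup.nontrivial_iff_ne_bot R).2 hRne
    haveI := hR.center_nontrivial
    obtain ⟨z, hz⟩ := exists_ne (1 : Subgroup.center ↥R)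
    intro h
    have hmem : ((z : ↥R) : G) ∈ R ⊓ Subgroup.centralizer (R : Set G) := by
      refine Subgroup.mem_inf.mpr ⟨(z : ↥R).2, ?_⟩
      rw [Subgroup.mem_centralizer_iff]
      intro y hy
      have := Subgroup.mem_center_iff.1 z.2 ⟨y, hy⟩
      exact congrArg Subtype.val this
    rw [h, Subgroup.mem_bot] at hmem
    apply hz
    apply Subtype.ext; apply Subtype.ext; exact hmem
  · intro x hx
    obtain ⟨hx1, hx2⟩ := Subgroup.mem_inf.1 hx
    refine Subgroup.mem_inf.mpr ⟨hφR x hx1, ?_⟩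
    rw [Subgroup.mem_centralizer_iff] at hx2 ⊢
    intro y hy
    have hmap := map_eq_of_inv φ R hφR
    have hy' : y ∈ R.map (φ : G →* G) := by rw [hmap]; exact hy
    obtain ⟨y', hy'', rfl⟩ := hy'
    show φ y' * φ x = φ x * φ y'
    rw [← map_mul, ← map_mul, hx2 y' hy'']
  · intro a ha b hb
    exact (Subgroup.mem_centralizer_iff.1 (Subgroup.mem_inf.1 hb).2) a (Subgroup.mem_inf.1 ha).1

universe u

theorem aux (p : ℕ) (hp : p.Prime) : ∀ (n : ℕ) (G : Type u) [Group G] [Finite G],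
    Nat.card G = n → ∀ φ : G ≃* G, Spl p φ → Group.IsNilpotent G := by
  intro n
  induction n using Nat.strong_induction_on with
  | _ n ih =>
    intro G _ _ hn φ hφ
    have IHs : ∀ (ψ : G ≃* G), Spl p ψ → ∀ X : Subgroup G, X ≠ ⊤ → (∀ x ∈ X, ψ x ∈ X) →
        Group.IsNilpotent ↥X := by
      intro ψ hψ X hX hψX
      have hlt : Nat.card ↥X < n := by
        rw [← hn, ← Subgroup.card_top (G := G)]
        exact S0651.card_lt_of_lt (lt_top_iff_ne_top.2 hX)
      obtain ⟨ψX, hψXv⟩ := res_exists ψ X hψX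
      exact ih _ hlt ↥X rfl ψX (res_spl p ψ X ψX hψXv hψ)
    have IHq : ∀ (Z : Subgroup G) [Z.Normal], Z ≠ ⊥ → (∀ x ∈ Z, φ x ∈ Z) →
        Group.IsNilpotent (G ⧸ Z) := by
      intro Z hZn hZne hφZ
      have hlt : Nat.card (G ⧸ Z) < n := by
        rw [← hn, ← S0003.card_quot Z]
        have h1 : 1 < Nat.card Z := (Subgroup.one_lt_card_iff_ne_bot Z).2 hZne
        have h2 : 0 < Nat.card (G ⧸ Z) := Nat.card_pos
        nlinarith
      obtain ⟨φb, hφb⟩ := quot_exists φ Z hφZ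
      exact ih _ hlt (G ⧸ Z) rfl φb (quot_spl p φ Z φb hφb hφ)
    have hSyl : ∀ (r : ℕ) [Fact r.Prime] (S : Sylow r G), ∃ g : G,
        ∀ x ∈ (S : Subgroup G), (MulAut.conj g * φ) x ∈ (S : Subgroup G) := by
      intro r _ S
      obtain ⟨g, hg⟩ := MulAction.exists_smul_eq G S ((φ : MulAut G) • S)
      refine ⟨g⁻¹, fun x hx => ?_⟩
      have h1 : φ x ∈ (((φ : MulAut G) • S : Sylow r G) : Subgroup G) := by
        rw [Sylow.pointwise_smul_def]
        exact Subgroup.smul_mem_pointwise_smul x (φ : MulAut G) (S : Subgroup G) hx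
      rw [← hg, Sylow.coe_subgroup_smul, Subgroup.pointwise_smul_def] at h1
      obtain ⟨s, hs, hsx⟩ := h1
      have hsx' : g * s * g⁻¹ = φ x := hsx
      show g⁻¹ * φ x * g⁻¹⁻¹ ∈ (S : Subgroup G)
      rw [← hsx']
      have : g⁻¹ * (g * s * g⁻¹) * g⁻¹⁻¹ = s := by group
      rw [this]; exact hs
    have hexN : Group.IsNilpotent G ∨ ∃ (r : ℕ) (_ : Fact r.Prime) (N : Subgroup G),
        N.Normal ∧ N ≠ ⊥ ∧ (∀ x ∈ N, φ x ∈ N) ∧ IsPGroup r N ∧
        (∀ a ∈ N, ∀ b ∈ N, a * b = b * a) := by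
      by_cases hodd : ∃ q : ℕ, q.Prime ∧ q ≠ 2 ∧ q ∣ Nat.card G
      swap
      · left
        have hk := Nat.eq_prime_pow_of_unique_prime_dvd (p := 2) (n := Nat.card G)
          Nat.card_pos.ne' (fun {d} hd hdd => by
            by_contra hne
            exact hodd ⟨d, hd, hne, hdd⟩)
        haveI : Fact (2 : ℕ).Prime := ⟨Nat.prime_two⟩
        exact (IsPGroup.of_card hk).isNilpotent
      obtain ⟨q, hq, hq2, hqd⟩ := hodd
      haveI : Fact q.Prime := ⟨hq⟩
      obtain ⟨Q⟩ : Nonempty (Sylow q G) := inferInstance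
      obtain ⟨g, hg⟩ := hSyl q Q
      obtain ⟨ψ, hψdef⟩ : ∃ ψ : G ≃* G, ψ = MulAut.conj g * φ := ⟨_, rfl⟩
      have hψ : Spl p ψ := hψdef ▸ spl_twist p φ hφ g
      have hψQ : ∀ x ∈ (Q : Subgroup G), ψ x ∈ (Q : Subgroup G) := hψdef ▸ hg
      have hQne : (Q : Subgroup G) ≠ ⊥ := Q.ne_bot_of_dvd_card hqd
      obtain ⟨W, hW⟩ : ∃ W : Subgroup G, W = centerThompsonAOf (Q : Subgroup G) := ⟨_, rfl⟩
      have hWne : W ≠ ⊥ := hW ▸ S0658.ZJ_ne_bot hq2 _ Q.2 hQne
      have hWQ : W ≤ (Q : Subgroup G) := hW ▸ (inf_le_left.trans (Subgroup.map_subtype_le _))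
      have hQmap := map_eq_of_inv ψ _ hψQ
      have hWmap : W.map (ψ : G →* G) = W := by
        rw [hW, ← S0658.ZJ_map hq2 (ψ : G →* G) ψ.injective, hQmap]
      have hψW : ∀ x ∈ W, ψ x ∈ W := fun x hx => by rw [← hWmap]; exact ⟨x, hx, rfl⟩
      by_cases hN : Subgroup.normalizer (W : Set G) = ⊤
      · haveI hWn : W.Normal := Subgroup.normalizer_eq_top_iff.mp hN
        right
        have hφW : ∀ x ∈ W, φ x ∈ W := by
          intro x hx
          have h1 := hψW x hx
          have h2 : φ x = g⁻¹ * ψ x * g⁻¹⁻¹ := by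
            rw [hψdef]
            show φ x = g⁻¹ * (g * φ x * g⁻¹) * g⁻¹⁻¹
            group
          rw [h2]; exact hWn.conj_mem _ h1 _
        obtain ⟨N, h1, h2, h3, h4, h5⟩ := lemZ φ q W hWne (Q.2.to_le hWQ) hφW
        exact ⟨q, inferInstance, N, h1, h2, h3, h4, h5⟩
      · have hψNm : ∀ x ∈ Subgroup.normalizer (W : Set G),
            ψ x ∈ Subgroup.normalizer (W : Set G) := by
          intro x hx
          have h1 := Subgroup.le_normalizer_map (ψ : G →* G) (H := W) ⟨x, hx, rfl⟩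
          rw [hWmap] at h1
          exact h1
        haveI hNnil := IHs ψ hψ _ hN hψNm
        have hnpcN : HasNormalPComplement q ↥(Subgroup.normalizer (W : Set G)) :=
          S4040.npc_of_nilpotent q
        have hnpc : HasNormalPComplement q G := by
          apply S0659.result hq2 Q
          rw [← hW]; exact hnpcN
        obtain ⟨K, hKn, hKc, j, hKj⟩ := Lib.Helper1.Frob.hasNPC_iff.1 hnpc
        haveI := hKn
        have hKmem : ∀ x : G, (orderOf x).Coprime q → x ∈ K :=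
          fun x hx => Lib.Helper1.Frob.mem_of_coprime_of_index K hKj x hx
        have hφK : ∀ x ∈ K, φ x ∈ K := by
          intro x hx
          apply hKmem
          rw [MulEquiv.orderOf_eq φ x]
          exact Nat.Coprime.coprime_dvd_left (Subgroup.orderOf_dvd_natCard K hx) hKc
        have hKtop : K ≠ ⊤ := by
          intro h
          rw [h, Subgroup.card_top] at hKc
          exact (Nat.Prime.coprime_iff_not_dvd hq).1 hKc.symm hqd
        have hKnil := IHs φ hφ K hKtop hφK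
        have hSr : ∀ (r : ℕ) [Fact r.Prime] (S : Sylow r G), r ≠ q →
            (S : Subgroup G).Normal := by
          intro r hr S hrp
          have hSK : (S : Subgroup G) ≤ K := by
            intro x hx
            apply hKmem
            obtain ⟨e, he⟩ := S.2 ⟨x, hx⟩
            have he' : x ^ (r ^ e) = 1 := congrArg Subtype.val he
            exact Nat.Coprime.coprime_dvd_left (orderOf_dvd_of_pow_eq_one he')
              (Nat.Coprime.pow_left e ((Nat.coprime_primes hr.out hq).2 hrp))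
          have hS₀n : ((S.subtype hSK : Sylow r ↥K) : Subgroup ↥K).Normal :=
            S0033.sylow_normal_of_nilpotent hKnil r _
          have hall : ∀ g : G, g • S = S := by
            intro g
            have hgK : ((g • S : Sylow r G) : Subgroup G) ≤ K := by
              intro x hx
              rw [Sylow.coe_subgroup_smul, Subgroup.pointwise_smul_def] at hx
              obtain ⟨s, hs, rfl⟩ := hx
              exact hKn.conj_mem s (hSK hs) g
            letI := Sylow.unique_of_normal (S.subtype hSK) hS₀n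
            have heq : (g • S).subtype hgK = S.subtype hSK := Subsingleton.elim _ _
            have h1 : (((g • S).subtype hgK : Sylow r ↥K) : Subgroup ↥K).map K.subtype =
                ((S.subtype hSK : Sylow r ↥K) : Subgroup ↥K).map K.subtype := by rw [heq]
            rw [Sylow.coe_subtype, Sylow.coe_subtype, Subgroup.subgroupOf_map_subtype,
              Subgroup.subgroupOf_map_subtype, inf_of_le_left hgK, inf_of_le_left hSK] at h1
            exact Sylow.ext h1
          have htop : Subgroup.normalizer ((S : Subgroup G) : Set G) = ⊤ := by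
            rw [eq_top_iff]
            intro g _
            exact Sylow.smul_eq_iff_mem_normalizer.1 (hall g)
          exact Subgroup.normalizer_eq_top_iff.mp htop
        by_cases hK : K = ⊥
        · left
          have hcard : Nat.card G = q ^ j := by
            rw [← Subgroup.card_mul_index K, hKj, hK, Subgroup.card_bot, one_mul]
          exact (IsPGroup.of_card hcard).isNilpotent
        · right
          have h1 : Nat.card K ≠ 1 := fun h => hK (Subgroup.card_eq_one.1 h)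
          obtain ⟨r, hr, hrd⟩ := Nat.exists_prime_and_dvd h1
          haveI : Fact r.Prime := ⟨hr⟩
          have hrq : r ≠ q := by
            rintro rfl
            exact (Nat.Prime.coprime_iff_not_dvd hr).1 hKc.symm hrd
          obtain ⟨S⟩ : Nonempty (Sylow r G) := inferInstance
          haveI hSn := hSr r S hrq
          have hSne : (S : Subgroup G) ≠ ⊥ :=
            S.ne_bot_of_dvd_card (hrd.trans (Subgroup.card_subgroup_dvd_card K))
          have hφS : ∀ x ∈ (S : Subgroup G), φ x ∈ (S : Subgroup G) := by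
            intro x hx
            obtain ⟨g', hg'⟩ := hSyl r S
            have h1 := hg' x hx
            have h2 : φ x = g'⁻¹ * ((MulAut.conj g' * φ) x) * g'⁻¹⁻¹ := by
              show φ x = g'⁻¹ * (g' * φ x * g'⁻¹) * g'⁻¹⁻¹
              group
            rw [h2]; exact hSn.conj_mem _ h1 _
          obtain ⟨N, h1, h2, h3, h4, h5⟩ := lemZ φ r (S : Subgroup G) hSne S.2 hφS
          exact ⟨r, inferInstance, N, h1, h2, h3, h4, h5⟩
    rcases hexN with hnil | ⟨r, hr, N, hNn, hNne, hφN, hNr, hNc⟩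
    · exact hnil
    haveI := hr
    haveI := hNn
    haveI hqnil := IHq N hNne hφN
    have hcopQ : ∀ (q : ℕ) [Fact q.Prime] (Q : Sylow q G), q ≠ r →
        (Nat.card (Q : Subgroup G)).Coprime (Nat.card N) := by
      intro q hq Q hqr
      obtain ⟨k, hk⟩ := IsPGroup.iff_card.1 Q.2
      obtain ⟨l, hl⟩ := IsPGroup.iff_card.1 hNr
      rw [hk, hl]
      exact Nat.Coprime.pow _ _ ((Nat.coprime_primes hq.out hr.out).2 hqr)
    have hcentQ : ∀ (q : ℕ) [Fact q.Prime] (Q : Sylow q G), q ≠ r →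
        ∀ z ∈ (Q : Subgroup G), ∀ v ∈ N, z * v * z⁻¹ = v := by
      intro q hq Q hqr
      obtain ⟨g, hg⟩ := hSyl q Q
      have hψN : ∀ x ∈ N, (MulAut.conj g * φ) x ∈ N :=
        fun x hx => hNn.conj_mem _ (hφN x hx) g
      exact cent_lemma p hp N hNc (MulAut.conj g * φ) (spl_twist p φ hφ g) hψN q
        (Q : Subgroup G) Q.2 hg (hcopQ q Q hqr)
    apply ((Group.isNilpotent_of_finite_tfae (G := G)).out 0 3).2
    intro q hq Q
    haveI := hq
    have h1 : ((Q.mapSurjective (QuotientGroup.mk'_surjective N) : Sylow q (G ⧸ N)) :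
        Subgroup (G ⧸ N)).Normal :=
      S0033.sylow_normal_of_nilpotent inferInstance q _
    rw [Sylow.coe_mapSurjective] at h1
    have h2 := h1.comap (QuotientGroup.mk' N)
    rw [Subgroup.comap_map_eq, QuotientGroup.ker_mk'] at h2
    by_cases hqr : q = r
    · subst hqr
      have hNQ : N ≤ (Q : Subgroup G) :=
        (Lib.Helper3.Core.le_pCore N hNn hNr).trans (Lib.Helper3.Core.pCore_le_sylow Q)
      rw [sup_of_le_left hNQ] at h2
      exact h2
    · refine S0033.normal_of_sup N (Q : Subgroup G) h2 ?_ (hcopQ q Q hqr)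
      intro z hz v hv
      have := hcentQ q Q hqr z hz v hv
      calc v * z = z * v * z⁻¹ * z := by rw [this]
        _ = z * v := by group

theorem result {G : Type*} [Group G] [Finite G] (α : MulAut G) (hp : (orderOf α).Prime)
    (hsplit : ∀ x : G, (((List.range (orderOf α)).map (fun i : ℕ => (α ^ i) x)).prod = 1)) : Group.IsNilpotent G :=
  aux (orderOf α) hp _ G rfl α hsplit

end Cfsg.Agent.S3946
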