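import Cfsg.Statements.S4106

import Mathlib

set_option autoImplicit false
open Cfsg
open scoped Pointwise

namespace Cfsg.Agent.S4106

universe u

def PiClass (s : Set ℕ) {G : Type u} [Group G] (C : ConjClasses G) : Prop :=
  ∀ q : ℕ, q.Prime → (∃ g : G, ConjClasses.mk g = C ∧ q ∣ orderOf g) → q ∈ s

theorem orderOf_conj' {G : Type u} [Group G] (c g : G) : orderOf (c * g * c⁻¹) = orderOf g := by
  have h6 := orderOf_injective (MulAut.conj c).toMonoidHom (MulEquiv.injective _) g
  simpa using h6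

theorem piClass_mk (s : Set ℕ) {G : Type u} [Group G] (g : G) :
    PiClass s (ConjClasses.mk g) ↔ ∀ q : ℕ, q.Prime → q ∣ orderOf g → q ∈ s := by
  constructor
  · intro h q hq hdvd
    exact h q hq ⟨g, rfl, hdvd⟩
  · rintro h q hq ⟨g', hg', hdvd⟩
    rw [ConjClasses.mk_eq_mk_iff_isConj, isConj_iff] at hg'
    obtain ⟨c, hc⟩ := hg'
    rw [← hc, orderOf_conj'] at h
    exact h q hq hdvd

theorem p_decomp {G : Type u} [Group G] [Finite G] (p : ℕ) [hp : Fact p.Prime] (g : G) :
    ∃ a b : ℕ, g ^ a * g ^ b = g ∧ (∃ k, orderOf (g ^ a) = p ^ k) ∧ ¬ p ∣ orderOf (g ^ b) := by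
  have hn : 0 < orderOf g := orderOf_pos g
  obtain ⟨k, r, hr, hkr⟩ := Nat.exists_eq_pow_mul_and_not_dvd hn.ne' p hp.out.ne_one
  have hcop : Nat.Coprime (p ^ k) r :=
    Nat.Coprime.pow_left k ((Nat.Prime.coprime_iff_not_dvd hp.out).mpr hr)
  obtain ⟨a, ha1, ha2⟩ := Nat.chineseRemainder hcop 1 0
  obtain ⟨b, hb1, hb2⟩ := Nat.chineseRemainder hcop 0 1
  refine ⟨a, b, ?_, ?_, ?_⟩
  · rw [← pow_add]
    have h1 : a + b ≡ 1 [MOD orderOf g] := by
      rw [hkr]
      rw [← Nat.modEq_and_modEq_iff_modEq_mul hcop]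
      constructor
      · simpa using ha1.add hb1
      · simpa using ha2.add hb2
    have h2 := (pow_eq_pow_iff_modEq (x := g)).mpr h1
    rw [h2, pow_one]
  · have h1 : (g ^ a) ^ (p ^ k) = 1 := by
      rw [← pow_mul]
      apply orderOf_dvd_iff_pow_eq_one.mp
      rw [hkr, mul_comm a]
      exact mul_dvd_mul_left _ ((Nat.modEq_zero_iff_dvd).mp ha2)
    have h2 := orderOf_dvd_of_pow_eq_one h1
    obtain ⟨j, -, hj⟩ := (Nat.dvd_prime_pow hp.out).mp h2
    exact ⟨j, hj⟩
  · have h1 : (g ^ b) ^ r = 1 := by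
      rw [← pow_mul]
      apply orderOf_dvd_iff_pow_eq_one.mp
      rw [hkr]
      exact mul_dvd_mul ((Nat.modEq_zero_iff_dvd).mp hb1) dvd_rfl
    have h2 := orderOf_dvd_of_pow_eq_one h1
    intro h3
    exact hr (h3.trans h2)

theorem conj_into_sylow {G : Type u} [Group G] [Finite G] (p : ℕ) [Fact p.Prime] (P : Sylow p G)
    (x : G) (k : ℕ) (hx : orderOf x = p ^ k) : ∃ h : G, h * x * h⁻¹ ∈ (P : Subgroup G) := by
  have hP : IsPGroup p (Subgroup.zpowers x) :=
    IsPGroup.of_card (n := k) (by rw [Nat.card_zpowers, hx])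
  obtain ⟨Q, hQ⟩ := hP.exists_le_sylow
  obtain ⟨h, hh⟩ := MulAction.exists_smul_eq G Q P
  refine ⟨h, ?_⟩
  rw [← hh, Sylow.coe_subgroup_smul]
  exact Subgroup.smul_mem_pointwise_smul x (MulAut.conj h) _ (hQ (Subgroup.mem_zpowers x))

theorem key : ∀ s : Finset ℕ, (∀ q ∈ s, q.Prime) → ∀ (G : Type u) [Group G] [Finite G],
    Nat.card {C : ConjClasses G // PiClass (s : Set ℕ) C} ≤
      ∏ q ∈ s, q ^ (Nat.card G).factorization q := by
  classical
  intro s
  induction s using Finset.induction_on with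
  | empty =>
    intro _ G _ _
    rw [Finset.prod_empty, Finite.card_le_one_iff_subsingleton]
    constructor
    rintro ⟨C₁, h₁⟩ ⟨C₂, h₂⟩
    apply Subtype.ext
    show C₁ = C₂
    have aux : ∀ C : ConjClasses G, PiClass ((∅ : Finset ℕ) : Set ℕ) C →
        C = ConjClasses.mk 1 := by
      intro C hC
      obtain ⟨g, rfl⟩ := ConjClasses.mk_surjective C
      rw [piClass_mk] at hC
      have h1 : orderOf g = 1 := by
        by_contra hne
        obtain ⟨q, hq, hqd⟩ := Nat.exists_prime_and_dvd hne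
        exact absurd (hC q hq hqd) (by simp)
      rw [orderOf_eq_one_iff] at h1
      rw [h1]
    rw [aux C₁ h₁, aux C₂ h₂]
  | insert p s' hp ih =>
    intro hs G _ _
    have hpp : p.Prime := hs p (Finset.mem_insert_self p s')
    haveI : Fact p.Prime := ⟨hpp⟩
    have hs' : ∀ q ∈ s', q.Prime := fun q hq => hs q (Finset.mem_insert_of_mem hq)
    obtain ⟨P⟩ : Nonempty (Sylow p G) := inferInstance
    haveI : Fintype (P : Subgroup G) := Fintype.ofFinite _
    rw [Finset.prod_insert hp]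
    have hR1 : ∀ C : {C : ConjClasses G // PiClass ((insert p s' : Finset ℕ) : Set ℕ) C},
        ∃ a : (Σ x : (P : Subgroup G),
          {D : ConjClasses (Subgroup.centralizer ({(x : G)} : Set G)) // PiClass (s' : Set ℕ) D}),
        ∃ y : Subgroup.centralizer ({(a.1 : G)} : Set G),
          ConjClasses.mk y = a.2.1 ∧ ConjClasses.mk ((a.1 : G) * (y : G)) = C.1 := by
      rintro ⟨C, hC⟩
      obtain ⟨g, rfl⟩ := ConjClasses.mk_surjective C
      rw [piClass_mk] at hC
      obtain ⟨a, b, hab, ⟨k, hk⟩, hb⟩ := p_decomp p g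
      obtain ⟨h, hh⟩ := conj_into_sylow p P (g ^ a) k hk
      have hy : h * g ^ b * h⁻¹ ∈ Subgroup.centralizer ({(h * g ^ a * h⁻¹ : G)} : Set G) := by
        rw [Subgroup.mem_centralizer_iff]
        intro z hz
        rw [Set.mem_singleton_iff] at hz
        rw [hz]
        have hcm : g ^ a * g ^ b = g ^ b * g ^ a := by rw [← pow_add, ← pow_add, add_comm]
        calc h * g ^ a * h⁻¹ * (h * g ^ b * h⁻¹) = h * (g ^ a * g ^ b) * h⁻¹ := by group
          _ = h * (g ^ b * g ^ a) * h⁻¹ := by rw [hcm]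
          _ = h * g ^ b * h⁻¹ * (h * g ^ a * h⁻¹) := by group
      refine ⟨⟨⟨h * g ^ a * h⁻¹, hh⟩, ⟨ConjClasses.mk ⟨h * g ^ b * h⁻¹, hy⟩, ?_⟩⟩,
        ⟨h * g ^ b * h⁻¹, hy⟩, rfl, ?_⟩
      · rw [piClass_mk]
        intro q hq hqd
        rw [Subgroup.orderOf_mk, orderOf_conj'] at hqd
        have h1 : q ∣ orderOf g := hqd.trans (orderOf_pow_dvd b)
        have h2 := hC q hq h1
        rw [Finset.coe_insert, Set.mem_insert_iff] at h2
        rcases h2 with rfl | h2
        · exact absurd hqd hb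
        · exact h2
      · show ConjClasses.mk (h * g ^ a * h⁻¹ * (h * g ^ b * h⁻¹)) = ConjClasses.mk g
        rw [ConjClasses.mk_eq_mk_iff_isConj, isConj_iff]
        refine ⟨h⁻¹, ?_⟩
        calc h⁻¹ * (h * g ^ a * h⁻¹ * (h * g ^ b * h⁻¹)) * h⁻¹⁻¹ = g ^ a * g ^ b := by group
          _ = g := hab
    have hR2 : ∀ (C₁ C₂ : {C : ConjClasses G // PiClass ((insert p s' : Finset ℕ) : Set ℕ) C})
        (a : (Σ x : (P : Subgroup G),
          {D : ConjClasses (Subgroup.centralizer ({(x : G)} : Set G)) // PiClass (s' : Set ℕ) D})),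
        (∃ y : Subgroup.centralizer ({(a.1 : G)} : Set G),
          ConjClasses.mk y = a.2.1 ∧ ConjClasses.mk ((a.1 : G) * (y : G)) = C₁.1) →
        (∃ y : Subgroup.centralizer ({(a.1 : G)} : Set G),
          ConjClasses.mk y = a.2.1 ∧ ConjClasses.mk ((a.1 : G) * (y : G)) = C₂.1) → C₁ = C₂ := by
      rintro C₁ C₂ ⟨x, D⟩ ⟨y₁, hy₁, hC₁⟩ ⟨y₂, hy₂, hC₂⟩
      apply Subtype.ext
      rw [← hC₁, ← hC₂]
      have h1 : ConjClasses.mk y₁ = ConjClasses.mk y₂ := hy₁.trans hy₂.symm
      rw [ConjClasses.mk_eq_mk_iff_isConj, isConj_iff] at h1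
      obtain ⟨c, hc⟩ := h1
      rw [ConjClasses.mk_eq_mk_iff_isConj, isConj_iff]
      refine ⟨(c : G), ?_⟩
      have hcx : (x : G) * (c : G) = (c : G) * (x : G) :=
        (Subgroup.mem_centralizer_iff.mp c.2) (x : G) (Set.mem_singleton _)
      have hc' : (c : G) * (y₁ : G) * (c : G)⁻¹ = (y₂ : G) := by
        have h2 := congrArg Subtype.val hc
        simpa using h2
      show (c : G) * ((x : G) * (y₁ : G)) * (c : G)⁻¹ = (x : G) * (y₂ : G)
      rw [← hc']
      calc (c : G) * ((x : G) * (y₁ : G)) * (c : G)⁻¹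
          = ((c : G) * (x : G)) * (y₁ : G) * (c : G)⁻¹ := by group
        _ = ((x : G) * (c : G)) * (y₁ : G) * (c : G)⁻¹ := by rw [hcx]
        _ = (x : G) * ((c : G) * (y₁ : G) * (c : G)⁻¹) := by group
    choose f hf using hR1
    have hinj : Function.Injective f := by
      intro C₁ C₂ h
      exact hR2 C₁ C₂ (f C₁) (hf C₁) (h ▸ hf C₂)
    have h1 := Nat.card_le_card_of_injective f hinj
    have h2 : Nat.card (Σ x : (P : Subgroup G),
          {D : ConjClasses (Subgroup.centralizer ({(x : G)} : Set G)) // PiClass (s' : Set ℕ) D})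
        = ∑ x : (P : Subgroup G), Nat.card
          {D : ConjClasses (Subgroup.centralizer ({(x : G)} : Set G)) // PiClass (s' : Set ℕ) D} :=
      Nat.card_sigma
    have h3 : ∀ x : (P : Subgroup G), Nat.card
        {D : ConjClasses (Subgroup.centralizer ({(x : G)} : Set G)) // PiClass (s' : Set ℕ) D} ≤
        ∏ q ∈ s', q ^ (Nat.card G).factorization q := by
      intro x
      refine (ih hs' (Subgroup.centralizer ({(x : G)} : Set G))).trans ?_
      apply Finset.prod_le_prod
      · intro q _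
        exact Nat.zero_le _
      · intro q hq
        apply Nat.pow_le_pow_right (hs' q hq).pos
        exact (Nat.factorization_le_iff_dvd (Nat.card_pos.ne') (Nat.card_pos.ne')).mpr
          (Subgroup.card_subgroup_dvd_card _) q
    calc Nat.card {C : ConjClasses G // PiClass ((insert p s' : Finset ℕ) : Set ℕ) C}
        ≤ Nat.card (Σ x : (P : Subgroup G),
          {D : ConjClasses (Subgroup.centralizer ({(x : G)} : Set G)) // PiClass (s' : Set ℕ) D}) := h1
      _ = ∑ x : (P : Subgroup G), Nat.card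
          {D : ConjClasses (Subgroup.centralizer ({(x : G)} : Set G)) // PiClass (s' : Set ℕ) D} := h2
      _ ≤ ∑ x : (P : Subgroup G), ∏ q ∈ s', q ^ (Nat.card G).factorization q :=
          Finset.sum_le_sum (fun x _ => h3 x)
      _ = Nat.card (P : Subgroup G) * ∏ q ∈ s', q ^ (Nat.card G).factorization q := by
          rw [Finset.sum_const, Finset.card_univ, smul_eq_mul,
            Nat.card_eq_fintype_card (α := ↥(P : Subgroup G))]
      _ = p ^ (Nat.card G).factorization p * ∏ q ∈ s', q ^ (Nat.card G).factorization q := by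
          rw [Sylow.card_eq_multiplicity]

theorem result {G : Type*} [Group G] [Finite G]
    (π : Set ℕ) (hπ : ∀ q ∈ π, q.Prime)
    (m : ℕ) (hm : m ∣ Nat.card G) (hmπ : ∀ q : ℕ, q.Prime → q ∣ m → q ∈ π)
    (hm' : ∀ q ∈ π, ¬ q ∣ Nat.card G / m) :
    Nat.card {C : ConjClasses G // ∀ q : ℕ, q.Prime → (∃ g : G, ConjClasses.mk g = C ∧ q ∣ orderOf g) → q ∈ π} ≤ m := by
  have hGpos : 0 < Nat.card G := Nat.card_pos
  have hm0 : m ≠ 0 := by
    rintro rfl
    rw [zero_dvd_iff] at hm
    omega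
  obtain ⟨r, hr⟩ := hm
  have hdiv : Nat.card G / m = r := by
    rw [hr]
    exact Nat.mul_div_cancel_left r (Nat.pos_of_ne_zero hm0)
  have hr0 : r ≠ 0 := by
    rintro rfl
    rw [mul_zero] at hr
    omega
  have h1 : Nat.card {C : ConjClasses G // ∀ q : ℕ, q.Prime →
      (∃ g : G, ConjClasses.mk g = C ∧ q ∣ orderOf g) → q ∈ π} ≤
      Nat.card {C : ConjClasses G // PiClass ((m.primeFactors : Finset ℕ) : Set ℕ) C} := by
    have hmap : ∀ C : {C : ConjClasses G // ∀ q : ℕ, q.Prime →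
        (∃ g : G, ConjClasses.mk g = C ∧ q ∣ orderOf g) → q ∈ π},
        PiClass ((m.primeFactors : Finset ℕ) : Set ℕ) C.1 := by
      intro C q hq hex
      have hqπ := C.2 q hq hex
      obtain ⟨g, _, hqd⟩ := hex
      have hqG : q ∣ Nat.card G := hqd.trans (orderOf_dvd_natCard g)
      rw [hr] at hqG
      rcases (Nat.Prime.dvd_mul hq).mp hqG with h | h
      · exact Finset.mem_coe.mpr (Nat.mem_primeFactors.mpr ⟨hq, h, hm0⟩)
      · have h5 := hm' q hqπ
        rw [hdiv] at h5
        exact absurd h h5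
    apply Nat.card_le_card_of_injective (fun C => (⟨C.1, hmap C⟩ :
      {C : ConjClasses G // PiClass ((m.primeFactors : Finset ℕ) : Set ℕ) C}))
    intro C₁ C₂ h
    have h' := congrArg (fun z : {C : ConjClasses G //
      PiClass ((m.primeFactors : Finset ℕ) : Set ℕ) C} => z.1) h
    exact Subtype.ext h'
  have h2 := key m.primeFactors (fun q hq => (Nat.mem_primeFactors.mp hq).1) G
  have h3 : ∏ q ∈ m.primeFactors, q ^ (Nat.card G).factorization q = m := by
    have h4 : ∏ q ∈ m.primeFactors, q ^ (Nat.card G).factorization q =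
        ∏ q ∈ m.primeFactors, q ^ m.factorization q := by
      apply Finset.prod_congr rfl
      intro q hq
      have hqp := (Nat.mem_primeFactors.mp hq).1
      have hqm := (Nat.mem_primeFactors.mp hq).2.1
      have hqr : ¬ q ∣ r := by
        have h5 := hm' q (hmπ q hqp hqm)
        rwa [hdiv] at h5
      rw [hr, Nat.factorization_mul hm0 hr0, Finsupp.add_apply,
        Nat.factorization_eq_zero_of_not_dvd hqr, add_zero]
    rw [h4]
    have h6 := Nat.factorization_prod_pow_eq_self hm0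
    rw [Finsupp.prod, Nat.support_factorization] at h6
    exact h6
  rw [h3] at h2
  exact h1.trans h2

end Cfsg.Agent.S4106
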