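import Cfsg.Statements.S3987

import Mathlib
import Cfsg.Agent.S4106
import Cfsg.Agent.S4035

set_option autoImplicit false
open Cfsg
open scoped Pointwise

namespace Cfsg.Agent.S3987

universe u
open Subgroup

section
variable {G : Type u} [Group G] [Finite G]

lemma noncomm_lt (x y : G) (hxy : x * y ≠ y * x) :
    (centralizer ({x * y} : Set G)).index <
      (centralizer ({x} : Set G)).index * (centralizer ({y} : Set G)).index := by
  classical
  rw [← Cfsg.Agent.S4035.class_card, ← Cfsg.Agent.S4035.class_card x,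
    ← Cfsg.Agent.S4035.class_card y, ← Set.ncard_prod]
  have hsub : (ConjClasses.mk (x * y)).carrier ⊆ (fun ab : G × G => ab.1 * ab.2) ''
      ((ConjClasses.mk x).carrier ×ˢ (ConjClasses.mk y).carrier) := by
    intro w hw
    rw [ConjClasses.mem_carrier_iff_mk_eq, ConjClasses.mk_eq_mk_iff_isConj, isConj_iff] at hw
    obtain ⟨c, hc⟩ := hw
    refine ⟨(c⁻¹ * x * c, c⁻¹ * y * c), ⟨?_, ?_⟩, ?_⟩
    · show c⁻¹ * x * c ∈ (ConjClasses.mk x).carrier
      rw [ConjClasses.mem_carrier_iff_mk_eq, ConjClasses.mk_eq_mk_iff_isConj, isConj_iff]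
      exact ⟨c, by group⟩
    · show c⁻¹ * y * c ∈ (ConjClasses.mk y).carrier
      rw [ConjClasses.mem_carrier_iff_mk_eq, ConjClasses.mk_eq_mk_iff_isConj, isConj_iff]
      exact ⟨c, by group⟩
    · show c⁻¹ * x * c * (c⁻¹ * y * c) = w
      have hw2 : w = c⁻¹ * (c * w * c⁻¹) * c := by group
      rw [hw2, hc]; group
  have hle := Set.ncard_le_ncard hsub (Set.toFinite _)
  have hnot : ¬ Set.InjOn (fun ab : G × G => ab.1 * ab.2)
      ((ConjClasses.mk x).carrier ×ˢ (ConjClasses.mk y).carrier) := by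
    intro hinj
    have h1 : ((x, x⁻¹ * y * x) : G × G) ∈
        (ConjClasses.mk x).carrier ×ˢ (ConjClasses.mk y).carrier := by
      refine ⟨ConjClasses.mem_carrier_mk, ?_⟩
      show x⁻¹ * y * x ∈ (ConjClasses.mk y).carrier
      rw [ConjClasses.mem_carrier_iff_mk_eq, ConjClasses.mk_eq_mk_iff_isConj, isConj_iff]
      exact ⟨x, by group⟩
    have h2 : ((y * x * y⁻¹, y) : G × G) ∈
        (ConjClasses.mk x).carrier ×ˢ (ConjClasses.mk y).carrier := by
      refine ⟨?_, ConjClasses.mem_carrier_mk⟩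
      show y * x * y⁻¹ ∈ (ConjClasses.mk x).carrier
      rw [ConjClasses.mem_carrier_iff_mk_eq, ConjClasses.mk_eq_mk_iff_isConj, isConj_iff]
      exact ⟨y⁻¹, by group⟩
    have h3 := hinj h1 h2 (by show x * (x⁻¹ * y * x) = y * x * y⁻¹ * y; group)
    have h4 : x = y * x * y⁻¹ := congrArg Prod.fst h3
    apply hxy
    calc x * y = (y * x * y⁻¹) * y := by rw [← h4]
      _ = y * x := by group
  have hlt : ((fun ab : G × G => ab.1 * ab.2) ''
      ((ConjClasses.mk x).carrier ×ˢ (ConjClasses.mk y).carrier)).ncard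
      < ((ConjClasses.mk x).carrier ×ˢ (ConjClasses.mk y).carrier).ncard := by
    apply lt_of_le_of_ne (Set.ncard_image_le (Set.toFinite _))
    intro heq
    exact hnot ((Set.ncard_image_iff (Set.toFinite _)).mp heq)
  exact lt_of_le_of_lt hle hlt

lemma comm_coprime (p : ℕ) (x : G)
    (h : ∀ y : G, (∃ q b : ℕ, q.Prime ∧ q ≠ p ∧ orderOf y = q ^ b) → x * y = y * x) :
    ∀ n : ℕ, ∀ y : G, orderOf y = n → n.Coprime p → x * y = y * x := by
  intro n
  induction n using Nat.strong_induction_on with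
  | _ n ih =>
    intro y hy hcop
    by_cases h1 : n = 1
    · rw [h1, orderOf_eq_one_iff] at hy
      rw [hy]; simp
    · obtain ⟨q, hq, hqn⟩ := Nat.exists_prime_and_dvd h1
      have hqp : q ≠ p := by
        rintro rfl
        have := Nat.Coprime.eq_one_of_dvd hcop.symm hqn
        exact hq.one_lt.ne' this
      haveI : Fact q.Prime := ⟨hq⟩
      obtain ⟨a, b, hab, ⟨k, hk⟩, hnq⟩ := Cfsg.Agent.S4106.p_decomp q y
      have hca : x * y ^ a = y ^ a * x := h (y ^ a) ⟨q, k, hq, hqp, hk⟩
      have hbn : orderOf (y ^ b) ∣ n := hy ▸ orderOf_pow_dvd b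
      have hblt : orderOf (y ^ b) < n := by
        apply lt_of_le_of_ne (Nat.le_of_dvd (by rw [← hy]; exact orderOf_pos y) hbn)
        intro heq
        exact hnq (heq ▸ hqn)
      have hcb : x * y ^ b = y ^ b * x :=
        ih _ hblt (y ^ b) rfl (Nat.Coprime.coprime_dvd_left hbn hcop)
      calc x * y = x * (y ^ a * y ^ b) := by rw [hab]
        _ = (x * y ^ a) * y ^ b := by group
        _ = y ^ a * (x * y ^ b) := by rw [hca]; group
        _ = y ^ a * (y ^ b * x) := by rw [hcb]
        _ = (y ^ a * y ^ b) * x := by group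
        _ = y * x := by rw [hab]

end

theorem result {G : Type*} [Group G] [Finite G] (p : ℕ) [Fact p.Prime] : (∃ (P : Sylow p G) (K : Subgroup G), (P : Subgroup G).Normal ∧ K.Normal ∧ (P : Subgroup G) ⊓ K = ⊥ ∧ (P : Subgroup G) ⊔ K = ⊤) ↔ ∀ x y : G, (∃ a : ℕ, orderOf x = p ^ a) → (∃ q b : ℕ, q.Prime ∧ q ≠ p ∧ orderOf y = q ^ b) → (Subgroup.centralizer ({x * y} : Set G)).index = (Subgroup.centralizer ({x} : Set G)).index * (Subgroup.centralizer ({y} : Set G)).index := by
  have hpp : p.Prime := Fact.out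
  constructor
  · rintro ⟨P, K, hPn, hKn, hdis, hsup⟩ x y ⟨a, ha⟩ ⟨q, b, hq, hqp, hb⟩
    haveI := hPn
    haveI := hKn
    have hxP : x ∈ (P : Subgroup G) := by
      have hz : IsPGroup p (zpowers x) := IsPGroup.of_card (n := a) (by rw [Nat.card_zpowers, ha])
      obtain ⟨Q, hQ⟩ := hz.exists_le_sylow
      obtain ⟨g, hg⟩ := MulAction.exists_smul_eq G Q P
      have hQP : Q = P := by
        have h1 : Q = g⁻¹ • P := by rw [← hg, inv_smul_smul]
        rw [h1]; exact Sylow.smul_eq_of_normal
      rw [← hQP]; exact hQ (mem_zpowers x)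
    have hpg : IsPGroup p (G ⧸ K) := by
      intro gbar
      obtain ⟨g, rfl⟩ := QuotientGroup.mk_surjective gbar
      have hg1 : g ∈ ((P : Subgroup G) ⊔ K : Subgroup G) := by rw [hsup]; exact mem_top g
      rw [← SetLike.mem_coe, Subgroup.mul_normal] at hg1
      obtain ⟨u, hu, k, hk, huk⟩ := hg1
      have hu' : u ∈ (P : Subgroup G) := hu
      obtain ⟨i, hi⟩ := P.isPGroup' ⟨u, hu'⟩
      have hi' : u ^ p ^ i = 1 := by simpa using congrArg Subtype.val hi
      refine ⟨i, ?_⟩
      have hbar : (g : G ⧸ K) = (u : G ⧸ K) := by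
        rw [← huk, QuotientGroup.mk_mul, (QuotientGroup.eq_one_iff k).mpr hk, mul_one]
      rw [hbar, ← QuotientGroup.mk_pow, hi', QuotientGroup.mk_one]
    have hyK : y ∈ K := by
      obtain ⟨i, h1⟩ := hpg (y : G ⧸ K)
      have h2 : (y : G ⧸ K) ^ q ^ b = 1 := by
        rw [← QuotientGroup.mk_pow, ← hb, pow_orderOf_eq_one, QuotientGroup.mk_one]
      have h3 : orderOf (y : G ⧸ K) = 1 :=
        Nat.eq_one_of_dvd_coprimes (Nat.Coprime.pow i b ((Nat.coprime_primes hpp hq).mpr hqp.symm))
          (orderOf_dvd_of_pow_eq_one h1) (orderOf_dvd_of_pow_eq_one h2)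
      exact (QuotientGroup.eq_one_iff y).mp (orderOf_eq_one_iff.mp h3)
    have hcom : ∀ u ∈ (P : Subgroup G), ∀ k ∈ K, u * k = k * u := fun u hu k hk =>
      (Subgroup.commute_of_normal_of_disjoint _ _ hPn hKn (disjoint_iff.mpr hdis) u k hu hk).eq
    have hxy : Commute x y := hcom x hxP y hyK
    have hyq : y ^ (q ^ b) = 1 := by rw [← hb]; exact pow_orderOf_eq_one y
    have hxp : x ^ (p ^ a) = 1 := by rw [← ha]; exact pow_orderOf_eq_one x
    have hC : centralizer ({x * y} : Set G) = centralizer ({x} : Set G) ⊓ centralizer ({y} : Set G) := by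
      have hcop : Nat.Coprime (q ^ b) (p ^ a) := Nat.Coprime.pow b a ((Nat.coprime_primes hq hpp).mpr hqp)
      obtain ⟨α, β, hαβ⟩ := Nat.Coprime.isCoprime hcop
      have hx1 : x = ((x * y) ^ (q ^ b)) ^ α := by
        rw [hxy.mul_pow, hyq, mul_one]
        have h1 : x ^ (α * ((q ^ b : ℕ) : ℤ) + β * ((p ^ a : ℕ) : ℤ)) = x ^ (1 : ℤ) := by rw [hαβ]
        rw [zpow_one, zpow_add, zpow_mul', zpow_mul', zpow_natCast, zpow_natCast, hxp, one_zpow,
          mul_one] at h1
        exact h1.symm
      have hy1 : y = ((x * y) ^ (p ^ a)) ^ β := by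
        rw [hxy.mul_pow, hxp, one_mul]
        have h1 : y ^ (α * ((q ^ b : ℕ) : ℤ) + β * ((p ^ a : ℕ) : ℤ)) = y ^ (1 : ℤ) := by rw [hαβ]
        rw [zpow_one, zpow_add, zpow_mul', zpow_mul', zpow_natCast, zpow_natCast, hyq, one_zpow,
          one_mul] at h1
        exact h1.symm
      apply le_antisymm
      · intro g hg
        rw [mem_centralizer_iff] at hg
        have hg' : Commute (x * y) g := hg _ (Set.mem_singleton _)
        rw [mem_inf, mem_centralizer_iff, mem_centralizer_iff]
        constructor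
        · intro t ht
          rw [Set.mem_singleton_iff.mp ht, hx1]
          exact ((hg'.pow_left _).zpow_left α).eq
        · intro t ht
          rw [Set.mem_singleton_iff.mp ht, hy1]
          exact ((hg'.pow_left _).zpow_left β).eq
      · intro g hg
        rw [mem_inf, mem_centralizer_iff, mem_centralizer_iff] at hg
        rw [mem_centralizer_iff]
        intro t ht
        rw [Set.mem_singleton_iff.mp ht]
        have h1 : Commute x g := hg.1 x (Set.mem_singleton x)
        have h2 : Commute y g := hg.2 y (Set.mem_singleton y)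
        exact (h1.mul_left h2).eq
    rw [hC]
    have hKle : K ≤ centralizer ({x} : Set G) := by
      intro k hk
      rw [mem_centralizer_iff]
      intro t ht
      rw [Set.mem_singleton_iff.mp ht]
      exact hcom x hxP k hk
    have hPle : (P : Subgroup G) ≤ centralizer ({y} : Set G) := by
      intro u hu
      rw [mem_centralizer_iff]
      intro t ht
      rw [Set.mem_singleton_iff.mp ht]
      exact (hcom u hu y hyK).symm
    obtain ⟨j, hj⟩ := IsPGroup.iff_card.mp hpg
    have hd1 : (centralizer ({x} : Set G)).index ∣ p ^ j := by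
      have := index_dvd_of_le hKle
      rw [← hj]; exact this
    have hd2 : (centralizer ({y} : Set G)).index ∣ (P : Subgroup G).index := index_dvd_of_le hPle
    have hcop : Nat.Coprime (centralizer ({x} : Set G)).index (centralizer ({y} : Set G)).index := by
      obtain ⟨i, -, hi⟩ := (Nat.dvd_prime_pow hpp).mp hd1
      rw [hi]
      apply Nat.Coprime.pow_left
      rw [Nat.Prime.coprime_iff_not_dvd hpp]
      intro hdvd
      exact P.not_dvd_index (hdvd.trans hd2)
    apply le_antisymm (index_inf_le)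
    apply Nat.le_of_dvd (Nat.pos_of_ne_zero index_ne_zero_of_finite)
    exact Nat.Coprime.mul_dvd_of_dvd_of_dvd hcop (index_dvd_of_le inf_le_left) (index_dvd_of_le inf_le_right)
  · intro h
    have hcomm : ∀ x y : G, (∃ a : ℕ, orderOf x = p ^ a) →
        (∃ q b : ℕ, q.Prime ∧ q ≠ p ∧ orderOf y = q ^ b) → x * y = y * x := by
      intro x y hx hy
      by_contra hne
      have := noncomm_lt x y hne
      rw [h x y hx hy] at this
      exact lt_irrefl _ this
    obtain ⟨P⟩ := (inferInstance : Nonempty (Sylow p G))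
    have hS := Cfsg.Agent.S4035.result (p := p) (G := G) ?_ P
    · obtain ⟨hPn, H, hHn, -, hd, hs⟩ := hS
      exact ⟨P, H, hPn, hHn, hd, hs⟩
    · intro y hy
      rw [Cfsg.Agent.S4035.class_card]
      have hle : (P : Subgroup G) ≤ centralizer ({y} : Set G) := by
        intro u hu
        rw [mem_centralizer_iff]
        intro t ht
        rw [Set.mem_singleton_iff.mp ht]
        have hu' : ∃ a : ℕ, orderOf u = p ^ a := by
          obtain ⟨k, hk⟩ := P.isPGroup' ⟨u, hu⟩
          have hk' : u ^ p ^ k = 1 := by simpa using congrArg Subtype.val hk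
          obtain ⟨j, -, hj⟩ := (Nat.dvd_prime_pow hpp).mp (orderOf_dvd_of_pow_eq_one hk')
          exact ⟨j, hj⟩
        exact (comm_coprime p u (fun y' hy' => hcomm u y' hu' hy') _ y rfl hy).symm
      intro hdvd
      exact P.not_dvd_index (hdvd.trans (index_dvd_of_le hle))

end Cfsg.Agent.S3987
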