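import Mathlib
import Cfsg.Statements.S4567
import Cfsg.Agent.Lib.Helper3.Char
import Cfsg.Agent.Lib.Helper3.CharCore
import Cfsg.Agent.Lib.Helper3.CharArith
import Cfsg.Agent.Lib.Helper3.CharInd
import Cfsg.Agent.Lib.Helper3.CharInt
import Cfsg.Agent.Lib.Helper3.CharTable
import Cfsg.Agent.Lib.Helper3.CharMono
import Cfsg.Agent.Lib.Helper3.CharProj
import Cfsg.Agent.Lib.Helper3.CharAb
import Cfsg.Agent.Lib.Helper3.CharLinear

set_option autoImplicit false
open Cfsg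
open Cfsg.Agent.Lib.Helper3.Char Cfsg.Agent.Lib.Helper3.CharCore Cfsg.Agent.Lib.Helper3.CharArith Cfsg.Agent.Lib.Helper3.CharInd Cfsg.Agent.Lib.Helper3.CharInt Cfsg.Agent.Lib.Helper3.CharTable Cfsg.Agent.Lib.Helper3.CharMono Cfsg.Agent.Lib.Helper3.CharProj Cfsg.Agent.Lib.Helper3.CharAb Cfsg.Agent.Lib.Helper3.CharLinear
open scoped ComplexConjugate

namespace Cfsg.Agent.S4567

universe u

theorem central_mul_val {G : Type u} [Group G] [Finite G] (χ : Cfsg.IrrCharacter G) (g n : G)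
    (hn : n ∈ Subgroup.center G) :
    (χ : G → ℂ) (g * n) * (χ : G → ℂ) 1 = (χ : G → ℂ) n * (χ : G → ℂ) g := by
  obtain ⟨d, ρ, hirr, hχeq⟩ := χ.2
  have _hi := hirr
  obtain ⟨a, ha⟩ := central_scalar ρ n hn
  rw [← hχeq]
  show LinearMap.trace ℂ _ (ρ (g * n)) * LinearMap.trace ℂ _ (ρ 1) =
    LinearMap.trace ℂ _ (ρ n) * LinearMap.trace ℂ _ (ρ g)
  have h1 : ρ (g * n) = a • ρ g := by
    rw [map_mul, ha, mul_smul_comm]
    congr 1
  have h2 : ρ 1 = LinearMap.id := map_one ρ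
  rw [h1, h2, ha, map_smul, map_smul, smul_eq_mul, smul_eq_mul]
  ring

theorem twist_sum {G : Type u} [Group G] [Fintype G] (N : Subgroup G) [hNn : N.Normal]
    [Fintype N] (hN : N ≤ Subgroup.center G) (ψ : Cfsg.IrrCharacter N)
    (χ : Cfsg.IrrCharacter G) (g : G)
    [Decidable (Cfsg.classInner (fun n : N => (χ : G → ℂ) n) (ψ : N → ℂ) ≠ 0)] :
    ∑ x : G, conj (Cfsg.extendByZero N (ψ : N → ℂ) x) * (χ : G → ℂ) (g * x) =
      (Nat.card N : ℂ) * (if Cfsg.classInner (fun n : N => (χ : G → ℂ) n) (ψ : N → ℂ) ≠ 0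
        then (χ : G → ℂ) g else 0) := by
  classical
  have hχ1 := irr_one_ne_zero χ.2
  have hNc : (Nat.card N : ℂ) ≠ 0 := by exact_mod_cast (Nat.card_pos (α := N)).ne'
  have h1 : ∀ x : G, conj (Cfsg.extendByZero N (ψ : N → ℂ) x) * (χ : G → ℂ) (g * x) =
      Cfsg.extendByZero N (fun n : N => ((χ : G → ℂ) g / (χ : G → ℂ) 1) *
        ((χ : G → ℂ) (n : G) * conj ((ψ : N → ℂ) n))) x := by
    intro x
    by_cases hx : x ∈ N
    · rw [extendByZero_mem N _ hx, extendByZero_mem N _ hx]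
      have h2 := central_mul_val χ g x (hN hx)
      have h3 : (χ : G → ℂ) (g * x) = (χ : G → ℂ) x * (χ : G → ℂ) g / (χ : G → ℂ) 1 := by
        rw [eq_div_iff hχ1]
        exact h2
      rw [h3]
      ring
    · rw [extendByZero_not_mem N _ hx, extendByZero_not_mem N _ hx]
      simp
  have h4 := sum_extendByZero N (fun n : N => ((χ : G → ℂ) g / (χ : G → ℂ) 1) *
        ((χ : G → ℂ) (n : G) * conj ((ψ : N → ℂ) n))) (fun _ => (1 : ℂ))
  simp only [mul_one] at h4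
  rw [Finset.sum_congr rfl (fun x _ => h1 x), h4, ← Finset.mul_sum]
  have h5 : ∑ n : N, (χ : G → ℂ) (n : G) * conj ((ψ : N → ℂ) n) =
      (Nat.card N : ℂ) * Cfsg.classInner (fun n : N => (χ : G → ℂ) n) (ψ : N → ℂ) := by
    unfold Cfsg.classInner
    rw [← mul_assoc, mul_inv_cancel₀ hNc, one_mul]
  rw [h5]
  split_ifs with hcon
  · have hab : ∀ a b : N, a * b = b * a := by
      intro a b
      apply Subtype.ext
      exact ((Subgroup.mem_center_iff.mp (hN a.2)) (b : G)).symm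
    have hψ1 : (ψ : N → ℂ) 1 = 1 := abelian_linear hab ψ.2
    have hinv : ∀ (x : G) (n : N),
        (ψ : N → ℂ) ⟨x * n * x⁻¹, hNn.conj_mem (n : G) n.2 x⟩ = (ψ : N → ℂ) n := by
      intro x n
      have h9 : (⟨x * n * x⁻¹, hNn.conj_mem (n : G) n.2 x⟩ : N) = n := by
        apply Subtype.ext
        show x * (n : G) * x⁻¹ = (n : G)
        rw [(Subgroup.mem_center_iff.mp (hN n.2)) x, mul_inv_cancel_right]
      rw [h9]
    have h6 := inv_restrict N hNn (χ : G → ℂ) χ.2 (ψ : N → ℂ) ψ.2 hcon hinv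
    have h7 := congrFun h6 1
    simp only [Pi.smul_apply, smul_eq_mul, hψ1, mul_one] at h7
    have h8 : (χ : G → ℂ) 1 = Cfsg.classInner (fun n : N => (χ : G → ℂ) n) (ψ : N → ℂ) := h7
    rw [← h8]
    field_simp
  · have h0 : Cfsg.classInner (fun n : N => (χ : G → ℂ) n) (ψ : N → ℂ) = 0 := not_not.mp hcon
    rw [h0]
    simp

theorem comm_sum {G : Type u} [Group G] [Fintype G] (N : Subgroup G) [hNn : N.Normal]
    [Fintype N] (hN : N ≤ Subgroup.center G) (ψ : Cfsg.IrrCharacter N)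
    (hfaith : ∀ n : N, (ψ : N → ℂ) n = (ψ : N → ℂ) 1 → n = 1) (g : G)
    [Decidable (∀ x : G, x⁻¹ * g⁻¹ * x * g ∈ N → x * g = g * x)] :
    ∑ y : G, conj (Cfsg.extendByZero N (ψ : N → ℂ) (g⁻¹ * y⁻¹ * g * y)) =
      if (∀ x : G, x⁻¹ * g⁻¹ * x * g ∈ N → x * g = g * x) then
        (Nat.card (Subgroup.centralizer ({g} : Set G)) : ℂ) else 0 := by
  classical
  have hab : ∀ a b : N, a * b = b * a := by
    intro a b
    apply Subtype.ext
    exact ((Subgroup.mem_center_iff.mp (hN a.2)) (b : G)).symm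
  have hψ1 : (ψ : N → ℂ) 1 = 1 := abelian_linear hab ψ.2
  split_ifs with hsp
  · have h1 : ∀ y : G, conj (Cfsg.extendByZero N (ψ : N → ℂ) (g⁻¹ * y⁻¹ * g * y)) =
        if y ∈ Subgroup.centralizer ({g} : Set G) then (1 : ℂ) else 0 := by
      intro y
      rw [Subgroup.mem_centralizer_singleton_iff]
      by_cases hy : y * g = g * y
      · rw [if_pos hy]
        have h2 : g⁻¹ * y⁻¹ * g * y = 1 := by
          calc g⁻¹ * y⁻¹ * g * y = g⁻¹ * y⁻¹ * (g * y) := by group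
            _ = g⁻¹ * y⁻¹ * (y * g) := by rw [hy]
            _ = 1 := by group
        rw [h2, extendByZero_mem N _ N.one_mem]
        have h3 : (ψ : N → ℂ) ⟨1, N.one_mem⟩ = 1 := hψ1
        rw [h3, map_one]
      · rw [if_neg hy]
        have h2 : g⁻¹ * y⁻¹ * g * y ∉ N := by
          intro hmem
          apply hy
          apply hsp y
          have h3 := N.inv_mem hmem
          have h4 : (g⁻¹ * y⁻¹ * g * y)⁻¹ = y⁻¹ * g⁻¹ * y * g := by group
          rw [h4] at h3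
          exact h3
        rw [extendByZero_not_mem N _ h2, map_zero]
    rw [Finset.sum_congr rfl (fun y _ => h1 y), Finset.sum_boole, Nat.card_eq_fintype_card,
      Fintype.card_subtype]
  · have hex : ∃ x₀ : G, x₀⁻¹ * g⁻¹ * x₀ * g ∈ N ∧ x₀ * g ≠ g * x₀ := by
      by_contra hno
      apply hsp
      intro x hx
      by_contra hne
      exact hno ⟨x, hx, hne⟩
    obtain ⟨x₀, hx₀, hne⟩ := hex
    obtain ⟨lam, hlam⟩ := hom_of_deg_one (isCharacter_of_irr ψ.2) hψ1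
    have hm₀N : g⁻¹ * x₀⁻¹ * g * x₀ ∈ N := by
      have h3 := N.inv_mem hx₀
      have h4 : (x₀⁻¹ * g⁻¹ * x₀ * g)⁻¹ = g⁻¹ * x₀⁻¹ * g * x₀ := by group
      rw [h4] at h3
      exact h3
    have hm₀1 : g⁻¹ * x₀⁻¹ * g * x₀ ≠ 1 := by
      intro h
      apply hne
      have h5 : g * x₀ = x₀ * g := by
        calc g * x₀ = x₀ * g * (g⁻¹ * x₀⁻¹ * g * x₀) := by group
          _ = x₀ * g := by rw [h, mul_one]
      exact h5.symm
    have htr : ∀ y : G,
        conj (Cfsg.extendByZero N (ψ : N → ℂ) (g⁻¹ * (y * x₀)⁻¹ * g * (y * x₀))) =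
        conj ((ψ : N → ℂ) ⟨g⁻¹ * x₀⁻¹ * g * x₀, hm₀N⟩) *
          conj (Cfsg.extendByZero N (ψ : N → ℂ) (g⁻¹ * y⁻¹ * g * y)) := by
      intro y
      by_cases hy : g⁻¹ * y⁻¹ * g * y ∈ N
      · have hcomm : (g⁻¹ * y⁻¹ * g * y) * x₀ = x₀ * (g⁻¹ * y⁻¹ * g * y) :=
          ((Subgroup.mem_center_iff.mp (hN hy)) x₀).symm
        have h6 : g⁻¹ * (y * x₀)⁻¹ * g * (y * x₀) =
            (g⁻¹ * x₀⁻¹ * g * x₀) * (g⁻¹ * y⁻¹ * g * y) := by
          calc g⁻¹ * (y * x₀)⁻¹ * g * (y * x₀)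
              = g⁻¹ * x₀⁻¹ * g * ((g⁻¹ * y⁻¹ * g * y) * x₀) := by group
            _ = g⁻¹ * x₀⁻¹ * g * (x₀ * (g⁻¹ * y⁻¹ * g * y)) := by rw [hcomm]
            _ = (g⁻¹ * x₀⁻¹ * g * x₀) * (g⁻¹ * y⁻¹ * g * y) := by group
        rw [h6, extendByZero_mem N _ (N.mul_mem hm₀N hy), extendByZero_mem N _ hy]
        have h7 : (ψ : N → ℂ) ⟨(g⁻¹ * x₀⁻¹ * g * x₀) * (g⁻¹ * y⁻¹ * g * y),
            N.mul_mem hm₀N hy⟩ = (ψ : N → ℂ) ⟨g⁻¹ * x₀⁻¹ * g * x₀, hm₀N⟩ *
              (ψ : N → ℂ) ⟨g⁻¹ * y⁻¹ * g * y, hy⟩ := by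
          rw [hlam]
          show ((lam ((⟨g⁻¹ * x₀⁻¹ * g * x₀, hm₀N⟩ : N) * ⟨g⁻¹ * y⁻¹ * g * y, hy⟩) : ℂˣ) : ℂ) =
            _
          rw [map_mul]
          rfl
        rw [h7, map_mul]
      · have h6 : g⁻¹ * (y * x₀)⁻¹ * g * (y * x₀) ∉ N := by
          intro hmem
          apply hy
          have h8 : g⁻¹ * y⁻¹ * g * y = x₀ * ((g⁻¹ * x₀⁻¹ * g * x₀)⁻¹ *
              (g⁻¹ * (y * x₀)⁻¹ * g * (y * x₀))) * x₀⁻¹ := by group
          rw [h8]
          exact hNn.conj_mem _ (N.mul_mem (N.inv_mem hm₀N) hmem) x₀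
        rw [extendByZero_not_mem N _ h6, extendByZero_not_mem N _ hy, map_zero, mul_zero]
    have hS : ∑ y : G, conj (Cfsg.extendByZero N (ψ : N → ℂ) (g⁻¹ * y⁻¹ * g * y)) =
        conj ((ψ : N → ℂ) ⟨g⁻¹ * x₀⁻¹ * g * x₀, hm₀N⟩) *
          ∑ y : G, conj (Cfsg.extendByZero N (ψ : N → ℂ) (g⁻¹ * y⁻¹ * g * y)) := by
      have h9 := Equiv.sum_comp (Equiv.mulRight x₀)
        (fun y : G => conj (Cfsg.extendByZero N (ψ : N → ℂ) (g⁻¹ * y⁻¹ * g * y)))
      simp only [Equiv.coe_mulRight] at h9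
      rw [Finset.mul_sum, ← h9]
      exact Finset.sum_congr rfl (fun y _ => htr y)
    have hc1 : conj ((ψ : N → ℂ) ⟨g⁻¹ * x₀⁻¹ * g * x₀, hm₀N⟩) ≠ 1 := by
      intro hc
      apply hm₀1
      have h9 : (ψ : N → ℂ) ⟨g⁻¹ * x₀⁻¹ * g * x₀, hm₀N⟩ = 1 := by
        have h10 := congrArg conj hc
        rw [Complex.conj_conj, map_one] at h10
        exact h10
      have h10 := hfaith ⟨g⁻¹ * x₀⁻¹ * g * x₀, hm₀N⟩ (by rw [h9, hψ1])
      exact congrArg Subtype.val h10
    have h11 : (1 - conj ((ψ : N → ℂ) ⟨g⁻¹ * x₀⁻¹ * g * x₀, hm₀N⟩)) *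
        ∑ y : G, conj (Cfsg.extendByZero N (ψ : N → ℂ) (g⁻¹ * y⁻¹ * g * y)) = 0 := by
      linear_combination hS
    rcases mul_eq_zero.mp h11 with h | h
    · exact absurd (sub_eq_zero.mp h).symm hc1
    · exact h


theorem twisted_orth {G : Type u} [Group G] [Fintype G] [Fintype (Cfsg.IrrCharacter G)]
    (N : Subgroup G) [hNn : N.Normal] [Fintype N] (hN : N ≤ Subgroup.center G)
    (ψ : Cfsg.IrrCharacter N)
    (hfaith : ∀ n : N, (ψ : N → ℂ) n = (ψ : N → ℂ) 1 → n = 1) (g : G)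
    [∀ χ : Cfsg.IrrCharacter G,
      Decidable (Cfsg.classInner (fun n : N => (χ : G → ℂ) n) (ψ : N → ℂ) ≠ 0)]
    [Decidable (∀ x : G, x⁻¹ * g⁻¹ * x * g ∈ N → x * g = g * x)] :
    (Nat.card N : ℂ) * ∑ χ : Cfsg.IrrCharacter G,
      (if Cfsg.classInner (fun n : N => (χ : G → ℂ) n) (ψ : N → ℂ) ≠ 0 then
        (χ : G → ℂ) g * conj ((χ : G → ℂ) g) else 0) =
      if (∀ x : G, x⁻¹ * g⁻¹ * x * g ∈ N → x * g = g * x) then
        (Nat.card (Subgroup.centralizer ({g} : Set G)) : ℂ) else 0 := by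
  classical
  rw [← comm_sum N hN ψ hfaith g]
  have h1 : ∀ χ : Cfsg.IrrCharacter G, (Nat.card N : ℂ) *
      (if Cfsg.classInner (fun n : N => (χ : G → ℂ) n) (ψ : N → ℂ) ≠ 0 then
        (χ : G → ℂ) g * conj ((χ : G → ℂ) g) else 0) =
      ∑ x : G, conj (Cfsg.extendByZero N (ψ : N → ℂ) x) *
        ((χ : G → ℂ) (g * x) * conj ((χ : G → ℂ) g)) := by
    intro χ
    have h2 := twist_sum N hN ψ χ g
    have h3 : ∑ x : G, conj (Cfsg.extendByZero N (ψ : N → ℂ) x) *
        ((χ : G → ℂ) (g * x) * conj ((χ : G → ℂ) g)) =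
        (∑ x : G, conj (Cfsg.extendByZero N (ψ : N → ℂ) x) * (χ : G → ℂ) (g * x)) *
          conj ((χ : G → ℂ) g) := by
      rw [Finset.sum_mul]
      exact Finset.sum_congr rfl (fun x _ => by ring)
    rw [h3, h2]
    split_ifs <;> ring
  rw [Finset.mul_sum, Finset.sum_congr rfl (fun χ _ => h1 χ), Finset.sum_comm]
  have h4 : ∀ x : G, ∑ χ : Cfsg.IrrCharacter G, conj (Cfsg.extendByZero N (ψ : N → ℂ) x) *
      ((χ : G → ℂ) (g * x) * conj ((χ : G → ℂ) g)) =
      ∑ y : G, (if x = g⁻¹ * y⁻¹ * g * y then conj (Cfsg.extendByZero N (ψ : N → ℂ) x)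
        else 0) := by
    intro x
    rw [← Finset.mul_sum, column_orth (g * x) g, Nat.card_eq_fintype_card, Fintype.card_subtype,
      Finset.card_filter]
    push_cast
    rw [Finset.mul_sum]
    apply Finset.sum_congr rfl
    intro y _
    have h5 : (y * (g * x) * y⁻¹ = g) ↔ (x = g⁻¹ * y⁻¹ * g * y) := by
      constructor
      · intro h
        have h6 : g * x = y⁻¹ * g * y := by
          calc g * x = y⁻¹ * (y * (g * x) * y⁻¹) * y := by group
            _ = y⁻¹ * g * y := by rw [h]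
        calc x = g⁻¹ * (g * x) := by group
          _ = g⁻¹ * y⁻¹ * g * y := by
            rw [h6]
            group
      · intro h
        rw [h]
        group
    by_cases h6 : x = g⁻¹ * y⁻¹ * g * y
    · rw [if_pos h6, if_pos (h5.mpr h6), mul_one]
    · rw [if_neg h6, if_neg (fun h => h6 (h5.mp h)), mul_zero]
  rw [Finset.sum_congr rfl (fun x _ => h4 x), Finset.sum_comm]
  apply Finset.sum_congr rfl
  intro y _
  rw [Finset.sum_ite_eq', if_pos (Finset.mem_univ _)]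

theorem sp_quot {G : Type u} [Group G] (N : Subgroup G) [hNn : N.Normal]
    (hN : N ≤ Subgroup.center G) (g g' : G) (h : (g' : G ⧸ N) = (g : G ⧸ N))
    (hsp : ∀ x : G, x⁻¹ * g'⁻¹ * x * g' ∈ N → x * g' = g' * x) :
    ∀ x : G, x⁻¹ * g⁻¹ * x * g ∈ N → x * g = g * x := by
  have h1 : g'⁻¹ * g ∈ N := QuotientGroup.eq.mp h
  have hc : ∀ x : G, x * (g'⁻¹ * g) = (g'⁻¹ * g) * x :=
    fun x => (Subgroup.mem_center_iff.mp (hN h1)) x
  intro x hx
  have hq : ((x⁻¹ * g'⁻¹ * x * g' : G) : G ⧸ N) = ((x⁻¹ * g⁻¹ * x * g : G) : G ⧸ N) := by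
    simp only [QuotientGroup.mk_mul, QuotientGroup.mk_inv, h]
  have hx' : x⁻¹ * g'⁻¹ * x * g' ∈ N := by
    rw [← QuotientGroup.eq_one_iff, hq, QuotientGroup.eq_one_iff]
    exact hx
  have h4 := hsp x hx'
  calc x * g = x * g' * (g'⁻¹ * g) := by group
    _ = g' * x * (g'⁻¹ * g) := by rw [h4]
    _ = g' * (x * (g'⁻¹ * g)) := by group
    _ = g' * ((g'⁻¹ * g) * x) := by rw [hc x]
    _ = g * x := by group

theorem sp_index {G : Type u} [Group G] [Finite G] (N : Subgroup G) [hNn : N.Normal] (g : G)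
    (hsp : ∀ x : G, x⁻¹ * g⁻¹ * x * g ∈ N → x * g = g * x) :
    (Subgroup.centralizer ({(g : G ⧸ N)} : Set (G ⧸ N))).index =
      (Subgroup.centralizer ({g} : Set G)).index := by
  rw [← Subgroup.index_comap_of_surjective _ (QuotientGroup.mk'_surjective N)]
  congr 1
  ext x
  rw [Subgroup.mem_comap, Subgroup.mem_centralizer_singleton_iff,
    Subgroup.mem_centralizer_singleton_iff]
  constructor
  · intro h
    apply hsp x
    have h' : (x : G ⧸ N) * (g : G ⧸ N) = (g : G ⧸ N) * (x : G ⧸ N) := h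
    rw [← QuotientGroup.eq_one_iff]
    simp only [QuotientGroup.mk_mul, QuotientGroup.mk_inv]
    rw [mul_assoc, h']
    group
  · intro h
    show (x : G ⧸ N) * (g : G ⧸ N) = (g : G ⧸ N) * (x : G ⧸ N)
    rw [← QuotientGroup.mk_mul, ← QuotientGroup.mk_mul, h]

theorem class_count {Q : Type u} [Group Q] [Fintype Q] (P : Q → Prop) [DecidablePred P]
    (hP : ∀ q r : Q, P q → P (r * q * r⁻¹)) :
    ∑ q : Q, (if P q then ((Subgroup.centralizer ({q} : Set Q)).index : ℂ)⁻¹ else 0) =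
      (Nat.card {C : ConjClasses Q // ∃ q : Q, ConjClasses.mk q = C ∧ P q} : ℂ) := by
  classical
  have _fc : Fintype (ConjClasses Q) := Fintype.ofFinite _
  rw [← Finset.sum_fiberwise Finset.univ (ConjClasses.mk : Q → ConjClasses Q)]
  have h1 : ∀ C : ConjClasses Q,
      ∑ q ∈ Finset.univ.filter (fun q : Q => ConjClasses.mk q = C),
        (if P q then ((Subgroup.centralizer ({q} : Set Q)).index : ℂ)⁻¹ else 0) =
      if (∃ q : Q, ConjClasses.mk q = C ∧ P q) then 1 else 0 := by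
    intro C
    obtain ⟨q₀, rfl⟩ := ConjClasses.mk_surjective C
    have hfil : Finset.univ.filter (fun q : Q => ConjClasses.mk q = ConjClasses.mk q₀) =
        Finset.univ.filter (fun q : Q => IsConj q₀ q) := by
      ext q
      rw [Finset.mem_filter, Finset.mem_filter, ConjClasses.mk_eq_mk_iff_isConj]
      exact ⟨fun h => ⟨h.1, h.2.symm⟩, fun h => ⟨h.1, h.2.symm⟩⟩
    rw [hfil]
    have hidx : ∀ q : Q, IsConj q₀ q → (Subgroup.centralizer ({q} : Set Q)).index =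
        (Subgroup.centralizer ({q₀} : Set Q)).index := by
      intro q hq
      rw [← card_conj_class q, ← card_conj_class q₀]
      congr 1
      ext x
      rw [Finset.mem_filter, Finset.mem_filter]
      exact ⟨fun h => ⟨h.1, hq.trans h.2⟩, fun h => ⟨h.1, hq.symm.trans h.2⟩⟩
    have hPq : ∀ q : Q, IsConj q₀ q → (P q ↔ P q₀) := by
      intro q hq
      obtain ⟨r, hr⟩ := isConj_iff.mp hq
      constructor
      · intro h
        have h2 := hP q r⁻¹ h
        rw [← hr] at h2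
        have h3 : r⁻¹ * (r * q₀ * r⁻¹) * r⁻¹⁻¹ = q₀ := by group
        rw [h3] at h2
        exact h2
      · intro h
        rw [← hr]
        exact hP q₀ r h
    by_cases hP0 : P q₀
    · rw [if_pos ⟨q₀, rfl, hP0⟩]
      have h2 : ∀ q ∈ Finset.univ.filter (fun q : Q => IsConj q₀ q),
          (if P q then ((Subgroup.centralizer ({q} : Set Q)).index : ℂ)⁻¹ else 0) =
          ((Subgroup.centralizer ({q₀} : Set Q)).index : ℂ)⁻¹ := by
        intro q hq
        have hq' := (Finset.mem_filter.mp hq).2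
        rw [if_pos ((hPq q hq').mpr hP0), hidx q hq']
      rw [Finset.sum_congr rfl h2, Finset.sum_const, card_conj_class q₀, nsmul_eq_mul]
      have hi : ((Subgroup.centralizer ({q₀} : Set Q)).index : ℂ) ≠ 0 := by
        exact_mod_cast Subgroup.index_ne_zero_of_finite
      exact mul_inv_cancel₀ hi
    · have hno : ¬ ∃ q : Q, ConjClasses.mk q = ConjClasses.mk q₀ ∧ P q := by
        rintro ⟨q, hq, hPq'⟩
        exact hP0 ((hPq q (ConjClasses.mk_eq_mk_iff_isConj.mp hq).symm).mp hPq')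
      rw [if_neg hno]
      apply Finset.sum_eq_zero
      intro q hq
      have hq' := (Finset.mem_filter.mp hq).2
      rw [if_neg (fun h => hP0 ((hPq q hq').mp h))]
  rw [Finset.sum_congr rfl (fun C _ => h1 C), Finset.sum_boole, Nat.card_eq_fintype_card,
    Fintype.card_subtype]

theorem result {G : Type*} [Group G] [Fintype G] (N : Subgroup G) [N.Normal] [Fintype N] (hN : N ≤ Subgroup.center G) (ψ : Cfsg.IrrCharacter ↥N) (hfaith : ∀ n : ↥N, (ψ : ↥N → ℂ) n = (ψ : ↥N → ℂ) 1 → n = 1) : Nat.card {χ : Cfsg.IrrCharacter G // Cfsg.classInner (fun n : ↥N => (χ : G → ℂ) n) (ψ : ↥N → ℂ) ≠ 0} = Nat.card {C : ConjClasses (G ⧸ N) // ∃ g : G, ConjClasses.mk (g : G ⧸ N) = C ∧ ∀ x : G, x⁻¹ * g⁻¹ * x * g ∈ N → x * g = g * x} := by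
  classical
  have _fI : Fintype (Cfsg.IrrCharacter G) := Fintype.ofFinite _
  have _fq : Fintype (G ⧸ N) := Fintype.ofFinite _
  have hNn : N.Normal := inferInstance
  have hGc : (Nat.card G : ℂ) ≠ 0 := by exact_mod_cast (Nat.card_pos (α := G)).ne'
  have hNc : (Nat.card N : ℂ) ≠ 0 := by exact_mod_cast (Nat.card_pos (α := N)).ne'
  have hE1 : (Nat.card N : ℂ) * ((Nat.card G : ℂ) *
      (Nat.card {χ : Cfsg.IrrCharacter G //
        Cfsg.classInner (fun n : N => (χ : G → ℂ) n) (ψ : N → ℂ) ≠ 0} : ℂ)) =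
      ∑ g : G, (if (∀ x : G, x⁻¹ * g⁻¹ * x * g ∈ N → x * g = g * x) then
        (Nat.card (Subgroup.centralizer ({g} : Set G)) : ℂ) else 0) := by
    rw [← Finset.sum_congr rfl (fun g _ => twisted_orth N hN ψ hfaith g), ← Finset.mul_sum,
      Finset.sum_comm]
    congr 1
    have h1 : ∀ χ : Cfsg.IrrCharacter G,
        ∑ g : G, (if Cfsg.classInner (fun n : N => (χ : G → ℂ) n) (ψ : N → ℂ) ≠ 0 then
          (χ : G → ℂ) g * conj ((χ : G → ℂ) g) else 0) =
        (Nat.card G : ℂ) *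
          (if Cfsg.classInner (fun n : N => (χ : G → ℂ) n) (ψ : N → ℂ) ≠ 0 then 1 else 0) := by
      intro χ
      have h2 := irr_inner_self χ.2
      unfold Cfsg.classInner at h2
      have h3 : ∑ g : G, (χ : G → ℂ) g * conj ((χ : G → ℂ) g) = (Nat.card G : ℂ) := by
        field_simp at h2
        exact h2
      by_cases hc : Cfsg.classInner (fun n : N => (χ : G → ℂ) n) (ψ : N → ℂ) ≠ 0
      · rw [if_pos hc, mul_one, ← h3]
        exact Finset.sum_congr rfl (fun g _ => if_pos hc)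
      · rw [if_neg hc, mul_zero]
        exact Finset.sum_eq_zero (fun g _ => if_neg hc)
    rw [Finset.sum_congr rfl (fun χ _ => h1 χ), ← Finset.mul_sum, Finset.sum_boole]
    congr 1
    rw [Nat.card_eq_fintype_card, Fintype.card_subtype]
  have hE2 : ∑ g : G, (if (∀ x : G, x⁻¹ * g⁻¹ * x * g ∈ N → x * g = g * x) then
        (Nat.card (Subgroup.centralizer ({g} : Set G)) : ℂ) else 0) =
      (Nat.card N : ℂ) * ((Nat.card G : ℂ) *
        (Nat.card {C : ConjClasses (G ⧸ N) // ∃ g : G, ConjClasses.mk (g : G ⧸ N) = C ∧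
          ∀ x : G, x⁻¹ * g⁻¹ * x * g ∈ N → x * g = g * x} : ℂ)) := by
    let P : G ⧸ N → Prop := fun q => ∃ g : G, (g : G ⧸ N) = q ∧
      ∀ x : G, x⁻¹ * g⁻¹ * x * g ∈ N → x * g = g * x
    have hPiff : ∀ g : G, P (QuotientGroup.mk' N g) ↔
        (∀ x : G, x⁻¹ * g⁻¹ * x * g ∈ N → x * g = g * x) := by
      intro g
      constructor
      · rintro ⟨g', hg', hsp⟩
        exact sp_quot N hN g g' hg' hsp
      · intro h
        exact ⟨g, rfl, h⟩
    have hPconj : ∀ q r : G ⧸ N, P q → P (r * q * r⁻¹) := by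
      rintro q r ⟨g, rfl, hsp⟩
      obtain ⟨y, rfl⟩ := QuotientGroup.mk_surjective r
      refine ⟨y * g * y⁻¹, rfl, ?_⟩
      intro x hx
      have h1 : (y⁻¹ * x * y)⁻¹ * g⁻¹ * (y⁻¹ * x * y) * g ∈ N := by
        have h2 := hNn.conj_mem _ hx y⁻¹
        have h3 : y⁻¹ * (x⁻¹ * (y * g * y⁻¹)⁻¹ * x * (y * g * y⁻¹)) * y⁻¹⁻¹ =
            (y⁻¹ * x * y)⁻¹ * g⁻¹ * (y⁻¹ * x * y) * g := by group
        rw [h3] at h2
        exact h2
      have h4 := hsp _ h1
      calc x * (y * g * y⁻¹) = y * ((y⁻¹ * x * y) * g) * y⁻¹ := by group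
        _ = y * (g * (y⁻¹ * x * y)) * y⁻¹ := by rw [h4]
        _ = y * g * y⁻¹ * x := by group
    have hcc := class_count P hPconj
    have hsum := sum_comp_surj (QuotientGroup.mk' N) (QuotientGroup.mk'_surjective N)
      (fun q : G ⧸ N => if P q then
        ((Subgroup.centralizer ({q} : Set (G ⧸ N))).index : ℂ)⁻¹ else 0)
    rw [QuotientGroup.ker_mk', hcc] at hsum
    have hsum' : ∑ g : G, (if P (QuotientGroup.mk' N g) then
        ((Subgroup.centralizer ({QuotientGroup.mk' N g} : Set (G ⧸ N))).index : ℂ)⁻¹ else 0) =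
        (Nat.card N : ℂ) *
          (Nat.card {C : ConjClasses (G ⧸ N) // ∃ q : G ⧸ N, ConjClasses.mk q = C ∧ P q} : ℂ) :=
      hsum
    have hterm : ∀ g : G, (if (∀ x : G, x⁻¹ * g⁻¹ * x * g ∈ N → x * g = g * x) then
        (Nat.card (Subgroup.centralizer ({g} : Set G)) : ℂ) else 0) =
        (Nat.card G : ℂ) * (if P (QuotientGroup.mk' N g) then
          ((Subgroup.centralizer ({QuotientGroup.mk' N g} : Set (G ⧸ N))).index : ℂ)⁻¹
            else 0) := by
      intro g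
      by_cases hsp : (∀ x : G, x⁻¹ * g⁻¹ * x * g ∈ N → x * g = g * x)
      · rw [if_pos hsp, if_pos ((hPiff g).mpr hsp)]
        have h1 : (Subgroup.centralizer ({QuotientGroup.mk' N g} : Set (G ⧸ N))).index =
            (Subgroup.centralizer ({g} : Set G)).index := sp_index N g hsp
        rw [h1]
        have h2 := Subgroup.card_mul_index (Subgroup.centralizer ({g} : Set G))
        have hi : ((Subgroup.centralizer ({g} : Set G)).index : ℂ) ≠ 0 := by
          exact_mod_cast Subgroup.index_ne_zero_of_finite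
        rw [← h2]
        push_cast
        field_simp
      · rw [if_neg hsp, if_neg (fun h => hsp ((hPiff g).mp h)), mul_zero]
    rw [Finset.sum_congr rfl (fun g _ => hterm g), ← Finset.mul_sum, hsum']
    have hcard : Nat.card {C : ConjClasses (G ⧸ N) //
        ∃ q : G ⧸ N, ConjClasses.mk q = C ∧ P q} =
        Nat.card {C : ConjClasses (G ⧸ N) // ∃ g : G, ConjClasses.mk (g : G ⧸ N) = C ∧
          ∀ x : G, x⁻¹ * g⁻¹ * x * g ∈ N → x * g = g * x} := by
      apply Nat.card_congr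
      apply Equiv.subtypeEquivRight
      intro C
      constructor
      · rintro ⟨q, hq, g, hg, hsp⟩
        refine ⟨g, ?_, hsp⟩
        rw [hg]
        exact hq
      · rintro ⟨g, hg, hsp⟩
        exact ⟨(g : G ⧸ N), hg, g, rfl, hsp⟩
    rw [hcard]
    ring
  have hfin := hE1.trans hE2
  have h5 := mul_left_cancel₀ hNc hfin
  have h6 := mul_left_cancel₀ hGc h5
  exact_mod_cast h6

end Cfsg.Agent.S4567
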