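import Mathlib
import Cfsg.Statements.S4475
import Cfsg.Agent.Lib.Helper3.Char
import Cfsg.Agent.Lib.Helper3.CharCore
import Cfsg.Agent.Lib.Helper3.CharArith
import Cfsg.Agent.Lib.Helper3.CharProj

set_option autoImplicit false
open Cfsg
open Cfsg.Agent.Lib.Helper3.Char Cfsg.Agent.Lib.Helper3.CharCore Cfsg.Agent.Lib.Helper3.CharArith Cfsg.Agent.Lib.Helper3.CharProj
open scoped ComplexConjugate
open Matrix

namespace Cfsg.Agent.S4475

theorem result {G : Type*} [Group G] [Fintype G] (n : ℕ) (ρ : Representation ℂ G (Fin n → ℂ)) (hirr : ρ.IsIrreducible) (hreal : ∀ g : G, (ρ.character g).im = 0) : (∃ M : Matrix (Fin n) (Fin n) ℂ, M ≠ 0 ∧ ∀ g : G, (LinearMap.toMatrix' (ρ g)).transpose * M * LinearMap.toMatrix' (ρ g) = M) ∧ ∀ M : Matrix (Fin n) (Fin n) ℂ, (∀ g : G, (LinearMap.toMatrix' (ρ g)).transpose * M * LinearMap.toMatrix' (ρ g) = M) → M.transpose = ((Nat.card G : ℂ)⁻¹ * ∑ s : G, ρ.character (s * s)) • M := by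
  classical
  have _inst : ρ.IsIrreducible := hirr
  let R : G → Matrix (Fin n) (Fin n) ℂ := fun g => LinearMap.toMatrix' (ρ g)
  have hRmul : ∀ g h : G, R (g * h) = R g * R h := by
    intro g h
    show LinearMap.toMatrix' (ρ (g * h)) = _
    rw [map_mul, LinearMap.toMatrix'_mul]
  have hRone : R 1 = 1 := by
    show LinearMap.toMatrix' (ρ 1) = _
    rw [map_one, LinearMap.toMatrix'_one]
  have hRinv : ∀ h : G, R h⁻¹ * R h = 1 := by
    intro h
    rw [← hRmul, inv_mul_cancel, hRone]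
  have hchar : ∀ g : G, ρ.character g = Matrix.trace (R g) := by
    intro g
    show LinearMap.trace ℂ (Fin n → ℂ) (ρ g) = _
    rw [LinearMap.trace_eq_matrix_trace ℂ (Pi.basisFun ℂ (Fin n)), LinearMap.toMatrix_eq_toMatrix']
  have hρR : ∀ (g : G) (v : Fin n → ℂ), ρ g v = R g *ᵥ v :=
    fun g v => (LinearMap.toMatrix'_mulVec (ρ g) v).symm
  let T : Matrix (Fin n) (Fin n) ℂ → Matrix (Fin n) (Fin n) ℂ :=
    fun E => ∑ g : G, (R g)ᵀ * E * R g
  have hTinv : ∀ (E : Matrix (Fin n) (Fin n) ℂ) (h : G), (R h)ᵀ * T E * R h = T E := by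
    intro E h
    show (R h)ᵀ * (∑ g : G, (R g)ᵀ * E * R g) * R h = ∑ g : G, (R g)ᵀ * E * R g
    rw [Matrix.mul_sum, Matrix.sum_mul]
    apply Fintype.sum_equiv (Equiv.mulRight h)
    intro g
    rw [Equiv.coe_mulRight, hRmul, Matrix.transpose_mul]
    simp only [Matrix.mul_assoc]
  have hTtr : ∀ E : Matrix (Fin n) (Fin n) ℂ, (T E)ᵀ = T Eᵀ := by
    intro E
    show (∑ g : G, (R g)ᵀ * E * R g)ᵀ = ∑ g : G, (R g)ᵀ * Eᵀ * R g
    rw [Matrix.transpose_sum]
    apply Finset.sum_congr rfl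
    intro g _
    rw [Matrix.transpose_mul, Matrix.transpose_mul, Matrix.transpose_transpose, Matrix.mul_assoc]
  have hent : ∀ (A B : Matrix (Fin n) (Fin n) ℂ) (i j k l : Fin n),
      (Aᵀ * Matrix.single i j (1:ℂ) * B) k l = A i k * B j l := by
    intro A B i j k l
    rw [Matrix.mul_assoc, Matrix.mul_apply, Finset.sum_eq_single i]
    · rw [Matrix.transpose_apply, Matrix.single_mul_apply_same, one_mul]
    · intro a _ ha
      rw [Matrix.single_mul_apply_of_ne (1:ℂ) i j a l ha, mul_zero]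
    · intro h
      exact absurd (Finset.mem_univ i) h
  have hTent : ∀ i j k l : Fin n,
      T (Matrix.single i j (1:ℂ)) k l = ∑ g : G, R g i k * R g j l := by
    intro i j k l
    show (∑ g : G, (R g)ᵀ * Matrix.single i j (1:ℂ) * R g) k l = _
    rw [Matrix.sum_apply]
    apply Finset.sum_congr rfl
    intro g _
    exact hent (R g) (R g) i j k l
  have hF1 : ∑ i, ∑ j, T (Matrix.single i j (1:ℂ)) i j =
      ∑ g : G, ρ.character g * ρ.character g := by
    rw [Finset.sum_congr rfl (fun i _ => Finset.sum_congr rfl (fun j _ => hTent i j i j))]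
    rw [Finset.sum_congr rfl (fun i _ => Finset.sum_comm)]
    rw [Finset.sum_comm]
    apply Finset.sum_congr rfl
    intro g _
    rw [hchar g, Matrix.trace, Finset.sum_mul_sum]
    rfl
  have hF2 : ∑ i, ∑ j, T (Matrix.single j i (1:ℂ)) i j = ∑ g : G, ρ.character (g * g) := by
    rw [Finset.sum_congr rfl (fun i _ => Finset.sum_congr rfl (fun j _ => hTent j i i j))]
    rw [Finset.sum_congr rfl (fun i _ => Finset.sum_comm)]
    rw [Finset.sum_comm]
    apply Finset.sum_congr rfl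
    intro g _
    rw [hchar (g * g), hRmul, Matrix.trace]
    apply Finset.sum_congr rfl
    intro i _
    rw [Matrix.diag_apply, Matrix.mul_apply]
    apply Finset.sum_congr rfl
    intro j _
    exact mul_comm _ _
  have hc : (Nat.card G : ℂ) ≠ 0 := by exact_mod_cast Nat.card_pos.ne'
  have hF3 : ∑ g : G, ρ.character g * ρ.character g = (Nat.card G : ℂ) := by
    have hχ : Cfsg.IsIrrCharacter G ρ.character := ⟨n, ρ, hirr, rfl⟩
    have h1 := irr_inner_self hχ
    unfold Cfsg.classInner at h1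
    have h2 := (inv_mul_eq_one₀ hc).mp h1
    rw [h2]
    apply Finset.sum_congr rfl
    intro g _
    congr 1
    apply Complex.ext
    · rw [Complex.conj_re]
    · rw [Complex.conj_im, hreal g]
      simp
  have hex : ∃ i j : Fin n, T (Matrix.single i j (1:ℂ)) ≠ 0 := by
    by_contra hno
    apply hc
    rw [← hF3, ← hF1]
    apply Finset.sum_eq_zero
    intro i _
    apply Finset.sum_eq_zero
    intro j _
    have h0 : T (Matrix.single i j (1:ℂ)) = 0 := by
      by_contra h0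
      exact hno ⟨i, j, h0⟩
    rw [h0]
    rfl
  obtain ⟨i₀, j₀, hM₀⟩ := hex
  have hM₀inv : ∀ g : G, (R g)ᵀ * T (Matrix.single i₀ j₀ (1:ℂ)) * R g =
      T (Matrix.single i₀ j₀ (1:ℂ)) := fun g => hTinv _ g
  generalize T (Matrix.single i₀ j₀ (1:ℂ)) = M₀ at hM₀ hM₀inv
  have hswap : ∀ M : Matrix (Fin n) (Fin n) ℂ, (∀ g : G, (R g)ᵀ * M * R g = M) →
      ∀ h : G, M * R h = (R h⁻¹)ᵀ * M := by
    intro M hM h
    have h1 := hM h⁻¹
    calc M * R h = ((R h⁻¹)ᵀ * M * R h⁻¹) * R h := by rw [h1]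
      _ = (R h⁻¹)ᵀ * M * (R h⁻¹ * R h) := by simp only [Matrix.mul_assoc]
      _ = (R h⁻¹)ᵀ * M := by rw [hRinv, Matrix.mul_one]
  have hunit : ∀ M : Matrix (Fin n) (Fin n) ℂ, (∀ g : G, (R g)ᵀ * M * R g = M) →
      M ≠ 0 → IsUnit M := by
    intro M hM hM0
    rw [← Matrix.mulVec_injective_iff_isUnit]
    let L : Subrepresentation ρ := ⟨LinearMap.ker (Matrix.toLin' M), fun h v hv => by
      rw [LinearMap.mem_ker, Matrix.toLin'_apply] at hv ⊢
      rw [hρR, Matrix.mulVec_mulVec, hswap M hM h, ← Matrix.mulVec_mulVec, hv,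
        Matrix.mulVec_zero]⟩
    rcases eq_bot_or_eq_top L with h0 | h0
    · have hker : LinearMap.ker (Matrix.toLin' M) = ⊥ :=
        congrArg Subrepresentation.toSubmodule h0
      exact LinearMap.ker_eq_bot.mp hker
    · exfalso
      apply hM0
      have hker : LinearMap.ker (Matrix.toLin' M) = ⊤ :=
        congrArg Subrepresentation.toSubmodule h0
      have h1 : Matrix.toLin' M = 0 := LinearMap.ker_eq_top.mp hker
      have h2 := congrArg LinearMap.toMatrix' h1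
      rw [LinearMap.toMatrix'_toLin'] at h2
      rw [h2]
      exact map_zero _
  have hM₀u : IsUnit M₀ := hunit M₀ hM₀inv hM₀
  have hdet : IsUnit M₀.det := (Matrix.isUnit_iff_isUnit_det M₀).mp hM₀u
  have hMi1 : M₀⁻¹ * M₀ = 1 := Matrix.nonsing_inv_mul M₀ hdet
  have hMi2 : M₀ * M₀⁻¹ = 1 := Matrix.mul_nonsing_inv M₀ hdet
  have hprop : ∀ M : Matrix (Fin n) (Fin n) ℂ, (∀ g : G, (R g)ᵀ * M * R g = M) →
      ∃ a : ℂ, M = a • M₀ := by
    intro M hM
    have hcomm : ∀ h : G, (M₀⁻¹ * M) * R h = R h * (M₀⁻¹ * M) := by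
      intro h
      have e1 : R h * M₀⁻¹ = M₀⁻¹ * (R h⁻¹)ᵀ := by
        have e2 := hswap M₀ hM₀inv h
        calc R h * M₀⁻¹ = (M₀⁻¹ * M₀) * R h * M₀⁻¹ := by rw [hMi1, Matrix.one_mul]
          _ = M₀⁻¹ * (M₀ * R h) * M₀⁻¹ := by simp only [Matrix.mul_assoc]
          _ = M₀⁻¹ * ((R h⁻¹)ᵀ * M₀) * M₀⁻¹ := by rw [e2]
          _ = M₀⁻¹ * (R h⁻¹)ᵀ * (M₀ * M₀⁻¹) := by simp only [Matrix.mul_assoc]
          _ = M₀⁻¹ * (R h⁻¹)ᵀ := by rw [hMi2, Matrix.mul_one]
      calc (M₀⁻¹ * M) * R h = M₀⁻¹ * (M * R h) := by rw [Matrix.mul_assoc]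
        _ = M₀⁻¹ * ((R h⁻¹)ᵀ * M) := by rw [hswap M hM h]
        _ = (M₀⁻¹ * (R h⁻¹)ᵀ) * M := by rw [Matrix.mul_assoc]
        _ = (R h * M₀⁻¹) * M := by rw [e1]
        _ = R h * (M₀⁻¹ * M) := by rw [Matrix.mul_assoc]
    obtain ⟨a, ha⟩ := commute_scalar ρ (Matrix.toLin' (M₀⁻¹ * M)) (by
      intro g
      have h1 := congrArg Matrix.toLin' (hcomm g)
      rw [Matrix.toLin'_mul (M₀⁻¹ * M) (R g), Matrix.toLin'_mul (R g) (M₀⁻¹ * M)] at h1
      have h2 : Matrix.toLin' (R g) = ρ g := Matrix.toLin'_toMatrix' (ρ g)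
      rw [h2] at h1
      exact h1)
    refine ⟨a, ?_⟩
    have h3 := congrArg LinearMap.toMatrix' ha
    rw [LinearMap.toMatrix'_toLin'] at h3
    have h4 : LinearMap.toMatrix' (a • (LinearMap.id : (Fin n → ℂ) →ₗ[ℂ] (Fin n → ℂ))) =
        a • (1 : Matrix (Fin n) (Fin n) ℂ) := by
      rw [map_smul, LinearMap.toMatrix'_id]
    rw [h4] at h3
    calc M = (M₀ * M₀⁻¹) * M := by rw [hMi2, Matrix.one_mul]
      _ = M₀ * (M₀⁻¹ * M) := by rw [Matrix.mul_assoc]
      _ = M₀ * (a • (1 : Matrix (Fin n) (Fin n) ℂ)) := by rw [h3]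
      _ = a • M₀ := by rw [Matrix.mul_smul, Matrix.mul_one]
  have hM₀t : ∀ g : G, (R g)ᵀ * M₀ᵀ * R g = M₀ᵀ := by
    intro g
    have h1 := congrArg Matrix.transpose (hM₀inv g)
    rw [Matrix.transpose_mul, Matrix.transpose_mul, Matrix.transpose_transpose,
      ← Matrix.mul_assoc] at h1
    exact h1
  obtain ⟨ε, hε⟩ := hprop M₀ᵀ hM₀t
  have hall : ∀ M : Matrix (Fin n) (Fin n) ℂ, (∀ g : G, (R g)ᵀ * M * R g = M) →
      Mᵀ = ε • M := by
    intro M hM
    obtain ⟨a, rfl⟩ := hprop M hM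
    rw [Matrix.transpose_smul, hε, smul_comm]
  have hS : ∑ g : G, ρ.character (g * g) = ε * (Nat.card G : ℂ) := by
    rw [← hF2, ← hF3, ← hF1, Finset.mul_sum]
    apply Finset.sum_congr rfl
    intro i _
    rw [Finset.mul_sum]
    apply Finset.sum_congr rfl
    intro j _
    have h1 : T (Matrix.single j i (1:ℂ)) = ε • T (Matrix.single i j (1:ℂ)) := by
      rw [← Matrix.transpose_single, ← hTtr, hall _ (hTinv _)]
    rw [h1, Matrix.smul_apply, smul_eq_mul]
  have hν : (Nat.card G : ℂ)⁻¹ * ∑ s : G, ρ.character (s * s) = ε := by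
    rw [hS]
    field_simp
  refine ⟨⟨M₀, hM₀, hM₀inv⟩, ?_⟩
  intro M hM
  rw [hν]
  exact hall M hM

end Cfsg.Agent.S4475
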