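import Cfsg.Statements.S4093

import Mathlib

set_option autoImplicit false
open scoped BigOperators
open Cfsg
open scoped Pointwise

namespace Cfsg.Agent.S4093

/-- conjugation action of a subgroup on the whole group -/
@[reducible] def conjN {G : Type*} [Group G] (N : Subgroup G) : MulAction N G where
  smul n g := (n : G) * g * (n : G)⁻¹
  one_smul g := by
    show ((1 : N) : G) * g * ((1 : N) : G)⁻¹ = g
    simp
  mul_smul a b g := by
    show ((a * b : N) : G) * g * ((a * b : N) : G)⁻¹ = (a : G) * ((b : G) * g * (b : G)⁻¹) * (a : G)⁻¹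
    simp [mul_assoc]

theorem result {G : Type*} [Group G] [Finite G] (p : ℕ) [Fact p.Prime]
    (P : Sylow p G) (N : Subgroup G) [N.Normal] (hNP : N.IsComplement' (P : Subgroup G)) :
    Nat.card {g : G // ∃ k : ℕ, orderOf g = p ^ k} =
      ∑ᶠ x : (P : Subgroup G), Nat.card N / Nat.card ↥(N ⊓ Subgroup.centralizer ({(x : G)} : Set G)) := by
  classical
  let _ := conjN N
  have hp : p.Prime := Fact.out
  have : Fintype (P : Subgroup G) := Fintype.ofFinite _
  rw [finsum_eq_sum_of_fintype]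
  have hterm : ∀ x : (P : Subgroup G),
      Nat.card N / Nat.card ↥(N ⊓ Subgroup.centralizer ({(x : G)} : Set G)) =
        Nat.card (MulAction.orbit N (x : G)) := by
    intro x
    have h1 : Nat.card (MulAction.orbit N (x : G)) = (MulAction.stabilizer N (x : G)).index := by
      rw [Subgroup.index_eq_card]
      exact Nat.card_congr (MulAction.orbitEquivQuotientStabilizer N (x : G))
    have h2 : Nat.card (MulAction.stabilizer N (x : G)) =
        Nat.card ↥(N ⊓ Subgroup.centralizer ({(x : G)} : Set G)) := by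
      apply Nat.card_congr
      refine ⟨fun n => ⟨(n.1 : G), n.1.2, ?_⟩, fun z => ⟨⟨z.1, z.2.1⟩, ?_⟩,
        fun n => rfl, fun z => rfl⟩
      · show (n.1 : G) ∈ Subgroup.centralizer ({(x : G)} : Set G)
        rw [Subgroup.mem_centralizer_iff]
        intro y hy
        rw [Set.mem_singleton_iff] at hy
        subst hy
        have h3 : (n.1 : G) * (x : G) * (n.1 : G)⁻¹ = (x : G) := n.2
        calc (x : G) * (n.1 : G) = (n.1 : G) * (x : G) * (n.1 : G)⁻¹ * (n.1 : G) := by rw [h3]
          _ = (n.1 : G) * (x : G) := by group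
      · have h3 : (z.1 : G) ∈ Subgroup.centralizer ({(x : G)} : Set G) := z.2.2
        rw [Subgroup.mem_centralizer_iff] at h3
        have h4 := h3 (x : G) rfl
        show (z.1 : G) * (x : G) * (z.1 : G)⁻¹ = (x : G)
        rw [← h4]; group
    rw [← h2, h1]
    have h5 := Subgroup.index_mul_card (MulAction.stabilizer N (x : G))
    exact Nat.div_eq_of_eq_mul_left Nat.card_pos h5.symm
  rw [Finset.sum_congr rfl (fun x _ => hterm x), ← Nat.card_sigma]
  have hpel : ∀ s : (Σ x : (P : Subgroup G), MulAction.orbit N (x : G)),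
      ∃ k : ℕ, orderOf (s.2 : G) = p ^ k := by
    rintro ⟨x, g, n, rfl⟩
    obtain ⟨k, hk⟩ := (IsPGroup.iff_orderOf.mp P.isPGroup') x
    refine ⟨k, ?_⟩
    rw [← hk, ← Subgroup.orderOf_coe]
    exact orderOf_injective (MulAut.conj (n : G)).toMonoidHom (MulAut.conj (n : G)).injective (x : G)
  symm
  apply Nat.card_congr
  apply Equiv.ofBijective (fun s : (Σ x : (P : Subgroup G), MulAction.orbit N (x : G)) =>
    (⟨(s.2 : G), hpel s⟩ : {g : G // ∃ k : ℕ, orderOf g = p ^ k}))
  constructor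
  · rintro ⟨x, g, hg⟩ ⟨x', g', hg'⟩ h
    have hgg : g = g' := congrArg Subtype.val h
    subst hgg
    obtain ⟨n, hn⟩ := hg
    obtain ⟨n', hn'⟩ := hg'
    have hn1 : (n : G) * (x : G) * (n : G)⁻¹ = g := hn
    have hn2 : (n' : G) * (x' : G) * (n' : G)⁻¹ = g := hn'
    have hxx : x = x' := by
      have h1 : (x : G)⁻¹ * (x' : G) ∈ N := by
        have h2 : ((x : G) : G ⧸ N) = ((x' : G) : G ⧸ N) := by
          have h3 : ((g : G) : G ⧸ N) = ((x : G) : G ⧸ N) := by
            rw [← hn1, QuotientGroup.mk_mul, QuotientGroup.mk_mul, QuotientGroup.mk_inv,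
              (QuotientGroup.eq_one_iff (n : G)).mpr n.2]
            simp
          have h4 : ((g : G) : G ⧸ N) = ((x' : G) : G ⧸ N) := by
            rw [← hn2, QuotientGroup.mk_mul, QuotientGroup.mk_mul, QuotientGroup.mk_inv,
              (QuotientGroup.eq_one_iff (n' : G)).mpr n'.2]
            simp
          rw [← h3, h4]
        exact QuotientGroup.eq.mp h2
      have h5 : (x : G)⁻¹ * (x' : G) ∈ (P : Subgroup G) :=
        Subgroup.mul_mem _ (Subgroup.inv_mem _ x.2) x'.2
      have h6 : (x : G)⁻¹ * (x' : G) ∈ N ⊓ (P : Subgroup G) := ⟨h1, h5⟩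
      rw [hNP.disjoint.eq_bot, Subgroup.mem_bot] at h6
      apply Subtype.ext
      exact (inv_mul_eq_one.mp h6)
    subst hxx
    rfl
  · rintro ⟨g, k, hk⟩
    have hpg : IsPGroup p (Subgroup.zpowers g) := by
      apply IsPGroup.of_card (n := k)
      rw [Nat.card_zpowers, hk]
    obtain ⟨Q, hQ⟩ := hpg.exists_le_sylow
    obtain ⟨c, hc⟩ := MulAction.exists_smul_eq G P Q
    obtain ⟨⟨⟨n, hn⟩, ⟨u, hu⟩⟩, hnu, -⟩ := (Subgroup.isComplement_iff_existsUnique.mp hNP) c
    have hnu' : n * u = c := hnu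
    have huP : u • P = P := Sylow.smul_eq_iff_mem_normalizer.mpr (Subgroup.le_normalizer hu)
    have hQ' : n • P = Q := by rw [← hc, ← hnu', mul_smul, huP]
    have hgQ : g ∈ (Q : Subgroup G) := hQ (Subgroup.mem_zpowers g)
    rw [← hQ', Sylow.coe_subgroup_smul] at hgQ
    obtain ⟨x, hx, hxg⟩ := hgQ
    have hxg' : n * x * n⁻¹ = g := hxg
    refine ⟨⟨⟨x, hx⟩, ⟨g, ⟨⟨n, hn⟩, hxg'⟩⟩⟩, ?_⟩
    rfl

end Cfsg.Agent.S4093
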