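import Cfsg.Statements.S4620

import Mathlib
import Cfsg.Agent.S0538
import Cfsg.Agent.S0539
import Cfsg.Agent.Lib.Helper2.PComp
import Cfsg.Agent.Lib.Helper2.Fit
import Cfsg.Agent.Lib.Helper2.Sub

set_option autoImplicit false
open scoped Pointwise
open Cfsg
open scoped Pointwise

namespace Cfsg.Agent.S4620

open Cfsg.Agent.Lib.Helper2

theorem mem_conj {H : Type*} [Group H] (g x : H) (K : Subgroup H) :
    x ∈ MulAut.conj g • K ↔ g⁻¹ * x * g ∈ K := by
  rw [Subgroup.mem_pointwise_smul_iff_inv_smul_mem]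
  simp

def TI {H : Type*} [Group H] (Q : Subgroup H) : Prop :=
  ∀ g : H, g ∉ Subgroup.normalizer (Q : Set H) → Q ⊓ (MulAut.conj g • Q) = ⊥

theorem TI.conj {H : Type*} [Group H] {Q : Subgroup H} (h : TI Q) (k : H) :
    TI (MulAut.conj k • Q) := by
  intro g hg
  have h1 : k⁻¹ * g * k ∉ Subgroup.normalizer (Q : Set H) := by
    intro hn
    apply hg
    rw [Subgroup.mem_normalizer_iff]
    intro y
    rw [mem_conj, mem_conj]
    have h3 := (Subgroup.mem_normalizer_iff.mp hn (k⁻¹ * y * k))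
    rw [h3]
    have e : k⁻¹ * g * k * (k⁻¹ * y * k) * (k⁻¹ * g * k)⁻¹ = k⁻¹ * (g * y * g⁻¹) * k := by group
    rw [e]
  have h2 := h _ h1
  rw [eq_bot_iff] at h2 ⊢
  intro y hy
  simp only [Subgroup.mem_inf, mem_conj] at hy
  have h3 : k⁻¹ * y * k ∈ Q ⊓ MulAut.conj (k⁻¹ * g * k) • Q := by
    rw [Subgroup.mem_inf, mem_conj]
    refine ⟨hy.1, ?_⟩
    have e : (k⁻¹ * g * k)⁻¹ * (k⁻¹ * y * k) * (k⁻¹ * g * k) = k⁻¹ * (g⁻¹ * y * g) * k := by group
    rw [e]
    exact hy.2
  have h4 := Subgroup.mem_bot.mp (h2 h3)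
  rw [Subgroup.mem_bot]
  have e : y = k * (k⁻¹ * y * k) * k⁻¹ := by group
  rw [e, h4]
  group

theorem lemB {H : Type*} [Group H] [Finite H] (p : ℕ) [Fact p.Prime]
    (hOp : Cfsg.pCore p H = ⊥) (hOp' : Cfsg.pPrimeCore p H = ⊥)
    (Q : Sylow p H) (hQ : TI (Q : Subgroup H)) (x : H) (hxQ : x ∈ (Q : Subgroup H)) (hx1 : x ≠ 1)
    (A B : Subgroup H) (hAB : A ≤ B) (hBA : B ≤ Subgroup.normalizer (A : Set H))
    (hB : B.IsSubnormal) (hc : ∀ a ∈ A, a * x = x * a) : A = ⊥ := by
  have hp : p.Prime := Fact.out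
  have hAN : A ≤ Subgroup.normalizer ((Q : Subgroup H) : Set H) := by
    intro a ha
    by_contra hn
    have h1 := hQ a hn
    have h2 : x ∈ (Q : Subgroup H) ⊓ MulAut.conj a • (Q : Subgroup H) := by
      rw [Subgroup.mem_inf, mem_conj]
      refine ⟨hxQ, ?_⟩
      have e : a⁻¹ * x * a = x := by
        rw [mul_assoc, ← hc a ha]
        group
      rw [e]
      exact hxQ
    rw [h1] at h2
    exact hx1 (Subgroup.mem_bot.mp h2)
  have hpel : ∀ y ∈ A, (∃ k : ℕ, y ^ p ^ k = 1) → y ∈ (Q : Subgroup H) := by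
    intro y hy hpy
    obtain ⟨k, hk⟩ := hpy
    have hpz : IsPGroup p (Subgroup.zpowers y) := by
      apply IsPGroup.of_card_dvd_pow (n := k)
      rw [Nat.card_zpowers]
      exact orderOf_dvd_of_pow_eq_one hk
    have h1 := hpz.inf_normalizer_sylow Q
    have h2 : Subgroup.zpowers y ≤ Subgroup.normalizer ((Q : Subgroup H) : Set H) := by
      rw [Subgroup.zpowers_le]
      exact hAN hy
    have h3 : y ∈ Subgroup.zpowers y ⊓ (Q : Subgroup H) := by
      rw [← h1]
      exact Subgroup.mem_inf.mpr ⟨Subgroup.mem_zpowers y, h2 (Subgroup.mem_zpowers y)⟩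
    exact (Subgroup.mem_inf.mp h3).2
  have hAsn : A.IsSubnormal := (Sub.RelSN.of_normal hAB hBA).isSubnormal hB
  have hT : (Q : Subgroup H) ⊓ A = ⊥ := by
    have hTn : B ≤ Subgroup.normalizer (((Q : Subgroup H) ⊓ A : Subgroup H) : Set H) := by
      intro b hb
      rw [Cfsg.Agent.S0538.mem_normalizer_iff_smul]
      apply Cfsg.Agent.S0539.smul_eq_of_le
      intro y hy
      rw [mem_conj] at hy
      have hy1 := Subgroup.mem_inf.mp hy
      have hyA : y ∈ A := by
        have h5 := (Subgroup.mem_normalizer_iff.mp (hBA hb) (b⁻¹ * y * b)).mp hy1.2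
        have e : b * (b⁻¹ * y * b) * b⁻¹ = y := by group
        rwa [e] at h5
      refine Subgroup.mem_inf.mpr ⟨hpel y hyA ?_, hyA⟩
      obtain ⟨k, hk⟩ := Q.isPGroup' ⟨_, hy1.1⟩
      have hk' : (b⁻¹ * y * b) ^ p ^ k = 1 := by
        have h6 := congrArg Subtype.val hk
        rwa [Subgroup.coe_pow] at h6
      refine ⟨k, ?_⟩
      have e : y = b * (b⁻¹ * y * b) * b⁻¹ := by group
      rw [e, conj_pow, hk']
      group
    have hTsn : ((Q : Subgroup H) ⊓ A).IsSubnormal :=
      (Sub.RelSN.of_normal (inf_le_right.trans hAB) hTn).isSubnormal hB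
    have h7 := Fit.sn_pgroup_le_pCore hTsn (Q.isPGroup'.to_le inf_le_left)
    rw [hOp] at h7
    exact le_bot_iff.mp h7
  have hcop : (Nat.card A).Coprime p := by
    apply Nat.Coprime.symm
    rw [Nat.Prime.coprime_iff_not_dvd hp]
    intro hdvd
    obtain ⟨y, hy⟩ := exists_prime_orderOf_dvd_card' (G := ↥A) p hdvd
    have hyQ : (y : H) ∈ (Q : Subgroup H) := by
      apply hpel _ y.2
      refine ⟨1, ?_⟩
      have h11 : orderOf (y : H) = p := by rw [Subgroup.orderOf_coe, hy]
      rw [pow_one]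
      have h12 := pow_orderOf_eq_one (y : H)
      rwa [h11] at h12
    have h8 : (y : H) ∈ (Q : Subgroup H) ⊓ A := Subgroup.mem_inf.mpr ⟨hyQ, y.2⟩
    rw [hT, Subgroup.mem_bot] at h8
    have h9 : orderOf (y : H) = 1 := by rw [h8]; exact orderOf_one
    rw [Subgroup.orderOf_coe, hy] at h9
    exact hp.one_lt.ne' h9
  have h10 := PComp.sn_coprime_le_pPrimeCore p hAsn hcop
  rw [hOp'] at h10
  exact le_bot_iff.mp h10

theorem result {H : Type*} [Group H] [Finite H] (p : ℕ) [Fact p.Prime] (hOp : Cfsg.pCore p H = ⊥) (hOp' : Cfsg.pPrimeCore p H = ⊥) (P : Sylow p H) (hP1 : (P : Subgroup H) ≠ ⊥)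
    (hTI : ∀ g : H, g ∉ Subgroup.normalizer ((P : Subgroup H) : Set H) → (P : Subgroup H) ⊓ (MulAut.conj g • (P : Subgroup H)) = ⊥) :
    ∃ N : Subgroup H, N.Normal ∧ N ≠ ⊥ ∧ (∀ K : Subgroup H, K.Normal → K ≠ ⊥ → N ≤ K) ∧
      IsSimpleGroup N ∧ ¬ IsMulCommutative N ∧ Subgroup.centralizer (N : Set H) = ⊥ ∧
      ∀ Q : Sylow p N, (Q : Subgroup N) ≠ ⊥ ∧
        ∀ n : N, n ∉ Subgroup.normalizer ((Q : Subgroup N) : Set N) → (Q : Subgroup N) ⊓ (MulAut.conj n • (Q : Subgroup N)) = ⊥ := by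
  classical
  have hp : p.Prime := Fact.out
  have hTIall : ∀ Q : Sylow p H, TI (Q : Subgroup H) := by
    intro Q
    obtain ⟨k, hk⟩ := MulAction.exists_smul_eq H P Q
    rw [← hk, Sylow.coe_subgroup_smul]
    exact TI.conj (Q := (P : Subgroup H)) hTI k
  have hcau : ∀ K : Subgroup H, K.IsSubnormal → K ≠ ⊥ →
      ∃ x ∈ K, x ≠ 1 ∧ ∃ Q : Sylow p H, x ∈ (Q : Subgroup H) := by
    intro K hK hK1
    have hdvd : p ∣ Nat.card K := by
      by_contra hnd
      apply hK1
      have h1 := PComp.sn_coprime_le_pPrimeCore p hK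
        ((Nat.Prime.coprime_iff_not_dvd hp).mpr hnd).symm
      rw [hOp'] at h1
      exact le_bot_iff.mp h1
    obtain ⟨y, hy⟩ := exists_prime_orderOf_dvd_card' (G := ↥K) p hdvd
    have hyp : IsPGroup p (Subgroup.zpowers (y : H)) := by
      apply IsPGroup.of_card (n := 1)
      rw [Nat.card_zpowers, Subgroup.orderOf_coe, hy, pow_one]
    obtain ⟨Q, hQ⟩ := hyp.exists_le_sylow
    refine ⟨y, y.2, ?_, Q, hQ (Subgroup.mem_zpowers _)⟩
    intro h1
    have h2 : orderOf (y : H) = 1 := by rw [h1]; exact orderOf_one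
    rw [Subgroup.orderOf_coe, hy] at h2
    exact hp.one_lt.ne' h2
  obtain ⟨N, ⟨hNn, hN1⟩, hmin⟩ := Set.exists_min_image {K : Subgroup H | K.Normal ∧ K ≠ ⊥}
    (fun K => Nat.card K) (Set.toFinite _)
    ⟨⊤, inferInstance, fun h => hP1 (le_bot_iff.mp (le_top.trans h.le))⟩
  have hNsn : N.IsSubnormal := hNn.isSubnormal
  have hC : Subgroup.centralizer (N : Set H) = ⊥ := by
    by_contra hC1
    haveI := hNn
    have hCn : (Subgroup.centralizer (N : Set H)).Normal := Subgroup.normal_centralizer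
    obtain ⟨x, hxC, hx1, Q, hxQ⟩ := hcau _ hCn.isSubnormal hC1
    apply hN1
    apply lemB p hOp hOp' Q (hTIall Q) x hxQ hx1 N ⊤ le_top ?_ Subgroup.IsSubnormal.top ?_
    · exact (Subgroup.normalizer_eq_top_iff.mpr hNn).ge
    · intro a ha
      exact (Subgroup.mem_centralizer_iff.mp hxC a ha)
  have hNle : ∀ K : Subgroup H, K.Normal → K ≠ ⊥ → N ≤ K := by
    intro K hKn hK1
    by_contra hnle
    have hKN : K ⊓ N = ⊥ := by
      by_contra h1
      have hn : (K ⊓ N).Normal := by
        haveI := hKn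
        haveI := hNn
        infer_instance
      have h2 := hmin (K ⊓ N) ⟨hn, h1⟩
      have h3 : K ⊓ N = N := Subgroup.eq_of_le_of_card_ge inf_le_right h2
      exact hnle (h3.ge.trans inf_le_left)
    have hKC : K ≤ Subgroup.centralizer (N : Set H) := by
      intro k hk
      rw [Subgroup.mem_centralizer_iff]
      intro n hn
      exact (Subgroup.commute_of_normal_of_disjoint K N hKn hNn (disjoint_iff.mpr hKN)
        k n hk hn).eq.symm
    rw [hC] at hKC
    exact hK1 (le_bot_iff.mp hKC)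
  have hsimp : ∀ L : Subgroup H, L ≤ N → L ≠ ⊥ → N ≤ Subgroup.normalizer (L : Set H) →
      L = N := by
    by_contra hcon
    push_neg at hcon
    obtain ⟨L0, hL0N, hL01, hL0n, hL0ne⟩ := hcon
    obtain ⟨L, ⟨hLN, hL1, hLn, hLne⟩, hLmin⟩ := Set.exists_min_image
      {L : Subgroup H | L ≤ N ∧ L ≠ ⊥ ∧ N ≤ Subgroup.normalizer (L : Set H) ∧ L ≠ N}
      (fun K => Nat.card K) (Set.toFinite _) ⟨L0, hL0N, hL01, hL0n, hL0ne⟩
    have hex : ∃ h : H, MulAut.conj h • L ≠ L := by
      by_contra hall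
      push_neg at hall
      have hLnorm : L.Normal := by
        constructor
        intro y hy h
        have h1 := hall h⁻¹
        have h2 : y ∈ MulAut.conj h⁻¹ • L := by rw [h1]; exact hy
        rw [mem_conj] at h2
        simpa using h2
      exact hLne (le_antisymm hLN (hNle L hLnorm hL1))
    obtain ⟨h, hh⟩ := hex
    have hL'N : MulAut.conj h • L ≤ N := by
      intro y hy
      rw [mem_conj] at hy
      have h1 := hNn.conj_mem _ (hLN hy) h
      have e : h * (h⁻¹ * y * h) * h⁻¹ = y := by group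
      rwa [e] at h1
    have hL'1 : MulAut.conj h • L ≠ ⊥ := by
      intro hb
      apply hL1
      have h1 := Cfsg.Agent.S0539.card_smul h L
      rw [hb, Subgroup.card_bot] at h1
      exact Subgroup.card_eq_one.mp h1.symm
    have hL'n : N ≤ Subgroup.normalizer ((MulAut.conj h • L : Subgroup H) : Set H) := by
      intro n hn
      rw [Cfsg.Agent.S0538.mem_normalizer_iff_smul]
      apply Cfsg.Agent.S0539.smul_eq_of_le
      intro y hy
      rw [mem_conj, mem_conj] at hy
      rw [mem_conj]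
      have hm : h⁻¹ * n * h ∈ N := by
        have h1 := hNn.conj_mem n hn h⁻¹
        simpa using h1
      have h2 := (Subgroup.mem_normalizer_iff.mp (hLn hm) (h⁻¹ * (n⁻¹ * y * n) * h)).mp hy
      have e : h⁻¹ * n * h * (h⁻¹ * (n⁻¹ * y * n) * h) * (h⁻¹ * n * h)⁻¹ = h⁻¹ * y * h := by
        group
      rwa [e] at h2
    have hinf : L ⊓ MulAut.conj h • L = ⊥ := by
      by_contra h1
      by_cases h2 : L ⊓ MulAut.conj h • L = N
      · exact hLne (le_antisymm hLN (h2.ge.trans inf_le_left))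
      · have hnn : N ≤ Subgroup.normalizer ((L ⊓ MulAut.conj h • L : Subgroup H) : Set H) := by
          intro n hn
          rw [Subgroup.mem_normalizer_iff]
          intro y
          rw [Subgroup.mem_inf, Subgroup.mem_inf]
          exact and_congr (Subgroup.mem_normalizer_iff.mp (hLn hn) y)
            (Subgroup.mem_normalizer_iff.mp (hL'n hn) y)
        have h3 := hLmin (L ⊓ MulAut.conj h • L) ⟨inf_le_left.trans hLN, h1, hnn, h2⟩
        have h4 : L ⊓ MulAut.conj h • L = L := Subgroup.eq_of_le_of_card_ge inf_le_left h3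
        have h5 : L ≤ MulAut.conj h • L := h4.ge.trans inf_le_right
        have h6 : L = MulAut.conj h • L :=
          Subgroup.eq_of_le_of_card_ge h5 (Cfsg.Agent.S0539.card_smul h L).le
        exact hh h6.symm
    have hcomm : ∀ a ∈ MulAut.conj h • L, ∀ b ∈ L, a * b = b * a := by
      intro a ha b hb
      have h1 : a * b * a⁻¹ * b⁻¹ ∈ L ⊓ MulAut.conj h • L := by
        refine Subgroup.mem_inf.mpr ⟨?_, ?_⟩
        · exact L.mul_mem ((Subgroup.mem_normalizer_iff.mp (hLn (hL'N ha)) b).mp hb)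
            (L.inv_mem hb)
        · have h2 : b * a⁻¹ * b⁻¹ ∈ MulAut.conj h • L :=
            (Subgroup.mem_normalizer_iff.mp (hL'n (hLN hb)) a⁻¹).mp (inv_mem ha)
          have e : a * b * a⁻¹ * b⁻¹ = a * (b * a⁻¹ * b⁻¹) := by group
          rw [e]
          exact mul_mem ha h2
      rw [hinf, Subgroup.mem_bot] at h1
      have e : a * b = (a * b * a⁻¹ * b⁻¹) * (b * a) := by group
      rw [e, h1, one_mul]
    obtain ⟨x, hxL, hx1, Q, hxQ⟩ :=
      hcau L ((Sub.RelSN.of_normal hLN hLn).isSubnormal hNsn) hL1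
    exact hL'1 (lemB p hOp hOp' Q (hTIall Q) x hxQ hx1 (MulAut.conj h • L) N hL'N hL'n hNsn
      (fun a ha => hcomm a ha x hxL))
  refine ⟨N, hNn, hN1, hNle, ?_, ?_, hC, ?_⟩
  · haveI hnt : Nontrivial ↥N := (Subgroup.nontrivial_iff_ne_bot N).mpr hN1
    refine ⟨fun M hM => ?_⟩
    by_cases hM1 : M = ⊥
    · left; exact hM1
    · right
      have h1 := hsimp (M.map N.subtype)
        (by intro y hy; obtain ⟨z, _, rfl⟩ := hy; exact z.2) ?_ ?_
      · rw [eq_top_iff]
        intro z _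
        have h2 : (z : H) ∈ M.map N.subtype := by rw [h1]; exact z.2
        obtain ⟨w, hw, hwz⟩ := h2
        have h3 : w = z := Subtype.ext hwz
        rw [← h3]
        exact hw
      · intro hb
        apply hM1
        rw [eq_bot_iff]
        intro z hz
        have h2 : (z : H) ∈ M.map N.subtype := ⟨z, hz, rfl⟩
        rw [hb, Subgroup.mem_bot] at h2
        exact Subgroup.mem_bot.mpr (Subtype.ext h2)
      · intro n hn
        rw [Subgroup.mem_normalizer_iff]
        intro y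
        constructor
        · rintro ⟨z, hz, rfl⟩
          exact ⟨⟨n, hn⟩ * z * ⟨n, hn⟩⁻¹, hM.conj_mem z hz ⟨n, hn⟩, rfl⟩
        · rintro ⟨z, hz, hzy⟩
          refine ⟨⟨n, hn⟩⁻¹ * z * ⟨n, hn⟩, ?_, ?_⟩
          · have h2 := hM.conj_mem z hz ⟨n, hn⟩⁻¹
            simpa using h2
          · simp only [Subgroup.coe_subtype, Subgroup.coe_mul, Subgroup.coe_inv] at hzy ⊢
            rw [hzy]
            group
  · intro hcm
    apply hN1
    rw [eq_bot_iff, ← hC]
    intro n hn
    rw [Subgroup.mem_centralizer_iff]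
    intro m hm
    have h1 := hcm.is_comm.comm (⟨m, hm⟩ : ↥N) ⟨n, hn⟩
    exact congrArg Subtype.val h1
  · intro Q
    have hQp : IsPGroup p ((Q : Subgroup ↥N).map N.subtype) := Q.isPGroup'.map N.subtype
    obtain ⟨P', hP'⟩ := hQp.exists_le_sylow
    have hQeq : ∀ z : ↥N, z ∈ (Q : Subgroup ↥N) ↔ (z : H) ∈ (P' : Subgroup H) := by
      have hpp : IsPGroup p ((P' : Subgroup H).subgroupOf N) := P'.isPGroup'.comap_subtype
      have hle : (Q : Subgroup ↥N) ≤ (P' : Subgroup H).subgroupOf N := by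
        intro z hz
        rw [Subgroup.mem_subgroupOf]
        exact hP' ⟨z, hz, rfl⟩
      have h1 := Q.is_maximal' hpp hle
      intro z
      rw [← h1, Subgroup.mem_subgroupOf]
    constructor
    · have hdvd : p ∣ Nat.card ↥N := by
        by_contra hnd
        apply hN1
        have h1 := PComp.sn_coprime_le_pPrimeCore p hNsn
          ((Nat.Prime.coprime_iff_not_dvd hp).mpr hnd).symm
        rw [hOp'] at h1
        exact le_bot_iff.mp h1
      exact Q.ne_bot_of_dvd_card hdvd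
    · intro n hn
      by_contra hne
      apply hn
      rw [Subgroup.eq_bot_iff_forall] at hne
      push_neg at hne
      obtain ⟨x, hx, hx1⟩ := hne
      have hxQ := (Subgroup.mem_inf.mp hx).1
      have hxn := (Subgroup.mem_inf.mp hx).2
      rw [mem_conj] at hxn
      have hnP : (n : H) ∈ Subgroup.normalizer ((P' : Subgroup H) : Set H) := by
        by_contra hnn
        have h2 := hTIall P' (n : H) hnn
        have h3 : (x : H) ∈ (P' : Subgroup H) ⊓ MulAut.conj (n : H) • (P' : Subgroup H) := by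
          rw [Subgroup.mem_inf, mem_conj]
          refine ⟨(hQeq x).mp hxQ, ?_⟩
          have h4 := (hQeq _).mp hxn
          simpa using h4
        rw [h2, Subgroup.mem_bot] at h3
        exact hx1 (Subtype.ext h3)
      rw [Subgroup.mem_normalizer_iff]
      intro z
      rw [hQeq, hQeq]
      exact Subgroup.mem_normalizer_iff.mp hnP (z : H)

end Cfsg.Agent.S4620
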