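import Cfsg.Statements.S4108

import Mathlib
import Cfsg.Agent.S4620

set_option autoImplicit false
open Cfsg
open scoped Pointwise

namespace Cfsg.Agent.S4108

theorem core {G : Type*} [Group G] [Finite G] (N : Subgroup G) [N.Normal]
    (heq : ∀ x : G, x ∉ N → ∀ n ∈ N, orderOf (x * n) = orderOf x)
    (p : ℕ) [Fact p.Prime] (hNp : IsPGroup p N) (H : Subgroup G) (hH : (Nat.card H).Coprime p) :
    (∀ x, x ∈ N → x ∈ H → x = 1) ∧
    (∀ h ∈ H, h ≠ 1 → ∀ n ∈ N, h * n = n * h → n = 1) := by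
  have hp : p.Prime := Fact.out
  have hcop : ∀ h ∈ H, ∀ n ∈ N, (orderOf h).Coprime (orderOf n) := by
    intro h hh n hn
    obtain ⟨k, hk⟩ := hNp ⟨n, hn⟩
    have h1 : orderOf n ∣ p ^ k := by
      apply orderOf_dvd_of_pow_eq_one
      have h0 := congrArg Subtype.val hk
      rwa [Subgroup.coe_pow] at h0
    have h2 : orderOf h ∣ Nat.card H := Subgroup.orderOf_dvd_natCard H hh
    exact Nat.Coprime.coprime_dvd_left h2
      (Nat.Coprime.coprime_dvd_right h1 (Nat.Coprime.pow_right k hH))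
  have hdisj : ∀ x, x ∈ N → x ∈ H → x = 1 := by
    intro x hxN hxH
    have h1 := hcop x hxH x hxN
    rw [Nat.coprime_self] at h1
    exact orderOf_eq_one_iff.mp h1
  refine ⟨hdisj, ?_⟩
  intro h hh h1 n hn hcomm
  have hhN : h ∉ N := fun hc => h1 (hdisj h hc hh)
  have h2 := heq h hhN n hn
  have h3 : orderOf (h * n) = orderOf h * orderOf n :=
    Commute.orderOf_mul_eq_mul_orderOf_of_coprime hcomm (hcop h hh n hn)
  rw [h3] at h2
  have h4 : orderOf n = 1 :=
    Nat.eq_of_mul_eq_mul_left (orderOf_pos h) (h2.trans (mul_one _).symm)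
  exact orderOf_eq_one_iff.mp h4

theorem result {G : Type*} [Group G] [Finite G] (N : Subgroup G) [N.Normal] (hN1 : N ≠ ⊥) (hN2 : N ≠ ⊤)
    (heq : ∀ x : G, x ∉ N → ∀ n ∈ N, orderOf (x * n) = orderOf x)
    (p : ℕ) [Fact p.Prime] (hNp : IsPGroup p N) :
    ∀ H : Subgroup G, H ≠ ⊥ → (Nat.card H).Coprime p →
      Cfsg.IsFrobeniusComplement (H.subgroupOf (N ⊔ H)) ∧ Cfsg.frobeniusKernel (H.subgroupOf (N ⊔ H)) = (N.subgroupOf (N ⊔ H) : Set ↥(N ⊔ H)) := by
  classical
  intro H hHne hcop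
  obtain ⟨hdisj, hb⟩ := core N heq p hNp H hcop
  have hNn : N.Normal := inferInstance
  have hdecomp : ∀ g ∈ N ⊔ H, ∃ n ∈ N, ∃ h ∈ H, n * h = g := by
    intro g hg
    have h1 : g ∈ ((N ⊔ H : Subgroup G) : Set G) := hg
    rw [Subgroup.normal_mul] at h1
    exact Set.mem_mul.mp h1
  have hkey : ∀ x ∈ H, ∀ n ∈ N, n⁻¹ * x * n ∈ H → x ≠ 1 → n = 1 := by
    intro x hx n hn hc hx1
    have h1 : x⁻¹ * (n⁻¹ * x * n) ∈ N := by
      have h2 : x⁻¹ * n⁻¹ * x⁻¹⁻¹ ∈ N := hNn.conj_mem _ (N.inv_mem hn) x⁻¹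
      have h3 : x⁻¹ * (n⁻¹ * x * n) = (x⁻¹ * n⁻¹ * x⁻¹⁻¹) * n := by group
      rw [h3]
      exact N.mul_mem h2 hn
    have h4 : x⁻¹ * (n⁻¹ * x * n) ∈ H := H.mul_mem (H.inv_mem hx) hc
    have h5 := hdisj _ h1 h4
    have h7 : n⁻¹ * x * n = x := by
      have h8 : x * (x⁻¹ * (n⁻¹ * x * n)) = x * 1 := by rw [h5]
      rw [mul_one, mul_inv_cancel_left] at h8
      exact h8
    have h6 : x * n = n * x := by
      calc x * n = n * (n⁻¹ * x * n) := by group
        _ = n * x := by rw [h7]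
    exact hb x hx hx1 n hn h6
  refine ⟨⟨?_, ?_, ?_⟩, ?_⟩
  · intro hbot
    obtain ⟨⟨h, hh⟩, hh1⟩ := (Subgroup.ne_bot_iff_exists_ne_one).mp hHne
    have h2 : (⟨h, Subgroup.mem_sup_right hh⟩ : ↥(N ⊔ H)) ∈ H.subgroupOf (N ⊔ H) := by
      rw [Subgroup.mem_subgroupOf]
      exact hh
    rw [hbot, Subgroup.mem_bot] at h2
    apply hh1
    apply Subtype.ext
    have h9 : ((⟨h, Subgroup.mem_sup_right hh⟩ : ↥(N ⊔ H)) : G) = ((1 : ↥(N ⊔ H)) : G) :=
      congrArg Subtype.val h2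
    exact h9
  · intro htop
    obtain ⟨⟨n, hn⟩, hn1⟩ := (Subgroup.ne_bot_iff_exists_ne_one).mp hN1
    have h2 : (⟨n, Subgroup.mem_sup_left hn⟩ : ↥(N ⊔ H)) ∈ H.subgroupOf (N ⊔ H) := by
      rw [htop]
      exact Subgroup.mem_top _
    rw [Subgroup.mem_subgroupOf] at h2
    apply hn1
    apply Subtype.ext
    exact hdisj n hn h2
  · intro g hg
    rw [eq_bot_iff]
    intro x hx
    rw [Subgroup.mem_inf, Cfsg.Agent.S4620.mem_conj, Subgroup.mem_subgroupOf,
      Subgroup.mem_subgroupOf] at hx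
    rw [Subgroup.mem_bot]
    by_contra hx1
    obtain ⟨n, hn, h, hh, hnh⟩ := hdecomp g.1 g.2
    have hxH : (x : G) ∈ H := hx.1
    have h2 : (g : G)⁻¹ * x * g ∈ H := by
      have h0 := hx.2
      simpa using h0
    have h3 : n⁻¹ * (x : G) * n ∈ H := by
      have h4 : n⁻¹ * (x : G) * n = h * ((g : G)⁻¹ * x * g) * h⁻¹ := by
        rw [← hnh]
        group
      rw [h4]
      exact H.mul_mem (H.mul_mem hh h2) (H.inv_mem hh)
    have hx1' : (x : G) ≠ 1 := fun hc => hx1 (Subtype.ext hc)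
    have hn1 := hkey x hxH n hn h3 hx1'
    apply hg
    rw [Subgroup.mem_subgroupOf, ← hnh, hn1, one_mul]
    exact hh
  · ext x
    show (x = 1 ∨ ∀ g : ↥(N ⊔ H), x ∉ MulAut.conj g • H.subgroupOf (N ⊔ H)) ↔
      x ∈ N.subgroupOf (N ⊔ H)
    constructor
    · intro hx
      by_contra hxN
      rw [Subgroup.mem_subgroupOf] at hxN
      obtain ⟨n, hn, h, hh, hnh⟩ := hdecomp x.1 x.2
      have hh1 : h ≠ 1 := by
        intro hc
        apply hxN
        rw [← hnh, hc, mul_one]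
        exact hn
      let f : ↥N → ↥N := fun u => ⟨(u : G) * h * (u : G)⁻¹ * h⁻¹, by
        have h2 : h * (u : G)⁻¹ * h⁻¹ ∈ N := hNn.conj_mem _ (N.inv_mem u.2) h
        have h3 : (u : G) * h * (u : G)⁻¹ * h⁻¹ = u * (h * (u : G)⁻¹ * h⁻¹) := by group
        rw [h3]
        exact N.mul_mem u.2 h2⟩
      have hf : Function.Injective f := by
        intro u v huv
        have h1 : (u : G) * h * (u : G)⁻¹ * h⁻¹ = (v : G) * h * (v : G)⁻¹ * h⁻¹ :=
          congrArg Subtype.val huv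
        have h3 : (u : G) * h * (u : G)⁻¹ = (v : G) * h * (v : G)⁻¹ := mul_right_cancel h1
        have h2 : h * ((v : G)⁻¹ * u) = ((v : G)⁻¹ * u) * h := by
          calc h * ((v : G)⁻¹ * u) = (v : G)⁻¹ * ((v : G) * h * (v : G)⁻¹) * u := by group
            _ = (v : G)⁻¹ * ((u : G) * h * (u : G)⁻¹) * u := by rw [h3]
            _ = ((v : G)⁻¹ * u) * h := by group
        have h4 := hb h hh hh1 _ (N.mul_mem (N.inv_mem v.2) u.2) h2
        apply Subtype.ext
        exact (inv_mul_eq_one.mp h4).symm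
      obtain ⟨u, hu⟩ := Finite.surjective_of_injective hf ⟨n, hn⟩
      have hu' : (u : G) * h * (u : G)⁻¹ * h⁻¹ = n := congrArg Subtype.val hu
      rcases hx with hx | hx
      · apply hxN
        rw [hx]
        exact N.one_mem
      · apply hx ⟨u, Subgroup.mem_sup_left u.2⟩
        rw [Cfsg.Agent.S4620.mem_conj, Subgroup.mem_subgroupOf]
        have h5 : (u : G)⁻¹ * x * u = h := by
          rw [← hnh, ← hu']
          group
        have h6 : (u : G)⁻¹ * x * u ∈ H := by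
          rw [h5]
          exact hh
        simpa using h6
    · intro hxN
      rw [Subgroup.mem_subgroupOf] at hxN
      by_cases hx1 : x = 1
      · left
        exact hx1
      · right
        intro g hg
        rw [Cfsg.Agent.S4620.mem_conj, Subgroup.mem_subgroupOf] at hg
        apply hx1
        have h2 : (g : G)⁻¹ * x * g ∈ H := by simpa using hg
        have h3 : (g : G)⁻¹ * x * g ∈ N := by
          have h0 := hNn.conj_mem _ hxN (g : G)⁻¹
          simpa using h0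
        have h4 := hdisj _ h3 h2
        apply Subtype.ext
        have h5 : (x : G) = g * ((g : G)⁻¹ * x * g) * (g : G)⁻¹ := by group
        rw [h5, h4]
        simp

end Cfsg.Agent.S4108
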