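import Mathlib
import Cfsg.Statements.S4112
import Cfsg.Agent.S4155
import Cfsg.Agent.S1476

set_option autoImplicit false
open Pointwise
open Cfsg
open scoped commutatorElement

namespace Cfsg.Agent.S4112

theorem fwd {G : Type*} [Group G] [Finite G] (N M : Subgroup G) [N.Normal] [M.Normal]
    (hcent : ∀ x ∈ M, x ≠ 1 → Subgroup.centralizer ({x} : Set G) ≤ N) :
    N.index.Coprime (Nat.card M) := by
  by_contra hnc
  obtain ⟨p, hp, hpN, hpM⟩ := Nat.Prime.not_coprime_iff_dvd.1 hnc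
  haveI : Fact p.Prime := ⟨hp⟩
  obtain ⟨x, hx⟩ := exists_prime_orderOf_dvd_card' p hpM
  have hxo : orderOf (x : G) = p := by rw [Subgroup.orderOf_coe]; exact hx
  have hxp : IsPGroup p (Subgroup.zpowers (x : G)) :=
    IsPGroup.of_card (n := 1) (by rw [Nat.card_zpowers, hxo, pow_one])
  obtain ⟨P, hP⟩ := hxp.exists_le_sylow
  have hxP : (x : G) ∈ (P : Subgroup G) := hP (Subgroup.mem_zpowers _)
  haveI hnil : Group.IsNilpotent (P : Subgroup G) := P.2.isNilpotent
  have hV : M.subgroupOf (P : Subgroup G) ≠ ⊥ := by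
    intro h
    have h1 : (⟨(x : G), hxP⟩ : (P : Subgroup G)) ∈ M.subgroupOf (P : Subgroup G) :=
      Subgroup.mem_subgroupOf.2 x.2
    rw [h, Subgroup.mem_bot] at h1
    have h2 : (x : G) = 1 := congrArg Subtype.val h1
    rw [h2, orderOf_one] at hxo
    exact hp.ne_one hxo.symm
  obtain ⟨v, hvV, hvZ, hv1⟩ := S4155.normal_inf_center (M.subgroupOf (P : Subgroup G)) hV
  have hvM : (v : G) ∈ M := Subgroup.mem_subgroupOf.1 hvV
  have hv1' : (v : G) ≠ 1 := fun h => hv1 (Subtype.ext h)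
  have hPN : (P : Subgroup G) ≤ N := by
    intro y hy
    apply hcent (v : G) hvM hv1'
    rw [Subgroup.mem_centralizer_iff]
    intro z hz
    rw [Set.mem_singleton_iff] at hz
    rw [hz]
    have h1 := (Subgroup.mem_center_iff.1 hvZ) ⟨y, hy⟩
    have h2 := congrArg Subtype.val h1
    exact h2.symm
  exact P.not_dvd_index (hpN.trans (Subgroup.index_dvd_of_le hPN))

theorem bwd {G : Type*} [Group G] [Finite G] (N M : Subgroup G) [N.Normal] [M.Normal]
    (hcam : ∀ g : G, g ∉ N → ∀ m ∈ M, ∃ x : G, x * g * x⁻¹ = g * m)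
    (hcop : N.index.Coprime (Nat.card M)) :
    ∀ x ∈ M, x ≠ 1 → Subgroup.centralizer ({x} : Set G) ≤ N := by
  intro x hxM hx1 g hg
  by_contra hgN
  have hgx : x * g = g * x :=
    (Subgroup.mem_centralizer_iff.1 hg) x (Set.mem_singleton x)
  have hox : orderOf x ≠ 1 := fun h => hx1 (orderOf_eq_one_iff.1 h)
  obtain ⟨p, hp, hpx⟩ := Nat.exists_prime_and_dvd hox
  have hox0 : orderOf x ≠ 0 := (orderOf_pos x).ne'
  obtain ⟨x', hx'def⟩ : ∃ x' : G, x' = x ^ (orderOf x / p) := ⟨_, rfl⟩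
  have hx'o : orderOf x' = p := by
    rw [hx'def]; exact orderOf_pow_orderOf_div hox0 hpx
  have hx'M : x' ∈ M := by rw [hx'def]; exact M.pow_mem hxM _
  have hcx' : Commute g x' := by
    rw [hx'def]
    exact (Commute.pow_right (show Commute g x from hgx.symm) _)
  have hpM : p ∣ Nat.card M := by
    have h1 := orderOf_dvd_natCard (⟨x', hx'M⟩ : M)
    rw [Subgroup.orderOf_mk, hx'o] at h1
    exact h1
  have hpN : ¬ p ∣ N.index := by
    intro h
    have h1 := Nat.dvd_gcd h hpM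
    rw [hcop.gcd_eq_one] at h1
    exact hp.ne_one (Nat.dvd_one.1 h1)
  have hog0 : orderOf g ≠ 0 := (orderOf_pos g).ne'
  obtain ⟨k, m', hpm', hkm⟩ := Nat.exists_eq_pow_mul_and_not_dvd hog0 p hp.ne_one
  obtain ⟨g', hg'def⟩ : ∃ g' : G, g' = g ^ (p ^ k) := ⟨_, rfl⟩
  have hg'm : g' ^ m' = 1 := by
    rw [hg'def, ← pow_mul, ← hkm, pow_orderOf_eq_one]
  have hg'N : g' ∉ N := by
    intro h
    apply hgN
    rw [← QuotientGroup.eq_one_iff]
    have h1 : ((g : G ⧸ N)) ^ (p ^ k) = 1 := by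
      rw [← QuotientGroup.mk_pow, QuotientGroup.eq_one_iff, ← hg'def]; exact h
    have h2 : ((g : G ⧸ N)) ^ N.index = 1 := by
      rw [Subgroup.index_eq_card]; exact pow_card_eq_one'
    have h3 := Nat.dvd_gcd (orderOf_dvd_of_pow_eq_one h1) (orderOf_dvd_of_pow_eq_one h2)
    have h4 : Nat.gcd (p ^ k) N.index = 1 :=
      Nat.Coprime.pow_left k ((Nat.Prime.coprime_iff_not_dvd hp).2 hpN)
    rw [h4] at h3
    exact orderOf_eq_one_iff.1 (Nat.dvd_one.1 h3)
  obtain ⟨y, hy⟩ := hcam g' hg'N x' hx'M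
  have hcg' : Commute g' x' := by
    rw [hg'def]; exact Commute.pow_left hcx' _
  have h5 : (g' * x') ^ m' = 1 := by
    rw [← hy, conj_pow, hg'm, mul_one, mul_inv_cancel]
  rw [hcg'.mul_pow, hg'm, one_mul] at h5
  have h6 := orderOf_dvd_of_pow_eq_one h5
  rw [hx'o] at h6
  exact hpm' h6

theorem supp {G : Type*} [Group G] [Finite G] (N M : Subgroup G) [N.Normal] [M.Normal]
    (hcop : N.index.Coprime (Nat.card M)) : ∃ H : Subgroup G, H ⊔ N = ⊤ ∧ H ⊓ M = ⊥ := by
  obtain ⟨H, hH, hmin⟩ := (wellFounded_lt (α := Subgroup G)).has_min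
    {H : Subgroup G | H ⊔ N = ⊤} ⟨⊤, top_sup_eq N⟩
  have hHN : H ⊔ N = ⊤ := hH
  refine ⟨H, hHN, ?_⟩
  by_contra hR
  have hR1 : 1 < Nat.card ↥(H ⊓ M) := (Subgroup.one_lt_card_iff_ne_bot _).2 hR
  obtain ⟨p, hp, hpR⟩ := Nat.exists_prime_and_dvd (Nat.ne_of_gt hR1)
  haveI : Fact p.Prime := ⟨hp⟩
  have hpM : p ∣ Nat.card M := hpR.trans (Subgroup.card_dvd_of_le inf_le_right)
  have hpH : p ∣ Nat.card H := hpR.trans (Subgroup.card_dvd_of_le inf_le_left)
  have hpN : ¬ p ∣ N.index := by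
    intro h
    have h1 := Nat.dvd_gcd h hpM
    rw [hcop.gcd_eq_one] at h1
    exact hp.ne_one (Nat.dvd_one.1 h1)
  have hidx : (N.subgroupOf H).index = N.index := by
    have h1 : N.relIndex (H ⊔ N) = N.relIndex H := Subgroup.relIndex_sup_right H N
    rw [hHN, Subgroup.relIndex_top_right] at h1
    exact h1.symm
  obtain ⟨P⟩ : Nonempty (Sylow p ↥H) := inferInstance
  have hPN' : (P : Subgroup ↥H) ≤ N.subgroupOf H := by
    intro y hy
    apply S1476.mem_of_coprime_index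
    rw [hidx]
    obtain ⟨j, hj⟩ := P.2 ⟨y, hy⟩
    have h1 : y ^ p ^ j = 1 := by
      have h2 := congrArg Subtype.val hj
      exact h2
    have h3 := orderOf_dvd_of_pow_eq_one h1
    exact Nat.Coprime.coprime_dvd_left h3
      (Nat.Coprime.pow_left j ((Nat.Prime.coprime_iff_not_dvd hp).2 hpN))
  have hN'Φ : N.subgroupOf H ≤ frattini ↥H := by
    simp only [frattini, Order.radical, le_iInf_iff]
    intro L hL
    by_contra hcon
    have hlt : L < L ⊔ N.subgroupOf H :=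
      lt_of_le_of_ne le_sup_left (fun h => hcon (h ▸ le_sup_right))
    have htop := hL.2 _ hlt
    have h1 : L.map H.subtype ⊔ N = ⊤ := by
      have h2 := congrArg (Subgroup.map H.subtype) htop
      rw [Subgroup.map_sup, Subgroup.subgroupOf_map_subtype, ← MonoidHom.range_eq_map,
        Subgroup.range_subtype] at h2
      have h5 : H ≤ L.map H.subtype ⊔ N := by
        have h6 : L.map H.subtype ⊔ N ⊓ H ≤ L.map H.subtype ⊔ N :=
          sup_le le_sup_left (inf_le_left.trans le_sup_right)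
        rw [h2] at h6
        exact h6
      apply le_antisymm le_top
      calc (⊤ : Subgroup G) = H ⊔ N := hHN.symm
        _ ≤ L.map H.subtype ⊔ N := sup_le h5 le_sup_right
    have h3 : L.map H.subtype < H := by
      have h4 : L.map H.subtype < (⊤ : Subgroup ↥H).map H.subtype :=
        (Subgroup.map_lt_map_iff_of_injective (Subgroup.subtype_injective H)).2
          (lt_top_iff_ne_top.2 hL.1)
      rwa [← MonoidHom.range_eq_map, Subgroup.range_subtype] at h4
    exact hmin _ h1 h3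
  have hPΦ : (P : Subgroup ↥H) ≤ frattini ↥H := hPN'.trans hN'Φ
  have hnorm := Sylow.normalizer_sup_eq_top' P hPΦ
  have hnt := frattini_nongenerating hnorm
  haveI hPn : (P : Subgroup ↥H).Normal := Subgroup.normalizer_eq_top_iff.1 hnt
  obtain ⟨K, hK⟩ := Subgroup.exists_right_complement'_of_coprime
    (N := (P : Subgroup ↥H)) P.card_coprime_index
  have hKtop : K = ⊤ := by
    apply frattini_nongenerating
    rw [eq_top_iff, ← hK.sup_eq_top]
    exact sup_le (hPΦ.trans le_sup_right) le_sup_left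
  have hPbot : (P : Subgroup ↥H) = ⊥ := by
    have h1 := hK.disjoint.eq_bot
    rw [hKtop, inf_top_eq] at h1
    exact h1
  exact P.ne_bot_of_dvd_card hpH hPbot

theorem result {G : Type*} [Group G] [Finite G] (N M : Subgroup G) [N.Normal] [M.Normal] (hMN : M ≤ N) (hM1 : M ≠ ⊥) (hN2 : N ≠ ⊤)
    (hcam : ∀ g : G, g ∉ N → ∀ m ∈ M, ∃ x : G, x * g * x⁻¹ = g * m) :
    ((∀ x ∈ M, x ≠ 1 → Subgroup.centralizer ({x} : Set G) ≤ N) ↔ N.index.Coprime (Nat.card M)) ∧
    ((∀ x ∈ M, x ≠ 1 → Subgroup.centralizer ({x} : Set G) ≤ N) → ∃ H : Subgroup G, H ⊔ N = ⊤ ∧ H ⊓ M = ⊥) := by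
  exact ⟨⟨fwd N M, bwd N M hcam⟩, fun h => supp N M (fwd N M h)⟩

end Cfsg.Agent.S4112
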