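import Cfsg.Statements.S4113

import Mathlib

set_option autoImplicit false
open Cfsg
open scoped Pointwise

namespace Cfsg.Agent.S4113

theorem result {G : Type*} [Group G] [Finite G] (N M : Subgroup G) [N.Normal] [M.Normal] (hMN : M ≤ N) (hM1 : M ≠ ⊥) (hN2 : N ≠ ⊤)
    (H : Subgroup G) (hHM : H ⊔ M = ⊤) (hHM' : H ⊓ M = ⊥) :
    (∀ x ∈ M, x ≠ 1 → Subgroup.centralizer ({x} : Set G) ≤ N) ↔
      (H ≠ ⊥ ∧ H ≠ ⊤ ∧ H ⊓ N < H ∧ ∀ g : G, g ∉ H → H ⊓ H.map (MulAut.conj g).toMonoidHom ≤ N) := by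
  constructor
  · intro hC
    refine ⟨?_, ?_, ?_, ?_⟩
    · intro hbot
      rw [hbot, bot_sup_eq] at hHM
      apply hN2
      rw [eq_top_iff, ← hHM]
      exact hMN
    · intro htop
      rw [htop, top_inf_eq] at hHM'
      exact hM1 hHM'
    · refine lt_of_le_of_ne inf_le_left ?_
      intro heq
      have hHN : H ≤ N := by rw [← heq]; exact inf_le_right
      apply hN2
      rw [eq_top_iff, ← hHM]
      exact sup_le hHN hMN
    · intro g hg y hy
      obtain ⟨hy1, hy2⟩ := hy
      obtain ⟨y', hy', hyy⟩ := hy2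
      have hyy' : g * y' * g⁻¹ = y := by simpa using hyy
      have hgtop : g ∈ H ⊔ M := by rw [hHM]; trivial
      rw [← SetLike.mem_coe, Subgroup.mul_normal] at hgtop
      obtain ⟨h, hh, m, hm, hgeq⟩ := hgtop
      have hgeq' : h * m = g := hgeq
      subst hgeq'
      have hm1 : m ≠ 1 := by
        intro h1
        apply hg
        rw [h1, mul_one]
        exact hh
      have hy'' : h⁻¹ * y * h ∈ H := H.mul_mem (H.mul_mem (H.inv_mem hh) hy1) hh
      have e1 : h⁻¹ * y * h = m * y' * m⁻¹ := by rw [← hyy']; group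
      have hmem : (h⁻¹ * y * h) * y'⁻¹ ∈ H ⊓ M := by
        refine ⟨H.mul_mem hy'' (H.inv_mem hy'), ?_⟩
        rw [e1]
        have e2 : m * y' * m⁻¹ * y'⁻¹ = m * (y' * m⁻¹ * y'⁻¹) := by group
        rw [e2]
        exact M.mul_mem hm (Subgroup.Normal.conj_mem inferInstance _ (M.inv_mem hm) y')
      rw [hHM', Subgroup.mem_bot] at hmem
      have e3 : m * y' * m⁻¹ = y' := by
        rw [← e1]
        exact mul_inv_eq_one.mp hmem
      have hcent : y' ∈ Subgroup.centralizer ({m} : Set G) := by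
        rw [Subgroup.mem_centralizer_iff]
        intro z hz
        rw [Set.mem_singleton_iff] at hz
        rw [hz]
        calc m * y' = (m * y' * m⁻¹) * m := by group
          _ = y' * m := by rw [e3]
      have hy'N : y' ∈ N := hC m hm hm1 hcent
      rw [← hyy']
      exact Subgroup.Normal.conj_mem inferInstance _ hy'N _
  · rintro ⟨h1, h2, h3, h4⟩ x hx hx1 c hc
    by_contra hcN
    have hctop : c ∈ M ⊔ H := by rw [sup_comm, hHM]; trivial
    rw [← SetLike.mem_coe, Subgroup.normal_mul] at hctop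
    obtain ⟨m, hm, h', hh', hceq⟩ := hctop
    have hceq' : m * h' = c := hceq
    subst hceq'
    have hh'N : h' ∉ N := by
      intro h
      exact hcN (N.mul_mem (hMN hm) h)
    have hCM : ∀ y ∈ M, y * h' = h' * y → y = 1 := by
      intro y hy hyh
      by_contra hy1
      have hyH : y ∉ H := by
        intro hyH
        have : y ∈ H ⊓ M := ⟨hyH, hy⟩
        rw [hHM', Subgroup.mem_bot] at this
        exact hy1 this
      apply hh'N
      apply h4 y hyH
      refine ⟨hh', h', hh', ?_⟩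
      show y * h' * y⁻¹ = h'
      rw [hyh]; group
    let φ : M → M := fun u => ⟨(u : G) * h' * (u : G)⁻¹ * h'⁻¹, by
      have e : (u : G) * h' * (u : G)⁻¹ * h'⁻¹ = (u : G) * (h' * (u : G)⁻¹ * h'⁻¹) := by group
      rw [e]
      exact M.mul_mem u.2 (Subgroup.Normal.conj_mem inferInstance _ (M.inv_mem u.2) h')⟩
    have hinj : Function.Injective φ := by
      intro u v huv
      have h5 : (u : G) * h' * (u : G)⁻¹ * h'⁻¹ = (v : G) * h' * (v : G)⁻¹ * h'⁻¹ :=
        congrArg Subtype.val huv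
      have h6 : ((v : G)⁻¹ * (u : G)) * h' = h' * ((v : G)⁻¹ * (u : G)) := by
        have h7 : (u : G) * h' * (u : G)⁻¹ = (v : G) * h' * (v : G)⁻¹ := mul_right_cancel h5
        calc ((v : G)⁻¹ * (u : G)) * h' = (v : G)⁻¹ * ((u : G) * h' * (u : G)⁻¹) * (u : G) := by group
          _ = (v : G)⁻¹ * ((v : G) * h' * (v : G)⁻¹) * (u : G) := by rw [h7]
          _ = h' * ((v : G)⁻¹ * (u : G)) := by group
      have h8 := hCM _ (M.mul_mem (M.inv_mem v.2) u.2) h6
      apply Subtype.ext
      exact (inv_mul_eq_one.mp h8).symm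
    have hsurj : Function.Surjective φ := Finite.injective_iff_surjective.mp hinj
    obtain ⟨u, hu⟩ := hsurj ⟨m, hm⟩
    have hu' : (u : G) * h' * (u : G)⁻¹ * h'⁻¹ = m := congrArg Subtype.val hu
    have hc' : m * h' = (u : G) * h' * (u : G)⁻¹ := by rw [← hu']; group
    rw [Subgroup.mem_centralizer_iff] at hc
    have hcx := hc x (Set.mem_singleton x)
    rw [hc'] at hcx
    have hy : (u : G)⁻¹ * x * (u : G) ∈ M := by
      have := Subgroup.Normal.conj_mem (inferInstance : M.Normal) x hx (u : G)⁻¹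
      simpa using this
    have hyh : ((u : G)⁻¹ * x * (u : G)) * h' = h' * ((u : G)⁻¹ * x * (u : G)) := by
      calc ((u : G)⁻¹ * x * (u : G)) * h' = (u : G)⁻¹ * (x * ((u : G) * h' * (u : G)⁻¹)) * (u : G) := by group
        _ = (u : G)⁻¹ * (((u : G) * h' * (u : G)⁻¹) * x) * (u : G) := by rw [hcx]
        _ = h' * ((u : G)⁻¹ * x * (u : G)) := by group
    have h9 := hCM _ hy hyh
    apply hx1
    have : x = (u : G) * ((u : G)⁻¹ * x * (u : G)) * (u : G)⁻¹ := by group
    rw [this, h9]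
    group

end Cfsg.Agent.S4113
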