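import Mathlib
import Cfsg.Statements.S4117
import Cfsg.Agent.S3745
import Cfsg.Agent.S1459
import Cfsg.Agent.S1476
import Cfsg.Agent.S0003
import Cfsg.Agent.Lib.Helper1.Nil

set_option autoImplicit false
open Pointwise
open Cfsg
open scoped commutatorElement

namespace Cfsg.Agent.S4117

/-- Coprime action (internal form): `G = C_G(A) [G, A]` for `G` normal solvable. -/
theorem coprime_decomp {X : Type*} [Group X] [Finite X] (G A : Subgroup X) [hGn : G.Normal]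
    (hcop : (Nat.card A).Coprime (Nat.card G)) (hsolv : Group.IsSolvable G) (g : X)
    (hg : g ∈ G) :
    ∃ c ∈ G ⊓ Subgroup.centralizer (A : Set X), ∃ n ∈ ⁅G, A⁆, g = c * n := by
  obtain ⟨N, hNdef⟩ : ∃ N : Subgroup X, N = ⁅G, A⁆ := ⟨_, rfl⟩
  have hNG : N ≤ G := by rw [hNdef]; exact Subgroup.commutator_le_left G A
  have hNconjG : ∀ h ∈ G, ∀ n ∈ N, h * n * h⁻¹ ∈ N := by
    intro h hh
    rw [hNdef]
    apply S1459.conj_mem_comm
    intro a ha b hb
    have e : h * ⁅a, b⁆ * h⁻¹ = ⁅h * a, b⁆ * ⁅h, b⁆⁻¹ := by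
      simp only [commutatorElement_def]; group
    rw [e]
    exact Subgroup.mul_mem _ (Subgroup.commutator_mem_commutator (G.mul_mem hh ha) hb)
      (Subgroup.inv_mem _ (Subgroup.commutator_mem_commutator hh hb))
  have hAN : A ≤ Subgroup.normalizer (N : Set X) := by
    intro a ha
    apply Lib.Helper1.mem_normalizer_of_map_conj_eq
    rw [hNdef, Subgroup.map_commutator,
      Lib.Helper1.map_conj_eq_of_mem_normalizer G a
        (by rw [Subgroup.normalizer_eq_top]; exact Subgroup.mem_top a),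
      Lib.Helper1.map_conj_eq_of_mem_normalizer A a (Subgroup.le_normalizer ha)]
  have hNsolv : Group.IsSolvable N := S3745.sub_solvable hNG hsolv
  have hNcop : (Nat.card N).Coprime (Nat.card A) :=
    Nat.Coprime.coprime_dvd_left (Subgroup.card_dvd_of_le hNG) hcop.symm
  obtain ⟨B, hBdef⟩ : ∃ B : Subgroup X, B = A.map (MulAut.conj g).toMonoidHom := ⟨_, rfl⟩
  have hBle : B ≤ A ⊔ N := by
    rw [hBdef]
    rintro _ ⟨a, ha, rfl⟩
    show g * a * g⁻¹ ∈ A ⊔ N
    have e : g * a * g⁻¹ = ⁅g, a⁆ * a := by rw [commutatorElement_def]; group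
    rw [e]
    have h0 : ⁅g, a⁆ ∈ N := by rw [hNdef]; exact Subgroup.commutator_mem_commutator hg ha
    exact Subgroup.mul_mem _ (Subgroup.mem_sup_right h0) (Subgroup.mem_sup_left ha)
  have hBcard : Nat.card B = Nat.card A := by
    rw [hBdef]; exact Subgroup.card_map_of_injective (MulAut.conj g).injective
  obtain ⟨n, hn, hBn⟩ := S3745.sz_conj_sub N A B hAN hBle hBcard hNcop hNsolv
  have hnG : n ∈ G := hNG hn
  have hcG : n⁻¹ * g ∈ G := G.mul_mem (G.inv_mem hnG) hg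
  have hcA : ∀ a ∈ A, (n⁻¹ * g) * a * (n⁻¹ * g)⁻¹ ∈ A := by
    intro a ha
    have h1 : g * a * g⁻¹ ∈ B := by rw [hBdef]; exact ⟨a, ha, rfl⟩
    rw [hBn, Lib.Helper1.mem_map_conj_iff] at h1
    have e : (n⁻¹ * g) * a * (n⁻¹ * g)⁻¹ = n⁻¹ * (g * a * g⁻¹) * n := by group
    rw [e]; exact h1
  have hdisj : A ⊓ G = ⊥ := (Subgroup.disjoint_of_coprime_natCard hcop).eq_bot
  have hcC : n⁻¹ * g ∈ Subgroup.centralizer (A : Set X) := by
    rw [Subgroup.mem_centralizer_iff]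
    intro a ha
    have h6 : (n⁻¹ * g) * a * (n⁻¹ * g)⁻¹ * a⁻¹ ∈ A ⊓ G := by
      refine ⟨A.mul_mem (hcA a ha) (A.inv_mem ha), ?_⟩
      have h0 : a * (n⁻¹ * g)⁻¹ * a⁻¹ ∈ G := hGn.conj_mem _ (G.inv_mem hcG) a
      have e : (n⁻¹ * g) * a * (n⁻¹ * g)⁻¹ * a⁻¹ = (n⁻¹ * g) * (a * (n⁻¹ * g)⁻¹ * a⁻¹) := by
        group
      rw [e]; exact G.mul_mem hcG h0
    rw [hdisj, Subgroup.mem_bot] at h6
    have e : (n⁻¹ * g) * a = ((n⁻¹ * g) * a * (n⁻¹ * g)⁻¹ * a⁻¹) * (a * (n⁻¹ * g)) := by group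
    rw [e, h6, one_mul]
  refine ⟨n⁻¹ * g, Subgroup.mem_inf.2 ⟨hcG, hcC⟩, (n⁻¹ * g)⁻¹ * n * (n⁻¹ * g), ?_, by group⟩
  have h7 := hNconjG (n⁻¹ * g)⁻¹ (G.inv_mem hcG) n hn
  rw [inv_inv] at h7
  rw [← hNdef]; exact h7

theorem lift_decomp {G A : Type*} [Group G] [Finite G] [Group A] [Finite A]
    [MulDistribMulAction A G] (hcop : (Nat.card A).Coprime (Nat.card G))
    (hsolv : Group.IsSolvable G) (g : G) :
    ∃ c n : G, (∀ a : A, a • c = c) ∧
      n ∈ Subgroup.closure {y : G | ∃ (a : A) (g : G), y = g⁻¹ * a • g} ∧ g = c * n := by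
  obtain ⟨φ, hφ⟩ : ∃ φ : A →* MulAut G, φ = MulDistribMulAction.toMulAut A G := ⟨_, rfl⟩
  have hφa : ∀ (a : A) (x : G), φ a x = a • x := by intro a x; rw [hφ]; rfl
  haveI : Finite (G ⋊[φ] A) := Finite.of_equiv (G × A) SemidirectProduct.equivProd.symm
  obtain ⟨Gx, hGx⟩ : ∃ Gx : Subgroup (G ⋊[φ] A),
      Gx = (SemidirectProduct.inl : G →* G ⋊[φ] A).range := ⟨_, rfl⟩
  obtain ⟨Ax, hAx⟩ : ∃ Ax : Subgroup (G ⋊[φ] A),
      Ax = (SemidirectProduct.inr : A →* G ⋊[φ] A).range := ⟨_, rfl⟩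
  haveI hGxn : Gx.Normal := by
    rw [hGx, SemidirectProduct.range_inl_eq_ker_rightHom]; infer_instance
  have cG : Nat.card Gx = Nat.card G := by
    rw [hGx]
    exact Nat.card_congr (MonoidHom.ofInjective SemidirectProduct.inl_injective).toEquiv.symm
  have cA : Nat.card Ax = Nat.card A := by
    rw [hAx]
    exact Nat.card_congr (MonoidHom.ofInjective SemidirectProduct.inr_injective).toEquiv.symm
  have hsolvx : Group.IsSolvable Gx := by
    rw [hGx]
    exact Group.isSolvable_of_surjective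
      (f := (SemidirectProduct.inl : G →* G ⋊[φ] A).rangeRestrict)
      (MonoidHom.rangeRestrict_surjective _)
  obtain ⟨c, hc, n, hn, hgcn⟩ := coprime_decomp Gx Ax (by rw [cA, cG]; exact hcop) hsolvx
    (SemidirectProduct.inl g) (by rw [hGx]; exact ⟨g, rfl⟩)
  obtain ⟨hcG, hcC⟩ := Subgroup.mem_inf.1 hc
  rw [hGx] at hcG
  obtain ⟨c₀, rfl⟩ := hcG
  have hNle : ⁅Gx, Ax⁆ ≤ (Subgroup.closure {y : G | ∃ (a : A) (g : G), y = g⁻¹ * a • g}).map
      (SemidirectProduct.inl : G →* G ⋊[φ] A) := by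
    rw [Subgroup.commutator_le]
    intro x hx y hy
    rw [hGx] at hx; rw [hAx] at hy
    obtain ⟨g₁, rfl⟩ := hx
    obtain ⟨a, rfl⟩ := hy
    refine ⟨g₁ * a • g₁⁻¹, Subgroup.subset_closure ⟨a, g₁⁻¹, by rw [inv_inv]⟩, ?_⟩
    rw [commutatorElement_def, map_mul, ← hφa, SemidirectProduct.inl_aut, map_inv, map_inv]
    group
  obtain ⟨n₀, hn₀, rfl⟩ := hNle hn
  refine ⟨c₀, n₀, ?_, hn₀, ?_⟩
  · intro a
    have h1 := (Subgroup.mem_centralizer_iff.1 hcC) (SemidirectProduct.inr a)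
      (by rw [hAx]; exact ⟨a, rfl⟩)
    apply SemidirectProduct.inl_injective (φ := φ)
    rw [← hφa, SemidirectProduct.inl_aut, h1, map_inv]
    group
  · apply SemidirectProduct.inl_injective (φ := φ)
    rw [map_mul]; exact hgcn

theorem mem_zpowers_of_cyclic' {C : Type*} [Group C] [Finite C] [IsCyclic C] (p : ℕ)
    (hp : p.Prime) (y z : C) (hy : orderOf y = p) (hz : orderOf z = p) :
    z ∈ Subgroup.zpowers y := by
  classical
  have _i : Fintype C := Fintype.ofFinite C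
  let S : Finset C := Finset.univ.filter (fun c : C => c ^ p = 1)
  let T : Finset C := (Subgroup.zpowers y : Set C).toFinset
  have hTS : T ⊆ S := by
    intro c hc
    rw [Set.mem_toFinset, SetLike.mem_coe, Subgroup.mem_zpowers_iff] at hc
    obtain ⟨k, rfl⟩ := hc
    rw [Finset.mem_filter]
    refine ⟨Finset.mem_univ _, ?_⟩
    rw [← zpow_natCast, ← zpow_mul, mul_comm, zpow_mul, zpow_natCast, ← hy, pow_orderOf_eq_one,
      one_zpow]
  have hT : T.card = p := by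
    rw [Set.toFinset_card, ← Nat.card_eq_fintype_card]
    change Nat.card (Subgroup.zpowers y) = p
    rw [Nat.card_zpowers, hy]
  have hS : S.card ≤ p := IsCyclic.card_pow_eq_one_le hp.pos
  have hEq : T = S := Finset.eq_of_subset_of_card_le hTS (by rw [hT]; exact hS)
  have hzS : z ∈ S := by
    rw [Finset.mem_filter]
    exact ⟨Finset.mem_univ _, by rw [← hz, pow_orderOf_eq_one]⟩
  rw [← hEq, Set.mem_toFinset] at hzS
  exact hzS

theorem result {G A : Type*} [Group G] [Finite G] [Group A] [Finite A]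
    [MulDistribMulAction A G] (hcop : (Nat.card A).Coprime (Nat.card G))
    (hcyc : ∀ (p : ℕ) [Fact p.Prime] (P : Sylow p G), IsCyclic (P : Subgroup G)) :
    (Nat.card (MulAction.fixedPoints A G : Set G)).Coprime (Nat.card G / Nat.card (MulAction.fixedPoints A G : Set G)) ∧
    IsCyclic (Subgroup.closure {y : G | ∃ (a : A) (g : G), y = g⁻¹ * a • g}) ∧
    (Subgroup.closure {y : G | ∃ (a : A) (g : G), y = g⁻¹ * a • g}).Normal ∧
    (Subgroup.closure {y : G | ∃ (a : A) (g : G), y = g⁻¹ * a • g} : Set G) ∩ MulAction.fixedPoints A G = {1} ∧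
    Subgroup.closure {y : G | ∃ (a : A) (g : G), y = g⁻¹ * a • g} ⊔ Subgroup.closure (MulAction.fixedPoints A G) = ⊤ := by
  classical
  haveI hZ : IsZGroup G := ⟨fun p hp P => by haveI : Fact p.Prime := ⟨hp⟩; exact hcyc p P⟩
  have hsolv : Group.IsSolvable G := inferInstance
  obtain ⟨N₀, hN₀def⟩ : ∃ N₀ : Subgroup G,
      N₀ = Subgroup.closure {y : G | ∃ (a : A) (g : G), y = g⁻¹ * a • g} := ⟨_, rfl⟩
  rw [← hN₀def]
  obtain ⟨Cs, hCs⟩ : ∃ Cs : Subgroup G, ∀ x, x ∈ Cs ↔ ∀ a : A, a • x = x :=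
    ⟨{ carrier := {x | ∀ a : A, a • x = x}
       mul_mem' := by
         intro x y hx hy a
         rw [smul_mul', hx a, hy a]
       one_mem' := fun a => smul_one a
       inv_mem' := by
         intro x hx a
         rw [smul_inv', hx a] }, fun x => Iff.rfl⟩
  have hfix : (MulAction.fixedPoints A G : Set G) = (Cs : Set G) := by
    ext x; rw [MulAction.mem_fixedPoints, SetLike.mem_coe, hCs]
  rw [hfix]
  have hNinv : ∀ (a : A) (x : G), x ∈ N₀ → a • x ∈ N₀ := by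
    intro a x hx
    rw [hN₀def] at hx ⊢
    induction hx using Subgroup.closure_induction with
    | mem y hy =>
      obtain ⟨b, g, rfl⟩ := hy
      apply Subgroup.subset_closure
      refine ⟨a * b * a⁻¹, a • g, ?_⟩
      rw [smul_mul', smul_inv', smul_smul, smul_smul, inv_mul_cancel_right]
    | one => rw [smul_one]; exact Subgroup.one_mem _
    | mul y z _ _ hy hz => rw [smul_mul']; exact Subgroup.mul_mem _ hy hz
    | inv y _ hy => rw [smul_inv']; exact Subgroup.inv_mem _ hy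
  have hNn : N₀.Normal := by
    refine ⟨fun n hn g₁ => ?_⟩
    rw [hN₀def] at hn ⊢
    induction hn using Subgroup.closure_induction with
    | mem y hy =>
      obtain ⟨a, g, rfl⟩ := hy
      have e : g₁ * (g⁻¹ * a • g) * g₁⁻¹ =
          ((g * g₁⁻¹)⁻¹ * a • (g * g₁⁻¹)) * ((g₁⁻¹)⁻¹ * a • g₁⁻¹)⁻¹ := by
        rw [smul_mul', smul_inv']; group
      rw [e]
      exact Subgroup.mul_mem _ (Subgroup.subset_closure ⟨a, _, rfl⟩)
        (Subgroup.inv_mem _ (Subgroup.subset_closure ⟨a, _, rfl⟩))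
    | one => simp
    | mul y z _ _ hy hz =>
      have e : g₁ * (y * z) * g₁⁻¹ = (g₁ * y * g₁⁻¹) * (g₁ * z * g₁⁻¹) := by group
      rw [e]; exact Subgroup.mul_mem _ hy hz
    | inv y _ hy =>
      have e : g₁ * y⁻¹ * g₁⁻¹ = (g₁ * y * g₁⁻¹)⁻¹ := by group
      rw [e]; exact Subgroup.inv_mem _ hy
  have hdec : ∀ g : G, ∃ c n : G, (∀ a : A, a • c = c) ∧ n ∈ N₀ ∧ g = c * n := by
    intro g
    rw [hN₀def]
    exact lift_decomp hcop hsolv g
  have hgen : N₀ ≤ Subgroup.closure {y : G | ∃ (a : A) (n : G), n ∈ N₀ ∧ y = n⁻¹ * a • n} := by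
    conv_lhs => rw [hN₀def]
    rw [Subgroup.closure_le]
    rintro _ ⟨a, g, rfl⟩
    obtain ⟨c, n, hc, hn, rfl⟩ := hdec g
    apply Subgroup.subset_closure
    refine ⟨a, n, hn, ?_⟩
    rw [smul_mul', hc a]; group
  haveI hcycD : IsCyclic (commutator ↥N₀) := IsZGroup.isCyclic_commutator ↥N₀
  obtain ⟨w', hw'⟩ := hcycD.exists_generator
  have hDmap : ⁅N₀, N₀⁆ = (commutator ↥N₀).map N₀.subtype := by
    rw [commutator_def, Subgroup.map_commutator, ← MonoidHom.range_eq_map, Subgroup.range_subtype]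
  obtain ⟨w, hwdef⟩ : ∃ w : G, w = ((w' : ↥N₀) : G) := ⟨_, rfl⟩
  have hwD : w ∈ ⁅N₀, N₀⁆ := by rw [hDmap, hwdef]; exact ⟨w', w'.2, rfl⟩
  have hDw : ∀ x ∈ ⁅N₀, N₀⁆, ∃ t : ℤ, x = w ^ t := by
    intro x hx
    rw [hDmap] at hx
    obtain ⟨y, hy, rfl⟩ := hx
    obtain ⟨t, ht⟩ := Subgroup.mem_zpowers_iff.1 (hw' ⟨y, hy⟩)
    refine ⟨t, ?_⟩
    have h0 : ((w' ^ t : ↥(commutator ↥N₀)) : ↥N₀) = y := by rw [ht]
    rw [hwdef, ← h0]; simp
  have hDinv : ∀ (a : A) (x : G), x ∈ ⁅N₀, N₀⁆ → a • x ∈ ⁅N₀, N₀⁆ := by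
    intro a x hx
    have h1 : (⁅N₀, N₀⁆).map (MulDistribMulAction.toMonoidHom G a) ≤ ⁅N₀, N₀⁆ := by
      rw [Subgroup.map_commutator]
      apply Subgroup.commutator_mono <;>
      · rintro _ ⟨y, hy, rfl⟩
        exact hNinv a y hy
    exact h1 ⟨x, hx, rfl⟩
  have hDnorm : ∀ g ∈ N₀, ∀ x ∈ ⁅N₀, N₀⁆, g * x * g⁻¹ ∈ ⁅N₀, N₀⁆ := by
    intro g hg x hx
    have h1 : (⁅N₀, N₀⁆).map (MulAut.conj g).toMonoidHom ≤ ⁅N₀, N₀⁆ := by
      rw [Subgroup.map_commutator]
      apply Subgroup.commutator_mono <;>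
      · rintro _ ⟨y, hy, rfl⟩
        exact N₀.mul_mem (N₀.mul_mem hg hy) (N₀.inv_mem hg)
    exact h1 ⟨x, hx, rfl⟩
  have hpow : ∀ g ∈ N₀, ∃ i : ℤ, ∀ x ∈ ⁅N₀, N₀⁆, g * x * g⁻¹ = x ^ i := by
    intro g hg
    obtain ⟨i, hi⟩ := hDw _ (hDnorm g hg w hwD)
    refine ⟨i, fun x hx => ?_⟩
    obtain ⟨t, rfl⟩ := hDw x hx
    rw [← zpow_mul, mul_comm t i, zpow_mul, ← hi]
    exact conj_zpow.symm
  have hkey : ∀ g ∈ N₀, ∀ (a : A), ∀ x ∈ ⁅N₀, N₀⁆,
      (a • g) * x * (a • g)⁻¹ = g * x * g⁻¹ := by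
    intro g hg a x hx
    obtain ⟨i, hi⟩ := hpow g hg
    have h1 := hi (a⁻¹ • x) (hDinv a⁻¹ x hx)
    have h2 : a • (g * (a⁻¹ • x) * g⁻¹) = a • ((a⁻¹ • x) ^ i) := by rw [h1]
    rw [smul_mul', smul_mul', smul_inv', smul_inv_smul, smul_zpow', smul_inv_smul] at h2
    rw [h2, hi x hx]
  have hcent : ∀ n ∈ N₀, ∀ x ∈ ⁅N₀, N₀⁆, n * x = x * n := by
    have h1 : N₀ ≤ Subgroup.centralizer ((⁅N₀, N₀⁆ : Subgroup G) : Set G) := by
      refine hgen.trans ?_
      rw [Subgroup.closure_le]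
      rintro _ ⟨a, n, hn, rfl⟩
      rw [SetLike.mem_coe, Subgroup.mem_centralizer_iff]
      intro x hx
      have h2 := hkey n hn a x hx
      have e : x * (n⁻¹ * a • n) = n⁻¹ * (n * x * n⁻¹) * a • n := by group
      rw [e, ← h2]; group
    intro n hn x hx
    exact ((Subgroup.mem_centralizer_iff.1 (h1 hn)) x hx).symm
  have hcomm : ∀ a b : ↥N₀, a * b = b * a := by
    haveI : IsCyclic (Abelianization ↥N₀) := inferInstance
    apply commutative_of_cyclic_center_quotient (Abelianization.of : ↥N₀ →* Abelianization ↥N₀)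
    rw [Abelianization.ker_of]
    intro y hy
    rw [Subgroup.mem_center_iff]
    intro z
    apply Subtype.ext
    have hyD : (y : G) ∈ ⁅N₀, N₀⁆ := by rw [hDmap]; exact ⟨y, hy, rfl⟩
    exact hcent z z.2 y hyD
  have hNcyc : IsCyclic ↥N₀ := by
    apply S1476.cyc_of_inj (Abelianization.of : ↥N₀ →* Abelianization ↥N₀) _ inferInstance
    rw [← MonoidHom.ker_eq_bot_iff, Abelianization.ker_of, commutator_def, eq_bot_iff,
      Subgroup.commutator_le]
    intro a _ b _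
    rw [Subgroup.mem_bot, commutatorElement_eq_one_iff_commute]
    exact hcomm a b
  have hNC : ∀ c ∈ N₀, (∀ a : A, a • c = c) → c = 1 := by
    intro c hcN hcfix
    obtain ⟨w₀, hw₀⟩ := hNcyc.exists_generator
    obtain ⟨s, hs⟩ := Subgroup.mem_zpowers_iff.1 (hw₀ ⟨c, hcN⟩)
    have hsG : (w₀ : G) ^ s = c := by
      have h0 := congrArg Subtype.val hs
      simpa using h0
    have hall : ∀ x ∈ Subgroup.closure {y : G | ∃ (a : A) (n : G), n ∈ N₀ ∧ y = n⁻¹ * a • n},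
        x ∈ N₀ ∧ x ^ s = 1 := by
      intro x hx
      induction hx using Subgroup.closure_induction with
      | mem y hy =>
        obtain ⟨a, n, hn, rfl⟩ := hy
        refine ⟨N₀.mul_mem (N₀.inv_mem hn) (hNinv a n hn), ?_⟩
        obtain ⟨t, ht⟩ := Subgroup.mem_zpowers_iff.1 (hw₀ ⟨n, hn⟩)
        have htG : (w₀ : G) ^ t = n := by
          have h0 := congrArg Subtype.val ht
          simpa using h0
        have hns : n ^ s = c ^ t := by
          rw [← htG, ← hsG, ← zpow_mul, ← zpow_mul, mul_comm]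
        have hcomm' : Commute n⁻¹ (a • n) := by
          have h0 := hcomm ⟨n⁻¹, N₀.inv_mem hn⟩ ⟨a • n, hNinv a n hn⟩
          exact congrArg Subtype.val h0
        rw [hcomm'.mul_zpow, inv_zpow, ← smul_zpow', hns, smul_zpow', hcfix a, inv_mul_cancel]
      | one => exact ⟨N₀.one_mem, one_zpow s⟩
      | mul y z _ _ ihy ihz =>
        refine ⟨N₀.mul_mem ihy.1 ihz.1, ?_⟩
        have hc' : Commute y z := by
          have h0 := hcomm ⟨y, ihy.1⟩ ⟨z, ihz.1⟩
          exact congrArg Subtype.val h0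
        rw [hc'.mul_zpow, ihy.2, ihz.2, mul_one]
      | inv y _ ihy =>
        exact ⟨N₀.inv_mem ihy.1, by rw [inv_zpow, ihy.2, inv_one]⟩
    have h1 := (hall _ (hgen w₀.2)).2
    rw [hsG] at h1
    exact h1
  have hinf : Cs ⊓ N₀ = ⊥ := by
    rw [eq_bot_iff]
    rintro x ⟨hxC, hxN⟩
    rw [Subgroup.mem_bot]
    exact hNC x hxN ((hCs x).1 hxC)
  have hsup : Cs ⊔ N₀ = ⊤ := by
    rw [eq_top_iff]
    intro g _
    obtain ⟨c, n, hc, hn, rfl⟩ := hdec g
    exact Subgroup.mul_mem _ (Subgroup.mem_sup_left ((hCs c).2 hc)) (Subgroup.mem_sup_right hn)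
  have hcard : Nat.card G = Nat.card Cs * Nat.card N₀ := by
    haveI := hNn
    have h1 := S0003.card_sup_mul_card_inf Cs N₀
    rw [hsup, hinf, Subgroup.card_bot, mul_one, Subgroup.card_top] at h1
    exact h1
  have hcopCN : (Nat.card Cs).Coprime (Nat.card N₀) := by
    by_contra hnc
    obtain ⟨p, hp, hpC, hpN⟩ := Nat.Prime.not_coprime_iff_dvd.1 hnc
    haveI : Fact p.Prime := ⟨hp⟩
    obtain ⟨y, hy⟩ := exists_prime_orderOf_dvd_card' p hpC
    obtain ⟨x, hx⟩ := exists_prime_orderOf_dvd_card' p hpN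
    have hxo : orderOf (x : G) = p := by rw [Subgroup.orderOf_coe]; exact hx
    have hyo : orderOf (y : G) = p := by rw [Subgroup.orderOf_coe]; exact hy
    have hxp : IsPGroup p (Subgroup.zpowers (x : G)) :=
      IsPGroup.of_card (n := 1) (by rw [Nat.card_zpowers, hxo, pow_one])
    have hyp : IsPGroup p (Subgroup.zpowers (y : G)) :=
      IsPGroup.of_card (n := 1) (by rw [Nat.card_zpowers, hyo, pow_one])
    obtain ⟨P, hP⟩ := hxp.exists_le_sylow
    obtain ⟨Q, hQ⟩ := hyp.exists_le_sylow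
    obtain ⟨g, hg⟩ := MulAction.exists_smul_eq G Q P
    have hyP : g * (y : G) * g⁻¹ ∈ (P : Subgroup G) := by
      rw [← hg, Sylow.coe_subgroup_smul, S3745.mem_conj_smul]
      have e : g⁻¹ * (g * (y : G) * g⁻¹) * g = (y : G) := by group
      rw [e]
      exact hQ (Subgroup.mem_zpowers _)
    have hxP : (x : G) ∈ (P : Subgroup G) := hP (Subgroup.mem_zpowers _)
    haveI : IsCyclic (P : Subgroup G) := hcyc p P
    have ho1 : orderOf (⟨(x : G), hxP⟩ : (P : Subgroup G)) = p := by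
      rw [← Subgroup.orderOf_coe]; exact hxo
    have ho2 : orderOf (⟨g * (y : G) * g⁻¹, hyP⟩ : (P : Subgroup G)) = p := by
      rw [← Subgroup.orderOf_coe]
      show orderOf (g * (y : G) * g⁻¹) = p
      have hs : SemiconjBy g (y : G) (g * (y : G) * g⁻¹) := by
        unfold SemiconjBy; group
      rw [← SemiconjBy.orderOf_eq g hs]; exact hyo
    have hmem := mem_zpowers_of_cyclic' p hp _ _ ho1 ho2
    obtain ⟨t, ht⟩ := Subgroup.mem_zpowers_iff.1 hmem
    have htG : (x : G) ^ t = g * (y : G) * g⁻¹ := by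
      have h0 := congrArg Subtype.val ht
      simpa using h0
    have hyN : (y : G) ∈ N₀ := by
      have h1 : g * (y : G) * g⁻¹ ∈ N₀ := by rw [← htG]; exact N₀.zpow_mem x.2 t
      have h2 := hNn.conj_mem _ h1 g⁻¹
      have e : g⁻¹ * (g * (y : G) * g⁻¹) * g⁻¹⁻¹ = (y : G) := by group
      rw [e] at h2
      exact h2
    have hy1 : (y : G) = 1 := by
      have h1 : (y : G) ∈ Cs ⊓ N₀ := ⟨y.2, hyN⟩
      rw [hinf] at h1
      exact h1
    rw [hy1, orderOf_one] at hyo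
    exact hp.ne_one hyo.symm
  refine ⟨?_, hNcyc, hNn, ?_, ?_⟩
  · have e : Nat.card ↥((Cs : Subgroup G) : Set G) = Nat.card Cs := rfl
    rw [e, hcard, Nat.mul_div_cancel_left _ Nat.card_pos]
    exact hcopCN
  · ext x
    constructor
    · rintro ⟨hxN, hxC⟩
      exact hNC x hxN ((hCs x).1 hxC)
    · intro hx
      rw [Set.mem_singleton_iff] at hx
      rw [hx]
      exact ⟨N₀.one_mem, Cs.one_mem⟩
  · rw [Subgroup.closure_eq, sup_comm]; exact hsup

end Cfsg.Agent.S4117
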