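import Cfsg.Statements.S4127

import Mathlib
import Cfsg.Agent.S4035
import Cfsg.Agent.S4126
import Cfsg.Agent.Lib.Helper1.Frob

set_option autoImplicit false
open Cfsg
open scoped Pointwise

namespace Cfsg.Agent.S4127

universe u
open Subgroup

section
variable {G : Type u} [Group G]

lemma exists_pow_eq_right [Finite G] (x y : G) (hxy : Commute x y)
    (hcop : (orderOf x).Coprime (orderOf y)) : ∃ m : ℕ, (x * y) ^ m = y := by
  by_cases hy : orderOf y = 1
  · refine ⟨orderOf x, ?_⟩
    rw [orderOf_eq_one_iff] at hy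
    rw [hy, mul_one, pow_orderOf_eq_one]
  · have h1 : 1 < orderOf y := by
      have := orderOf_pos y
      omega
    obtain ⟨s, -, hs⟩ := Nat.exists_mul_mod_eq_one_of_coprime hcop h1
    refine ⟨orderOf x * s, ?_⟩
    rw [hxy.mul_pow, pow_mul, pow_orderOf_eq_one, one_pow, one_mul, ← pow_mod_orderOf, hs, pow_one]

end

theorem result {G : Type*} [Group G] [Finite G] (p : ℕ) [Fact p.Prime]
    (a : ℕ) (hmax : ∀ y : G, ¬ p ^ (a + 1) ∣ (Subgroup.centralizer ({y} : Set G)).index)
    (hx : ∃ x : G, (∃ k : ℕ, orderOf x = p ^ k) ∧ (Subgroup.centralizer ({x} : Set G)).index = p ^ a) :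
    Cfsg.HasNormalPComplement p G := by
  classical
  have hp : p.Prime := Fact.out
  obtain ⟨x, ⟨kx, hkx⟩, hxa⟩ := hx
  obtain ⟨C, hCdef⟩ : ∃ C : Subgroup G, C = Subgroup.centralizer ({x} : Set G) := ⟨_, rfl⟩
  have hCidx : C.index = p ^ a := by rw [hCdef]; exact hxa
  have hCmem : ∀ g : G, g ∈ C ↔ g * x = x * g := by
    intro g; rw [hCdef, Subgroup.mem_centralizer_iff]; constructor
    · intro h; exact (h x (Set.mem_singleton x)).symm
    · intro h z hz; rw [Set.mem_singleton_iff.mp hz]; exact h.symm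
  have hC35 : ∀ y : C, (orderOf y).Coprime p → ¬ p ∣ (ConjClasses.mk y).carrier.ncard := by
    intro y hy
    rw [Cfsg.Agent.S4035.class_card]
    have hyx : Commute x (y : G) := (commute_iff_eq _ _).mpr ((hCmem _).mp y.2).symm
    have hcop : (orderOf x).Coprime (orderOf (y : G)) := by
      rw [hkx, Subgroup.orderOf_coe]; exact Nat.Coprime.pow_left kx hy.symm
    obtain ⟨m, hm⟩ := exists_pow_eq_right x (y : G) hyx hcop
    obtain ⟨m', hm'⟩ := exists_pow_eq_right (y : G) x hyx.symm hcop.symm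
    have hTC : Subgroup.centralizer ({x * (y : G)} : Set G) ≤ C := by
      intro g hg
      rw [hCmem]
      rw [Subgroup.mem_centralizer_iff] at hg
      have h1 := hg _ (Set.mem_singleton _)
      have h2 : Commute (x * (y : G)) g := (commute_iff_eq _ _).mpr h1
      have h3 := h2.pow_left m'
      rw [hyx.eq, hm'] at h3
      exact h3.eq.symm
    have hsub : Subgroup.centralizer ({y} : Set C)
        = (Subgroup.centralizer ({x * (y : G)} : Set G)).subgroupOf C := by
      ext c
      rw [Subgroup.mem_subgroupOf, Subgroup.mem_centralizer_iff, Subgroup.mem_centralizer_iff]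
      constructor
      · intro h z hz
        rw [Set.mem_singleton_iff.mp hz]
        have h1 := h y (Set.mem_singleton y)
        have h1' : (y : G) * c = c * y := congrArg Subtype.val h1
        have h2 := (hCmem _).mp c.2
        calc x * (y : G) * c = x * ((y : G) * c) := by rw [mul_assoc]
          _ = x * ((c : G) * y) := by rw [h1']
          _ = ((c : G) * x) * y := by rw [h2, mul_assoc]
          _ = c * (x * y) := by rw [mul_assoc]
      · intro h z hz
        rw [Set.mem_singleton_iff.mp hz]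
        have h1 := h _ (Set.mem_singleton _)
        have h2 : Commute (x * (y : G)) (c : G) := (commute_iff_eq _ _).mpr h1
        have h3 := h2.pow_left m
        rw [hm] at h3
        exact Subtype.ext h3.eq
    rw [hsub]
    show ¬ p ∣ (Subgroup.centralizer ({x * (y : G)} : Set G)).relIndex C
    have h1 := Subgroup.relIndex_mul_index hTC
    have h2 := hmax (x * (y : G))
    intro hdvd
    apply h2
    rw [← h1, hCidx, pow_succ']
    exact mul_dvd_mul hdvd (dvd_refl _)
  obtain ⟨PC⟩ : Nonempty (Sylow p C) := inferInstance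
  obtain ⟨hPCn, H, hHn, hHp, hdisj, hsup⟩ := Cfsg.Agent.S4035.result hC35 PC
  haveI := hHn
  haveI := hPCn
  have hHidx : H.index = Nat.card (PC : Subgroup C) := by
    have h1 : H.relIndex ((PC : Subgroup C) ⊔ H) = H.relIndex (PC : Subgroup C) :=
      Subgroup.relIndex_sup_right _ _
    rw [hsup, Subgroup.relIndex_top_right] at h1
    have h2 : H ⊓ (PC : Subgroup C) = ⊥ := by rw [inf_comm]; exact hdisj
    rw [h1, ← Subgroup.inf_relIndex_right, h2, Subgroup.relIndex_bot_left]
  obtain ⟨kP, hkP⟩ := IsPGroup.iff_card.mp PC.2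
  have hHidx' : H.index = p ^ kP := by rw [hHidx, hkP]
  have hHmem : ∀ z : C, (orderOf z).Coprime p → z ∈ H := by
    intro z hz
    rw [← QuotientGroup.eq_one_iff]
    have h1 : orderOf (QuotientGroup.mk' H z) ∣ orderOf z := orderOf_map_dvd _ z
    have h2 : orderOf (QuotientGroup.mk' H z) ∣ p ^ kP := by
      rw [← hHidx', Subgroup.index_eq_card]; exact orderOf_dvd_natCard _
    have h3 : orderOf (QuotientGroup.mk' H z) = 1 :=
      Nat.Coprime.eq_one_of_dvd ((Nat.Coprime.pow_right kP hz).coprime_dvd_left h1) h2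
    exact orderOf_eq_one_iff.mp h3
  have hHord : ∀ z : C, z ∈ H → (orderOf (z : G)).Coprime p := by
    intro z hz
    rw [Subgroup.orderOf_coe]
    have h1 : orderOf (⟨z, hz⟩ : H) ∣ Nat.card H := orderOf_dvd_natCard _
    rw [Subgroup.orderOf_mk] at h1
    exact Nat.Coprime.coprime_dvd_left h1 ((Nat.Prime.coprime_iff_not_dvd hp).mpr hHp).symm
  have hzp : IsPGroup p (Subgroup.zpowers x) :=
    IsPGroup.of_card (n := kx) (by rw [Nat.card_zpowers, hkx])
  obtain ⟨PG, hPG⟩ := hzp.exists_le_sylow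
  have hxPG : x ∈ (PG : Subgroup G) := hPG (Subgroup.mem_zpowers x)
  obtain ⟨O, hOdef⟩ : ∃ O : Subgroup G, O = (PG : Subgroup G).normalCore := ⟨_, rfl⟩
  haveI hOn : O.Normal := by rw [hOdef]; infer_instance
  have hxO : x ∈ O := by
    rw [hOdef]
    exact fun b => Cfsg.Agent.S4126.conj_mem_sylow PG x hxPG a hxa b
  have hOp : IsPGroup p O := by rw [hOdef]; exact PG.2.to_le (Subgroup.normalCore_le _)
  have hα : ∀ y : C, y ∈ H → ∀ o ∈ O, (y : G) * o = o * y := by
    intro y hy
    have h1 : ∀ o ∈ O, o ∈ C → (y : G) * o = o * y := by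
      intro o ho hoC
      have hoPC : (⟨o, hoC⟩ : C) ∈ (PC : Subgroup C) := by
        have hOC : IsPGroup p (O.subgroupOf C) := hOp.comap_subtype
        obtain ⟨Q, hQ⟩ := hOC.exists_le_sylow
        haveI := Sylow.unique_of_normal PC hPCn
        have : Q = PC := Subsingleton.elim _ _
        rw [← this]
        exact hQ (Subgroup.mem_subgroupOf.mpr ho)
      have hcomm := Subgroup.commute_of_normal_of_disjoint (PC : Subgroup C) H hPCn hHn
        (disjoint_iff.mpr hdisj) ⟨o, hoC⟩ y hoPC hy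
      have := congrArg Subtype.val hcomm.eq
      exact this.symm
    by_contra hcon
    push_neg at hcon
    obtain ⟨D, hDdef⟩ : ∃ D : Subgroup G, D = O ⊓ Subgroup.centralizer ({(y : G)} : Set G) :=
      ⟨_, rfl⟩
    have hDmem : ∀ o : G, o ∈ D ↔ o ∈ O ∧ (y : G) * o = o * y := by
      intro o
      rw [hDdef, Subgroup.mem_inf, Subgroup.mem_centralizer_iff]
      constructor
      · rintro ⟨h1, h2⟩; exact ⟨h1, h2 _ (Set.mem_singleton _)⟩
      · rintro ⟨h1, h2⟩; exact ⟨h1, fun z hz => by rw [Set.mem_singleton_iff.mp hz]; exact h2⟩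
    have hxD : x ∈ D := (hDmem x).mpr ⟨hxO, h1 x hxO ((hCmem x).mpr rfl)⟩
    have hkey : ∀ n ∈ O, n * x * n⁻¹ ∈ D → n ∈ D := by
      intro n hn hnx
      rw [hDmem] at hnx ⊢
      refine ⟨hn, ?_⟩
      have hcO : (n * (y : G))⁻¹ * ((y : G) * n) ∈ O := by
        have : (n * (y : G))⁻¹ * ((y : G) * n) = ((y : G)⁻¹ * n⁻¹ * (y : G)⁻¹⁻¹) * n := by group
        rw [this]
        exact O.mul_mem (hOn.conj_mem _ (O.inv_mem hn) _) hn
      have hcC : (n * (y : G))⁻¹ * ((y : G) * n) ∈ C := by
        rw [hCmem]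
        have hyx := (hCmem _).mp y.2
        have h2 := hnx.2
        have hyx' : (y : G)⁻¹ * x = x * (y : G)⁻¹ := by
          calc (y : G)⁻¹ * x = (y : G)⁻¹ * (x * y) * (y : G)⁻¹ := by group
            _ = (y : G)⁻¹ * (y * x) * (y : G)⁻¹ := by rw [hyx]
            _ = x * (y : G)⁻¹ := by group
        calc (n * (y : G))⁻¹ * ((y : G) * n) * x
            = (y : G)⁻¹ * n⁻¹ * ((y : G) * (n * x * n⁻¹)) * n := by group
          _ = (y : G)⁻¹ * n⁻¹ * ((n * x * n⁻¹) * y) * n := by rw [h2]
          _ = ((y : G)⁻¹ * x) * n⁻¹ * y * n := by group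
          _ = (x * (y : G)⁻¹) * n⁻¹ * y * n := by rw [hyx']
          _ = x * ((n * (y : G))⁻¹ * ((y : G) * n)) := by group
      have hcy := h1 _ hcO hcC
      exact Cfsg.Agent.S4126.twist (y : G) n _ ((commute_iff_eq _ _).mpr hcy.symm) (by group)
        (Cfsg.Agent.S4126.coprime_of_mem O hOp _ (y : G) hcO (hHord y hy))
    have hDne : ¬ O ≤ D := by
      intro hOD
      obtain ⟨o, ho, hne⟩ := hcon
      exact hne ((hDmem o).mp (hOD ho)).2
    haveI : Group.IsNilpotent O := hOp.isNilpotent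
    have hlt : D.subgroupOf O < ⊤ := by
      rw [lt_top_iff_ne_top, Ne, Subgroup.subgroupOf_eq_top]; exact hDne
    have hnc := normalizerCondition_of_isNilpotent (G := O) (D.subgroupOf O) hlt
    obtain ⟨n', hn'N, hn'D⟩ := SetLike.exists_of_lt hnc
    apply hn'D
    rw [Subgroup.mem_subgroupOf]
    apply hkey _ n'.2
    have hxD' : (⟨x, hxO⟩ : O) ∈ D.subgroupOf O := Subgroup.mem_subgroupOf.mpr hxD
    have := (Subgroup.mem_normalizer_iff.mp hn'N ⟨x, hxO⟩).mp hxD'
    exact Subgroup.mem_subgroupOf.mp this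
  obtain ⟨K, hKdef⟩ : ∃ K : Subgroup G, K = H.map C.subtype := ⟨_, rfl⟩
  have hKn : K.Normal := by
    constructor
    intro z hz h
    rw [hKdef] at hz ⊢
    obtain ⟨y, hy, rfl⟩ := hz
    have hyO := hα y hy
    have hconjC : h * (y : G) * h⁻¹ ∈ C := by
      rw [hCmem]
      have hxo : h⁻¹ * x * h ∈ O := by
        have := hOn.conj_mem x hxO h⁻¹
        simpa using this
      have h2 := hyO _ hxo
      calc h * (y : G) * h⁻¹ * x = h * ((y : G) * (h⁻¹ * x * h)) * h⁻¹ := by group
        _ = h * ((h⁻¹ * x * h) * y) * h⁻¹ := by rw [h2]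
        _ = x * (h * (y : G) * h⁻¹) := by group
    have hord : (orderOf (⟨h * (y : G) * h⁻¹, hconjC⟩ : C)).Coprime p := by
      rw [← Subgroup.orderOf_coe]
      show (orderOf (h * (y : G) * h⁻¹)).Coprime p
      have : orderOf (h * (y : G) * h⁻¹) = orderOf (y : G) :=
        orderOf_injective (MulAut.conj h).toMonoidHom (MulAut.conj h).injective (y : G)
      rw [this]
      exact hHord y hy
    exact ⟨⟨_, hconjC⟩, hHmem _ hord, rfl⟩
  have hKcard : (Nat.card K).Coprime p := by
    rw [hKdef, Subgroup.card_map_of_injective C.subtype_injective]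
    exact ((Nat.Prime.coprime_iff_not_dvd hp).mpr hHp).symm
  have hKidx : K.index = p ^ (kP + a) := by
    rw [hKdef, Subgroup.index_map_subtype, hHidx', hCidx, ← pow_add]
  obtain ⟨P⟩ : Nonempty (Sylow p G) := inferInstance
  exact ⟨P, K, hKn, Cfsg.Agent.Lib.Helper1.Frob.isComplement'_of_coprime_index K hKcard hKidx P⟩

end Cfsg.Agent.S4127
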