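import Cfsg.Statements.S4584

import Mathlib

set_option autoImplicit false
open Cfsg
open scoped Pointwise

namespace Cfsg.Agent.S4584

universe u
open scoped commutatorElement

variable {P : Type u} [Group P]

lemma comm_pow (x y : P) (h : Commute ⁅x, y⁆ x) (n : ℕ) : ⁅x ^ n, y⁆ = ⁅x, y⁆ ^ n := by
  induction n with
  | zero => simp
  | succ n ih =>
    have e : ⁅x ^ (n + 1), y⁆ = x * ⁅x ^ n, y⁆ * x⁻¹ * ⁅x, y⁆ := by
      simp only [commutatorElement_def, pow_succ']; group
    rw [e, ih]
    have : x * ⁅x, y⁆ ^ n * x⁻¹ = ⁅x, y⁆ ^ n := by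
      have hc : Commute (⁅x, y⁆ ^ n) x := h.pow_left n
      rw [← hc.eq]; group
    rw [this, ← pow_succ]

lemma index_ne_of_lt [Finite P] {H K : Subgroup P} (h : H < K) : K.index ≠ H.index := by
  intro e
  have h1 := Subgroup.card_mul_index H
  have h2 := Subgroup.card_mul_index K
  rw [e] at h2
  have h3 : Nat.card H = Nat.card K := by
    have : Nat.card H * H.index = Nat.card K * H.index := by rw [h1, h2]
    exact Nat.eq_of_mul_eq_mul_right (Nat.pos_of_ne_zero Subgroup.index_ne_zero_of_finite) this
  exact h.ne (Subgroup.eq_of_le_of_card_ge h.le h3.ge)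

lemma eq_of_le_of_index_eq [Finite P] {H K : Subgroup P} (h : H ≤ K) (e : H.index = K.index) : H = K := by
  by_contra hne
  exact index_ne_of_lt (lt_of_le_of_ne h hne) e.symm

lemma closure_eq_top_of_index_prime [Finite P] (p : ℕ) (hp : p.Prime) (A : Subgroup P) (hA : A.index = p)
    (w : P) (hw : w ∉ A) : Subgroup.closure ((A : Set P) ∪ {w}) = ⊤ := by
  set J := Subgroup.closure ((A : Set P) ∪ {w}) with hJ
  have hAJ : A ≤ J := fun n hn => Subgroup.subset_closure (Or.inl hn)
  have hwJ : w ∈ J := Subgroup.subset_closure (Or.inr rfl)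
  have h1 : J.index ∣ p := by rw [← hA]; exact Subgroup.index_dvd_of_le hAJ
  rcases (Nat.dvd_prime hp).mp h1 with h | h
  · exact Subgroup.index_eq_one.mp h
  · exfalso
    have := eq_of_le_of_index_eq hAJ (by rw [hA, h])
    exact hw (this ▸ hwJ)

lemma comm_of_gens (S : Set P) (hS : Subgroup.closure S = ⊤) (h : ∀ a ∈ S, ∀ b ∈ S, a * b = b * a) :
    ∀ a b : P, a * b = b * a := by
  have h1 : Subgroup.closure S ≤ Subgroup.centralizer S := by
    rw [Subgroup.closure_le]
    intro a ha
    rw [SetLike.mem_coe, Subgroup.mem_centralizer_iff]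
    intro b hb
    exact h b hb a ha
  have h2 : S ⊆ Subgroup.center P := by
    intro a ha
    rw [SetLike.mem_coe, Subgroup.mem_center_iff]
    intro g
    have hg : g ∈ Subgroup.centralizer S := h1 (by rw [hS]; trivial)
    rw [Subgroup.mem_centralizer_iff] at hg
    exact (hg a ha).symm
  have h3 : Subgroup.closure S ≤ Subgroup.center P := (Subgroup.closure_le _).mpr h2
  intro a b
  have hb : b ∈ Subgroup.center P := h3 (by rw [hS]; trivial)
  rw [Subgroup.mem_center_iff] at hb
  exact hb a

theorem card_comm_of_index_center [Finite P] (p : ℕ) [Fact p.Prime]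
    (hZ : (Subgroup.center P).index = p ^ 2) : Nat.card (commutator P) = p := by
  classical
  have hp : p.Prime := Fact.out
  set Z := Subgroup.center P with hZdef
  have hQcard : Nat.card (P ⧸ Z) = p ^ 2 := hZ
  have hQcomm : ∀ a b : P ⧸ Z, a * b = b * a := IsPGroup.commutative_of_card_eq_prime_sq hQcard
  have hPZ : commutator P ≤ Z := by
    rw [commutator_def, Subgroup.commutator_le]
    intro g _ h _
    rw [← QuotientGroup.eq_one_iff, commutatorElement_def]
    simp only [QuotientGroup.mk_mul, QuotientGroup.mk_inv]
    rw [hQcomm (g : P ⧸ Z) (h : P ⧸ Z)]; group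
  have hmemc : ∀ g h : P, ⁅g, h⁆ ∈ commutator P := by
    intro g h
    rw [commutator_def]
    exact Subgroup.commutator_mem_commutator (Subgroup.mem_top g) (Subgroup.mem_top h)
  have hcc : ∀ g h : P, ∀ k : P, ⁅g, h⁆ * k = k * ⁅g, h⁆ := by
    intro g h k
    exact (Subgroup.mem_center_iff.mp (hPZ (hmemc g h)) k).symm
  obtain ⟨xb, hxb⟩ := exists_prime_orderOf_dvd_card' p
    (show p ∣ Nat.card (P ⧸ Z) by rw [hQcard]; exact dvd_pow_self p two_ne_zero)
  obtain ⟨x, rfl⟩ := QuotientGroup.mk_surjective xb
  have hxZ : x ∉ Z := by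
    intro h
    have : ((x : P) : P ⧸ Z) = 1 := (QuotientGroup.eq_one_iff x).mpr h
    rw [this, orderOf_one] at hxb
    exact hp.one_lt.ne hxb
  have hxp : x ^ p ∈ Z := by
    rw [← QuotientGroup.eq_one_iff, QuotientGroup.mk_pow, ← hxb, pow_orderOf_eq_one]
  obtain ⟨y, hy⟩ : ∃ y : P, y * x ≠ x * y := by
    by_contra hcon
    push_neg at hcon
    exact hxZ (Subgroup.mem_center_iff.mpr hcon)
  obtain ⟨c, hc⟩ : ∃ c : P, c = ⁅x, y⁆ := ⟨_, rfl⟩
  have hc1 : c ≠ 1 := by
    intro h
    apply hy
    rw [hc] at h
    have := commutatorElement_eq_one_iff_commute.mp h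
    exact this.eq.symm
  have hcp : c ^ p = 1 := by
    rw [hc, ← comm_pow x y (hcc x y x) p, commutatorElement_eq_one_iff_commute]
    exact (Subgroup.mem_center_iff.mp hxp y).symm
  have hcord : orderOf c = p := orderOf_eq_prime hcp hc1
  set W := Subgroup.zpowers c with hW
  have hWcard : Nat.card W = p := by rw [Nat.card_zpowers, hcord]
  have hcZ : c ∈ Z := by rw [hc]; exact hPZ (hmemc x y)
  haveI hWn : W.Normal := by
    constructor
    intro w hw g
    have hwZ : w ∈ Z := by
      obtain ⟨k, rfl⟩ := Subgroup.mem_zpowers_iff.mp hw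
      exact Z.zpow_mem hcZ k
    have : g * w * g⁻¹ = w := by
      rw [Subgroup.mem_center_iff.mp hwZ g]; group
    rw [this]; exact hw
  have hgen : Subgroup.closure ((Z : Set P) ∪ {x, y}) = ⊤ := by
    set J₁ := Subgroup.closure ((Z : Set P) ∪ {x}) with hJ₁
    set J₂ := Subgroup.closure ((Z : Set P) ∪ {x, y}) with hJ₂
    have hZJ₁ : Z ≤ J₁ := fun z hz => Subgroup.subset_closure (Or.inl hz)
    have hxJ₁ : x ∈ J₁ := Subgroup.subset_closure (Or.inr rfl)
    have hJ₁₂ : J₁ ≤ J₂ := by
      apply Subgroup.closure_mono
      rintro a (ha | ha)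
      · exact Or.inl ha
      · rw [Set.mem_singleton_iff] at ha; rw [ha]; exact Or.inr (Set.mem_insert _ _)
    have hyJ₂ : y ∈ J₂ := Subgroup.subset_closure (Or.inr (Set.mem_insert_of_mem _ rfl))
    have hJ₁C : J₁ ≤ Subgroup.centralizer ({x} : Set P) := by
      rw [hJ₁, Subgroup.closure_le]
      rintro a (ha | ha)
      · rw [SetLike.mem_coe, Subgroup.mem_centralizer_iff]
        intro b hb; rw [Set.mem_singleton_iff] at hb; rw [hb]
        exact (Subgroup.mem_center_iff.mp ha x)
      · rw [Set.mem_singleton_iff] at ha; rw [ha, SetLike.mem_coe, Subgroup.mem_centralizer_iff]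
        intro b hb; rw [Set.mem_singleton_iff] at hb; rw [hb]
    have hyJ₁ : y ∉ J₁ := by
      intro h
      have := hJ₁C h
      rw [Subgroup.mem_centralizer_iff] at this
      exact hy (this x rfl).symm
    have hlt1 : Z < J₁ := lt_of_le_of_ne hZJ₁ (fun h => hxZ (h ▸ hxJ₁))
    have hlt2 : J₁ < J₂ := lt_of_le_of_ne hJ₁₂ (fun h => hyJ₁ (h ▸ hyJ₂))
    have hd1 : J₁.index ∣ p ^ 2 := hZ ▸ Subgroup.index_dvd_of_le hZJ₁
    have hd2 : J₂.index ∣ J₁.index := Subgroup.index_dvd_of_le hJ₁₂
    have hn1 : J₁.index ≠ p ^ 2 := hZ ▸ index_ne_of_lt hlt1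
    have hn2 : J₂.index ≠ J₁.index := index_ne_of_lt hlt2
    obtain ⟨j, hj, hj'⟩ := (Nat.dvd_prime_pow hp).mp hd1
    rw [hj'] at hd2 hn2 hn1
    obtain ⟨i, hi, hi'⟩ := (Nat.dvd_prime_pow hp).mp hd2
    have hj2 : j ≠ 2 := fun h => hn1 (by rw [h])
    have hij : i ≠ j := fun h => hn2 (by rw [hi', h])
    have hi0 : i = 0 := by omega
    rw [hi0, pow_zero] at hi'
    exact Subgroup.index_eq_one.mp hi'
  have hπc : ((c : P) : P ⧸ W) = 1 := (QuotientGroup.eq_one_iff c).mpr (Subgroup.mem_zpowers c)
  have hxy : ((x : P) : P ⧸ W) * (y : P ⧸ W) = (y : P ⧸ W) * (x : P ⧸ W) := by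
    rw [← QuotientGroup.mk_mul, ← QuotientGroup.mk_mul]
    have : x * y = c * (y * x) := by rw [hc, commutatorElement_def]; group
    rw [this, QuotientGroup.mk_mul, hπc, one_mul]
  have hcommW : ∀ a b : P ⧸ W, a * b = b * a := by
    apply comm_of_gens ((QuotientGroup.mk' W) '' ((Z : Set P) ∪ {x, y}))
    · rw [← MonoidHom.map_closure, hgen, ← MonoidHom.range_eq_map]
      exact MonoidHom.range_eq_top.mpr (QuotientGroup.mk'_surjective W)
    · rintro _ ⟨s, hs, rfl⟩ _ ⟨t, ht, rfl⟩
      have hZc : ∀ z ∈ Z, ∀ g : P, (QuotientGroup.mk' W z) * (QuotientGroup.mk' W g) =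
          (QuotientGroup.mk' W g) * (QuotientGroup.mk' W z) := by
        intro z hz g
        rw [← map_mul, ← map_mul, Subgroup.mem_center_iff.mp hz g]
      rcases hs with hs | hs | hs
      · exact hZc s hs t
      · rcases ht with ht | ht | ht
        · exact (hZc t ht s).symm
        · rw [hs, ht]
        · rw [hs, ht]; exact hxy
      · rcases ht with ht | ht | ht
        · exact (hZc t ht s).symm
        · rw [hs, ht]; exact hxy.symm
        · rw [hs, ht]
  have hPW : commutator P ≤ W := by
    rw [commutator_def, Subgroup.commutator_le]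
    intro g _ h _
    rw [← QuotientGroup.eq_one_iff, commutatorElement_def]
    simp only [QuotientGroup.mk_mul, QuotientGroup.mk_inv]
    rw [hcommW (g : P ⧸ W) (h : P ⧸ W)]; group
  have hdvd : Nat.card (commutator P) ∣ p := hWcard ▸ Subgroup.card_dvd_of_le hPW
  rcases (Nat.dvd_prime hp).mp hdvd with h | h
  · exfalso
    have := Subgroup.card_eq_one.mp h
    have hcm : c ∈ commutator P := by rw [hc]; exact hmemc x y
    rw [this, Subgroup.mem_bot] at hcm
    exact hc1 hcm
  · exact h

theorem result {P : Type*} [Group P] [Finite P] (p : ℕ) [Fact p.Prime] (hP : Nat.card P = p ^ 4) :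
    Nat.card (commutator P) = p ↔ (Subgroup.center P).index = p ^ 2 := by
  classical
  have hp : p.Prime := Fact.out
  constructor
  · intro hcardN
    have hPG : IsPGroup p P := IsPGroup.of_card hP
    haveI : Nontrivial P := by
      rw [← Finite.one_lt_card_iff_nontrivial, hP]
      exact Nat.one_lt_pow (by norm_num) hp.one_lt
    set Z := Subgroup.center P with hZdef
    have hmemc : ∀ g h : P, ⁅g, h⁆ ∈ commutator P := by
      intro g h
      rw [commutator_def]
      exact Subgroup.commutator_mem_commutator (Subgroup.mem_top g) (Subgroup.mem_top h)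
    -- every centralizer has index ≤ p
    have hidx : ∀ x : P, (Subgroup.centralizer ({x} : Set P)).index ≤ p := by
      intro x
      rw [← hcardN]
      show Nat.card (P ⧸ Subgroup.centralizer ({x} : Set P)) ≤ _
      let f : P ⧸ Subgroup.centralizer ({x} : Set P) → ↥(commutator P) := fun q =>
        Quotient.liftOn' q (fun g => (⟨⁅g, x⁆, hmemc g x⟩ : ↥(commutator P))) (by
          intro a b hab
          rw [QuotientGroup.leftRel_apply] at hab
          apply Subtype.ext
          show ⁅a, x⁆ = ⁅b, x⁆
          rw [Subgroup.mem_centralizer_iff] at hab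
          have h1 : x * (a⁻¹ * b) = a⁻¹ * b * x := hab x rfl
          simp only [commutatorElement_def]
          have : b * x * b⁻¹ = a * (a⁻¹ * b * x) * b⁻¹ := by group
          rw [this, ← h1]; group)
      apply Nat.card_le_card_of_injective f
      intro q q' hqq
      obtain ⟨a, rfl⟩ := QuotientGroup.mk_surjective q
      obtain ⟨b, rfl⟩ := QuotientGroup.mk_surjective q'
      apply QuotientGroup.eq.mpr
      have h2 : ⁅a, x⁆ = ⁅b, x⁆ := congrArg Subtype.val hqq
      rw [Subgroup.mem_centralizer_iff]
      intro y hy; rw [Set.mem_singleton_iff] at hy; rw [hy]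
      simp only [commutatorElement_def] at h2
      have h3 : a * x * a⁻¹ = b * x * b⁻¹ := mul_right_cancel h2
      have : x * (a⁻¹ * b) = a⁻¹ * (a * x * a⁻¹) * b := by group
      rw [this, h3]; group
    have hpowidx : ∀ H : Subgroup P, ∃ j ≤ 4, H.index = p ^ j := by
      intro H
      have : H.index ∣ p ^ 4 := hP ▸ Subgroup.index_dvd_card H
      exact (Nat.dvd_prime_pow hp).mp this
    obtain ⟨j, hj4, hj⟩ := hpowidx Z
    have hZtop : Z ≠ ⊤ := by
      intro h
      have := (_root_.commutator_eq_bot_iff_center_eq_top (G := P)).mpr h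
      rw [this, Subgroup.card_bot] at hcardN
      exact hp.one_lt.ne hcardN
    have hj0 : j ≠ 0 := by
      intro h
      rw [h, pow_zero] at hj
      exact hZtop (Subgroup.index_eq_one.mp hj)
    have hj1 : j ≠ 1 := by
      intro h
      rw [h, pow_one] at hj
      have hc : Nat.card (P ⧸ Z) = p := hj
      haveI : IsCyclic (P ⧸ Z) := isCyclic_of_prime_card hc
      apply hZtop
      rw [eq_top_iff]
      intro g _
      rw [Subgroup.mem_center_iff]
      intro k
      exact commutative_of_cyclic_center_quotient (QuotientGroup.mk' Z)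
        (by rw [QuotientGroup.ker_mk']) k g
    have hj4' : j ≠ 4 := by
      intro h
      rw [h] at hj
      have h1 := Subgroup.card_mul_index Z
      rw [hj, hP] at h1
      have h2 : Nat.card Z = 1 := by
        have : Nat.card Z * p ^ 4 = 1 * p ^ 4 := by rw [h1, one_mul]
        exact Nat.eq_of_mul_eq_mul_right (pow_pos hp.pos 4) this
      have h3 := Subgroup.card_eq_one.mp h2
      exact (hPG.bot_lt_center).ne' h3
    have hj3 : j ≠ 3 := by
      intro h
      rw [h] at hj
      -- x ∉ Z
      obtain ⟨x, hxZ⟩ : ∃ x : P, x ∉ Z := by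
        by_contra hcon
        push_neg at hcon
        exact hZtop (eq_top_iff.mpr (fun g _ => hcon g))
      set A := Subgroup.centralizer ({x} : Set P) with hA
      have hAtop : A ≠ ⊤ := by
        intro h
        apply hxZ
        rw [Subgroup.mem_center_iff]
        intro g
        have : g ∈ A := by rw [h]; trivial
        rw [Subgroup.mem_centralizer_iff] at this
        exact (this x rfl).symm
      have hAidx : A.index = p := by
        obtain ⟨i, _, hi⟩ := hpowidx A
        have h1 := hidx x
        rw [hi] at h1 ⊢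
        have hi0 : i ≠ 0 := by
          intro h0
          rw [h0, pow_zero] at hi
          exact hAtop (Subgroup.index_eq_one.mp hi)
        have hi1 : i ≤ 1 := by
          by_contra hcon
          push_neg at hcon
          have : p ^ 2 ≤ p ^ i := Nat.pow_le_pow_right hp.pos hcon
          have : p < p ^ 2 := by nlinarith [hp.one_lt]
          omega
        have : i = 1 := by omega
        rw [this, pow_one]
      set K := Subgroup.closure ((Z : Set P) ∪ {x}) with hK
      have hZK : Z ≤ K := fun z hz => Subgroup.subset_closure (Or.inl hz)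
      have hxK : x ∈ K := Subgroup.subset_closure (Or.inr rfl)
      -- K centralizes A
      have hKA : ∀ k ∈ K, ∀ a ∈ A, k * a = a * k := by
        have : K ≤ Subgroup.centralizer (A : Set P) := by
          rw [hK, Subgroup.closure_le]
          rintro k (hk | hk)
          · rw [SetLike.mem_coe, Subgroup.mem_centralizer_iff]
            intro a _
            exact Subgroup.mem_center_iff.mp hk a
          · rw [Set.mem_singleton_iff] at hk
            rw [hk, SetLike.mem_coe, Subgroup.mem_centralizer_iff]
            intro a ha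
            rw [SetLike.mem_coe, hA, Subgroup.mem_centralizer_iff] at ha
            exact (ha x rfl).symm
        intro k hk a ha
        have := this hk
        rw [Subgroup.mem_centralizer_iff] at this
        exact (this a ha).symm
      have hKleA : K ≤ A := by
        rw [hK, Subgroup.closure_le]
        rintro k (hk | hk)
        · rw [SetLike.mem_coe, hA, Subgroup.mem_centralizer_iff]
          intro b hb; rw [Set.mem_singleton_iff] at hb; rw [hb]
          exact Subgroup.mem_center_iff.mp hk x
        · rw [Set.mem_singleton_iff] at hk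
          rw [hk, SetLike.mem_coe, hA, Subgroup.mem_centralizer_iff]
          intro b hb; rw [Set.mem_singleton_iff] at hb; rw [hb]
      have hZltK : Z < K := lt_of_le_of_ne hZK (fun h => hxZ (h ▸ hxK))
      obtain ⟨jK, _, hjK⟩ := hpowidx K
      have hjK2 : jK ≤ 2 := by
        have h1 : K.index ∣ Z.index := Subgroup.index_dvd_of_le hZK
        have h2 : K.index ≠ Z.index := index_ne_of_lt hZltK
        rw [hjK, hj] at h1 h2
        have h3 : jK ≤ 3 := (Nat.pow_dvd_pow_iff_le_right hp.one_lt).mp h1
        have h4 : jK ≠ 3 := fun h => h2 (by rw [h])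
        omega
      have hAab : ∀ a ∈ A, ∀ b ∈ A, a * b = b * a := by
        intro a ha b hb
        by_cases haK : a ∈ K
        · exact hKA a haK b hb
        · set K' := Subgroup.closure ((K : Set P) ∪ {a}) with hK'
          have hKK' : K ≤ K' := fun z hz => Subgroup.subset_closure (Or.inl hz)
          have haK' : a ∈ K' := Subgroup.subset_closure (Or.inr rfl)
          have hK'A : K' ≤ A := by
            rw [hK', Subgroup.closure_le]
            rintro k (hk | hk)
            · exact hKleA hk
            · rw [Set.mem_singleton_iff] at hk; rw [hk]; exact ha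
          have hlt : K < K' := lt_of_le_of_ne hKK' (fun h => haK (h ▸ haK'))
          obtain ⟨i, _, hi⟩ := hpowidx K'
          have h1 : K'.index ∣ K.index := Subgroup.index_dvd_of_le hKK'
          have h2 : K'.index ≠ K.index := index_ne_of_lt hlt
          have h3 : A.index ∣ K'.index := Subgroup.index_dvd_of_le hK'A
          rw [hi, hjK] at h1 h2
          rw [hi, hAidx] at h3
          have h4 : i ≤ jK := (Nat.pow_dvd_pow_iff_le_right hp.one_lt).mp h1
          have h5 : i ≠ jK := fun h => h2 (by rw [h])
          have h6 : 1 ≤ i := by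
            rcases Nat.eq_zero_or_pos i with h0 | h0
            · rw [h0, pow_zero] at h3
              exact absurd (Nat.dvd_one.mp h3) hp.one_lt.ne'
            · exact h0
          have hi1 : i = 1 := by omega
          have hK'eq : K' = A := eq_of_le_of_index_eq hK'A (by rw [hi, hi1, pow_one, hAidx])
          have hbK' : b ∈ K' := hK'eq ▸ hb
          have hcen : K' ≤ Subgroup.centralizer ({a} : Set P) := by
            rw [hK', Subgroup.closure_le]
            rintro k (hk | hk)
            · rw [SetLike.mem_coe, Subgroup.mem_centralizer_iff]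
              intro c hc; rw [Set.mem_singleton_iff] at hc; rw [hc]
              exact (hKA k hk a ha).symm
            · rw [Set.mem_singleton_iff] at hk
              rw [hk, SetLike.mem_coe, Subgroup.mem_centralizer_iff]
              intro c hc; rw [Set.mem_singleton_iff] at hc; rw [hc]
          have := hcen hbK'
          rw [Subgroup.mem_centralizer_iff] at this
          exact this a rfl
      obtain ⟨w, hwA⟩ : ∃ w : P, w ∉ A := by
        by_contra hcon
        push_neg at hcon
        exact hAtop (eq_top_iff.mpr (fun g _ => hcon g))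
      set Cw := Subgroup.centralizer ({w} : Set P) with hCw
      have hinfidx : (A ⊓ Cw).index ≤ p * p := by
        calc (A ⊓ Cw).index ≤ A.index * Cw.index := Subgroup.index_inf_le
          _ ≤ p * p := by rw [hAidx]; exact Nat.mul_le_mul_left p (hidx w)
      obtain ⟨v, hv, hvZ⟩ : ∃ v ∈ A ⊓ Cw, v ∉ Z := by
        by_contra hcon
        push_neg at hcon
        have hle : A ⊓ Cw ≤ Z := hcon
        have h1 : Z.index ∣ (A ⊓ Cw).index := Subgroup.index_dvd_of_le hle
        have h2 : Z.index ≤ (A ⊓ Cw).index :=
          Nat.le_of_dvd (Nat.pos_of_ne_zero Subgroup.index_ne_zero_of_finite) h1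
        rw [hj] at h2
        have : p * p < p ^ 3 := by
          have := hp.one_lt
          calc p * p = p * p * 1 := by ring
            _ < p * p * p := by
              apply Nat.mul_lt_mul_of_pos_left this
              exact Nat.mul_pos hp.pos hp.pos
            _ = p ^ 3 := by ring
        omega
      apply hvZ
      have hgen := closure_eq_top_of_index_prime p hp A hAidx w hwA
      have hcen : Subgroup.closure ((A : Set P) ∪ {w}) ≤ Subgroup.centralizer ({v} : Set P) := by
        rw [Subgroup.closure_le]
        rintro k (hk | hk)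
        · rw [SetLike.mem_coe, Subgroup.mem_centralizer_iff]
          intro c hc; rw [Set.mem_singleton_iff] at hc; rw [hc]
          exact hAab v (Subgroup.mem_inf.mp hv).1 k hk
        · rw [Set.mem_singleton_iff] at hk
          rw [hk, SetLike.mem_coe, Subgroup.mem_centralizer_iff]
          intro c hc; rw [Set.mem_singleton_iff] at hc; rw [hc]
          have := (Subgroup.mem_inf.mp hv).2
          rw [hCw, Subgroup.mem_centralizer_iff] at this
          exact (this w rfl).symm
      rw [Subgroup.mem_center_iff]
      intro g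
      have : g ∈ Subgroup.centralizer ({v} : Set P) := hcen (by rw [hgen]; trivial)
      rw [Subgroup.mem_centralizer_iff] at this
      exact (this v rfl).symm
    have : j = 2 := by omega
    rw [hj, this]
  · intro hZ
    exact card_comm_of_index_center p hZ

end Cfsg.Agent.S4584
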