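import Cfsg.Statements.S4365

import Mathlib
import Cfsg.Agent.S4584
import Cfsg.Agent.S4035

set_option autoImplicit false
open Cfsg
open scoped Pointwise

namespace Cfsg.Agent.S4365

universe u
open Subgroup

section
variable {P : Type u} [Group P] [Finite P]

lemma conj_pow_central (g x c : P) (hc : c ∈ center P) (h : g * x * g⁻¹ = x * c) (j : ℕ) :
    g ^ j * x * (g ^ j)⁻¹ = x * c ^ j := by
  induction j with
  | zero => simp
  | succ j ih =>
    have hcj : c ^ j ∈ center P := pow_mem hc j
    have hcj' : g * c ^ j * g⁻¹ = c ^ j := by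
      rw [mem_center_iff] at hcj
      rw [hcj g]; group
    calc g ^ (j + 1) * x * (g ^ (j + 1))⁻¹ = g * (g ^ j * x * (g ^ j)⁻¹) * g⁻¹ := by
          rw [pow_succ']; group
      _ = g * (x * c ^ j) * g⁻¹ := by rw [ih]
      _ = (g * x * g⁻¹) * (g * c ^ j * g⁻¹) := by group
      _ = x * c * c ^ j := by rw [h, hcj']
      _ = x * c ^ (j + 1) := by rw [pow_succ']; group

lemma spade (p : ℕ) (hP : IsPGroup p P) (x : P)
    (hC : centralizer ({x ^ p} : Set P) ≤ centralizer ({x} : Set P)) :
    ∀ g : P, x⁻¹ * (g * x * g⁻¹) ∈ center P → g * x = x * g := by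
  have key : ∀ n : ℕ, ∀ g c : P, c ∈ center P → c ^ (p ^ n) = 1 → g * x * g⁻¹ = x * c → c = 1 := by
    intro n
    induction n with
    | zero =>
      intro g c _ h1 _
      simpa using h1
    | succ n ih =>
      intro g c hc h1 h2
      have h3 := conj_pow_central g x c hc h2 p
      have h4 : c ^ p = 1 := by
        apply ih (g ^ p) (c ^ p) (pow_mem hc p) _ h3
        rw [← pow_mul, ← pow_succ']; exact h1
      have h5 : g * x ^ p * g⁻¹ = x ^ p := by
        rw [← conj_pow, h2]
        have hcomm : Commute x c := by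
          rw [mem_center_iff] at hc
          exact (hc x)
        rw [hcomm.mul_pow, h4, mul_one]
      have h6 : g ∈ centralizer ({x} : Set P) := by
        apply hC
        rw [mem_centralizer_iff]
        intro h hh
        rw [Set.mem_singleton_iff.mp hh]
        calc x ^ p * g = (g * x ^ p * g⁻¹) * g := by rw [h5]
          _ = g * x ^ p := by group
      rw [mem_centralizer_iff] at h6
      have h7 := h6 x (Set.mem_singleton x)
      have h8 : x * c = x * 1 := by
        rw [← h2, mul_one, ← h7]; group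
      exact mul_left_cancel h8
  intro g hg
  obtain ⟨n, hn⟩ := hP (x⁻¹ * (g * x * g⁻¹))
  have h1 := key n g _ hg hn (by group)
  have h2 : x = g * x * g⁻¹ := inv_mul_eq_one.mp h1
  calc g * x = (g * x * g⁻¹) * g := by group
    _ = x * g := by rw [← h2]

end

theorem result {P : Type*} [Group P] [Finite P] (p : ℕ) [Fact p.Prime]
    (hP : IsPGroup p P) (a : ℕ) (ha : 1 ≤ a)
    (hcs : {k : ℕ | ∃ x : P, (Subgroup.centralizer ({x} : Set P)).index = k} = {1, p ^ a}) (x : P) :
    x ^ p ∈ Subgroup.center P := by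
  classical
  by_contra hxp
  obtain ⟨m, hm⟩ : ∃ m, m = p ^ a := ⟨_, rfl⟩
  rw [← hm] at hcs
  have hidx : ∀ v : P, (centralizer ({v} : Set P)).index = 1 ∨ (centralizer ({v} : Set P)).index = m := by
    intro v
    have : (centralizer ({v} : Set P)).index ∈ {k : ℕ | ∃ x : P, (centralizer ({x} : Set P)).index = k} := ⟨v, rfl⟩
    rw [hcs] at this
    simpa using this
  have hcen : ∀ v : P, (centralizer ({v} : Set P)).index = 1 → v ∈ center P := by
    intro v hv
    rw [index_eq_one] at hv
    rw [mem_center_iff]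
    intro g
    have : g ∈ centralizer ({v} : Set P) := hv ▸ mem_top g
    rw [mem_centralizer_iff] at this
    exact (this v (Set.mem_singleton v)).symm
  have hidxm : ∀ v : P, v ∉ center P → (centralizer ({v} : Set P)).index = m := by
    intro v hv
    rcases hidx v with h1 | h1
    · exact absurd (hcen v h1) hv
    · exact h1
  have heq : ∀ v w : P, v ∉ center P → w ∉ center P →
      centralizer ({v} : Set P) ≤ centralizer ({w} : Set P) →
      centralizer ({v} : Set P) = centralizer ({w} : Set P) := by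
    intro v w hv hw hle
    exact Cfsg.Agent.S4584.eq_of_le_of_index_eq hle (by rw [hidxm v hv, hidxm w hw])
  have hpow_le : ∀ v : P, centralizer ({v} : Set P) ≤ centralizer ({v ^ p} : Set P) := by
    intro v g hg
    rw [mem_centralizer_iff] at hg ⊢
    intro h hh
    rw [Set.mem_singleton_iff.mp hh]
    have h1 : Commute v g := hg v (Set.mem_singleton v)
    exact (h1.pow_left p).eq
  have hnc : ∀ v : P, v ^ p ∉ center P → v ∉ center P := fun v hv hv' => hv (pow_mem hv' p)
  have hsp : ∀ v : P, v ^ p ∉ center P → ∀ g : P, v⁻¹ * (g * v * g⁻¹) ∈ center P → g * v = v * g := by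
    intro v hv
    exact spade p hP v (heq v (v ^ p) (hnc v hv) hv (hpow_le v)).ge
  have hx : x ∉ center P := hnc x hxp
  haveI : Nontrivial (P ⧸ center P) := by
    refine ⟨⟨(x : P ⧸ center P), 1, ?_⟩⟩
    intro h
    exact hx ((QuotientGroup.eq_one_iff x).mp h)
  haveI := (hP.to_quotient (center P)).center_nontrivial
  obtain ⟨⟨zbar, hzbar⟩, hz1⟩ := exists_ne (1 : center (P ⧸ center P))
  obtain ⟨z, rfl⟩ := QuotientGroup.mk_surjective zbar
  have hzZ : z ∉ center P := by
    intro h
    apply hz1
    apply Subtype.ext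
    exact (QuotientGroup.eq_one_iff z).mpr h
  have hz_i : ∀ g : P, z⁻¹ * (g * z * g⁻¹) ∈ center P := by
    intro g
    apply (QuotientGroup.eq_one_iff _).mp
    have h1 := mem_center_iff.mp hzbar (g : P ⧸ center P)
    simp only [QuotientGroup.mk_mul, QuotientGroup.mk_inv]
    rw [h1]; group
  have hz_ii : x⁻¹ * (z * x * z⁻¹) ∈ center P := by
    apply (QuotientGroup.eq_one_iff _).mp
    have h1 := mem_center_iff.mp hzbar (x : P ⧸ center P)
    simp only [QuotientGroup.mk_mul, QuotientGroup.mk_inv]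
    rw [← h1]; group
  have hzx : z * x = x * z := hsp x hxp z hz_ii
  have hzp : z ^ p ∈ center P := by
    by_contra hzp
    apply hzZ
    rw [mem_center_iff]
    intro g
    exact hsp z hzp g (hz_i g)
  have hCxz : centralizer ({x} : Set P) = centralizer ({z} : Set P) := by
    apply heq x z hx hzZ
    intro c hc
    have hv : (x * z) ^ p = x ^ p * z ^ p := (Commute.mul_pow (show Commute x z from hzx.symm) p)
    have hvp : (x * z) ^ p ∉ center P := by
      intro h
      apply hxp
      have : x ^ p = (x * z) ^ p * (z ^ p)⁻¹ := by rw [hv]; group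
      rw [this]
      exact mul_mem h (inv_mem hzp)
    have h1 : c ∈ centralizer ({(x * z) ^ p} : Set P) := by
      rw [mem_centralizer_iff]
      intro h hh
      rw [Set.mem_singleton_iff.mp hh, hv]
      have h2 : c ∈ centralizer ({x ^ p} : Set P) := hpow_le x hc
      rw [mem_centralizer_iff] at h2
      have h3 := h2 _ (Set.mem_singleton _)
      have h4 := mem_center_iff.mp hzp c
      calc x ^ p * z ^ p * c = x ^ p * (z ^ p * c) := by group
        _ = x ^ p * (c * z ^ p) := by rw [h4]
        _ = (x ^ p * c) * z ^ p := by group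
        _ = c * x ^ p * z ^ p := by rw [h3]
        _ = c * (x ^ p * z ^ p) := by group
    have h5 : c ∈ centralizer ({x * z} : Set P) := by
      rw [heq (x * z) ((x * z) ^ p) (hnc _ hvp) hvp (hpow_le _)]
      exact h1
    rw [mem_centralizer_iff] at hc h5 ⊢
    intro h hh
    rw [Set.mem_singleton_iff.mp hh]
    have h6 := hc x (Set.mem_singleton x)
    have h7 := h5 _ (Set.mem_singleton _)
    have h8 : x * (z * c) = x * (c * z) := by
      calc x * (z * c) = x * z * c := by group
        _ = c * (x * z) := h7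
        _ = (c * x) * z := by group
        _ = (x * c) * z := by rw [h6]
        _ = x * (c * z) := by group
    exact mul_left_cancel h8
  have hnorm : ∀ c ∈ centralizer ({x} : Set P), ∀ g : P, g⁻¹ * c * g ∈ centralizer ({x} : Set P) := by
    intro c hc g
    rw [hCxz] at hc ⊢
    rw [mem_centralizer_iff] at hc ⊢
    intro h hh
    rw [Set.mem_singleton_iff.mp hh]
    have h1 := hc z (Set.mem_singleton z)
    obtain ⟨d, hd⟩ : ∃ d, d = z⁻¹ * (g * z * g⁻¹) := ⟨_, rfl⟩
    have hdZ : d ∈ center P := hd ▸ hz_i g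
    have hgz : g * z * g⁻¹ = z * d := by rw [hd]; group
    have h4 : (g * z * g⁻¹) * c = c * (g * z * g⁻¹) := by
      rw [hgz]
      have hdc := mem_center_iff.mp hdZ c
      calc z * d * c = z * (d * c) := by group
        _ = z * (c * d) := by rw [hdc]
        _ = (z * c) * d := by group
        _ = c * z * d := by rw [h1]
        _ = c * (z * d) := by group
    calc z * (g⁻¹ * c * g) = g⁻¹ * ((g * z * g⁻¹) * c) * g := by group
      _ = g⁻¹ * (c * (g * z * g⁻¹)) * g := by rw [h4]
      _ = g⁻¹ * c * g * z := by group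
  obtain ⟨A, hA⟩ : ∃ A : Subgroup P, A = centralizer ((centralizer ({x} : Set P) : Subgroup P) : Set P) := ⟨_, rfl⟩
  have hconjA : ∀ g : P, g * x * g⁻¹ ∈ A := by
    intro g
    rw [hA, mem_centralizer_iff]
    intro c hc
    have h1 := hnorm c hc g
    rw [mem_centralizer_iff] at h1
    have h2 := h1 x (Set.mem_singleton x)
    calc c * (g * x * g⁻¹) = g * (g⁻¹ * c * g * x) * g⁻¹ := by group
      _ = g * (x * (g⁻¹ * c * g)) * g⁻¹ := by rw [h2]
      _ = g * x * g⁻¹ * c := by group
  obtain ⟨y, hy⟩ : ∃ y : P, y ∉ centralizer ({x} : Set P) := by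
    by_contra hcon
    push_neg at hcon
    apply hx
    rw [mem_center_iff]
    intro g
    have := hcon g
    rw [mem_centralizer_iff] at this
    exact (this x (Set.mem_singleton x)).symm
  have hyZ : y ∉ center P := by
    intro h
    apply hy
    rw [mem_centralizer_iff]
    intro t ht
    exact (mem_center_iff.mp h t)
  have hAy : ∀ a ∈ A, a ∈ centralizer ({y} : Set P) → a ∈ center P := by
    intro a haA hay
    by_contra haZ
    apply hy
    have hle : centralizer ({x} : Set P) ≤ centralizer ({a} : Set P) := by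
      intro c hc
      rw [hA, mem_centralizer_iff] at haA
      rw [mem_centralizer_iff]
      intro t ht
      rw [Set.mem_singleton_iff.mp ht]
      exact (haA c hc).symm
    rw [heq x a hx haZ hle]
    rw [mem_centralizer_iff] at hay ⊢
    intro t ht
    rw [Set.mem_singleton_iff.mp ht]
    exact (hay y (Set.mem_singleton y)).symm
  obtain ⟨X, hX⟩ : ∃ X : Set P, X = (ConjClasses.mk x).carrier := ⟨_, rfl⟩
  have hXcard : X.ncard = m := by
    rw [hX, Cfsg.Agent.S4035.class_card, hidxm x hx]
  have hXmem : ∀ b ∈ X, ∃ g : P, g * x * g⁻¹ = b := by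
    intro b hb
    rw [hX, ConjClasses.mem_carrier_iff_mk_eq, ConjClasses.mk_eq_mk_iff_isConj, isConj_iff] at hb
    obtain ⟨c, hc⟩ := hb
    refine ⟨c⁻¹, ?_⟩
    rw [← hc]; group
  have hinj : Set.InjOn (fun t : P => (t : P ⧸ centralizer ({y} : Set P))) X := by
    intro b hb b' hb' hbb
    obtain ⟨g, rfl⟩ := hXmem b hb
    obtain ⟨h, rfl⟩ := hXmem b' hb'
    have h1 : (g * x * g⁻¹)⁻¹ * (h * x * h⁻¹) ∈ centralizer ({y} : Set P) := QuotientGroup.eq.mp hbb
    have h2 : (g * x * g⁻¹)⁻¹ * (h * x * h⁻¹) ∈ center P :=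
      hAy _ (A.mul_mem (A.inv_mem (hconjA g)) (hconjA h)) h1
    have h3 : x⁻¹ * ((g⁻¹ * h) * x * (g⁻¹ * h)⁻¹) ∈ center P := by
      have := (inferInstance : (center P).Normal).conj_mem _ h2 g⁻¹
      have e : g⁻¹ * ((g * x * g⁻¹)⁻¹ * (h * x * h⁻¹)) * g⁻¹⁻¹ = x⁻¹ * ((g⁻¹ * h) * x * (g⁻¹ * h)⁻¹) := by group
      rw [e] at this
      exact this
    have h4 := hsp x hxp (g⁻¹ * h) h3
    calc g * x * g⁻¹ = g * (x * (g⁻¹ * h)) * h⁻¹ := by group
      _ = g * (g⁻¹ * h * x) * h⁻¹ := by rw [h4]
      _ = h * x * h⁻¹ := by group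
  have hnot : ((1 : P) : P ⧸ centralizer ({y} : Set P)) ∉ (fun t : P => (t : P ⧸ centralizer ({y} : Set P))) '' X := by
    rintro ⟨b, hb, hbb⟩
    obtain ⟨g, rfl⟩ := hXmem b hb
    have h1 : (g * x * g⁻¹)⁻¹ * 1 ∈ centralizer ({y} : Set P) := QuotientGroup.eq.mp hbb
    rw [mul_one] at h1
    have h2 : (g * x * g⁻¹)⁻¹ ∈ center P := hAy _ (A.inv_mem (hconjA g)) h1
    apply hx
    have h3 := (inferInstance : (center P).Normal).conj_mem _ (inv_mem h2) g⁻¹
    have e : g⁻¹ * ((g * x * g⁻¹)⁻¹)⁻¹ * g⁻¹⁻¹ = x := by group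
    rw [e] at h3
    exact h3
  have hcount : (insert ((1 : P) : P ⧸ centralizer ({y} : Set P)) ((fun t : P => (t : P ⧸ centralizer ({y} : Set P))) '' X)).ncard
      ≤ Nat.card (P ⧸ centralizer ({y} : Set P)) := Set.ncard_le_card _
  rw [Set.ncard_insert_of_notMem hnot, Set.InjOn.ncard_image hinj, hXcard] at hcount
  have : Nat.card (P ⧸ centralizer ({y} : Set P)) = m := hidxm y hyZ
  omega

end Cfsg.Agent.S4365
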