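import Cfsg.Statements.S4134

import Mathlib
import Cfsg.Agent.S4584
import Cfsg.Agent.S4106
import Cfsg.Agent.S4365

set_option autoImplicit false
open Cfsg
open scoped Pointwise

namespace Cfsg.Agent.S4134

universe u
open scoped commutatorElement

section ito
variable {G : Type u} [Group G] [Finite G]

theorem cz_eq_top_iff (x : G) :
    Subgroup.centralizer ({x} : Set G) = ⊤ ↔ x ∈ Subgroup.center G := by
  constructor
  · intro h
    rw [Subgroup.mem_center_iff]
    intro g
    have : g ∈ Subgroup.centralizer ({x} : Set G) := by rw [h]; exact Subgroup.mem_top g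
    exact Subgroup.mem_centralizer_singleton_iff.mp this
  · intro h
    rw [eq_top_iff]
    intro g _
    rw [Subgroup.mem_centralizer_singleton_iff]
    exact Subgroup.mem_center_iff.mp h g

theorem relIndex_ne_zero' (H K : Subgroup G) : H.relIndex K ≠ 0 :=
  Subgroup.index_ne_zero_of_finite

theorem idx_of_noncentral (n : ℕ)
    (h : ∀ x : G, (Subgroup.centralizer ({x} : Set G)).index = 1 ∨
      (Subgroup.centralizer ({x} : Set G)).index = n) {x : G} (hx : x ∉ Subgroup.center G) :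
    (Subgroup.centralizer ({x} : Set G)).index = n := by
  rcases h x with h1 | h1
  · exact absurd ((cz_eq_top_iff x).mp (Subgroup.index_eq_one.mp h1)) hx
  · exact h1

theorem exists_pow_mul_eq_left (x b : G) (hc : Commute x b)
    (hcop : Nat.Coprime (orderOf x) (orderOf b)) : ∃ k : ℕ, (x * b) ^ k = x := by
  obtain ⟨m', hm'⟩ := exists_pow_eq_self_of_coprime (x := x) (n := orderOf b) hcop.symm
  refine ⟨orderOf b * m', ?_⟩
  rw [pow_mul, hc.mul_pow, pow_orderOf_eq_one, mul_one, hm']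

theorem exists_pow_mul_eq_right (x b : G) (hc : Commute x b)
    (hcop : Nat.Coprime (orderOf x) (orderOf b)) : ∃ k : ℕ, (x * b) ^ k = b := by
  obtain ⟨k, hk⟩ := exists_pow_mul_eq_left b x hc.symm hcop.symm
  exact ⟨k, by rw [hc.eq]; exact hk⟩

theorem cz_le_of_coprime (n : ℕ)
    (h : ∀ x : G, (Subgroup.centralizer ({x} : Set G)).index = 1 ∨
      (Subgroup.centralizer ({x} : Set G)).index = n) {x b : G} (hx : x ∉ Subgroup.center G)
    (hc : Commute x b) (hcop : Nat.Coprime (orderOf x) (orderOf b)) :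
    Subgroup.centralizer ({x} : Set G) ≤ Subgroup.centralizer ({b} : Set G) := by
  obtain ⟨k, hk⟩ := exists_pow_mul_eq_left x b hc hcop
  obtain ⟨k', hk'⟩ := exists_pow_mul_eq_right x b hc hcop
  have h1 : Subgroup.centralizer ({x * b} : Set G) ≤ Subgroup.centralizer ({x} : Set G) := by
    intro g hg
    rw [Subgroup.mem_centralizer_singleton_iff] at hg ⊢
    rw [← hk]
    exact ((show Commute g (x * b) from hg).pow_right k).eq
  have h2 : Subgroup.centralizer ({x * b} : Set G) ≤ Subgroup.centralizer ({b} : Set G) := by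
    intro g hg
    rw [Subgroup.mem_centralizer_singleton_iff] at hg ⊢
    rw [← hk']
    exact ((show Commute g (x * b) from hg).pow_right k').eq
  have hxb : x * b ∉ Subgroup.center G := by
    intro hcen
    apply hx
    rw [← hk]; exact pow_mem hcen k
  have e : Subgroup.centralizer ({x * b} : Set G) = Subgroup.centralizer ({x} : Set G) :=
    Cfsg.Agent.S4584.eq_of_le_of_index_eq h1
      (by rw [idx_of_noncentral n h hxb, idx_of_noncentral n h hx])
  rw [← e]; exact h2

theorem exists_noncentral_ppow : ∀ (m : ℕ) (g : G), orderOf g = m → g ∉ Subgroup.center G →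
    ∃ (q : ℕ) (e k : ℕ), q.Prime ∧ g ^ e ∉ Subgroup.center G ∧ orderOf (g ^ e) = q ^ k := by
  intro m
  induction m using Nat.strong_induction_on with
  | _ m ih =>
    intro g hgm hg
    have hm1 : m ≠ 1 := by
      intro h1; rw [h1] at hgm; rw [orderOf_eq_one_iff] at hgm
      exact hg (hgm ▸ one_mem _)
    obtain ⟨q, hq, hqm⟩ := Nat.exists_prime_and_dvd hm1
    haveI : Fact q.Prime := ⟨hq⟩
    obtain ⟨a, b, hab, ⟨k, hk⟩, hb⟩ := Cfsg.Agent.S4106.p_decomp q g
    by_cases hga : g ^ a ∈ Subgroup.center G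
    · have hgb : g ^ b ∉ Subgroup.center G := by
        intro hcen; apply hg; rw [← hab]; exact mul_mem hga hcen
      have hlt : orderOf (g ^ b) < m := by
        have hdvd : orderOf (g ^ b) ∣ m := hgm ▸ orderOf_pow_dvd b
        have hne : orderOf (g ^ b) ≠ m := by
          intro he; rw [he] at hb; exact hb hqm
        exact lt_of_le_of_ne (Nat.le_of_dvd (by rw [← hgm]; exact orderOf_pos g) hdvd) hne
      obtain ⟨q', e, k', hq', he, hk'⟩ := ih _ hlt (g ^ b) rfl hgb
      exact ⟨q', b * e, k', hq', by rw [pow_mul]; exact he, by rw [pow_mul]; exact hk'⟩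
    · exact ⟨q, a, k, hq, hga, hk⟩

theorem not_dvd_index_center (q : ℕ) [Fact q.Prime]
    (hq : ∀ x : G, (∃ k, orderOf x = q ^ k) → x ∈ Subgroup.center G) :
    ¬ q ∣ (Subgroup.center G).index := by
  obtain ⟨Q⟩ : Nonempty (Sylow q G) := inferInstance
  have hQZ : (Q : Subgroup G) ≤ Subgroup.center G := by
    intro x hx
    apply hq
    obtain ⟨k, hk⟩ := Q.isPGroup' ⟨x, hx⟩
    have h1 : x ^ q ^ k = 1 := by simpa using congrArg Subtype.val hk
    obtain ⟨j, _, hj⟩ := (Nat.dvd_prime_pow (Fact.out : q.Prime)).mp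
      (orderOf_dvd_of_pow_eq_one h1)
    exact ⟨j, hj⟩
  intro hdvd
  exact Q.not_dvd_index (hdvd.trans (Subgroup.index_dvd_of_le hQZ))

theorem exists_noncentral_in_cz (n : ℕ)
    (h : ∀ x : G, (Subgroup.centralizer ({x} : Set G)).index = 1 ∨
      (Subgroup.centralizer ({x} : Set G)).index = n) (r : ℕ) [Fact r.Prime] (x y₀ : G)
    (hx : x ∉ Subgroup.center G) (hy₀ : y₀ ∉ Subgroup.center G)
    (hy₀r : ∃ k, orderOf y₀ = r ^ k) :
    ∃ y ∈ Subgroup.centralizer ({x} : Set G), y ∉ Subgroup.center G ∧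
      ∃ k, orderOf y = r ^ k := by
  by_contra hcon
  push_neg at hcon
  have hr : r.Prime := Fact.out
  obtain ⟨t, ht⟩ : ∃ t, t = (Nat.card (Subgroup.centralizer ({x} : Set G))).factorization r :=
    ⟨_, rfl⟩
  have hdvd : r ^ t ∣ Nat.card (Subgroup.centralizer ({x} : Set G)) := by
    rw [ht]; exact Nat.ordProj_dvd _ _
  obtain ⟨K, hK⟩ := Sylow.exists_subgroup_card_pow_prime r hdvd
  obtain ⟨T, hT⟩ : ∃ T : Subgroup G,
      T = K.map (Subgroup.centralizer ({x} : Set G)).subtype := ⟨_, rfl⟩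
  have hTcard : Nat.card T = r ^ t := by
    rw [hT, Subgroup.card_map_of_injective (Subgroup.subtype_injective _), hK]
  have hTle : T ≤ Subgroup.centralizer ({x} : Set G) := by
    rw [hT]; exact Subgroup.map_subtype_le K
  have hTp : IsPGroup r T := IsPGroup.of_card hTcard
  have hTZ : T ≤ Subgroup.center G := by
    intro w hw
    by_contra hwn
    obtain ⟨k, hk⟩ := hTp ⟨w, hw⟩
    have h1 : w ^ r ^ k = 1 := by simpa using congrArg Subtype.val hk
    obtain ⟨j, _, hj⟩ := (Nat.dvd_prime_pow hr).mp (orderOf_dvd_of_pow_eq_one h1)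
    exact hcon w (hTle hw) hwn j hj
  haveI : T.Normal := by
    constructor
    intro a ha g
    have := Subgroup.mem_center_iff.mp (hTZ ha) g
    rw [this]; simpa using ha
  obtain ⟨k₀, hk₀⟩ := hy₀r
  have hYp : IsPGroup r (Subgroup.zpowers y₀) :=
    IsPGroup.of_card (n := k₀) (by rw [Nat.card_zpowers, hk₀])
  have hUp : IsPGroup r (Subgroup.zpowers y₀ ⊔ T : Subgroup G) :=
    IsPGroup.to_sup_of_normal_right hYp hTp
  have hUle : Subgroup.zpowers y₀ ⊔ T ≤ Subgroup.centralizer ({y₀} : Set G) := by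
    apply sup_le
    · rw [Subgroup.zpowers_le, Subgroup.mem_centralizer_singleton_iff]
    · intro w hw
      rw [Subgroup.mem_centralizer_singleton_iff]
      exact (Subgroup.mem_center_iff.mp (hTZ hw) y₀).symm
  obtain ⟨u, hu⟩ := IsPGroup.iff_card.mp hUp
  have hn0 : 0 < n := by
    have := idx_of_noncentral n h hx
    rw [← this]; exact Nat.pos_of_ne_zero Subgroup.index_ne_zero_of_finite
  have hcardeq : Nat.card (Subgroup.centralizer ({y₀} : Set G))
      = Nat.card (Subgroup.centralizer ({x} : Set G)) := by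
    have h1 := Subgroup.card_mul_index (Subgroup.centralizer ({y₀} : Set G))
    have h2 := Subgroup.card_mul_index (Subgroup.centralizer ({x} : Set G))
    rw [idx_of_noncentral n h hy₀] at h1
    rw [idx_of_noncentral n h hx] at h2
    exact Nat.eq_of_mul_eq_mul_right hn0 (h1.trans h2.symm)
  have hu_le : u ≤ t := by
    have h1 : r ^ u ∣ Nat.card (Subgroup.centralizer ({x} : Set G)) := by
      rw [← hcardeq, ← hu]; exact Subgroup.card_dvd_of_le hUle
    rw [ht]
    exact (Nat.Prime.pow_dvd_iff_le_factorization hr Nat.card_pos.ne').mp h1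
  have hUT : T = Subgroup.zpowers y₀ ⊔ T := by
    apply Subgroup.eq_of_le_of_card_ge le_sup_right
    rw [hu, hTcard]; exact Nat.pow_le_pow_right hr.pos hu_le
  apply hy₀
  apply hTZ
  rw [hUT]; exact Subgroup.mem_sup_left (Subgroup.mem_zpowers y₀)

theorem cz_abelian_of_two (n : ℕ)
    (h : ∀ x : G, (Subgroup.centralizer ({x} : Set G)).index = 1 ∨
      (Subgroup.centralizer ({x} : Set G)).index = n) (q r : ℕ) (hq : q.Prime) (hr : r.Prime)
    (hqr : q ≠ r) (x y : G) (hx : x ∉ Subgroup.center G) (hy : y ∉ Subgroup.center G)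
    (hxq : ∃ k, orderOf x = q ^ k) (hyr : ∃ k, orderOf y = r ^ k)
    (hxy : y ∈ Subgroup.centralizer ({x} : Set G)) :
    ∀ u ∈ Subgroup.centralizer ({x} : Set G), ∀ v ∈ Subgroup.centralizer ({x} : Set G),
      u * v = v * u := by
  have hc : Commute x y := (Subgroup.mem_centralizer_singleton_iff.mp hxy).symm
  obtain ⟨kx, hkx⟩ := hxq
  obtain ⟨ky, hky⟩ := hyr
  have hcop : Nat.Coprime (orderOf x) (orderOf y) := by
    rw [hkx, hky]; exact Nat.Coprime.pow _ _ ((Nat.coprime_primes hq hr).mpr hqr)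
  have h1 := cz_le_of_coprime n h hx hc hcop
  have keyq : ∀ b ∈ Subgroup.centralizer ({x} : Set G), Nat.Coprime (orderOf x) (orderOf b) →
      Subgroup.centralizer ({x} : Set G) ≤ Subgroup.centralizer ({b} : Set G) := by
    intro b hb hcop'
    exact cz_le_of_coprime n h hx (Subgroup.mem_centralizer_singleton_iff.mp hb).symm hcop'
  have keyr : ∀ b ∈ Subgroup.centralizer ({x} : Set G), Nat.Coprime (orderOf y) (orderOf b) →
      Subgroup.centralizer ({x} : Set G) ≤ Subgroup.centralizer ({b} : Set G) := by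
    intro b hb hcop'
    have hb' : b ∈ Subgroup.centralizer ({y} : Set G) := h1 hb
    exact h1.trans
      (cz_le_of_coprime n h hy (Subgroup.mem_centralizer_singleton_iff.mp hb').symm hcop')
  intro u hu v hv
  haveI : Fact q.Prime := ⟨hq⟩
  obtain ⟨a, b, hab, ⟨k, hk⟩, hb⟩ := Cfsg.Agent.S4106.p_decomp q u
  have hua : u ^ a ∈ Subgroup.centralizer ({x} : Set G) := pow_mem hu a
  have hub : u ^ b ∈ Subgroup.centralizer ({x} : Set G) := pow_mem hu b
  have h3 : v ∈ Subgroup.centralizer ({u ^ a} : Set G) :=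
    keyr _ hua (by
      rw [hky, hk]
      exact Nat.Coprime.pow _ _ ((Nat.coprime_primes hr hq).mpr hqr.symm)) hv
  have h4 : v ∈ Subgroup.centralizer ({u ^ b} : Set G) :=
    keyq _ hub (by
      rw [hkx]
      exact Nat.Coprime.pow_left _ ((Nat.Prime.coprime_iff_not_dvd hq).mpr hb)) hv
  rw [Subgroup.mem_centralizer_singleton_iff] at h3 h4
  rw [← hab]
  calc u ^ a * u ^ b * v = u ^ a * (u ^ b * v) := by group
    _ = u ^ a * (v * u ^ b) := by rw [h4]
    _ = (u ^ a * v) * u ^ b := by group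
    _ = (v * u ^ a) * u ^ b := by rw [h3]
    _ = v * (u ^ a * u ^ b) := by group

theorem cz_eq_of_mem (n : ℕ)
    (h : ∀ x : G, (Subgroup.centralizer ({x} : Set G)).index = 1 ∨
      (Subgroup.centralizer ({x} : Set G)).index = n)
    (hab : ∀ g : G, g ∉ Subgroup.center G → ∀ u ∈ Subgroup.centralizer ({g} : Set G),
      ∀ v ∈ Subgroup.centralizer ({g} : Set G), u * v = v * u)
    {g w : G} (hg : g ∉ Subgroup.center G) (hw : w ∉ Subgroup.center G)
    (hwg : w ∈ Subgroup.centralizer ({g} : Set G)) :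
    Subgroup.centralizer ({w} : Set G) = Subgroup.centralizer ({g} : Set G) := by
  have h1 : Subgroup.centralizer ({g} : Set G) ≤ Subgroup.centralizer ({w} : Set G) := by
    intro u hu
    rw [Subgroup.mem_centralizer_singleton_iff]
    exact hab g hg u hu w hwg
  exact (Cfsg.Agent.S4584.eq_of_le_of_index_eq h1
    (by rw [idx_of_noncentral n h hg, idx_of_noncentral n h hw])).symm

theorem relIndex_center_le (n : ℕ)
    (h : ∀ x : G, (Subgroup.centralizer ({x} : Set G)).index = 1 ∨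
      (Subgroup.centralizer ({x} : Set G)).index = n)
    (hab : ∀ g : G, g ∉ Subgroup.center G → ∀ u ∈ Subgroup.centralizer ({g} : Set G),
      ∀ v ∈ Subgroup.centralizer ({g} : Set G), u * v = v * u)
    {g : G} (hg : g ∉ Subgroup.center G) :
    (Subgroup.center G).relIndex (Subgroup.centralizer ({g} : Set G)) ≤ n := by
  have hne : Subgroup.centralizer ({g} : Set G) ≠ ⊤ := fun e => hg ((cz_eq_top_iff g).mp e)
  obtain ⟨w, hw⟩ : ∃ w, w ∉ Subgroup.centralizer ({g} : Set G) := by
    by_contra hcon; push_neg at hcon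
    exact hne (eq_top_iff.mpr fun u _ => hcon u)
  have hwc : w ∉ Subgroup.center G := fun hc => hw (Subgroup.center_le_centralizer _ hc)
  have hinf : Subgroup.centralizer ({w} : Set G) ⊓ Subgroup.centralizer ({g} : Set G)
      ≤ Subgroup.center G := by
    intro u hu
    by_contra huc
    obtain ⟨hu2, hu1⟩ := Subgroup.mem_inf.mp hu
    have e1 := cz_eq_of_mem n h hab hg huc hu1
    have e2 := cz_eq_of_mem n h hab hwc huc hu2
    apply hw
    rw [← e1, e2, Subgroup.mem_centralizer_singleton_iff]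
  have h1 : (Subgroup.center G).relIndex (Subgroup.centralizer ({g} : Set G))
      ≤ (Subgroup.centralizer ({w} : Set G)).relIndex (Subgroup.centralizer ({g} : Set G)) := by
    rw [← Subgroup.inf_relIndex_right (Subgroup.centralizer ({w} : Set G))]
    exact Subgroup.relIndex_le_of_le_left hinf (relIndex_ne_zero' _ _)
  have h2 : (Subgroup.centralizer ({w} : Set G)).relIndex (Subgroup.centralizer ({g} : Set G))
      ≤ (Subgroup.centralizer ({w} : Set G)).index := by
    rw [← Subgroup.relIndex_top_right]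
    exact Subgroup.relIndex_le_of_le_right le_top (relIndex_ne_zero' _ _)
  rw [idx_of_noncentral n h hwc] at h2
  exact h1.trans h2

theorem exists_special (s : ℕ) [Fact s.Prime] (S : Sylow s G)
    (hS : ¬ (S : Subgroup G) ≤ Subgroup.center G) :
    ∃ x ∈ (S : Subgroup G), x ∉ Subgroup.center G ∧
      ∀ g ∈ (S : Subgroup G), g * x * g⁻¹ * x⁻¹ ∈ Subgroup.center G := by
  classical
  haveI : Group.IsNilpotent (S : Subgroup G) := S.isPGroup'.isNilpotent
  have hex : ∃ i, ¬ (∀ w : (S : Subgroup G),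
      w ∈ Subgroup.upperCentralSeries (S : Subgroup G) i → (w : G) ∈ Subgroup.center G) := by
    obtain ⟨k, hk⟩ := Group.IsNilpotent.nilpotent (S : Subgroup G)
    refine ⟨k, fun hall => hS (fun w hw => hall ⟨w, hw⟩ (by rw [hk]; exact Subgroup.mem_top _))⟩
  obtain ⟨i₀, hi₀⟩ : ∃ i₀, i₀ = Nat.find hex := ⟨_, rfl⟩
  have hspec := Nat.find_spec hex
  rw [← hi₀] at hspec
  have hi0 : i₀ ≠ 0 := by
    intro h0
    apply hspec
    rw [h0]
    intro w hw
    rw [Subgroup.upperCentralSeries_zero, Subgroup.mem_bot] at hw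
    rw [hw]; exact one_mem _
  obtain ⟨i, hi⟩ := Nat.exists_eq_succ_of_ne_zero hi0
  have hprev : ∀ w : (S : Subgroup G),
      w ∈ Subgroup.upperCentralSeries (S : Subgroup G) i → (w : G) ∈ Subgroup.center G := by
    by_contra hcon
    exact Nat.find_min hex (m := i) (by omega) hcon
  rw [hi] at hspec
  push_neg at hspec
  obtain ⟨w, hw, hwc⟩ := hspec
  refine ⟨w, w.2, hwc, fun g hg => ?_⟩
  rw [Nat.succ_eq_add_one, Subgroup.mem_upperCentralSeries_succ_iff] at hw
  have h1 := hprev _ (hw ⟨g, hg⟩)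
  have h2 : (w : G) * g * (w : G)⁻¹ * g⁻¹ ∈ Subgroup.center G := by
    simpa [commutatorElement_def] using h1
  have e : g * (w : G) * g⁻¹ * (w : G)⁻¹ = ((w : G) * g * (w : G)⁻¹ * g⁻¹)⁻¹ := by group
  rw [e]; exact inv_mem h2

theorem relIndex_le_of_map (T K B Z₀ : Subgroup G) (φ : G → G)
    (h1 : ∀ g ∈ T, φ g ∈ B)
    (h2 : ∀ g ∈ T, ∀ g' ∈ T, (φ g)⁻¹ * φ g' ∈ Z₀ → g⁻¹ * g' ∈ K) :
    K.relIndex T ≤ Z₀.relIndex B := by
  classical
  let f : (↥T ⧸ K.subgroupOf T) → (↥B ⧸ Z₀.subgroupOf B) := fun q =>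
    QuotientGroup.mk ⟨φ (q.out : G), h1 _ q.out.2⟩
  have hinj : Function.Injective f := by
    intro q q' hqq
    have h3 := QuotientGroup.eq.mp hqq
    rw [Subgroup.mem_subgroupOf] at h3
    have h4 := h2 _ q.out.2 _ q'.out.2 (by simpa using h3)
    rw [← QuotientGroup.out_eq' q, ← QuotientGroup.out_eq' q']
    rw [QuotientGroup.eq, Subgroup.mem_subgroupOf]
    simpa using h4
  exact Nat.card_le_card_of_injective f hinj

theorem ppart_lt (n : ℕ)
    (h : ∀ x : G, (Subgroup.centralizer ({x} : Set G)).index = 1 ∨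
      (Subgroup.centralizer ({x} : Set G)).index = n)
    (hab : ∀ g : G, g ∉ Subgroup.center G → ∀ u ∈ Subgroup.centralizer ({g} : Set G),
      ∀ v ∈ Subgroup.centralizer ({g} : Set G), u * v = v * u)
    (d : ℕ) (hd0 : d ≠ 0)
    (hd : ∀ g : G, g ∉ Subgroup.center G →
      (Subgroup.center G).relIndex (Subgroup.centralizer ({g} : Set G)) = d)
    (s s' : ℕ) [Fact s.Prime] [Fact s'.Prime] (hss : s ≠ s')
    (hs : ∃ x : G, x ∉ Subgroup.center G ∧ ∃ k, orderOf x = s ^ k)
    (hs' : ∃ x : G, x ∉ Subgroup.center G ∧ ∃ k, orderOf x = s' ^ k) :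
    s ^ n.factorization s < s' ^ d.factorization s' := by
  classical
  have hsp : s.Prime := Fact.out
  have hsp' : s'.Prime := Fact.out
  obtain ⟨S⟩ : Nonempty (Sylow s G) := inferInstance
  have hS : ¬ (S : Subgroup G) ≤ Subgroup.center G := by
    obtain ⟨x₀, hx₀, k, hk⟩ := hs
    obtain ⟨c, hc⟩ := Cfsg.Agent.S4106.conj_into_sylow s S x₀ k hk
    intro hle
    apply hx₀
    have h1 := hle hc
    have h2 := (inferInstance : (Subgroup.center G).Normal).conj_mem _ h1 c⁻¹
    simpa [mul_assoc] using h2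
  obtain ⟨x, hxS, hxc, hxn⟩ := exists_special s S hS
  obtain ⟨y₀, hy₀, hy₀s'⟩ := hs'
  obtain ⟨y, hyC, hyc, ky, hky⟩ := exists_noncentral_in_cz n h s' x y₀ hxc hy₀ hy₀s'
  have hCy : Subgroup.centralizer ({y} : Set G) = Subgroup.centralizer ({x} : Set G) :=
    cz_eq_of_mem n h hab hxc hyc hyC
  have hn0 : n ≠ 0 := by
    have := idx_of_noncentral n h hxc
    rw [← this]; exact Subgroup.index_ne_zero_of_finite
  have hnorm : ∀ g ∈ (S : Subgroup G), ∀ c ∈ Subgroup.centralizer ({x} : Set G),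
      g * c * g⁻¹ ∈ Subgroup.centralizer ({x} : Set G) := by
    intro g hg c hc
    rw [Subgroup.mem_centralizer_singleton_iff] at hc ⊢
    have hz := hxn g⁻¹ (inv_mem hg)
    rw [inv_inv] at hz
    obtain ⟨z, hz'⟩ : ∃ z, z = g⁻¹ * x * g * x⁻¹ := ⟨_, rfl⟩
    rw [← hz'] at hz
    have hzc : ∀ u : G, u * z = z * u := fun u => Subgroup.mem_center_iff.mp hz u
    have hgx : g⁻¹ * x * g = z * x := by rw [hz']; group
    calc g * c * g⁻¹ * x = g * c * (g⁻¹ * x * g) * g⁻¹ := by group
      _ = g * c * (z * x) * g⁻¹ := by rw [hgx]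
      _ = g * (c * z) * x * g⁻¹ := by group
      _ = g * (z * c) * x * g⁻¹ := by rw [hzc c]
      _ = g * z * (c * x) * g⁻¹ := by group
      _ = g * z * (x * c) * g⁻¹ := by rw [hc]
      _ = g * (z * x) * c * g⁻¹ := by group
      _ = g * (g⁻¹ * x * g) * c * g⁻¹ := by rw [hgx]
      _ = x * (g * c * g⁻¹) := by group
  obtain ⟨M, hM⟩ : ∃ M, M = s' ^ (Nat.card G).factorization s' := ⟨_, rfl⟩
  have hMpow : ∀ c : G, (∃ k, orderOf c = s' ^ k) → c ^ M = 1 := by
    rintro c ⟨k, hk⟩
    apply orderOf_dvd_iff_pow_eq_one.mp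
    rw [hk, hM]
    apply pow_dvd_pow
    have h1 : s' ^ k ∣ Nat.card G := hk ▸ orderOf_dvd_natCard c
    exact (Nat.Prime.pow_dvd_iff_le_factorization hsp' Nat.card_pos.ne').mp h1
  let Sg : Subgroup G :=
    { carrier := {c | c ∈ Subgroup.centralizer ({x} : Set G) ∧ c ^ M ∈ Subgroup.center G}
      one_mem' := ⟨one_mem _, by rw [one_pow]; exact one_mem _⟩
      mul_mem' := by
        rintro u v ⟨hu, hu2⟩ ⟨hv, hv2⟩
        refine ⟨mul_mem hu hv, ?_⟩
        have hc' : Commute u v := hab x hxc u hu v hv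
        rw [hc'.mul_pow]; exact mul_mem hu2 hv2
      inv_mem' := by
        rintro u ⟨hu, hu2⟩
        exact ⟨inv_mem hu, by rw [inv_pow]; exact inv_mem hu2⟩ }
  have hSgmem : ∀ c, c ∈ Sg ↔ (c ∈ Subgroup.centralizer ({x} : Set G) ∧
      c ^ M ∈ Subgroup.center G) := fun c => Iff.rfl
  have hZSg : Subgroup.center G ≤ Sg := by
    intro z hz
    exact (hSgmem z).mpr ⟨Subgroup.center_le_centralizer _ hz, pow_mem hz M⟩
  have hSgC : Sg ≤ Subgroup.centralizer ({x} : Set G) := fun c hc => ((hSgmem c).mp hc).1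
  have hySg : y ∈ Sg := (hSgmem y).mpr ⟨hyC, by rw [hMpow y ⟨ky, hky⟩]; exact one_mem _⟩
  -- index of center in Sg is a power of s'
  have hQp : IsPGroup s' (↥Sg ⧸ (Subgroup.center G).subgroupOf Sg) := by
    intro q
    induction q using QuotientGroup.induction_on with
    | H c =>
      refine ⟨(Nat.card G).factorization s', ?_⟩
      rw [← QuotientGroup.mk_pow, QuotientGroup.eq_one_iff, Subgroup.mem_subgroupOf]
      have := ((hSgmem c).mp c.2).2
      rw [hM] at this
      simpa using this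
  obtain ⟨j, hj⟩ := IsPGroup.iff_card.mp hQp
  have hrel : (Subgroup.center G).relIndex Sg = s' ^ j := hj
  have hj0 : j ≠ 0 := by
    intro h0
    rw [h0, pow_zero, Subgroup.relIndex_eq_one] at hrel
    exact hyc (hrel hySg)
  have hjd : s' ^ j ∣ d := by
    have h1 := Subgroup.relIndex_mul_relIndex (Subgroup.center G) Sg
      (Subgroup.centralizer ({x} : Set G)) hZSg hSgC
    rw [hd x hxc, hrel] at h1
    exact Dvd.intro _ h1
  have hjle : j ≤ d.factorization s' :=
    (Nat.Prime.pow_dvd_iff_le_factorization hsp' hd0).mp hjd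
  -- orbit inequality
  have horb : ((S : Subgroup G) ⊓ Subgroup.centralizer ({x} : Set G)).relIndex (S : Subgroup G)
      ≤ (Subgroup.center G).relIndex Sg := by
    apply relIndex_le_of_map (S : Subgroup G) _ Sg (Subgroup.center G) (fun g => g * y * g⁻¹)
    · intro g hg
      refine (hSgmem _).mpr ⟨hnorm g hg y hyC, ?_⟩
      rw [conj_pow, hMpow y ⟨ky, hky⟩]; simp
    · intro g hg g' hg' hmem
      refine Subgroup.mem_inf.mpr ⟨mul_mem (inv_mem hg) hg', ?_⟩
      obtain ⟨hh, hhdef⟩ : ∃ hh, hh = g⁻¹ * g' := ⟨_, rfl⟩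
      rw [← hhdef]
      have hhS : hh ∈ (S : Subgroup G) := by rw [hhdef]; exact mul_mem (inv_mem hg) hg'
      obtain ⟨z, hzdef⟩ : ∃ z, z = (g * y * g⁻¹)⁻¹ * (g' * y * g'⁻¹) := ⟨_, rfl⟩
      have hz : z ∈ Subgroup.center G := by rw [hzdef]; exact hmem
      have hzc : ∀ u : G, u * z = z * u := fun u => Subgroup.mem_center_iff.mp hz u
      have hconj : hh * y * hh⁻¹ = y * z := by
        have e1 : hh * y * hh⁻¹ = y * (g⁻¹ * z * g) := by rw [hhdef, hzdef]; group
        have e2 : g⁻¹ * z * g = z := by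
          calc g⁻¹ * z * g = (z * g⁻¹) * g := by rw [hzc g⁻¹]
            _ = z := by group
        rw [e1, e2]
      -- z^M = 1
      have hzM : z ^ M = 1 := by
        have hyC' : hh * y * hh⁻¹ ∈ Subgroup.centralizer ({x} : Set G) := hnorm hh hhS y hyC
        have e3 : z = y⁻¹ * (hh * y * hh⁻¹) := by rw [hconj]; group
        have hc' : Commute y⁻¹ (hh * y * hh⁻¹) := hab x hxc _ (inv_mem hyC) _ hyC'
        rw [e3, hc'.mul_pow, inv_pow, conj_pow, hMpow y ⟨ky, hky⟩]; simp
      -- hh is an s-element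
      obtain ⟨m, hm⟩ := S.isPGroup' ⟨hh, hhS⟩
      have hhm : hh ^ s ^ m = 1 := by simpa using congrArg Subtype.val hm
      have hzs : z ^ s ^ m = 1 := by
        have h5 := Cfsg.Agent.S4365.conj_pow_central hh y z hz hconj (s ^ m)
        rw [hhm] at h5
        have h6 : y = y * z ^ s ^ m := by simpa using h5
        have h7 : y * 1 = y * z ^ s ^ m := by rw [mul_one]; exact h6
        exact (mul_left_cancel h7).symm
      have hz1 : z = 1 := by
        have h7 : orderOf z ∣ Nat.gcd M (s ^ m) :=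
          Nat.dvd_gcd (orderOf_dvd_of_pow_eq_one hzM) (orderOf_dvd_of_pow_eq_one hzs)
        have h8 : Nat.gcd M (s ^ m) = 1 := by
          rw [hM]
          exact Nat.Coprime.pow _ _ ((Nat.coprime_primes hsp' hsp).mpr (Ne.symm hss))
        rw [h8] at h7
        exact orderOf_eq_one_iff.mp (Nat.dvd_one.mp h7)
      rw [hz1, mul_one] at hconj
      rw [← hCy, Subgroup.mem_centralizer_singleton_iff]
      calc hh * y = (hh * y * hh⁻¹) * hh := by group
        _ = y * hh := by rw [hconj]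
  -- s-part of n
  obtain ⟨A, hA⟩ : ∃ A, A = ((S : Subgroup G) ⊓
      Subgroup.centralizer ({x} : Set G)).relIndex (S : Subgroup G) := ⟨_, rfl⟩
  have hA0 : A ≠ 0 := by rw [hA]; exact relIndex_ne_zero' _ _
  have hnA : s ^ n.factorization s ≤ A := by
    have h1 := Subgroup.relIndex_mul_index (inf_le_left :
      (S : Subgroup G) ⊓ Subgroup.centralizer ({x} : Set G) ≤ (S : Subgroup G))
    have h2 := Subgroup.relIndex_mul_index (inf_le_right :
      (S : Subgroup G) ⊓ Subgroup.centralizer ({x} : Set G)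
        ≤ Subgroup.centralizer ({x} : Set G))
    rw [idx_of_noncentral n h hxc] at h2
    rw [← hA] at h1
    have h3 : n ∣ A * (S : Subgroup G).index := by
      rw [h1, ← h2]; exact Dvd.intro_left _ rfl
    have h4 : s ^ n.factorization s ∣ A * (S : Subgroup G).index :=
      (Nat.ordProj_dvd n s).trans h3
    have hcop : Nat.Coprime (s ^ n.factorization s) (S : Subgroup G).index :=
      Nat.Coprime.pow_left _ ((Nat.Prime.coprime_iff_not_dvd hsp).mpr S.not_dvd_index)
    exact Nat.le_of_dvd (Nat.pos_of_ne_zero hA0) (hcop.dvd_of_dvd_mul_right h4)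
  have hle : s ^ n.factorization s ≤ s' ^ d.factorization s' := by
    calc s ^ n.factorization s ≤ A := hnA
      _ ≤ (Subgroup.center G).relIndex Sg := by rw [hA]; exact horb
      _ = s' ^ j := hrel
      _ ≤ s' ^ d.factorization s' := Nat.pow_le_pow_right hsp'.pos hjle
  refine lt_of_le_of_ne hle ?_
  intro heq
  have hpos : 0 < d.factorization s' := by omega
  have h9 : s' ∣ s ^ n.factorization s := by
    rw [heq]; exact dvd_pow_self s' (by omega)
  have h10 := hsp'.dvd_of_dvd_pow h9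
  exact hss ((Nat.prime_dvd_prime_iff_eq hsp' hsp).mp h10).symm

theorem arith_contra (n d : ℕ) (hn : n ≠ 0) (hd : d ≠ 0) (Act : ℕ → Prop)
    (hinact : ∀ q : ℕ, q.Prime → ¬ Act q → n.factorization q = 0)
    (hpair : ∀ s s' : ℕ, s.Prime → s'.Prime → Act s → Act s' → s ≠ s' →
      s ^ n.factorization s < s' ^ d.factorization s')
    (s₁ s₂ : ℕ) (h1 : s₁.Prime) (h2 : s₂.Prime) (ha1 : Act s₁) (ha2 : Act s₂) (hne : s₁ ≠ s₂) :
    n < d := by
  classical
  have hex : ∃ v, ∃ s : ℕ, s.Prime ∧ Act s ∧ s ^ d.factorization s = v :=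
    ⟨_, s₁, h1, ha1, rfl⟩
  obtain ⟨s₀, hs₀, has₀, hv₀⟩ := Nat.find_spec hex
  have hmin : ∀ s : ℕ, s.Prime → Act s → s₀ ^ d.factorization s₀ ≤ s ^ d.factorization s := by
    intro s hs has
    rw [hv₀]
    exact Nat.find_min' hex ⟨s, hs, has, rfl⟩
  obtain ⟨t, ht, hat, hts⟩ : ∃ t : ℕ, t.Prime ∧ Act t ∧ t ≠ s₀ := by
    by_cases h : s₁ = s₀
    · exact ⟨s₂, h2, ha2, fun e => hne (h.trans e.symm)⟩
    · exact ⟨s₁, h1, ha1, h⟩
  -- factorization comparison outside {s₀, t}
  have hcmp : ∀ q : ℕ, q ≠ s₀ → q ≠ t → n.factorization q ≤ d.factorization q := by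
    intro q hq0 hqt
    by_cases hqp : q.Prime
    · by_cases haq : Act q
      · have h3 := hpair q s₀ hqp hs₀ haq has₀ hq0
        have h4 := hmin q hqp haq
        have h5 : q ^ n.factorization q < q ^ d.factorization q := lt_of_lt_of_le h3 h4
        exact ((Nat.pow_lt_pow_iff_right hqp.one_lt).mp h5).le
      · rw [hinact q hqp haq]; exact Nat.zero_le _
    · rw [Nat.factorization_eq_zero_of_not_prime n hqp]; exact Nat.zero_le _
  -- decompositions
  obtain ⟨n₁, hn₁⟩ : ∃ n₁, n₁ = n / s₀ ^ n.factorization s₀ := ⟨_, rfl⟩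
  obtain ⟨d₁, hd₁⟩ : ∃ d₁, d₁ = d / s₀ ^ d.factorization s₀ := ⟨_, rfl⟩
  have en : s₀ ^ n.factorization s₀ * n₁ = n := by
    rw [hn₁]; exact Nat.ordProj_mul_ordCompl_eq_self n s₀
  have ed : s₀ ^ d.factorization s₀ * d₁ = d := by
    rw [hd₁]; exact Nat.ordProj_mul_ordCompl_eq_self d s₀
  have hn₁0 : n₁ ≠ 0 := by rw [hn₁]; exact (Nat.ordCompl_pos s₀ hn).ne'
  have hd₁0 : d₁ ≠ 0 := by rw [hd₁]; exact (Nat.ordCompl_pos s₀ hd).ne'
  have fn₁ : n₁.factorization = Finsupp.erase s₀ n.factorization := by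
    rw [hn₁]; exact Nat.factorization_ordCompl n s₀
  have fd₁ : d₁.factorization = Finsupp.erase s₀ d.factorization := by
    rw [hd₁]; exact Nat.factorization_ordCompl d s₀
  have fn₁t : n₁.factorization t = n.factorization t := by
    rw [fn₁]; exact Finsupp.erase_ne hts
  have fd₁t : d₁.factorization t = d.factorization t := by
    rw [fd₁]; exact Finsupp.erase_ne hts
  obtain ⟨n₂, hn₂⟩ : ∃ n₂, n₂ = n₁ / t ^ n₁.factorization t := ⟨_, rfl⟩
  obtain ⟨d₂, hd₂⟩ : ∃ d₂, d₂ = d₁ / t ^ d₁.factorization t := ⟨_, rfl⟩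
  have en₁ : t ^ n.factorization t * n₂ = n₁ := by
    rw [hn₂, ← fn₁t]; exact Nat.ordProj_mul_ordCompl_eq_self n₁ t
  have ed₁ : t ^ d.factorization t * d₂ = d₁ := by
    rw [hd₂, ← fd₁t]; exact Nat.ordProj_mul_ordCompl_eq_self d₁ t
  have hn₂0 : n₂ ≠ 0 := by rw [hn₂]; exact (Nat.ordCompl_pos t hn₁0).ne'
  have hd₂0 : d₂ ≠ 0 := by rw [hd₂]; exact (Nat.ordCompl_pos t hd₁0).ne'
  have fn₂ : n₂.factorization = Finsupp.erase t (Finsupp.erase s₀ n.factorization) := by
    rw [hn₂, Nat.factorization_ordCompl n₁ t, fn₁]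
  have fd₂ : d₂.factorization = Finsupp.erase t (Finsupp.erase s₀ d.factorization) := by
    rw [hd₂, Nat.factorization_ordCompl d₁ t, fd₁]
  have hdvd : n₂ ∣ d₂ := by
    rw [← Nat.factorization_le_iff_dvd hn₂0 hd₂0, fn₂, fd₂]
    intro q
    by_cases hqt : q = t
    · rw [hqt, Finsupp.erase_same, Finsupp.erase_same]
    · rw [Finsupp.erase_ne hqt, Finsupp.erase_ne hqt]
      by_cases hq0 : q = s₀
      · rw [hq0, Finsupp.erase_same, Finsupp.erase_same]
      · rw [Finsupp.erase_ne hq0, Finsupp.erase_ne hq0]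
        exact hcmp q hq0 hqt
  have hle₂ : n₂ ≤ d₂ := Nat.le_of_dvd (Nat.pos_of_ne_zero hd₂0) hdvd
  have hA : s₀ ^ n.factorization s₀ < t ^ d.factorization t :=
    hpair s₀ t hs₀ ht has₀ hat (Ne.symm hts)
  have hB : t ^ n.factorization t < s₀ ^ d.factorization s₀ :=
    hpair t s₀ ht hs₀ hat has₀ hts
  calc n = s₀ ^ n.factorization s₀ * (t ^ n.factorization t * n₂) := by rw [en₁, en]
    _ < t ^ d.factorization t * (s₀ ^ d.factorization s₀ * d₂) := by
        apply Nat.mul_lt_mul_of_lt_of_le hA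
        · exact Nat.mul_le_mul hB.le hle₂
        · exact Nat.mul_pos (Nat.pos_of_ne_zero (by
            intro h0; rw [h0] at hB; omega)) (Nat.pos_of_ne_zero hd₂0)
    _ = s₀ ^ d.factorization s₀ * (t ^ d.factorization t * d₂) := by ring
    _ = d := by rw [ed₁, ed]

theorem two_active_contra (n : ℕ) (hn : 1 < n)
    (h : ∀ x : G, (Subgroup.centralizer ({x} : Set G)).index = 1 ∨
      (Subgroup.centralizer ({x} : Set G)).index = n)
    (p q : ℕ) (hp : p.Prime) (hq : q.Prime) (hpq : p ≠ q)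
    (hap : ∃ x : G, x ∉ Subgroup.center G ∧ ∃ k, orderOf x = p ^ k)
    (haq : ∃ x : G, x ∉ Subgroup.center G ∧ ∃ k, orderOf x = q ^ k) : False := by
  classical
  have hab : ∀ g : G, g ∉ Subgroup.center G → ∀ u ∈ Subgroup.centralizer ({g} : Set G),
      ∀ v ∈ Subgroup.centralizer ({g} : Set G), u * v = v * u := by
    intro g hg
    obtain ⟨s, e, k, hs, hge, hgk⟩ := exists_noncentral_ppow _ g rfl hg
    have hle : Subgroup.centralizer ({g} : Set G) ≤ Subgroup.centralizer ({g ^ e} : Set G) := by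
      intro u hu
      rw [Subgroup.mem_centralizer_singleton_iff] at hu ⊢
      exact ((show Commute u g from hu).pow_right e).eq
    have heq := Cfsg.Agent.S4584.eq_of_le_of_index_eq hle
      (by rw [idx_of_noncentral n h hg, idx_of_noncentral n h hge])
    rw [heq]
    obtain ⟨r, hr, hrs, y₀, hy₀, hy₀r⟩ : ∃ r : ℕ, r.Prime ∧ r ≠ s ∧
        ∃ y₀ : G, y₀ ∉ Subgroup.center G ∧ ∃ k, orderOf y₀ = r ^ k := by
      by_cases hsp : s = p
      · exact ⟨q, hq, by rw [hsp]; exact hpq.symm, haq⟩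
      · exact ⟨p, hp, fun e => hsp e.symm, hap⟩
    haveI : Fact r.Prime := ⟨hr⟩
    obtain ⟨y, hyC, hyc, hyr⟩ := exists_noncentral_in_cz n h r (g ^ e) y₀ hge hy₀ hy₀r
    exact cz_abelian_of_two n h s r hs hr (Ne.symm hrs) (g ^ e) y hge hyc ⟨k, hgk⟩ hyr hyC
  obtain ⟨x, hx, kx, hkx⟩ := hap
  obtain ⟨d, hd⟩ : ∃ d, d = (Subgroup.center G).relIndex
      (Subgroup.centralizer ({x} : Set G)) := ⟨_, rfl⟩
  have hdn : (Subgroup.center G).index = d * n := by
    have h1 := Subgroup.relIndex_mul_index (Subgroup.center_le_centralizer ({x} : Set G))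
    rw [idx_of_noncentral n h hx, ← hd] at h1
    exact h1.symm
  have hd_all : ∀ g : G, g ∉ Subgroup.center G →
      (Subgroup.center G).relIndex (Subgroup.centralizer ({g} : Set G)) = d := by
    intro g hg
    have h1 := Subgroup.relIndex_mul_index (Subgroup.center_le_centralizer ({g} : Set G))
    rw [idx_of_noncentral n h hg] at h1
    exact Nat.eq_of_mul_eq_mul_right (by omega) (h1.trans hdn)
  have hdle : d ≤ n := by rw [hd]; exact relIndex_center_le n h hab hx
  have hd0 : d ≠ 0 := by rw [hd]; exact relIndex_ne_zero' _ _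
  have hlt : n < d := by
    apply arith_contra n d (by omega) hd0
      (fun s => ∃ x : G, x ∉ Subgroup.center G ∧ ∃ k, orderOf x = s ^ k) ?_ ?_ p q hp hq
      ⟨x, hx, kx, hkx⟩ haq hpq
    · intro s hs hns
      haveI : Fact s.Prime := ⟨hs⟩
      have h1 := not_dvd_index_center s
        (fun x hxk => by by_contra hc; exact hns ⟨x, hc, hxk⟩)
      apply Nat.factorization_eq_zero_of_not_dvd
      intro hdvd; apply h1; rw [hdn]; exact Dvd.dvd.mul_left hdvd d
    · intro s s' hs hs' has has' hne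
      haveI : Fact s.Prime := ⟨hs⟩
      haveI : Fact s'.Prime := ⟨hs'⟩
      exact ppart_lt n h hab d hd0 hd_all s s' hne has has'
  omega

theorem cz_subtype_index (P : Subgroup G) [P.Normal] (hPZ : P ⊔ Subgroup.center G = ⊤)
    (v : P) : (Subgroup.centralizer ({v} : Set P)).index
      = (Subgroup.centralizer ({(v : G)} : Set G)).index := by
  classical
  have e1 : Subgroup.centralizer ({v} : Set P)
      = (Subgroup.centralizer ({(v : G)} : Set G)).subgroupOf P := by
    ext w
    rw [Subgroup.mem_centralizer_singleton_iff, Subgroup.mem_subgroupOf,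
      Subgroup.mem_centralizer_singleton_iff]
    constructor
    · intro h; exact_mod_cast congrArg Subtype.val h
    · intro h; exact Subtype.ext (by exact_mod_cast h)
  rw [e1]
  show (Subgroup.centralizer ({(v : G)} : Set G)).relIndex P = _
  apply le_antisymm
  · rw [← Subgroup.relIndex_top_right (Subgroup.centralizer ({(v : G)} : Set G))]
    exact Subgroup.relIndex_le_of_le_right le_top (relIndex_ne_zero' _ _)
  · rw [← Subgroup.relIndex_top_right (Subgroup.centralizer ({(v : G)} : Set G)),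
      ← Subgroup.inf_relIndex_right (Subgroup.centralizer ({(v : G)} : Set G)) P]
    have hdec : ∀ g : G, ∃ u ∈ P, ∃ z ∈ Subgroup.center G, g = u * z := by
      intro g
      have hg : g ∈ P ⊔ Subgroup.center G := by rw [hPZ]; exact Subgroup.mem_top g
      have hmul : g ∈ (P : Set G) * (Subgroup.center G : Set G) := by
        rw [← Subgroup.mul_normal]; exact hg
      obtain ⟨u, hu, z, hz, hgz⟩ := Set.mem_mul.mp hmul
      exact ⟨u, hu, z, hz, hgz.symm⟩
    choose φ hφP ζ hζ hφζ using hdec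
    apply relIndex_le_of_map ⊤ _ P _ φ
    · intro g _; exact hφP g
    · intro g _ g' _ hmem
      obtain ⟨hm1, _⟩ := Subgroup.mem_inf.mp hmem
      rw [Subgroup.mem_centralizer_singleton_iff] at hm1 ⊢
      have hz1 : ∀ u : G, u * ζ g = ζ g * u := fun u => Subgroup.mem_center_iff.mp (hζ g) u
      have hz2 : ∀ u : G, u * ζ g' = ζ g' * u := fun u => Subgroup.mem_center_iff.mp (hζ g') u
      have e : g⁻¹ * g' = ((φ g)⁻¹ * φ g') * ((ζ g)⁻¹ * ζ g') := by
        conv_lhs => rw [hφζ g, hφζ g']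
        calc (φ g * ζ g)⁻¹ * (φ g' * ζ g') = (ζ g)⁻¹ * ((φ g)⁻¹ * φ g') * ζ g' := by group
          _ = ((φ g)⁻¹ * φ g') * (ζ g)⁻¹ * ζ g' := by
              have : (ζ g)⁻¹ * ((φ g)⁻¹ * φ g') = ((φ g)⁻¹ * φ g') * (ζ g)⁻¹ := by
                have h5 := hz1 ((φ g)⁻¹ * φ g')
                calc (ζ g)⁻¹ * ((φ g)⁻¹ * φ g')
                    = (ζ g)⁻¹ * (((φ g)⁻¹ * φ g') * ζ g) * (ζ g)⁻¹ := by group
                  _ = (ζ g)⁻¹ * (ζ g * ((φ g)⁻¹ * φ g')) * (ζ g)⁻¹ := by rw [h5]
                  _ = ((φ g)⁻¹ * φ g') * (ζ g)⁻¹ := by group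
              rw [this]
          _ = ((φ g)⁻¹ * φ g') * ((ζ g)⁻¹ * ζ g') := by group
      have hzz : (ζ g)⁻¹ * ζ g' ∈ Subgroup.center G := mul_mem (inv_mem (hζ g)) (hζ g')
      have hzz' := Subgroup.mem_center_iff.mp hzz (v : G)
      rw [e]
      calc (φ g)⁻¹ * φ g' * ((ζ g)⁻¹ * ζ g') * (v : G)
          = (φ g)⁻¹ * φ g' * (((ζ g)⁻¹ * ζ g') * (v : G)) := by group
        _ = (φ g)⁻¹ * φ g' * ((v : G) * ((ζ g)⁻¹ * ζ g')) := by rw [← hzz']
        _ = ((φ g)⁻¹ * φ g' * (v : G)) * ((ζ g)⁻¹ * ζ g') := by group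
        _ = ((v : G) * ((φ g)⁻¹ * φ g')) * ((ζ g)⁻¹ * ζ g') := by rw [hm1]
        _ = (v : G) * ((φ g)⁻¹ * φ g' * ((ζ g)⁻¹ * ζ g')) := by group

end ito

theorem result {G : Type*} [Group G] [Finite G] (n : ℕ) (hn : 1 < n)
    (h : ∀ x : G, (Subgroup.centralizer ({x} : Set G)).index = 1 ∨ (Subgroup.centralizer ({x} : Set G)).index = n) (hex : ∃ x : G, (Subgroup.centralizer ({x} : Set G)).index = n) :
    ∃ (p : ℕ) (_ : Fact p.Prime) (a : ℕ), n = p ^ a ∧ ∀ P : Sylow p G, (P : Subgroup G).Normal ∧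
      (∃ N : Subgroup G, N.Normal ∧ N.IsComplement' (P : Subgroup G) ∧ IsMulCommutative N ∧
        ∀ x ∈ N, ∀ y ∈ (P : Subgroup G), x * y = y * x) ∧
      ∃ A : Subgroup (P : Subgroup G), A.Normal ∧ IsMulCommutative A ∧ ∀ y : (P : Subgroup G), y ^ p ∈ A := by
  classical
  obtain ⟨x₀, hx₀⟩ := hex
  have hx₀c : x₀ ∉ Subgroup.center G := by
    intro hc
    have := (cz_eq_top_iff x₀).mpr hc
    rw [this, Subgroup.index_top] at hx₀
    omega
  obtain ⟨p, e₀, k₀, hp, hpe, hpk⟩ := exists_noncentral_ppow _ x₀ rfl hx₀c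
  have honly : ∀ q : ℕ, q.Prime → q ≠ p → ∀ x : G, (∃ k, orderOf x = q ^ k) →
      x ∈ Subgroup.center G := by
    intro q hq hqp x hxk
    by_contra hxc
    exact two_active_contra n hn h p q hp hq (Ne.symm hqp) ⟨x₀ ^ e₀, hpe, k₀, hpk⟩ ⟨x, hxc, hxk⟩
  haveI : Fact p.Prime := ⟨hp⟩
  obtain ⟨b, hb⟩ : ∃ b, (Subgroup.center G).index = p ^ b := by
    refine ⟨_, Nat.eq_prime_pow_of_unique_prime_dvd Subgroup.index_ne_zero_of_finite ?_⟩
    intro q hq hqd
    by_contra hqp
    haveI : Fact q.Prime := ⟨hq⟩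
    exact not_dvd_index_center q (honly q hq hqp) hqd
  have hn_dvd : n ∣ p ^ b := by
    rw [← hb, ← hx₀]; exact Subgroup.index_dvd_of_le (Subgroup.center_le_centralizer _)
  obtain ⟨a, _, hna⟩ := (Nat.dvd_prime_pow hp).mp hn_dvd
  refine ⟨p, ⟨hp⟩, a, hna, ?_⟩
  intro P
  have hPZ : (P : Subgroup G) ⊔ Subgroup.center G = ⊤ := by
    rw [← Subgroup.index_eq_one]
    have h1 : ((P : Subgroup G) ⊔ Subgroup.center G).index ∣ (P : Subgroup G).index :=
      Subgroup.index_dvd_of_le le_sup_left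
    have h2 : ((P : Subgroup G) ⊔ Subgroup.center G).index ∣ p ^ b :=
      hb ▸ Subgroup.index_dvd_of_le le_sup_right
    obtain ⟨j, _, hj⟩ := (Nat.dvd_prime_pow hp).mp h2
    rw [hj] at h1 ⊢
    have : j = 0 := by
      by_contra hj0
      exact P.not_dvd_index ((dvd_pow_self p hj0).trans h1)
    rw [this, pow_zero]
  have hPn : (P : Subgroup G).Normal := by
    constructor
    intro x hx g
    have hg : g ∈ (P : Subgroup G) ⊔ Subgroup.center G := by rw [hPZ]; exact Subgroup.mem_top g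
    have hmul : g ∈ ((P : Subgroup G) : Set G) * (Subgroup.center G : Set G) := by
      rw [← Subgroup.mul_normal]; exact hg
    obtain ⟨u, hu, z, hz, rfl⟩ := Set.mem_mul.mp hmul
    have hzc : ∀ w : G, w * z = z * w := fun w => Subgroup.mem_center_iff.mp hz w
    have e : u * z * x * (u * z)⁻¹ = u * x * u⁻¹ := by
      calc u * z * x * (u * z)⁻¹ = u * (z * x) * z⁻¹ * u⁻¹ := by group
        _ = u * (x * z) * z⁻¹ * u⁻¹ := by rw [hzc x]
        _ = u * x * u⁻¹ := by group
    rw [e]
    exact mul_mem (mul_mem hu hx) (inv_mem hu)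
  refine ⟨hPn, ?_, ?_⟩
  · haveI := hPn
    have hcop : Nat.Coprime (Nat.card (P : Subgroup G)) (P : Subgroup G).index := by
      obtain ⟨j, hj⟩ := IsPGroup.iff_card.mp P.isPGroup'
      rw [hj]
      exact Nat.Coprime.pow_left j ((Nat.Prime.coprime_iff_not_dvd hp).mpr P.not_dvd_index)
    obtain ⟨N, hN⟩ := Subgroup.exists_left_complement'_of_coprime hcop
    have hNcard : Nat.card N = (P : Subgroup G).index := by
      have h1 := hN.card_mul_card
      have h2 := Subgroup.card_mul_index (P : Subgroup G)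
      have h3 : Nat.card N * Nat.card (P : Subgroup G)
          = (P : Subgroup G).index * Nat.card (P : Subgroup G) := by
        rw [h1, ← h2, mul_comm]
      exact Nat.eq_of_mul_eq_mul_right Nat.card_pos h3
    have hNZ : N ≤ Subgroup.center G := by
      intro w hw
      by_contra hwc
      obtain ⟨s, e, k, hs, hwe, hwk⟩ := exists_noncentral_ppow _ w rfl hwc
      have hsp : s = p := by
        by_contra hsp
        exact hwe (honly s hs hsp _ ⟨k, hwk⟩)
      have hk1 : k ≠ 0 := by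
        intro hk0
        rw [hk0, pow_zero, orderOf_eq_one_iff] at hwk
        exact hwe (hwk ▸ one_mem _)
      have h1 : orderOf (w ^ e) ∣ Nat.card N := by
        have hmem : w ^ e ∈ N := pow_mem hw e
        have h2 := orderOf_dvd_natCard (⟨w ^ e, hmem⟩ : N)
        rwa [← Subgroup.orderOf_coe] at h2
      rw [hwk, hsp, hNcard] at h1
      exact P.not_dvd_index ((dvd_pow_self p hk1).trans h1)
    refine ⟨N, ?_, hN, ?_, ?_⟩
    · constructor
      intro w hw g
      have := Subgroup.mem_center_iff.mp (hNZ hw) g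
      rw [this]; simpa using hw
    · exact ⟨⟨fun a b => Subtype.ext (Subgroup.mem_center_iff.mp (hNZ b.2) a)⟩⟩
    · intro w hw y _
      exact (Subgroup.mem_center_iff.mp (hNZ hw) y).symm
  · by_cases hPab : ∀ u v : (P : Subgroup G), u * v = v * u
    · exact ⟨⊤, inferInstance, ⟨⟨fun a b => Subtype.ext (hPab a b)⟩⟩,
        fun y => Subgroup.mem_top _⟩
    · refine ⟨Subgroup.center (P : Subgroup G), inferInstance,
        ⟨⟨fun a b => Subtype.ext (Subgroup.mem_center_iff.mp b.2 a)⟩⟩, ?_⟩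
      intro y
      have ha1 : 1 ≤ a := by
        by_contra h0
        have h00 : a = 0 := by omega
        rw [h00, pow_zero] at hna; omega
      haveI := hPn
      have hidx : ∀ v : (P : Subgroup G),
          (Subgroup.centralizer ({v} : Set (P : Subgroup G))).index
            = (Subgroup.centralizer ({(v : G)} : Set G)).index :=
        fun v => cz_subtype_index (P : Subgroup G) hPZ v
      apply Cfsg.Agent.S4365.result p P.isPGroup' a ha1 ?_ y
      ext k
      simp only [Set.mem_setOf_eq, Set.mem_insert_iff, Set.mem_singleton_iff]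
      constructor
      · rintro ⟨v, hv⟩
        rw [hidx v] at hv
        rcases h (v : G) with h1 | h1
        · left; rw [← hv, h1]
        · right; rw [← hv, h1, hna]
      · rintro (rfl | rfl)
        · refine ⟨1, ?_⟩
          rw [hidx 1]
          have : Subgroup.centralizer ({((1 : (P : Subgroup G)) : G)} : Set G) = ⊤ := by
            rw [cz_eq_top_iff]; simp
          rw [this, Subgroup.index_top]
        · push_neg at hPab
          obtain ⟨u, v, huv⟩ := hPab
          refine ⟨v, ?_⟩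
          rw [hidx v, ← hna]
          apply idx_of_noncentral n h
          intro hc
          apply huv
          have := Subgroup.mem_center_iff.mp hc (u : G)
          exact Subtype.ext (by exact_mod_cast this)

end Cfsg.Agent.S4134
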