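import Cfsg.Statements.S4142

import Mathlib
import Cfsg.Agent.S0003
import Cfsg.Agent.S4093

set_option autoImplicit false
open Cfsg
open scoped Pointwise

namespace Cfsg.Agent.S4142

theorem core {G : Type*} [Group G] [Finite G] (N : Subgroup G) [N.Normal] (g : G)
    (D : Subgroup G)
    (hD : D = (Subgroup.centralizer ({(QuotientGroup.mk g : G ⧸ N)} : Set (G ⧸ N))).comap
      (QuotientGroup.mk' N)) :
    (∀ n ∈ N, ∃ x : G, x * g * x⁻¹ = g * n) ↔
      Nat.card (Subgroup.centralizer ({g} : Set G)) =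
        Nat.card (Subgroup.centralizer ({(QuotientGroup.mk g : G ⧸ N)} : Set (G ⧸ N))) := by
  classical
  have hDcard : Nat.card D = Nat.card N *
      Nat.card (Subgroup.centralizer ({(QuotientGroup.mk g : G ⧸ N)} : Set (G ⧸ N))) := by
    rw [hD]; exact Cfsg.Agent.S0003.card_comap_mk' N _
  have hDmem : ∀ x : G, x ∈ D ↔ x * g * x⁻¹ * g⁻¹ ∈ N := by
    intro x
    rw [hD, Subgroup.mem_comap, Subgroup.mem_centralizer_iff]
    constructor
    · intro h
      have h1 : (QuotientGroup.mk g : G ⧸ N) * QuotientGroup.mk x =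
          QuotientGroup.mk x * QuotientGroup.mk g := h _ rfl
      rw [← QuotientGroup.eq_one_iff]
      show (QuotientGroup.mk x : G ⧸ N) * QuotientGroup.mk g * (QuotientGroup.mk x)⁻¹ *
        (QuotientGroup.mk g)⁻¹ = 1
      rw [← h1]; group
    · intro h y hy
      rw [Set.mem_singleton_iff] at hy
      subst hy
      have h1 : (QuotientGroup.mk x : G ⧸ N) * QuotientGroup.mk g * (QuotientGroup.mk x)⁻¹ *
          (QuotientGroup.mk g)⁻¹ = 1 := (QuotientGroup.eq_one_iff _).mpr h
      show (QuotientGroup.mk g : G ⧸ N) * QuotientGroup.mk x =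
        QuotientGroup.mk x * QuotientGroup.mk g
      have h2 : (QuotientGroup.mk x : G ⧸ N) * QuotientGroup.mk g =
          (QuotientGroup.mk x * QuotientGroup.mk g * (QuotientGroup.mk x)⁻¹ *
          (QuotientGroup.mk g)⁻¹) * (QuotientGroup.mk g * QuotientGroup.mk x) := by group
      rw [h2, h1, one_mul]
  let _ := Cfsg.Agent.S4093.conjN D
  have hO : (MulAction.stabilizer D g).index = (MulAction.orbit D g).ncard :=
    MulAction.index_stabilizer D g
  have hstab : Nat.card (MulAction.stabilizer D g) =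
      Nat.card (Subgroup.centralizer ({g} : Set G)) := by
    apply Nat.card_congr
    refine ⟨fun n => ⟨(n.1 : G), ?_⟩, fun z => ⟨⟨z.1, ?_⟩, ?_⟩, fun n => rfl, fun z => rfl⟩
    · rw [Subgroup.mem_centralizer_iff]
      intro y hy
      rw [Set.mem_singleton_iff] at hy
      subst hy
      have h3 : (n.1 : G) * y * (n.1 : G)⁻¹ = y := n.2
      calc y * (n.1 : G) = (n.1 : G) * y * (n.1 : G)⁻¹ * (n.1 : G) := by rw [h3]
        _ = (n.1 : G) * y := by group
    · rw [hDmem]
      have h3 : (z.1 : G) ∈ Subgroup.centralizer ({g} : Set G) := z.2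
      rw [Subgroup.mem_centralizer_iff] at h3
      have h4 := h3 g rfl
      have h5 : (z.1 : G) * g * (z.1 : G)⁻¹ * g⁻¹ = 1 := by rw [← h4]; group
      rw [h5]; exact N.one_mem
    · have h3 : (z.1 : G) ∈ Subgroup.centralizer ({g} : Set G) := z.2
      rw [Subgroup.mem_centralizer_iff] at h3
      have h4 := h3 g rfl
      show (z.1 : G) * g * (z.1 : G)⁻¹ = g
      rw [← h4]; group
  have hmul : (MulAction.orbit D g).ncard * Nat.card (Subgroup.centralizer ({g} : Set G)) =
      Nat.card N *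
        Nat.card (Subgroup.centralizer ({(QuotientGroup.mk g : G ⧸ N)} : Set (G ⧸ N))) := by
    rw [← hO, ← hstab, Subgroup.index_mul_card, hDcard]
  have hsub : MulAction.orbit D g ⊆ (fun n => g * n) '' (N : Set G) := by
    rintro y ⟨x, rfl⟩
    refine ⟨g⁻¹ * ((x : G) * g * (x : G)⁻¹), ?_, ?_⟩
    · have h1 := (hDmem x).mp x.2
      have h2 := ‹N.Normal›.conj_mem _ h1 g⁻¹
      have h3 : g⁻¹ * ((x : G) * g * (x : G)⁻¹ * g⁻¹) * g⁻¹⁻¹ = g⁻¹ * ((x : G) * g * (x : G)⁻¹) := by
        group
      rw [h3] at h2; exact h2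
    · show g * (g⁻¹ * ((x : G) * g * (x : G)⁻¹)) = (x : G) * g * (x : G)⁻¹
      group
  have hncard : ((fun n => g * n) '' (N : Set G)).ncard = Nat.card N := by
    rw [Set.ncard_image_of_injective _ (mul_right_injective g)]
    exact (Nat.card_coe_set_eq _).symm
  constructor
  · intro h
    have hsup : (fun n => g * n) '' (N : Set G) ⊆ MulAction.orbit D g := by
      rintro y ⟨n, hn, rfl⟩
      obtain ⟨x, hx⟩ := h n hn
      have hxD : x ∈ D := by
        rw [hDmem, hx]
        exact ‹N.Normal›.conj_mem n hn g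
      exact ⟨⟨x, hxD⟩, hx⟩
    have heq : MulAction.orbit D g = (fun n => g * n) '' (N : Set G) :=
      Set.Subset.antisymm hsub hsup
    rw [heq, hncard] at hmul
    exact Nat.eq_of_mul_eq_mul_left Nat.card_pos hmul
  · intro h n hn
    rw [← h] at hmul
    have h1 : (MulAction.orbit D g).ncard = Nat.card N :=
      Nat.eq_of_mul_eq_mul_right Nat.card_pos hmul
    have heq : MulAction.orbit D g = (fun n => g * n) '' (N : Set G) :=
      Set.eq_of_subset_of_ncard_le hsub (by rw [hncard, h1]) (Set.toFinite _)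
    have h2 : g * n ∈ MulAction.orbit D g := by rw [heq]; exact ⟨n, hn, rfl⟩
    obtain ⟨x, hx⟩ := h2
    exact ⟨(x : G), hx⟩

theorem result {G : Type*} [Group G] [Finite G] (N : Subgroup G) [N.Normal] :
    (∀ g : G, g ∉ N → ∀ n ∈ N, ∃ x : G, x * g * x⁻¹ = g * n) ↔
      ∀ g : G, g ∉ N → Nat.card (Subgroup.centralizer ({g} : Set G)) =
        Nat.card (Subgroup.centralizer ({(QuotientGroup.mk g : G ⧸ N)} : Set (G ⧸ N))) := by
  constructor
  · intro h g hg
    exact (core N g _ rfl).mp (h g hg)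
  · intro h g hg
    exact (core N g _ rfl).mpr (h g hg)

end Cfsg.Agent.S4142
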