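import Cfsg.Statements.S4153

import Mathlib
import Cfsg.Agent.S4106
import Cfsg.Agent.S4620

set_option autoImplicit false
open Cfsg
open scoped Pointwise

namespace Cfsg.Agent.S4153

universe u
variable {G : Type u} [Group G] [Finite G]

lemma lift_p (p : ℕ) [Fact p.Prime] (N : Subgroup G) [N.Normal] (xb : G ⧸ N)
    (hxb : ∃ k : ℕ, orderOf xb = p ^ k) :
    ∃ g₀ : G, (∃ k : ℕ, orderOf g₀ = p ^ k) ∧ (g₀ : G ⧸ N) = xb := by
  have hp : p.Prime := Fact.out
  obtain ⟨g, rfl⟩ := QuotientGroup.mk_surjective xb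
  obtain ⟨a, b, hab, hk, hb⟩ := Cfsg.Agent.S4106.p_decomp p g
  obtain ⟨k, hk'⟩ := hxb
  refine ⟨g ^ a, hk, ?_⟩
  have h1 : ((g ^ b : G) : G ⧸ N) = 1 := by
    rw [← orderOf_eq_one_iff]
    have d1 : orderOf ((g ^ b : G) : G ⧸ N) ∣ orderOf (g ^ b) :=
      orderOf_map_dvd (QuotientGroup.mk' N) (g ^ b)
    have d2 : orderOf ((g ^ b : G) : G ⧸ N) ∣ p ^ k := by
      rw [← hk', QuotientGroup.mk_pow]
      exact orderOf_pow_dvd b
    have hcop : Nat.Coprime (p ^ k) (orderOf (g ^ b)) :=
      Nat.Coprime.pow_left k ((Nat.Prime.coprime_iff_not_dvd hp).mpr hb)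
    have := Nat.dvd_gcd d2 d1
    rw [Nat.Coprime.gcd_eq_one hcop] at this
    exact Nat.dvd_one.mp this
  calc ((g ^ a : G) : G ⧸ N) = ((g ^ a : G) : G ⧸ N) * ((g ^ b : G) : G ⧸ N) := by rw [h1, mul_one]
    _ = ((g ^ a * g ^ b : G) : G ⧸ N) := rfl
    _ = (g : G ⧸ N) := by rw [hab]

theorem result {G : Type*} [Group G] [Finite G] (p : ℕ) [Fact p.Prime] (N : Subgroup G) [N.Normal]
    (P : Sylow p G) (Pbar : Sylow p (G ⧸ N)) :
    Nat.card {g : (G ⧸ N) // ∃ k : ℕ, orderOf g = p ^ k} * Nat.card (P : Subgroup G) ≤ Nat.card {g : G // ∃ k : ℕ, orderOf g = p ^ k} * Nat.card (Pbar : Subgroup (G ⧸ N)) ∧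
    (N ≤ Subgroup.center G → Nat.card {g : (G ⧸ N) // ∃ k : ℕ, orderOf g = p ^ k} * Nat.card (P : Subgroup G) = Nat.card {g : G // ∃ k : ℕ, orderOf g = p ^ k} * Nat.card (Pbar : Subgroup (G ⧸ N))) := by
  classical
  have hp : p.Prime := Fact.out
  haveI := Fintype.ofFinite G
  haveI := Fintype.ofFinite (G ⧸ N)
  set π := QuotientGroup.mk' N with hπ
  set U : Finset G := Finset.univ.filter (fun g => ∃ k : ℕ, orderOf g = p ^ k) with hU
  set Ub : Finset (G ⧸ N) := Finset.univ.filter (fun g => ∃ k : ℕ, orderOf g = p ^ k) with hUb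
  have hUcard : Nat.card {g : G // ∃ k : ℕ, orderOf g = p ^ k} = U.card := by
    rw [Nat.card_eq_fintype_card, Fintype.card_subtype]
  have hUbcard : Nat.card {g : (G ⧸ N) // ∃ k : ℕ, orderOf g = p ^ k} = Ub.card := by
    rw [Nat.card_eq_fintype_card, Fintype.card_subtype]
  have hmaps : ∀ g ∈ U, π g ∈ Ub := by
    intro g hg
    simp only [U, Ub, Finset.mem_filter, Finset.mem_univ, true_and] at hg ⊢
    obtain ⟨k, hk⟩ := hg
    have : orderOf (π g) ∣ p ^ k := hk ▸ orderOf_map_dvd π g
    obtain ⟨j, _, hj⟩ := (Nat.dvd_prime_pow hp).mp this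
    exact ⟨j, hj⟩
  have hsum : U.card = ∑ xb ∈ Ub, (U.filter (fun g => π g = xb)).card :=
    Finset.card_eq_sum_card_fiberwise hmaps
  rw [hUcard, hUbcard]
  constructor
  · have hfib : ∀ xb ∈ Ub, Nat.card (P : Subgroup G) ≤
        (U.filter (fun g => π g = xb)).card * Nat.card (Pbar : Subgroup (G ⧸ N)) := by
      intro xb hxb
      simp only [Ub, Finset.mem_filter, Finset.mem_univ, true_and] at hxb
      obtain ⟨g₀, hg₀, hg₀x⟩ := lift_p p N xb hxb
      have hpg : IsPGroup p ↥(Subgroup.zpowers g₀) := by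
        obtain ⟨k, hk⟩ := hg₀
        exact IsPGroup.of_card (n := k) (by rw [Nat.card_zpowers, hk])
      obtain ⟨Q, hQ⟩ := hpg.exists_le_sylow
      have hg₀Q : g₀ ∈ (Q : Subgroup G) := hQ (Subgroup.mem_zpowers g₀)
      set f : ↥(Q : Subgroup G) →* G ⧸ N := π.comp (Q : Subgroup G).subtype with hf
      have h1 : Nat.card f.ker ≤ (U.filter (fun g => π g = xb)).card := by
        rw [Nat.card_eq_fintype_card, ← Finset.card_univ]
        apply Finset.card_le_card_of_injOn (fun (d : ↥f.ker) => g₀ * ((d : ↥(Q : Subgroup G)) : G))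
        · intro d _
          simp only [Finset.coe_filter, Set.mem_setOf_eq, U, Finset.mem_filter, Finset.mem_univ,
            true_and]
          constructor
          · have hmem : g₀ * ((d : ↥(Q : Subgroup G)) : G) ∈ (Q : Subgroup G) :=
              Subgroup.mul_mem _ hg₀Q (d : ↥(Q : Subgroup G)).2
            obtain ⟨k, hk⟩ := (IsPGroup.iff_orderOf.mp Q.isPGroup') ⟨_, hmem⟩
            exact ⟨k, by rw [← hk, Subgroup.orderOf_mk]⟩
          · have hd : f (d : ↥(Q : Subgroup G)) = 1 := d.2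
            rw [map_mul]
            have : π ((d : ↥(Q : Subgroup G)) : G) = 1 := hd
            rw [this, mul_one]; exact hg₀x
        · intro d _ d' _ hdd
          simp only at hdd
          exact Subtype.ext (Subtype.ext (mul_left_cancel hdd))
      have h2 : Nat.card (Q : Subgroup G) = Nat.card f.ker * Nat.card f.range := by
        rw [← Subgroup.index_ker, Subgroup.card_mul_index]
      have h3 : Nat.card f.range ≤ Nat.card (Pbar : Subgroup (G ⧸ N)) := by
        have hpr : IsPGroup p f.range :=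
          IsPGroup.of_surjective Q.isPGroup' f.rangeRestrict f.rangeRestrict_surjective
        obtain ⟨R, hR⟩ := hpr.exists_le_sylow
        calc Nat.card f.range ≤ Nat.card (R : Subgroup (G ⧸ N)) := Subgroup.card_le_of_le hR
          _ = Nat.card (Pbar : Subgroup (G ⧸ N)) := by
            rw [Sylow.card_eq_multiplicity R, Sylow.card_eq_multiplicity Pbar]
      calc Nat.card (P : Subgroup G) = Nat.card (Q : Subgroup G) := by
            rw [Sylow.card_eq_multiplicity P, Sylow.card_eq_multiplicity Q]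
        _ = Nat.card f.ker * Nat.card f.range := h2
        _ ≤ (U.filter (fun g => π g = xb)).card * Nat.card (Pbar : Subgroup (G ⧸ N)) :=
            Nat.mul_le_mul h1 h3
    calc Ub.card * Nat.card (P : Subgroup G) = ∑ xb ∈ Ub, Nat.card (P : Subgroup G) := by
          rw [Finset.sum_const, smul_eq_mul]
      _ ≤ ∑ xb ∈ Ub, (U.filter (fun g => π g = xb)).card * Nat.card (Pbar : Subgroup (G ⧸ N)) :=
          Finset.sum_le_sum hfib
      _ = U.card * Nat.card (Pbar : Subgroup (G ⧸ N)) := by rw [← Finset.sum_mul, ← hsum]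
  · intro hNZ
    set q := p ^ (Nat.card N).factorization p with hq
    have hNp : ∀ n : G, n ∈ N → ∀ g : G, n * g = g * n :=
      fun n hn g => (Subgroup.mem_center_iff.mp (hNZ hn) g).symm
    obtain ⟨R⟩ : Nonempty (Sylow p ↥N) := inferInstance
    have hRset : ∀ n : ↥N, (∃ k : ℕ, orderOf (n : G) = p ^ k) ↔ n ∈ (R : Subgroup ↥N) := by
      intro n
      constructor
      · rintro ⟨k, hk⟩
        have hpgn : IsPGroup p ↥(Subgroup.zpowers n) :=
          IsPGroup.of_card (n := k) (by rw [Nat.card_zpowers, ← Subgroup.orderOf_coe, hk])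
        obtain ⟨R', hR'⟩ := hpgn.exists_le_sylow
        obtain ⟨g, hg⟩ := MulAction.exists_smul_eq ↥N R' R
        have h1 : g * n * g⁻¹ ∈ (R : Subgroup ↥N) := by
          rw [← hg, Sylow.smul_def, Sylow.pointwise_smul_def, Cfsg.Agent.S4620.mem_conj]
          have : g⁻¹ * (g * n * g⁻¹) * g = n := by group
          rw [this]; exact hR' (Subgroup.mem_zpowers n)
        have h2 : g * n * g⁻¹ = n := by
          apply Subtype.ext
          show (g : G) * n * (g : G)⁻¹ = n
          rw [← hNp n n.2 g]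
          group
        rwa [h2] at h1
      · intro hn
        obtain ⟨k, hk⟩ := (IsPGroup.iff_orderOf.mp R.isPGroup') ⟨n, hn⟩
        exact ⟨k, by rw [← hk, Subgroup.orderOf_mk, Subgroup.orderOf_coe]⟩
    have hRcard : Nat.card (R : Subgroup ↥N) = q := Sylow.card_eq_multiplicity R
    have hfib : ∀ xb ∈ Ub, (U.filter (fun g => π g = xb)).card = q := by
      intro xb hxb
      simp only [Ub, Finset.mem_filter, Finset.mem_univ, true_and] at hxb
      obtain ⟨g₀, hg₀, hg₀x⟩ := lift_p p N xb hxb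
      rw [← hRcard, Nat.card_eq_fintype_card, ← Finset.card_univ]
      symm
      apply Finset.card_bij (fun (r : ↥(R : Subgroup ↥N)) _ => g₀ * ((r : ↥N) : G))
      · intro r _
        simp only [U, Finset.mem_filter, Finset.mem_univ, true_and]
        constructor
        · obtain ⟨k, hk⟩ := hg₀
          obtain ⟨j, hj⟩ := (hRset (r : ↥N)).mpr r.2
          have hc : Commute g₀ ((r : ↥N) : G) := (hNp _ (r : ↥N).2 g₀).symm
          have hd := hc.orderOf_mul_dvd_lcm
          rw [hk, hj] at hd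
          have hl : Nat.lcm (p ^ k) (p ^ j) ∣ p ^ (max k j) :=
            Nat.lcm_dvd (pow_dvd_pow p (le_max_left k j)) (pow_dvd_pow p (le_max_right k j))
          obtain ⟨i, _, hi⟩ := (Nat.dvd_prime_pow hp).mp (hd.trans hl)
          exact ⟨i, hi⟩
        · rw [map_mul]
          have : π ((r : ↥N) : G) = 1 := (QuotientGroup.eq_one_iff _).mpr (r : ↥N).2
          rw [this, mul_one]; exact hg₀x
      · intro r _ r' _ hrr
        exact Subtype.ext (Subtype.ext (mul_left_cancel hrr))
      · intro g hg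
        simp only [U, Finset.mem_filter, Finset.mem_univ, true_and] at hg
        obtain ⟨⟨j, hj⟩, hgx⟩ := hg
        have hn : g₀⁻¹ * g ∈ N := by
          apply QuotientGroup.eq.mp
          show π g₀ = π g
          rw [hgx]; exact hg₀x
        have hpn : ∃ k : ℕ, orderOf (g₀⁻¹ * g) = p ^ k := by
          obtain ⟨k, hk⟩ := hg₀
          have hc : Commute g₀⁻¹ g := by
            have hcn := hNp _ hn g₀
            show g₀⁻¹ * g = g * g₀⁻¹
            have : g * g₀⁻¹ = (g₀⁻¹ * g * g₀) * g₀⁻¹ := by rw [hcn]; group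
            rw [this]; group
          have hd := hc.orderOf_mul_dvd_lcm
          rw [orderOf_inv, hk, hj] at hd
          have hl : Nat.lcm (p ^ k) (p ^ j) ∣ p ^ (max k j) :=
            Nat.lcm_dvd (pow_dvd_pow p (le_max_left k j)) (pow_dvd_pow p (le_max_right k j))
          obtain ⟨i, _, hi⟩ := (Nat.dvd_prime_pow hp).mp (hd.trans hl)
          exact ⟨i, hi⟩
        refine ⟨⟨⟨g₀⁻¹ * g, hn⟩, (hRset ⟨g₀⁻¹ * g, hn⟩).mp hpn⟩, Finset.mem_univ _, ?_⟩
        show g₀ * (g₀⁻¹ * g) = g
        group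
    have hUq : U.card = Ub.card * q := by
      rw [hsum, Finset.sum_congr rfl hfib, Finset.sum_const, smul_eq_mul]
    have hPq : Nat.card (P : Subgroup G) = q * Nat.card (Pbar : Subgroup (G ⧸ N)) := by
      rw [Sylow.card_eq_multiplicity P, Sylow.card_eq_multiplicity Pbar, hq, ← pow_add]
      congr 1
      have hcard : Nat.card G = Nat.card (G ⧸ N) * Nat.card N :=
        Subgroup.card_eq_card_quotient_mul_card_subgroup N
      rw [hcard, Nat.factorization_mul Nat.card_pos.ne' Nat.card_pos.ne']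
      simp [add_comm]
    rw [hUq, hPq]; ring

end Cfsg.Agent.S4153
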