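import Cfsg.Statements.S4169

import Mathlib
import Cfsg.Agent.S4163
import Cfsg.Agent.S1894

set_option autoImplicit false
open Cfsg
open scoped Pointwise

namespace Cfsg.Agent.S4169

universe u
section
open Subgroup

lemma cls3 {G : Type u} [Group G] [Finite G] (A : Subgroup G) [hAn : A.Normal]
    (hAc : ∀ a ∈ A, ∀ b ∈ A, a * b = b * a) (hCA : Subgroup.centralizer (A : Set G) = A)
    (m : ℕ)
    (hall : ∀ x : G, (centralizer ({x} : Set G)).index = 1 ∨ (centralizer ({x} : Set G)).index = m) :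
    Subgroup.upperCentralSeries G 3 = ⊤ := by
  classical
  have hmin : ∀ z : G, 1 < (centralizer ({z} : Set G)).index → m ≤ (centralizer ({z} : Set G)).index := by
    intro z hz
    rcases hall z with h1 | h1
    · omega
    · omega
  have hT : ∀ g : G, ∀ a ∈ A, a * g * a⁻¹ * g⁻¹ ∈ Subgroup.center G := by
    intro x a ha
    rcases hall x with h1 | h1
    · rw [Subgroup.index_eq_one] at h1
      have hxa : a ∈ Subgroup.centralizer ({x} : Set G) := h1 ▸ Subgroup.mem_top a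
      rw [Subgroup.mem_centralizer_iff] at hxa
      have h2 := hxa x (Set.mem_singleton x)
      have : a * x * a⁻¹ * x⁻¹ = 1 := by rw [← h2]; group
      rw [this]; exact one_mem _
    · exact Cfsg.Agent.S4163.small_comm_central A hAc m hmin x h1 a ha
  have hconj : ∀ g : G, ∀ a ∈ A, ∃ z ∈ Subgroup.center G, g * a * g⁻¹ = a * z := by
    intro g a ha
    refine ⟨a⁻¹ * g * a * g⁻¹, ?_, by group⟩
    have := hT g a⁻¹ (A.inv_mem ha)
    simpa using this
  have hcomm_in_A : ∀ g h : G, g * h * g⁻¹ * h⁻¹ ∈ A := by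
    intro g h
    rw [← hCA, Subgroup.mem_centralizer_iff]
    intro a ha
    have ha0 : a ∈ A := ha
    obtain ⟨a', ha'def⟩ : ∃ a' : G, a' = (h * g)⁻¹ * a * (h * g) := ⟨_, rfl⟩
    have ha' : a' ∈ A := by
      rw [ha'def]
      have := hAn.conj_mem a ha0 (h * g)⁻¹
      simpa using this
    obtain ⟨z₁, hz₁, e₁⟩ := hconj h _ ha'
    obtain ⟨z₂, hz₂, e₂⟩ := hconj g _ ha'
    have k1 : g * (h * a' * h⁻¹) * g⁻¹ = a' * z₂ * z₁ := by
      rw [e₁]
      calc g * (a' * z₁) * g⁻¹ = (g * a' * g⁻¹) * (g * z₁) * g⁻¹ := by group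
        _ = (a' * z₂) * (z₁ * g) * g⁻¹ := by rw [e₂, Subgroup.mem_center_iff.mp hz₁ g]
        _ = a' * z₂ * z₁ := by group
    have k2 : h * (g * a' * g⁻¹) * h⁻¹ = a' * z₁ * z₂ := by
      rw [e₂]
      calc h * (a' * z₂) * h⁻¹ = (h * a' * h⁻¹) * (h * z₂) * h⁻¹ := by group
        _ = (a' * z₁) * (z₂ * h) * h⁻¹ := by rw [e₁, Subgroup.mem_center_iff.mp hz₂ h]
        _ = a' * z₁ * z₂ := by group
    have k3 : z₂ * z₁ = z₁ * z₂ := Subgroup.mem_center_iff.mp hz₁ z₂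
    have k4 : g * (h * a' * h⁻¹) * g⁻¹ = h * (g * a' * g⁻¹) * h⁻¹ := by
      rw [k1, k2, mul_assoc, k3, ← mul_assoc]
    rw [ha'def] at k4
    calc a * (g * h * g⁻¹ * h⁻¹)
        = (h * (g * ((h * g)⁻¹ * a * (h * g)) * g⁻¹) * h⁻¹) * (g * h * g⁻¹ * h⁻¹) := by group
      _ = (g * (h * ((h * g)⁻¹ * a * (h * g)) * h⁻¹) * g⁻¹) * (g * h * g⁻¹ * h⁻¹) := by rw [k4]
      _ = (g * h * g⁻¹ * h⁻¹) * a := by group
  have h3 : ∀ u v w : G,
      (u * v * u⁻¹ * v⁻¹) * w * (u * v * u⁻¹ * v⁻¹)⁻¹ * w⁻¹ ∈ Subgroup.center G := by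
    intro u v w
    exact hT w _ (hcomm_in_A u v)
  rw [eq_top_iff]
  intro u _
  rw [Subgroup.mem_upperCentralSeries_succ_iff]
  intro v
  rw [Subgroup.mem_upperCentralSeries_succ_iff]
  intro w
  rw [Subgroup.upperCentralSeries_one]
  exact h3 u v w

end

theorem result {P : Type*} [Group P] [Finite P] {p : ℕ} [Fact p.Prime] (hP : IsPGroup p P)
    (m : ℕ) (hm : 1 < m) (h : ∀ x : P, (Subgroup.centralizer ({x} : Set P)).index = 1 ∨ (Subgroup.centralizer ({x} : Set P)).index = m) :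
    upperCentralSeries P 3 = ⊤ := by
  obtain ⟨C, hCn, -, -, hCC, hCeq⟩ := Cfsg.Agent.S1894.exists_max_abelian_normal hP (⊤ : Subgroup P) (⊥ : Subgroup P) bot_le (by simp)
  rw [top_inf_eq] at hCeq
  haveI := hCn
  have hAc : ∀ a ∈ C, ∀ b ∈ C, a * b = b * a := by
    intro a ha b hb
    have := hCC hb
    rw [Subgroup.mem_centralizer_iff] at this
    exact this a ha
  exact cls3 C hAc hCeq m h

end Cfsg.Agent.S4169
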