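import Cfsg.Statements.S4189

import Mathlib
import Cfsg.Agent.S4218
import Cfsg.Agent.S4155
import Cfsg.Agent.S0586
import Cfsg.Agent.Lib.Helper1.Quat

set_option autoImplicit false
open Cfsg
open scoped Pointwise

namespace Cfsg.Agent.S4189

universe u

open scoped commutatorElement

theorem four_enum {A : Type*} [Group A] [Finite A] (hc : Nat.card A = 4) (a b : A) (ha : a ≠ 1)
    (hb : b ≠ 1) (hab : a ≠ b) (hab1 : a * b ≠ 1) (u : A) :
    u = 1 ∨ u = a ∨ u = b ∨ u = a * b := by
  classical
  by_contra hcon
  push_neg at hcon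
  obtain ⟨h1, h2, h3, h4⟩ := hcon
  have haba : a * b ≠ a := by
    intro h
    apply hb
    have h5 : a * b = a * 1 := by rw [h, mul_one]
    exact mul_left_cancel h5
  have habb : a * b ≠ b := by
    intro h
    apply ha
    have h5 : a * b = 1 * b := by rw [h, one_mul]
    exact mul_right_cancel h5
  haveI : Fintype A := Fintype.ofFinite A
  have hn1 : a ∉ ({1} : Finset A) := by simp [ha]
  have hn2 : b ∉ ({a, 1} : Finset A) := by simp [hb, hab.symm]
  have hn3 : a * b ∉ ({b, a, 1} : Finset A) := by simp [hab1, haba, habb]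
  have hn4 : u ∉ ({a * b, b, a, 1} : Finset A) := by simp [h1, h2, h3, h4]
  have hcard5 : ({u, a * b, b, a, 1} : Finset A).card = 5 := by
    rw [Finset.card_insert_of_notMem hn4, Finset.card_insert_of_notMem hn3,
      Finset.card_insert_of_notMem hn2, Finset.card_insert_of_notMem hn1, Finset.card_singleton]
  have h5 : 5 ≤ Fintype.card A := by
    rw [← hcard5]
    exact Finset.card_le_univ _
  rw [Nat.card_eq_fintype_card] at hc
  omega

/-- conclusion predicate -/
def Concl (P : Type u) [Group P] : Prop :=
  Nat.card P = 8 ∧ ∃ c ∈ commutator P, c ≠ 1 ∧ (∀ d ∈ commutator P, d = 1 ∨ d = c) ∧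
    ∀ g : P, g ∉ commutator P → g * g = c

theorem comm_mem {P : Type*} [Group P] (g h : P) : g * h * g⁻¹ * h⁻¹ ∈ commutator P := by
  have h1 := Subgroup.commutator_mem_commutator (Subgroup.mem_top g) (Subgroup.mem_top h)
  rw [commutatorElement_def] at h1
  rw [commutator_def]
  exact h1

theorem comm_central_left {P : Type*} [Group P] (d t h : P) (hd : ∀ g : P, d * g = g * d) :
    (d * t) * h * (d * t)⁻¹ * h⁻¹ = t * h * t⁻¹ * h⁻¹ := by
  have e1 : (d * t) * h * (d * t)⁻¹ * h⁻¹ = d * (t * h * t⁻¹) * (d⁻¹ * h⁻¹) := by group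
  have e2 : d⁻¹ * h⁻¹ = h⁻¹ * d⁻¹ := by
    rw [← mul_inv_rev, ← mul_inv_rev, hd h]
  have e3 : d * (t * h * t⁻¹) * (h⁻¹ * d⁻¹) = d * (t * h * t⁻¹ * h⁻¹) * d⁻¹ := by group
  rw [e1, e2, e3, hd, mul_inv_cancel_right]

theorem comm_central_right {P : Type*} [Group P] (d g t : P) (hd : ∀ g : P, d * g = g * d) :
    g * (d * t) * g⁻¹ * (d * t)⁻¹ = g * t * g⁻¹ * t⁻¹ := by
  have e1 : g * (d * t) * g⁻¹ * (d * t)⁻¹ = (g * d) * (t * g⁻¹ * t⁻¹) * d⁻¹ := by group
  have e3 : d * g * (t * g⁻¹ * t⁻¹) * d⁻¹ = d * (g * t * g⁻¹ * t⁻¹) * d⁻¹ := by group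
  rw [e1, ← hd g, e3, hd, mul_inv_cancel_right]

theorem caseA (P : Type u) [Group P] [Finite P] (hna : ¬ IsMulCommutative P)
    (h4 : (commutator P).index = 4) (hcen : commutator P ≤ Subgroup.center P)
    (α : P ≃* P) (hα : ∀ x, α x * x⁻¹ ∈ commutator P → x ∈ commutator P) : Concl P := by
  classical
  have hz : ∀ d ∈ commutator P, ∀ g : P, d * g = g * d :=
    fun d hd g => ((Subgroup.mem_center_iff.mp (hcen hd)) g).symm
  have hπ1 : ∀ g : P, Abelianization.of g = 1 ↔ g ∈ commutator P := by
    intro g
    rw [← MonoidHom.mem_ker, Abelianization.ker_of]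
  have hcardA : Nat.card (Abelianization P) = 4 := by
    rw [← h4, Subgroup.index_eq_card]
    rfl
  have hπs : Function.Surjective (Abelianization.of : P → Abelianization P) :=
    QuotientGroup.mk_surjective
  -- squares lie in the commutator subgroup
  have hsq : ∀ g : P, g * g ∈ commutator P := by
    intro g
    by_contra hg
    have h1 : orderOf (Abelianization.of g) ∣ 2 ^ 2 := by
      have h1' := orderOf_dvd_natCard (Abelianization.of g)
      rw [hcardA] at h1'
      exact h1'
    have h2 : (Abelianization.of g) ^ 2 ≠ 1 := by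
      rw [← map_pow, Ne, hπ1, pow_two]
      exact hg
    have h3 : orderOf (Abelianization.of g) = 4 := by
      obtain ⟨j, hj, hj2⟩ := (Nat.dvd_prime_pow Nat.prime_two).mp h1
      interval_cases j
      · exfalso
        apply h2
        rw [← orderOf_dvd_iff_pow_eq_one, hj2]
        norm_num
      · exfalso
        apply h2
        rw [← orderOf_dvd_iff_pow_eq_one, hj2]
        norm_num
      · rw [hj2]
        norm_num
    have htop : Subgroup.zpowers (Abelianization.of g) = ⊤ := by
      apply Subgroup.eq_top_of_card_eq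
      rw [Nat.card_zpowers, h3, hcardA]
    have hrep : ∀ a : P, ∃ d ∈ commutator P, ∃ i : ℤ, a = d * g ^ i := by
      intro a
      have h5 : Abelianization.of a ∈ Subgroup.zpowers (Abelianization.of g) := by
        rw [htop]
        exact Subgroup.mem_top _
      obtain ⟨i, hi⟩ := Subgroup.mem_zpowers_iff.mp h5
      refine ⟨a * (g ^ i)⁻¹, ?_, i, by group⟩
      rw [← hπ1, map_mul, map_inv, map_zpow, hi, mul_inv_cancel]
    apply hna
    refine ⟨⟨fun a b => ?_⟩⟩
    obtain ⟨d, hd, i, rfl⟩ := hrep a
    obtain ⟨d', hd', j, rfl⟩ := hrep b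
    have hgg : g ^ i * g ^ j = g ^ j * g ^ i := by
      rw [← zpow_add, ← zpow_add, add_comm]
    calc d * g ^ i * (d' * g ^ j) = d * (g ^ i * d') * g ^ j := by group
      _ = d * (d' * g ^ i) * g ^ j := by rw [hz d' hd' (g ^ i)]
      _ = (d * d') * (g ^ i * g ^ j) := by group
      _ = (d' * d) * (g ^ j * g ^ i) := by rw [hz d hd d', hgg]
      _ = d' * (d * g ^ j) * g ^ i := by group
      _ = d' * (g ^ j * d) * g ^ i := by rw [hz d hd (g ^ j)]
      _ = d' * g ^ j * (d * g ^ i) := by group
  obtain ⟨x, hx⟩ : ∃ x : P, x ∉ commutator P := by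
    by_contra hall
    push_neg at hall
    have h1 : commutator P = ⊤ := (Subgroup.eq_top_iff' _).mpr hall
    rw [h1, Subgroup.index_top] at h4
    norm_num at h4
  have hchar : ∀ g : P, α g ∈ commutator P ↔ g ∈ commutator P := by
    intro g
    have hc : (commutator P).Characteristic := inferInstance
    have h1 := Subgroup.characteristic_iff_comap_eq.mp hc α
    constructor
    · intro h
      rw [← h1]
      exact h
    · intro h
      rw [← h1] at h
      exact h
  have hyC : α x ∉ commutator P := fun h => hx ((hchar x).mp h)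
  have hyx : α x * x⁻¹ ∉ commutator P := fun h => hx (hα x h)
  have huu : ∀ u : Abelianization P, u * u = 1 := by
    intro u
    obtain ⟨g, rfl⟩ := hπs u
    rw [← map_mul, hπ1]
    exact hsq g
  have hux : Abelianization.of x ≠ 1 := fun h => hx ((hπ1 x).mp h)
  have huy : Abelianization.of (α x) ≠ 1 := fun h => hyC ((hπ1 _).mp h)
  have huxy : Abelianization.of x ≠ Abelianization.of (α x) := by
    intro h
    apply hyx
    rw [← hπ1, map_mul, map_inv, ← h, mul_inv_cancel]
  have huxy1 : Abelianization.of x * Abelianization.of (α x) ≠ 1 := by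
    intro h
    apply huxy
    have h5 : Abelianization.of x * Abelianization.of (α x) =
        Abelianization.of x * Abelianization.of x := by rw [h, huu]
    exact (mul_left_cancel h5).symm
  have henum := four_enum hcardA (Abelianization.of x) (Abelianization.of (α x)) hux huy huxy huxy1
  -- representation of elements
  have hrep : ∀ g : P, ∃ d ∈ commutator P, ∃ t : P,
      (t = 1 ∨ t = x ∨ t = α x ∨ t = x * α x) ∧ g = d * t := by
    intro g
    rcases henum (Abelianization.of g) with h | h | h | h
    · exact ⟨g, (hπ1 g).mp h, 1, Or.inl rfl, by group⟩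
    · refine ⟨g * x⁻¹, ?_, x, Or.inr (Or.inl rfl), by group⟩
      rw [← hπ1, map_mul, map_inv, h, mul_inv_cancel]
    · refine ⟨g * (α x)⁻¹, ?_, α x, Or.inr (Or.inr (Or.inl rfl)), by group⟩
      rw [← hπ1, map_mul, map_inv, h, mul_inv_cancel]
    · refine ⟨g * (x * α x)⁻¹, ?_, x * α x, Or.inr (Or.inr (Or.inr rfl)), by group⟩
      rw [← hπ1, map_mul, map_inv, map_mul, h, mul_inv_cancel]
  -- the commutator c
  obtain ⟨y, hy⟩ : ∃ y : P, y = α x := ⟨_, rfl⟩
  rw [← hy] at hrep hyC hyx
  obtain ⟨c, hc⟩ : ∃ c : P, c = x * y * x⁻¹ * y⁻¹ := ⟨_, rfl⟩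
  have hcC : c ∈ commutator P := by
    rw [hc]
    exact comm_mem x y
  have hcz : ∀ g : P, c * g = g * c := hz c hcC
  have hcc : c * c = 1 := by
    have e : (x * x) * y * (x * x)⁻¹ * y⁻¹ =
        x * (x * y * x⁻¹ * y⁻¹) * x⁻¹ * (x * y * x⁻¹ * y⁻¹) := by group
    have e2 : (x * x) * y * (x * x)⁻¹ * y⁻¹ = 1 := by
      rw [hz (x * x) (hsq x) y]
      group
    rw [e2, ← hc, ← hcz x, mul_inv_cancel_right] at e
    exact e.symm
  have hcinv : c⁻¹ = c := by
    have h1 : c⁻¹ = c⁻¹ * (c * c) := by rw [hcc, mul_one]
    rw [h1]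
    group
  have hxc : x * c * x⁻¹ = c := by rw [← hcz x, mul_inv_cancel_right]
  have f_yx : y * x * y⁻¹ * x⁻¹ = c := by
    rw [show y * x * y⁻¹ * x⁻¹ = (x * y * x⁻¹ * y⁻¹)⁻¹ by group, ← hc]
    exact hcinv
  have f_x_xy : x * (x * y) * x⁻¹ * (x * y)⁻¹ = c := by
    rw [show x * (x * y) * x⁻¹ * (x * y)⁻¹ = x * (x * y * x⁻¹ * y⁻¹) * x⁻¹ by group, ← hc]
    exact hxc
  have f_xy_x : (x * y) * x * (x * y)⁻¹ * x⁻¹ = c := by
    rw [show (x * y) * x * (x * y)⁻¹ * x⁻¹ = x * (x * y * x⁻¹ * y⁻¹)⁻¹ * x⁻¹ by group, ← hc,
      hcinv]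
    exact hxc
  have f_y_xy : y * (x * y) * y⁻¹ * (x * y)⁻¹ = c := by
    rw [show y * (x * y) * y⁻¹ * (x * y)⁻¹ = (x * y * x⁻¹ * y⁻¹)⁻¹ by group, ← hc]
    exact hcinv
  have f_xy_y : (x * y) * y * (x * y)⁻¹ * y⁻¹ = c := by
    rw [show (x * y) * y * (x * y)⁻¹ * y⁻¹ = x * y * x⁻¹ * y⁻¹ by group, ← hc]
  have hβ : ∀ t t' : P, (t = 1 ∨ t = x ∨ t = y ∨ t = x * y) →
      (t' = 1 ∨ t' = x ∨ t' = y ∨ t' = x * y) →
      (t * t' * t⁻¹ * t'⁻¹ = 1 ∨ t * t' * t⁻¹ * t'⁻¹ = c) := by
    intro t t' ht ht'
    rcases ht with rfl | rfl | rfl | rfl <;> rcases ht' with rfl | rfl | rfl | rfl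
    · left; group
    · left; group
    · left; group
    · left; group
    · left; group
    · left; group
    · right; exact hc.symm
    · right; exact f_x_xy
    · left; group
    · right; exact f_yx
    · left; group
    · right; exact f_y_xy
    · left; group
    · right; exact f_xy_x
    · right; exact f_xy_y
    · left; group
  have hcomm : ∀ g h : P, g * h * g⁻¹ * h⁻¹ = 1 ∨ g * h * g⁻¹ * h⁻¹ = c := by
    intro g h
    obtain ⟨d, hd, t, ht, rfl⟩ := hrep g
    obtain ⟨d', hd', t', ht', rfl⟩ := hrep h
    rw [comm_central_left d t _ (hz d hd), comm_central_right d' t t' (hz d' hd')]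
    exact hβ t t' ht ht'
  have hCenum : ∀ d ∈ commutator P, d = 1 ∨ d = c := by
    intro d hd
    rw [commutator_eq_closure] at hd
    induction hd using Subgroup.closure_induction with
    | mem z hz' =>
      obtain ⟨g, h, rfl⟩ := hz'
      rw [commutatorElement_def]
      exact hcomm g h
    | one => left; rfl
    | mul a b _ _ ha hb =>
      rcases ha with rfl | rfl <;> rcases hb with rfl | rfl
      · left; group
      · right; group
      · right; group
      · left; exact hcc
    | inv a _ ha =>
      rcases ha with rfl | rfl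
      · left; group
      · right; exact hcinv
  have hc1 : c ≠ 1 := by
    intro h
    apply hna
    refine ⟨⟨fun a b => ?_⟩⟩
    have h1 := hCenum _ (comm_mem a b)
    rw [h, or_self] at h1
    have h2 : a * b = (a * b * a⁻¹ * b⁻¹) * (b * a) := by group
    rw [h2, h1, one_mul]
  -- card
  have hcardC : Nat.card (commutator P) = 2 := by
    rw [Nat.card_eq_two_iff]
    refine ⟨1, ⟨c, hcC⟩, ?_, ?_⟩
    · intro h
      apply hc1
      exact (congrArg Subtype.val h).symm
    · ext d
      simp only [Set.mem_insert_iff, Set.mem_singleton_iff, Set.mem_univ, iff_true]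
      rcases hCenum d.1 d.2 with h | h
      · left
        exact Subtype.ext h
      · right
        exact Subtype.ext h
  have hcard : Nat.card P = 8 := by
    have h1 := Subgroup.card_mul_index (commutator P)
    rw [hcardC, h4] at h1
    omega
  -- squares
  have hαc : α c = c := by
    rcases hCenum (α c) ((hchar c).mpr hcC) with h | h
    · exfalso
      apply hc1
      have h1 : α c = α 1 := by rw [h, map_one]
      exact α.injective h1
    · exact h
  have hdd : ∀ d ∈ commutator P, d * d = 1 := by
    intro d hd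
    rcases hCenum d hd with rfl | rfl
    · group
    · exact hcc
  have hs_inv : ∀ s ∈ commutator P, α s = s := by
    intro s hs
    rcases hCenum s hs with rfl | rfl
    · exact map_one α
    · exact hαc
  have hsx : y * y = x * x := by
    rw [hy, ← map_mul]
    exact hs_inv _ (hsq x)
  have hsxy : (x * y) * (x * y) = c := by
    have e1 : (x * y) * (x * y) = x * (y * x * y⁻¹ * x⁻¹) * (x * y) * y := by group
    rw [e1, f_yx]
    have e2 : x * c * (x * y) * y = (x * c) * x * (y * y) := by group
    rw [e2, ← hcz x, hsx]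
    have e3 : c * x * x * (x * x) = c * ((x * x) * (x * x)) := by group
    rw [e3, hdd _ (hsq x), mul_one]
  -- α y lies in the coset of x * y
  have hzC : α y ∉ commutator P := fun h => hyC ((hchar y).mp h)
  have hzy : α y * y⁻¹ ∉ commutator P := fun h => hyC (hα y h)
  obtain ⟨d, hd, t, ht, hzt⟩ := hrep (α y)
  have hsqdt : ∀ d ∈ commutator P, ∀ t : P, (d * t) * (d * t) = t * t := by
    intro d hd t
    calc (d * t) * (d * t) = d * (t * d) * t := by group
      _ = d * (d * t) * t := by rw [hz d hd t]
      _ = (d * d) * (t * t) := by group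
      _ = t * t := by rw [hdd d hd, one_mul]
  have hxx : x * x = c := by
    rcases ht with h | h | h | h
    · exfalso
      apply hzC
      rw [hzt, h, mul_one]
      exact hd
    · exfalso
      rw [h] at hzt
      have h1 : α (x * y) * (x * y)⁻¹ ∈ commutator P := by
        rw [map_mul, ← hy, hzt]
        have e : y * (d * x) * (x * y)⁻¹ = (y * d * y⁻¹) * (y * x * y⁻¹ * x⁻¹) := by group
        rw [e]
        exact mul_mem ((inferInstance : (commutator P).Normal).conj_mem d hd y) (comm_mem y x)
      have h2 := hα _ h1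
      apply hyx
      have e : y * x⁻¹ = (y * x * y⁻¹ * x⁻¹) * (x * y) * (x * x)⁻¹ := by group
      rw [e]
      exact mul_mem (mul_mem (comm_mem y x) h2) (inv_mem (hsq x))
    · exfalso
      apply hzy
      rw [hzt, h, mul_inv_cancel_right]
      exact hd
    · rw [h] at hzt
      have h1 : α y * α y = c := by
        rw [hzt, hsqdt d hd]
        exact hsxy
      rw [← map_mul, hsx, hs_inv _ (hsq x)] at h1
      exact h1
  refine ⟨hcard, c, hcC, hc1, hCenum, ?_⟩
  intro g hg
  obtain ⟨d', hd', t', ht', hgt⟩ := hrep g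
  rw [hgt, hsqdt d' hd']
  rcases ht' with h | h | h | h
  · exfalso
    apply hg
    rw [hgt, h, mul_one]
    exact hd'
  · rw [h]
    exact hxx
  · rw [h, hsx]
    exact hxx
  · rw [h]
    exact hsxy

theorem quot_mem (P : Type u) [Group P] (N : Subgroup P) [hNn : N.Normal]
    (hNle : N ≤ commutator P) (g : P) :
    QuotientGroup.mk' N g ∈ commutator (P ⧸ N) ↔ g ∈ commutator P := by
  have hcq : commutator (P ⧸ N) = (commutator P).map (QuotientGroup.mk' N) := by
    rw [commutator_def, commutator_def, Subgroup.map_commutator,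
      Subgroup.map_top_of_surjective _ (QuotientGroup.mk'_surjective N)]
  rw [hcq]
  constructor
  · rintro ⟨d, hd, hdg⟩
    have h1 : d⁻¹ * g ∈ N := QuotientGroup.eq.mp hdg
    have h2 : d * (d⁻¹ * g) ∈ commutator P := mul_mem hd (hNle h1)
    rwa [mul_inv_cancel_left] at h2
  · intro h
    exact Subgroup.mem_map_of_mem _ h

theorem quot_index (P : Type u) [Group P] (N : Subgroup P) [hNn : N.Normal]
    (hNle : N ≤ commutator P) : (commutator (P ⧸ N)).index = (commutator P).index := by
  have hcq : commutator (P ⧸ N) = (commutator P).map (QuotientGroup.mk' N) := by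
    rw [commutator_def, commutator_def, Subgroup.map_commutator,
      Subgroup.map_top_of_surjective _ (QuotientGroup.mk'_surjective N)]
  rw [hcq, Subgroup.index_map_eq _ (QuotientGroup.mk'_surjective N)
    (by rw [QuotientGroup.ker_mk']; exact hNle)]

theorem quot_noncomm (P : Type u) [Group P] (N : Subgroup P) [hNn : N.Normal]
    (hcm : IsMulCommutative (P ⧸ N)) : commutator P ≤ N := by
  rw [commutator_eq_closure, Subgroup.closure_le]
  rintro _ ⟨g, h, rfl⟩
  show ⁅g, h⁆ ∈ N
  rw [commutatorElement_def]
  apply (QuotientGroup.eq_one_iff _).mp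
  show QuotientGroup.mk' N (g * h * g⁻¹ * h⁻¹) = 1
  rw [map_mul, map_mul, map_mul, map_inv, map_inv,
    hcm.is_comm.comm (QuotientGroup.mk' N g) (QuotientGroup.mk' N h)]
  group

theorem caseB (P : Type u) [Group P] [Finite P] (N : Subgroup P) [hNn : N.Normal]
    (hNle : N ≤ commutator P) (hNcen : N ≤ Subgroup.center P)
    (hNall : ∀ z : P, z ∈ Subgroup.center P → z ∈ commutator P → z ∈ N)
    (h4 : (commutator P).index = 4) (hC : Concl (P ⧸ N)) : False := by
  obtain ⟨h8, cb, hcb, hcb1, -, hsqb⟩ := hC
  have hmem := quot_mem P N hNle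
  obtain ⟨x, hx⟩ : ∃ x : P, x ∉ commutator P := by
    by_contra hall
    push_neg at hall
    have h1 : commutator P = ⊤ := (Subgroup.eq_top_iff' _).mpr hall
    rw [h1, Subgroup.index_top] at h4
    norm_num at h4
  have hsqP : ∀ g : P, g ∉ commutator P → QuotientGroup.mk' N (g * g) = cb := by
    intro g hg
    rw [map_mul]
    exact hsqb _ (fun h => hg ((hmem g).mp h))
  have hcomm1 : ∀ g : P, g ∉ commutator P → (x * x) * g = g * (x * x) := by
    intro g hg
    have h1 : QuotientGroup.mk' N (g * g) = QuotientGroup.mk' N (x * x) := by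
      rw [hsqP g hg, hsqP x hx]
    have h2 : (g * g)⁻¹ * (x * x) ∈ N := QuotientGroup.eq.mp h1
    have h3 := Subgroup.mem_center_iff.mp (hNcen h2) g
    calc (x * x) * g = (g * g) * (((g * g)⁻¹ * (x * x)) * g) := by group
      _ = (g * g) * (g * ((g * g)⁻¹ * (x * x))) := by rw [← h3]
      _ = g * (x * x) := by group
  have hcomm2 : ∀ g : P, (x * x) * g = g * (x * x) := by
    intro g
    by_cases hg : g ∈ commutator P
    · have hgx : g * x ∉ commutator P := by
        intro h
        apply hx
        have h5 := mul_mem (inv_mem hg) h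
        rwa [inv_mul_cancel_left] at h5
      have h1 := hcomm1 (g * x) hgx
      have h2 : (x * x) * g = ((x * x) * (g * x)) * x⁻¹ := by group
      rw [h2, h1]
      group
    · exact hcomm1 g hg
  have hxxN : x * x ∈ N := by
    apply hNall _ (Subgroup.mem_center_iff.mpr (fun g => (hcomm2 g).symm))
    rw [← hmem, hsqP x hx]
    exact hcb
  apply hcb1
  rw [← hsqP x hx]
  exact (QuotientGroup.eq_one_iff _).mpr hxxN

theorem T (n : ℕ) : ∀ (P : Type u) [Group P] [Finite P], Nat.card P = n → IsPGroup 2 P →
    ¬ IsMulCommutative P → (commutator P).index = 4 →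
    (∃ α : P ≃* P, ∀ x, α x * x⁻¹ ∈ commutator P → x ∈ commutator P) → Concl P := by
  induction n using Nat.strong_induction_on with
  | _ n ih =>
    intro P _ _ hn hP hna h4 ⟨α, hα⟩
    by_cases hcen : commutator P ≤ Subgroup.center P
    · exact caseA P hna h4 hcen α hα
    · exfalso
      haveI hnil : Group.IsNilpotent P := hP.isNilpotent
      have hC1 : commutator P ≠ ⊥ := by
        intro h
        apply hcen
        rw [h]
        exact bot_le
      have hNle : Subgroup.center P ⊓ commutator P ≤ commutator P := inf_le_right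
      have hN1 : Subgroup.center P ⊓ commutator P ≠ ⊥ := by
        obtain ⟨v, hv, hvc, hv1⟩ := Cfsg.Agent.S4155.normal_inf_center (commutator P) hC1
        intro h
        have h1 : v ∈ Subgroup.center P ⊓ commutator P := Subgroup.mem_inf.mpr ⟨hvc, hv⟩
        rw [h, Subgroup.mem_bot] at h1
        exact hv1 h1
      have hNchar : (Subgroup.center P ⊓ commutator P).map (α : P →* P) =
          Subgroup.center P ⊓ commutator P := by
        have hc : (Subgroup.center P ⊓ commutator P).Characteristic := inferInstance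
        exact Subgroup.characteristic_iff_map_eq.mp hc α
      have hcardlt : Nat.card (P ⧸ (Subgroup.center P ⊓ commutator P)) < n := by
        have h1 := Subgroup.card_eq_card_quotient_mul_card_subgroup
          (Subgroup.center P ⊓ commutator P)
        have h2 : 1 < Nat.card ↥(Subgroup.center P ⊓ commutator P) :=
          (Subgroup.one_lt_card_iff_ne_bot _).mpr hN1
        have h3 : 0 < Nat.card (P ⧸ (Subgroup.center P ⊓ commutator P)) := Nat.card_pos
        rw [hn] at h1
        nlinarith
      have hmem := quot_mem P (Subgroup.center P ⊓ commutator P) hNle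
      have hna' : ¬ IsMulCommutative (P ⧸ (Subgroup.center P ⊓ commutator P)) := by
        intro hcm
        apply hcen
        exact (quot_noncomm P _ hcm).trans inf_le_left
      have h4' : (commutator (P ⧸ (Subgroup.center P ⊓ commutator P))).index = 4 := by
        rw [quot_index P _ hNle, h4]
      have hfpf : ∀ u : P ⧸ (Subgroup.center P ⊓ commutator P),
          (QuotientGroup.congr (Subgroup.center P ⊓ commutator P)
            (Subgroup.center P ⊓ commutator P) α hNchar) u * u⁻¹ ∈
              commutator (P ⧸ (Subgroup.center P ⊓ commutator P)) →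
          u ∈ commutator (P ⧸ (Subgroup.center P ⊓ commutator P)) := by
        intro u hu
        obtain ⟨g, rfl⟩ := QuotientGroup.mk'_surjective _ u
        rw [QuotientGroup.congr_mk', ← map_inv, ← map_mul, hmem] at hu
        exact (hmem g).mpr (hα g hu)
      have hC := ih _ hcardlt
        (P ⧸ (Subgroup.center P ⊓ commutator P)) rfl (hP.to_quotient _) hna' h4' ⟨_, hfpf⟩
      exact caseB P (Subgroup.center P ⊓ commutator P) hNle inf_le_left
        (fun z hz1 hz2 => Subgroup.mem_inf.mpr ⟨hz1, hz2⟩) h4 hC

theorem result {P : Type*} [Group P] [Finite P] (hP : IsPGroup 2 P) (hna : ¬ IsMulCommutative P) (h4 : (commutator P).index = 4) (haut : ¬ IsPGroup 2 (MulAut P)) : Nonempty (P ≃* QuaternionGroup 2) := by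
  classical
  -- an automorphism of odd prime order
  obtain ⟨q, hq, hqdvd, hq2⟩ : ∃ q : ℕ, q.Prime ∧ q ∣ Nat.card (MulAut P) ∧ q ≠ 2 := by
    by_contra hcon
    push_neg at hcon
    apply haut
    have h1 := Nat.eq_prime_pow_of_unique_prime_dvd (n := Nat.card (MulAut P)) (p := 2)
      Nat.card_pos.ne' (fun {d} hd hdvd => hcon d hd hdvd)
    exact IsPGroup.of_card h1
  haveI : Fact q.Prime := ⟨hq⟩
  obtain ⟨α, hαo⟩ := exists_prime_orderOf_dvd_card' (G := MulAut P) q hqdvd
  haveI hnil : Group.IsNilpotent P := hP.isNilpotent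
  have hπ1 : ∀ g : P, Abelianization.of g = 1 ↔ g ∈ commutator P := by
    intro g
    rw [← MonoidHom.mem_ker, Abelianization.ker_of]
  have hcardA : Nat.card (Abelianization P) = 4 := by
    rw [← h4, Subgroup.index_eq_card]
    rfl
  have hπs : Function.Surjective (Abelianization.of : P → Abelianization P) :=
    QuotientGroup.mk_surjective
  have hαb : ∀ g : P, (MulEquiv.abelianizationCongr α) (Abelianization.of g) =
      Abelianization.of (α g) := fun g => abelianizationCongr_of α g
  -- fixed-point-freeness on the abelianization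
  have hfix : ∀ u : Abelianization P, (MulEquiv.abelianizationCongr α) u = u → u = 1 := by
    intro u0 hu0
    by_contra hu01
    have hall : ∀ u : Abelianization P,
        (MulEquiv.abelianizationCongr α) ((MulEquiv.abelianizationCongr α) u) = u := by
      by_cases hfixall : ∀ v : Abelianization P, (MulEquiv.abelianizationCongr α) v = v
      · intro u
        rw [hfixall, hfixall]
      · push_neg at hfixall
        obtain ⟨v, hv⟩ := hfixall
        have hv1 : v ≠ 1 := by
          intro h
          apply hv
          rw [h, map_one]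
        have hvu : u0 ≠ v := by
          intro h
          apply hv
          rw [← h]
          exact hu0
        have huv1 : u0 * v ≠ 1 := by
          intro h
          apply hv
          have h1 : v = u0⁻¹ := eq_inv_of_mul_eq_one_right h
          rw [h1, map_inv, hu0]
        have henum := four_enum hcardA u0 v hu01 hv1 hvu huv1
        have hαv : (MulEquiv.abelianizationCongr α) v = u0 * v := by
          rcases henum ((MulEquiv.abelianizationCongr α) v) with h | h | h | h
          · exfalso
            apply hv1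
            have h1 : (MulEquiv.abelianizationCongr α) v = (MulEquiv.abelianizationCongr α) 1 := by
              rw [h, map_one]
            exact (MulEquiv.abelianizationCongr α).injective h1
          · exfalso
            apply hvu
            have h1 : (MulEquiv.abelianizationCongr α) v = (MulEquiv.abelianizationCongr α) u0 := by
              rw [h, hu0]
            exact ((MulEquiv.abelianizationCongr α).injective h1).symm
          · exact absurd h hv
          · exact h
        have hu0sq : u0 * u0 = 1 := by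
          rcases henum (u0 * u0) with h | h | h | h
          · exact h
          · exfalso
            apply hu01
            have h1 : u0 * u0 = u0 * 1 := by rw [h, mul_one]
            exact mul_left_cancel h1
          · exfalso
            apply hv
            rw [← h, map_mul, hu0]
          · exfalso
            apply hv
            have h1 : u0 = v := mul_left_cancel h
            rw [← h1]
            exact hu0
        intro u
        rcases henum u with rfl | rfl | rfl | rfl
        · rw [map_one, map_one]
        · rw [hu0, hu0]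
        · rw [hαv, map_mul, hu0, hαv, ← mul_assoc, hu0sq, one_mul]
        · simp only [map_mul, hu0, hαv]
          rw [← mul_assoc, hu0sq, one_mul]
    -- α * α acts trivially modulo the Frattini subgroup
    have hA0 : α * α ∈ Cfsg.Agent.S4218.A0 P := by
      intro x
      apply Cfsg.Agent.S0586.commutator_le_frattini_of_nilpotent
      rw [← hπ1, map_mul, map_inv, MulAut.mul_apply, ← hαb, ← hαb, hall, mul_inv_cancel]
    obtain ⟨k, hk⟩ := (Cfsg.Agent.S4218.A0_pgroup P 2 hP) ⟨_, hA0⟩
    have hk' : (α * α) ^ 2 ^ k = 1 := by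
      have h1 := congrArg Subtype.val hk
      rwa [Subgroup.coe_pow] at h1
    have hk2 : α ^ 2 ^ (k + 1) = 1 := by
      rw [pow_succ, mul_comm, pow_mul, pow_two]
      exact hk'
    have h1 : q ∣ 2 ^ (k + 1) := by
      rw [← hαo]
      exact orderOf_dvd_of_pow_eq_one hk2
    have h2 := (Nat.prime_dvd_prime_iff_eq hq Nat.prime_two).mp (hq.dvd_of_dvd_pow h1)
    exact hq2 h2
  have hfpf : ∀ x : P, α x * x⁻¹ ∈ commutator P → x ∈ commutator P := by
    intro x hx
    rw [← hπ1] at hx ⊢
    apply hfix
    rw [hαb]
    rw [map_mul, map_inv] at hx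
    exact mul_inv_eq_one.mp hx
  obtain ⟨h8, c, hcC, hc1, hCenum, hsq⟩ := T (Nat.card P) P rfl hP hna h4 ⟨α, hfpf⟩
  apply Cfsg.Agent.Lib.Helper1.Quat.q8_of_unique_involution h8 c
  · intro g hg1 hgg
    by_cases hg : g ∈ commutator P
    · rcases hCenum g hg with h | h
      · exact absurd h hg1
      · exact h
    · exfalso
      apply hc1
      rw [← hsq g hg]
      exact hgg
  · intro hcyc
    exact hna inferInstance

end Cfsg.Agent.S4189
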