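import Cfsg.Statements.S4337

import Mathlib

set_option autoImplicit false
open Cfsg
open scoped Pointwise

namespace Cfsg.Agent.S4337

open scoped commutatorElement

set_option maxRecDepth 100000 in
theorem s4_step1 : ∀ x y : Equiv.Perm (Fin 4), Equiv.Perm.sign x = 1 → Equiv.Perm.sign y = 1 →
    (⁅x, y⁆ * ⁅x, y⁆ = 1 ∧ Equiv.Perm.sign ⁅x, y⁆ = 1) := by
  decide +kernel

set_option maxRecDepth 100000 in
theorem s4_step2 : ∀ x y : Equiv.Perm (Fin 4), (x * x = 1 ∧ Equiv.Perm.sign x = 1) →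
    (y * y = 1 ∧ Equiv.Perm.sign y = 1) → ((x * y) * (x * y) = 1) := by
  decide +kernel

def V4 : Subgroup (Equiv.Perm (Fin 4)) where
  carrier := {x | x * x = 1 ∧ Equiv.Perm.sign x = 1}
  mul_mem' := by
    intro a b ha hb
    exact ⟨s4_step2 a b ha hb, by rw [map_mul, ha.2, hb.2, mul_one]⟩
  one_mem' := ⟨by simp, by simp⟩
  inv_mem' := by
    intro a ha
    have e : a⁻¹ = a := inv_eq_of_mul_eq_one_left ha.1
    change a⁻¹ * a⁻¹ = 1 ∧ Equiv.Perm.sign a⁻¹ = 1
    rw [e]
    exact ha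

theorem s4_derived : derivedSeries (Equiv.Perm (Fin 4)) 3 = ⊥ := by
  have h1 : derivedSeries (Equiv.Perm (Fin 4)) 1 ≤
      (Equiv.Perm.sign : Equiv.Perm (Fin 4) →* ℤˣ).ker := by
    rw [derivedSeries_one]
    exact Abelianization.commutator_subset_ker _
  have h2 : derivedSeries (Equiv.Perm (Fin 4)) 2 ≤ V4 := by
    rw [derivedSeries_succ]
    refine (Subgroup.commutator_mono h1 h1).trans ?_
    rw [Subgroup.commutator_le]
    intro x hx y hy
    exact s4_step1 x y (MonoidHom.mem_ker.mp hx) (MonoidHom.mem_ker.mp hy)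
  rw [derivedSeries_succ, eq_bot_iff]
  refine (Subgroup.commutator_mono h2 h2).trans ?_
  rw [Subgroup.commutator_le]
  intro x hx y hy
  rw [Subgroup.mem_bot]
  have hxy := V4.mul_mem hx hy
  have ex : x⁻¹ = x := inv_eq_of_mul_eq_one_left hx.1
  have ey : y⁻¹ = y := inv_eq_of_mul_eq_one_left hy.1
  rw [commutatorElement_def, ex, ey]
  have h3 : x * y * (x * y) = 1 := hxy.1
  rw [← mul_assoc] at h3
  exact h3

theorem small_derived {Y : Type*} [Finite Y] (hY : Nat.card Y ≤ 4) :
    derivedSeries (Equiv.Perm Y) 3 = ⊥ := by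
  classical
  have key : Nonempty (Y ↪ Fin 4) := by
    have := Fintype.ofFinite Y
    apply Function.Embedding.nonempty_of_card_le
    rw [Fintype.card_fin, ← Nat.card_eq_fintype_card]
    exact hY
  obtain ⟨ι⟩ := key
  have h := map_derivedSeries_le_derivedSeries (Equiv.Perm.viaEmbeddingHom ι) 3
  rw [s4_derived, le_bot_iff,
    Subgroup.map_eq_bot_iff_of_injective _ (Equiv.Perm.viaEmbeddingHom_injective ι)] at h
  exact h

theorem not_trans' {X : Type*} [Finite X] (m : ℕ) (t : Fin m → Equiv.Perm X)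
    (ht : ∀ i, ∃ x y, t i x = y ∧ t i y = x ∧ ∀ z, z ≠ x → z ≠ y → t i z = z)
    (hm : m + 1 < Nat.card X) :
    ∃ u v : X, ∀ σ ∈ Subgroup.closure (Set.range t), σ u ≠ v := by
  classical
  have := Fintype.ofFinite X
  rw [Nat.card_eq_fintype_card] at hm
  choose x y hx hy hz using ht
  let φ : (X → ℚ) →ₗ[ℚ] (Fin m → ℚ) :=
    LinearMap.pi (fun i => (LinearMap.proj (x i) : (X → ℚ) →ₗ[ℚ] ℚ) -
      (LinearMap.proj (y i) : (X → ℚ) →ₗ[ℚ] ℚ))
  have h1 := LinearMap.finrank_range_add_finrank_ker φ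
  have h2 : Module.finrank ℚ (LinearMap.range φ) ≤ m := by
    have := Submodule.finrank_le (LinearMap.range φ)
    rwa [Module.finrank_fin_fun] at this
  rw [Module.finrank_fintype_fun_eq_card] at h1
  have h3 : 2 ≤ Module.finrank ℚ (LinearMap.ker φ) := by omega
  have h4 : ¬ (LinearMap.ker φ ≤ Submodule.span ℚ {(fun _ => (1 : ℚ) : X → ℚ)}) := by
    intro hle
    have h5 := Submodule.finrank_mono hle
    have h6 : Module.finrank ℚ (Submodule.span ℚ {(fun _ => (1 : ℚ) : X → ℚ)}) ≤ 1 := by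
      have := finrank_span_le_card (R := ℚ) ({(fun _ => (1 : ℚ) : X → ℚ)} : Set (X → ℚ))
      simpa using this
    omega
  obtain ⟨f, hfker, hfC⟩ := SetLike.not_le_iff_exists.mp h4
  have hf : ∀ i, f (x i) = f (y i) := by
    intro i
    have h7 : φ f i = 0 := by
      rw [LinearMap.mem_ker.mp hfker]; rfl
    have h8 : f (x i) - f (y i) = 0 := h7
    exact sub_eq_zero.mp h8
  have hnc : ∃ u v : X, f u ≠ f v := by
    by_contra hcon
    push Not at hcon
    apply hfC
    have hne : Nonempty X := by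
      rw [← Fintype.card_pos_iff]; omega
    obtain ⟨u₀⟩ := hne
    rw [Submodule.mem_span_singleton]
    refine ⟨f u₀, ?_⟩
    ext z
    simp [hcon z u₀]
  obtain ⟨u, v, huv⟩ := hnc
  refine ⟨u, v, ?_⟩
  let S : Subgroup (Equiv.Perm X) :=
    { carrier := {σ | ∀ z, f (σ z) = f z}
      mul_mem' := by
        intro a b ha hb z
        rw [Equiv.Perm.mul_apply, ha, hb]
      one_mem' := by
        intro z
        rfl
      inv_mem' := by
        intro a ha z
        have h9 := ha (a⁻¹ z)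
        have e : a (a⁻¹ z) = z := by
          rw [← Equiv.Perm.mul_apply, mul_inv_cancel]; rfl
        rw [e] at h9
        exact h9.symm }
  have hS : Subgroup.closure (Set.range t) ≤ S := by
    rw [Subgroup.closure_le]
    rintro _ ⟨i, rfl⟩
    intro z
    by_cases h1 : z = x i
    · rw [h1, hx i]; exact (hf i).symm
    · by_cases h2 : z = y i
      · rw [h2, hy i]; exact hf i
      · rw [hz i z h1 h2]
  intro σ hσ hσu
  apply huv
  rw [← hσu]
  exact (hS hσ u).symm

theorem swap_restrict {n : ℕ} (G : Subgroup (Equiv.Perm (Fin n))) (z : Fin n)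
    (s : Equiv.Perm (Fin n)) (hs : s.IsSwap) (hsG : s ∈ G) :
    ∃ x y : MulAction.orbit G z,
      MulAction.toPermHom G (MulAction.orbit G z) ⟨s, hsG⟩ x = y ∧
      MulAction.toPermHom G (MulAction.orbit G z) ⟨s, hsG⟩ y = x ∧
      ∀ w, w ≠ x → w ≠ y → MulAction.toPermHom G (MulAction.orbit G z) ⟨s, hsG⟩ w = w := by
  obtain ⟨x, y, hxy, rfl⟩ := hs
  have hact : ∀ w : MulAction.orbit G z,
      ((MulAction.toPermHom G (MulAction.orbit G z) ⟨Equiv.swap x y, hsG⟩ w : MulAction.orbit G z) :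
        Fin n) = Equiv.swap x y (w : Fin n) := fun w => rfl
  by_cases hx : x ∈ MulAction.orbit G z
  · have hy : y ∈ MulAction.orbit G z := by
      have h1 := MulAction.mem_orbit_of_mem_orbit (⟨Equiv.swap x y, hsG⟩ : G) hx
      have e : (⟨Equiv.swap x y, hsG⟩ : G) • x = y := Equiv.swap_apply_left x y
      rw [e] at h1
      exact h1
    refine ⟨⟨x, hx⟩, ⟨y, hy⟩, ?_, ?_, ?_⟩
    · apply Subtype.ext
      rw [hact]
      exact Equiv.swap_apply_left x y
    · apply Subtype.ext
      rw [hact]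
      exact Equiv.swap_apply_right x y
    · intro w hwx hwy
      apply Subtype.ext
      rw [hact]
      exact Equiv.swap_apply_of_ne_of_ne (fun h => hwx (Subtype.ext h)) (fun h => hwy (Subtype.ext h))
  · have hy : y ∉ MulAction.orbit G z := by
      intro hy
      apply hx
      have h1 := MulAction.mem_orbit_of_mem_orbit (⟨Equiv.swap x y, hsG⟩ : G) hy
      have e : (⟨Equiv.swap x y, hsG⟩ : G) • y = x := Equiv.swap_apply_right x y
      rw [e] at h1
      exact h1
    have hfix : ∀ w : MulAction.orbit G z,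
        MulAction.toPermHom G (MulAction.orbit G z) ⟨Equiv.swap x y, hsG⟩ w = w := by
      intro w
      apply Subtype.ext
      rw [hact]
      exact Equiv.swap_apply_of_ne_of_ne (fun h => hx (h ▸ w.2)) (fun h => hy (h ▸ w.2))
    exact ⟨⟨z, MulAction.mem_orbit_self z⟩, ⟨z, MulAction.mem_orbit_self z⟩, hfix _, hfix _,
      fun w _ _ => hfix w⟩

theorem orbit_small (n : ℕ) (a b c : Equiv.Perm (Fin n)) (ha : a.IsSwap) (hb : b.IsSwap)
    (hc : c.IsSwap) (z : Fin n) :
    Nat.card (MulAction.orbit (Subgroup.closure ({a, b, c} : Set (Equiv.Perm (Fin n)))) z) ≤ 4 := by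
  by_contra hcon
  push Not at hcon
  have haG : a ∈ Subgroup.closure ({a, b, c} : Set (Equiv.Perm (Fin n))) :=
    Subgroup.subset_closure (by simp)
  have hbG : b ∈ Subgroup.closure ({a, b, c} : Set (Equiv.Perm (Fin n))) :=
    Subgroup.subset_closure (by simp)
  have hcG : c ∈ Subgroup.closure ({a, b, c} : Set (Equiv.Perm (Fin n))) :=
    Subgroup.subset_closure (by simp)
  obtain ⟨xa, ya, ha1, ha2, ha3⟩ := swap_restrict _ z a ha haG
  obtain ⟨xb, yb, hb1, hb2, hb3⟩ := swap_restrict _ z b hb hbG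
  obtain ⟨xc, yc, hc1, hc2, hc3⟩ := swap_restrict _ z c hc hcG
  obtain ⟨u, v, huv⟩ := not_trans' 3
    ![MulAction.toPermHom (Subgroup.closure ({a, b, c} : Set (Equiv.Perm (Fin n)))) (MulAction.orbit (Subgroup.closure ({a, b, c} : Set (Equiv.Perm (Fin n)))) z) ⟨a, haG⟩,
      MulAction.toPermHom (Subgroup.closure ({a, b, c} : Set (Equiv.Perm (Fin n)))) (MulAction.orbit (Subgroup.closure ({a, b, c} : Set (Equiv.Perm (Fin n)))) z) ⟨b, hbG⟩,
      MulAction.toPermHom (Subgroup.closure ({a, b, c} : Set (Equiv.Perm (Fin n)))) (MulAction.orbit (Subgroup.closure ({a, b, c} : Set (Equiv.Perm (Fin n)))) z) ⟨c, hcG⟩]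
    (by
      intro i
      fin_cases i
      · exact ⟨xa, ya, ha1, ha2, ha3⟩
      · exact ⟨xb, yb, hb1, hb2, hb3⟩
      · exact ⟨xc, yc, hc1, hc2, hc3⟩) (by omega)
  obtain ⟨g, hg⟩ := MulAction.exists_smul_eq (Subgroup.closure ({a, b, c} : Set (Equiv.Perm (Fin n)))) u v
  refine huv (MulAction.toPermHom _ _ g) ?_ hg
  have htop : g ∈ Subgroup.closure
      (((↑) : Subgroup.closure ({a, b, c} : Set (Equiv.Perm (Fin n))) → Equiv.Perm (Fin n)) ⁻¹'
        {a, b, c}) := by
    rw [Subgroup.closure_closure_coe_preimage]; trivial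
  have h1 := Subgroup.mem_map_of_mem (MulAction.toPermHom _
    (MulAction.orbit (Subgroup.closure ({a, b, c} : Set (Equiv.Perm (Fin n)))) z)) htop
  rw [MonoidHom.map_closure] at h1
  refine Subgroup.closure_mono ?_ h1
  rintro _ ⟨s, hs, rfl⟩
  rcases hs with h | h | h
  · refine ⟨0, ?_⟩
    have e : s = ⟨a, haG⟩ := Subtype.ext h
    rw [e]; rfl
  · refine ⟨1, ?_⟩
    have e : s = ⟨b, hbG⟩ := Subtype.ext h
    rw [e]; rfl
  · refine ⟨2, ?_⟩
    have e : s = ⟨c, hcG⟩ := Subtype.ext h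
    rw [e]; rfl

theorem result (n : ℕ) (a b c : Equiv.Perm (Fin n))
    (ha : a.IsSwap) (hb : b.IsSwap) (hc : c.IsSwap) :
    Group.IsSolvable (Subgroup.closure ({a, b, c} : Set (Equiv.Perm (Fin n)))) := by
  rw [Group.isSolvable_def]
  refine ⟨3, ?_⟩
  rw [eq_bot_iff]
  intro g hg
  rw [Subgroup.mem_bot]
  apply Subtype.ext
  apply Equiv.Perm.ext
  intro z
  have hO := orbit_small n a b c ha hb hc z
  have hd := small_derived hO
  have hmap := map_derivedSeries_le_derivedSeries (MulAction.toPermHom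
    (Subgroup.closure ({a, b, c} : Set (Equiv.Perm (Fin n))))
    (MulAction.orbit (Subgroup.closure ({a, b, c} : Set (Equiv.Perm (Fin n)))) z)) 3
  rw [hd] at hmap
  have h1 : MulAction.toPermHom _ (MulAction.orbit (Subgroup.closure ({a, b, c} : Set (Equiv.Perm (Fin n)))) z) g = 1 := by
    have h0 := hmap (Subgroup.mem_map_of_mem _ hg)
    rwa [Subgroup.mem_bot] at h0
  have h2 := congrArg (fun σ : Equiv.Perm (MulAction.orbit (Subgroup.closure ({a, b, c} : Set (Equiv.Perm (Fin n)))) z) =>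
    ((σ ⟨z, MulAction.mem_orbit_self z⟩ : MulAction.orbit (Subgroup.closure ({a, b, c} : Set (Equiv.Perm (Fin n)))) z) : Fin n)) h1
  exact h2

end Cfsg.Agent.S4337
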