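import Cfsg.Statements.S4203

import Mathlib
import Cfsg.Agent.S4337

set_option autoImplicit false
open Cfsg
open scoped Pointwise

namespace Cfsg.Agent.S4203

universe u

theorem coatom_comap {G G' : Type*} [Group G] [Group G'] (f : G →* G')
    (hf : Function.Surjective f) (M : Subgroup G') (hM : IsCoatom M) :
    IsCoatom (M.comap f) := by
  constructor
  · intro h
    apply hM.1
    rw [← Subgroup.map_comap_eq_self_of_surjective hf M, h, Subgroup.map_top_of_surjective f hf]
  · intro K hK
    have hker : f.ker ≤ K := le_trans (MonoidHom.ker_le_comap f M) hK.le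
    have h1 : M ≤ K.map f := by
      rw [← Subgroup.map_comap_eq_self_of_surjective hf M]
      exact Subgroup.map_mono hK.le
    have h2 : M ≠ K.map f := by
      intro h
      apply hK.not_ge
      rw [h]
      exact Subgroup.le_comap_map f K
    have h3 := hM.2 _ (lt_of_le_of_ne h1 h2)
    have h4 : (K.map f).comap f = K := by
      rw [Subgroup.comap_map_eq, sup_eq_left.mpr hker]
    rw [← h4, h3, Subgroup.comap_top]

theorem index_modEq_one {G : Type*} [Group G] [Finite G] {p : ℕ} [Fact p.Prime] (P : Sylow p G)
    (M : Subgroup G) (hM : Subgroup.normalizer ((P : Subgroup G) : Set G) ≤ M) :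
    M.index ≡ 1 [MOD p] := by
  have hPM : (P : Subgroup G) ≤ M := le_trans Subgroup.le_normalizer hM
  have h1 : Nat.card (Sylow p G) ≡ 1 [MOD p] := card_sylow_modEq_one p G
  have h2 : Nat.card (Sylow p M) ≡ 1 [MOD p] := card_sylow_modEq_one p M
  have h1' : Nat.card (Sylow p G) = (Subgroup.normalizer ((P : Subgroup G) : Set G)).index := by
    rw [Sylow.card_eq_index_normalizer P]; rfl
  rw [h1'] at h1
  have h2' : Nat.card (Sylow p M) =
      (Subgroup.normalizer (((P : Subgroup G).subgroupOf M : Subgroup M) : Set M)).index := by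
    rw [Sylow.card_eq_index_normalizer (P.subtype hPM)]; rfl
  rw [h2', ← Subgroup.subgroupOf_normalizer_eq hPM] at h2
  have h3 : (Subgroup.normalizer ((P : Subgroup G) : Set G)).relIndex M * M.index =
      (Subgroup.normalizer ((P : Subgroup G) : Set G)).index := Subgroup.relIndex_mul_index hM
  have h4 : ((Subgroup.normalizer ((P : Subgroup G) : Set G)).subgroupOf M).index =
      (Subgroup.normalizer ((P : Subgroup G) : Set G)).relIndex M := rfl
  rw [h4] at h2
  rw [← h3] at h1
  have h5 := Nat.ModEq.mul_right M.index h2
  rw [one_mul] at h5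
  exact h5.symm.trans h1

theorem index_eq_relIndex_of_sup {G : Type*} [Group G] [Finite G] (M K : Subgroup G) [K.Normal]
    (h : M ⊔ K = ⊤) : M.relIndex K = M.index := by
  have ha : K.index = K.relIndex M := by
    have h1 := Subgroup.relIndex_sup_right M K
    rw [h, Subgroup.relIndex_top_right] at h1
    exact h1
  have hb := Subgroup.card_mul_index K
  have he := Subgroup.card_mul_index M
  have hd : Nat.card (K.subgroupOf M) * (K.subgroupOf M).index = Nat.card M :=
    Subgroup.card_mul_index _
  have hc : Nat.card (M.subgroupOf K) * (M.subgroupOf K).index = Nat.card K :=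
    Subgroup.card_mul_index _
  have hcard1 : Nat.card (K.subgroupOf M) = Nat.card (K ⊓ M : Subgroup G) := by
    rw [← Subgroup.inf_subgroupOf_right K M]
    exact Nat.card_congr (Subgroup.subgroupOfEquivOfLe inf_le_right).toEquiv
  have hcard2 : Nat.card (M.subgroupOf K) = Nat.card (K ⊓ M : Subgroup G) := by
    rw [← Subgroup.inf_subgroupOf_right M K, inf_comm]
    exact Nat.card_congr (Subgroup.subgroupOfEquivOfLe inf_le_left).toEquiv
  have hd' : Nat.card (K ⊓ M : Subgroup G) * K.relIndex M = Nat.card M := by
    rw [← hcard1]; exact hd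
  have hc' : Nat.card (K ⊓ M : Subgroup G) * M.relIndex K = Nat.card K := by
    rw [← hcard2]; exact hc
  have hpos : 0 < Nat.card (K ⊓ M : Subgroup G) := Nat.card_pos
  have hpos2 : 0 < K.relIndex M := by
    rw [← ha]; exact Nat.pos_of_ne_zero Subgroup.index_ne_zero_of_finite
  have key : Nat.card (K ⊓ M : Subgroup G) * K.relIndex M * M.relIndex K =
      Nat.card (K ⊓ M : Subgroup G) * K.relIndex M * M.index := by
    calc Nat.card (K ⊓ M : Subgroup G) * K.relIndex M * M.relIndex K
        = (Nat.card (K ⊓ M : Subgroup G) * M.relIndex K) * K.index := by rw [ha]; ring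
      _ = Nat.card G := by rw [hc', hb]
      _ = Nat.card (K ⊓ M : Subgroup G) * K.relIndex M * M.index := by rw [hd', he]
  exact Nat.eq_of_mul_eq_mul_left (Nat.mul_pos hpos hpos2) key

theorem inner (G : Type u) [Group G] [Finite G]
    (h : ∀ M : Subgroup G, IsCoatom M → ∃ p : ℕ, p.Prime ∧ (M.index = p ∨ M.index = p ^ 2))
    (hq : ∀ N : Subgroup G, N.Normal → N ≠ ⊥ → Group.IsSolvable N → Group.IsSolvable G) :
    ∀ m : ℕ, ∀ (Q : Type u) [Group Q] [Group.IsSolvable Q] (ψ : G →* Q),
      Nat.card ψ.ker = m → Group.IsSolvable G := by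
  intro m
  induction m using Nat.strong_induction_on with
  | _ m ih =>
    intro Q _ _ ψ hm
    by_cases hK : ψ.ker = ⊥
    · exact Group.isSolvable_of_isSolvable_injective ((MonoidHom.ker_eq_bot_iff ψ).mp hK)
    · have hcard : 1 < Nat.card ψ.ker := by
        rw [Subgroup.one_lt_card_iff_ne_bot]; exact hK
      have hne : (Nat.card ψ.ker).primeFactors.Nonempty := by
        rw [Nat.nonempty_primeFactors]; exact hcard
      obtain ⟨p, hp, hmax⟩ := (Nat.card ψ.ker).primeFactors.exists_max_image id hne
      have hpp : p.Prime := Nat.prime_of_mem_primeFactors hp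
      have hpd : p ∣ Nat.card ψ.ker := Nat.dvd_of_mem_primeFactors hp
      have : Fact p.Prime := ⟨hpp⟩
      obtain ⟨P⟩ : Nonempty (Sylow p ψ.ker) := inferInstance
      have hfr : Subgroup.normalizer (((P : Subgroup ψ.ker).map ψ.ker.subtype : Subgroup G) : Set G)
          ⊔ ψ.ker = ⊤ := Sylow.normalizer_sup_eq_top P
      by_cases hn : Subgroup.normalizer
          (((P : Subgroup ψ.ker).map ψ.ker.subtype : Subgroup G) : Set G) = ⊤
      · have hnorm : ((P : Subgroup ψ.ker).map ψ.ker.subtype).Normal :=
          Subgroup.normalizer_eq_top_iff.mp hn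
        apply hq _ hnorm
        · have hPne : (P : Subgroup ψ.ker) ≠ ⊥ := P.ne_bot_of_dvd_card hpd
          intro hbot
          exact hPne ((Subgroup.map_eq_bot_iff_of_injective _ ψ.ker.subtype_injective).mp hbot)
        · have hpg : IsPGroup p ((P : Subgroup ψ.ker).map ψ.ker.subtype) :=
            P.isPGroup'.map ψ.ker.subtype
          have hnil : Group.IsNilpotent ((P : Subgroup ψ.ker).map ψ.ker.subtype) := hpg.isNilpotent
          exact @IsNilpotent.to_isSolvable _ _ hnil
      · obtain ⟨M, hMc, hM⟩ := (eq_top_or_exists_le_coatom _).resolve_left hn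
        have hMK : M ⊔ ψ.ker = ⊤ := by
          rw [eq_top_iff, ← hfr]; exact sup_le_sup_right hM _
        have hidx : M.relIndex ψ.ker = M.index := index_eq_relIndex_of_sup M ψ.ker hMK
        have hmod : (M.subgroupOf ψ.ker).index ≡ 1 [MOD p] := by
          apply index_modEq_one P (M.subgroupOf ψ.ker)
          intro k hk
          rw [Subgroup.mem_subgroupOf]
          apply hM
          exact Subgroup.le_normalizer_map ψ.ker.subtype ⟨k, hk, rfl⟩
        have hmod' : M.index ≡ 1 [MOD p] := by rw [← hidx]; exact hmod
        obtain ⟨q, hqp, hqi⟩ := h M hMc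
        have hdvd : M.index ∣ Nat.card ψ.ker := by
          rw [← hidx]; exact Subgroup.relIndex_dvd_card M ψ.ker
        have hqK : q ∣ Nat.card ψ.ker := by
          rcases hqi with hi | hi
          · rw [← hi]; exact hdvd
          · exact (Dvd.intro_left (q ^ 1) (by rw [hi]; ring)).trans hdvd
        have hqle : q ≤ p :=
          hmax q (Nat.mem_primeFactors.mpr ⟨hqp, hqK, Nat.card_pos.ne'⟩)
        have hq2 := hqp.two_le
        have hp2 := hpp.two_le
        have h4 : M.index = 4 := by
          rcases hqi with hi | hi
          · exfalso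
            rw [hi] at hmod'
            have h6 : p ∣ q - 1 := (Nat.modEq_iff_dvd' hqp.one_lt.le).mp hmod'.symm
            have h7 : p ≤ q - 1 := Nat.le_of_dvd (by omega) h6
            omega
          · rw [hi] at hmod' ⊢
            have hq1 : 1 ≤ q ^ 2 := Nat.one_le_pow _ _ (by omega)
            have h6 : p ∣ q ^ 2 - 1 := (Nat.modEq_iff_dvd' hq1).mp hmod'.symm
            have h7 : q ^ 2 - 1 = (q - 1) * (q + 1) := by
              obtain ⟨r, rfl⟩ : ∃ r, q = r + 1 := ⟨q - 1, by omega⟩
              simp only [Nat.add_sub_cancel]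
              have : (r + 1) ^ 2 = r * (r + 1 + 1) + 1 := by ring
              rw [this]; rfl
            rw [h7] at h6
            rcases (Nat.Prime.dvd_mul hpp).mp h6 with h8 | h8
            · exfalso
              have h9 : p ≤ q - 1 := Nat.le_of_dvd (by omega) h8
              omega
            · have h9 : p ≤ q + 1 := Nat.le_of_dvd (by omega) h8
              have h10 : p = q ∨ p = q + 1 := by omega
              rcases h10 with h10 | h10
              · exfalso
                rw [h10] at h8
                have h11 : q ∣ 1 := (Nat.dvd_add_right (dvd_refl q)).mp h8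
                have := Nat.le_of_dvd (by omega) h11
                omega
              · have hq2' : q = 2 := by
                  rcases hqp.eq_two_or_odd with h12 | h12
                  · exact h12
                  · exfalso
                    have h13 : p % 2 = 0 := by omega
                    rcases hpp.eq_two_or_odd with h14 | h14
                    · omega
                    · omega
                rw [hq2']; norm_num
        have hcard4 : Nat.card (G ⧸ M) = 4 := h4
        have hsolv : Group.IsSolvable (Equiv.Perm (G ⧸ M)) :=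
          ⟨⟨3, Cfsg.Agent.S4337.small_derived (by omega)⟩⟩
        have hker : (ψ.prod (MulAction.toPermHom G (G ⧸ M))).ker =
            ψ.ker ⊓ (MulAction.toPermHom G (G ⧸ M)).ker := MonoidHom.ker_prod _ _
        have hlt : Nat.card (ψ.prod (MulAction.toPermHom G (G ⧸ M))).ker < m := by
          rw [← hm, hker]
          by_contra hcon
          push Not at hcon
          have heq := Subgroup.eq_of_le_of_card_ge
            (inf_le_left : ψ.ker ⊓ (MulAction.toPermHom G (G ⧸ M)).ker ≤ ψ.ker) hcon
          have hKM : ψ.ker ≤ M := by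
            have h5 : ψ.ker ≤ (MulAction.toPermHom G (G ⧸ M)).ker := inf_eq_left.mp heq
            rw [← Subgroup.normalCore_eq_ker] at h5
            exact h5.trans (Subgroup.normalCore_le M)
          apply hMc.1
          rw [eq_top_iff, ← hMK]; exact sup_le le_rfl hKM
        exact ih _ hlt (Q × Equiv.Perm (G ⧸ M)) (ψ.prod (MulAction.toPermHom G (G ⧸ M))) rfl

theorem aux (n : ℕ) : ∀ (G : Type u) [Group G] [Finite G], Nat.card G = n →
    (∀ M : Subgroup G, IsCoatom M → ∃ p : ℕ, p.Prime ∧ (M.index = p ∨ M.index = p ^ 2)) →
    Group.IsSolvable G := by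
  induction n using Nat.strong_induction_on with
  | _ n ih =>
    intro G _ _ hn h
    apply inner G h ?_ (Nat.card (1 : G →* PUnit.{u + 1}).ker) PUnit.{u + 1} 1 rfl
    intro N hN hNne hNsol
    have hlt : Nat.card (G ⧸ N) < n := by
      rw [← hn, ← Subgroup.index_eq_card]
      have h1 := Subgroup.card_mul_index N
      have h2 : 0 < N.index := Nat.pos_of_ne_zero Subgroup.index_ne_zero_of_finite
      have h3 : 1 < Nat.card N := by
        rw [Subgroup.one_lt_card_iff_ne_bot]; exact hNne
      nlinarith
    have hq : Group.IsSolvable (G ⧸ N) := by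
      apply ih _ hlt (G ⧸ N) rfl
      intro M' hM'
      have hc := coatom_comap (QuotientGroup.mk' N) (QuotientGroup.mk'_surjective _) M' hM'
      have h5 := h _ hc
      rwa [Subgroup.index_comap_of_surjective _ (QuotientGroup.mk'_surjective _)] at h5
    exact Group.isSolvable_of_ker_le_range N.subtype (QuotientGroup.mk' N) (by simp)

theorem result {G : Type*} [Group G] [Finite G] (h : ∀ M : Subgroup G, IsCoatom M → ∃ p : ℕ, p.Prime ∧ (M.index = p ∨ M.index = p ^ 2)) : Group.IsSolvable G := by
  exact aux _ G rfl h

end Cfsg.Agent.S4203
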