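import Cfsg.Statements.S4211

import Mathlib
import Cfsg.Agent.S4584
import Cfsg.Agent.S4126
import Cfsg.Agent.S4403
import Cfsg.Agent.Lib.Helper1.Quat

set_option autoImplicit false
open Cfsg
open scoped Pointwise

namespace Cfsg.Agent.S4211

universe u
open scoped commutatorElement
open Cfsg.Agent.Lib.Helper1.Quat

section ded
variable {G : Type u} [Group G]

theorem ded_comm_central (hn : ∀ H : Subgroup G, H.Normal) (x y z : G) : Commute ⁅x, y⁆ z := by
  have key : ∀ a b : G, (a * b) * z * (a * b)⁻¹ = (b * a) * z * (b * a)⁻¹ := by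
    intro a b
    obtain ⟨k, hk⟩ := Subgroup.mem_zpowers_iff.mp
      ((hn (Subgroup.zpowers z)).conj_mem z (Subgroup.mem_zpowers z) a)
    obtain ⟨l, hl⟩ := Subgroup.mem_zpowers_iff.mp
      ((hn (Subgroup.zpowers z)).conj_mem z (Subgroup.mem_zpowers z) b)
    calc (a * b) * z * (a * b)⁻¹ = a * (b * z * b⁻¹) * a⁻¹ := by group
      _ = a * z ^ l * a⁻¹ := by rw [hl]
      _ = (a * z * a⁻¹) ^ l := by rw [conj_zpow]
      _ = (z ^ k) ^ l := by rw [hk]
      _ = (z ^ l) ^ k := by rw [← zpow_mul, ← zpow_mul, mul_comm]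
      _ = (b * z * b⁻¹) ^ k := by rw [hl]
      _ = b * z ^ k * b⁻¹ := by rw [conj_zpow]
      _ = b * (a * z * a⁻¹) * b⁻¹ := by rw [hk]
      _ = (b * a) * z * (b * a)⁻¹ := by group
  have h := key x⁻¹ y⁻¹
  show ⁅x, y⁆ * z = z * ⁅x, y⁆
  have e : ⁅x, y⁆ * z
      = (y⁻¹ * x⁻¹)⁻¹ * ((x⁻¹ * y⁻¹) * z * (x⁻¹ * y⁻¹)⁻¹) * (x⁻¹ * y⁻¹) := by
    rw [commutatorElement_def]; group
  rw [e, h, commutatorElement_def]; group

theorem ded_comm_left (hn : ∀ H : Subgroup G, H.Normal) (x y : G) :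
    ⁅x, y⁆ ∈ Subgroup.zpowers x := by
  have h := (hn (Subgroup.zpowers x)).conj_mem x (Subgroup.mem_zpowers x) y
  have e : ⁅x, y⁆ = x * (y * x * y⁻¹)⁻¹ := by rw [commutatorElement_def]; group
  rw [e]
  exact mul_mem (Subgroup.mem_zpowers x) (inv_mem h)

theorem ded_comm_right (hn : ∀ H : Subgroup G, H.Normal) (x y : G) :
    ⁅x, y⁆ ∈ Subgroup.zpowers y := by
  have h := (hn (Subgroup.zpowers y)).conj_mem y (Subgroup.mem_zpowers y) x
  have e : ⁅x, y⁆ = (x * y * x⁻¹) * y⁻¹ := by rw [commutatorElement_def]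
  rw [e]
  exact mul_mem h (inv_mem (Subgroup.mem_zpowers y))

theorem two_mul_choose_two (n : ℕ) : 2 * n.choose 2 = n * (n - 1) := by
  rw [Nat.choose_two_right, Nat.mul_div_cancel' (Nat.even_mul_pred_self n).two_dvd]

theorem zp4 [Finite G] (z u : G) (hz : z ^ 4 = 1) (hu : u ∈ Subgroup.zpowers z) :
    u = 1 ∨ u = z ∨ u = z ^ 2 ∨ u = z ^ 3 := by
  rw [← mem_powers_iff_mem_zpowers] at hu
  obtain ⟨j, rfl⟩ := (Submonoid.mem_powers_iff _ _).mp hu
  rw [pow_eq_pow_mod j hz]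
  have hj : j % 4 < 4 := Nat.mod_lt _ (by norm_num)
  obtain ⟨r, hr⟩ : ∃ r, r = j % 4 := ⟨_, rfl⟩
  rw [← hr] at hj ⊢
  interval_cases r
  · left; exact pow_zero z
  · right; left; exact pow_one z
  · right; right; left; rfl
  · right; right; right; rfl

theorem minimal_pair [Finite G] (hn : ∀ H : Subgroup G, H.Normal) (x y : G) (hxy : x * y ≠ y * x)
    (hmin : ∀ x' y' : G, x' * y' ≠ y' * x' → orderOf x + orderOf y ≤ orderOf x' + orderOf y')
    (hle : orderOf y ≤ orderOf x) :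
    orderOf x = 4 ∧ orderOf y = 4 ∧ ⁅x, y⁆ = x ^ 2 ∧ ⁅x, y⁆ = y ^ 2 := by
  classical
  obtain ⟨c, hc⟩ : ∃ c, c = ⁅x, y⁆ := ⟨_, rfl⟩
  rw [← hc]
  have hcz : ∀ z, Commute c z := fun z => by rw [hc]; exact ded_comm_central hn x y z
  have hc1 : c ≠ 1 := by
    intro h
    apply hxy
    rw [hc, commutatorElement_eq_one_iff_commute] at h
    exact h.eq
  have hcx : c ∈ Subgroup.zpowers x := by rw [hc]; exact ded_comm_left hn x y
  have hcy : c ∈ Subgroup.zpowers y := by rw [hc]; exact ded_comm_right hn x y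
  have hox : 0 < orderOf x := orderOf_pos x
  have hoy : 0 < orderOf y := orderOf_pos y
  have h1x : ∀ q : ℕ, q.Prime → q ∣ orderOf x → c ^ q = 1 := by
    intro q hq hqx
    have hlt : orderOf (x ^ q) < orderOf x := by
      rw [orderOf_pow' x hq.ne_zero, Nat.gcd_eq_right hqx]
      exact Nat.div_lt_self hox hq.one_lt
    have hcomm : x ^ q * y = y * x ^ q := by
      by_contra hne
      have := hmin (x ^ q) y hne
      omega
    have h2 : ⁅x ^ q, y⁆ = ⁅x, y⁆ ^ q :=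
      Cfsg.Agent.S4584.comm_pow x y (ded_comm_central hn x y x) q
    rw [hc, ← h2, commutatorElement_eq_one_iff_commute]
    exact hcomm
  have h1y : ∀ q : ℕ, q.Prime → q ∣ orderOf y → c ^ q = 1 := by
    intro q hq hqy
    have hlt : orderOf (y ^ q) < orderOf y := by
      rw [orderOf_pow' y hq.ne_zero, Nat.gcd_eq_right hqy]
      exact Nat.div_lt_self hoy hq.one_lt
    have hcomm : x * y ^ q = y ^ q * x := by
      by_contra hne
      have := hmin x (y ^ q) hne
      omega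
    have h2 : ⁅y ^ q, x⁆ = ⁅y, x⁆ ^ q :=
      Cfsg.Agent.S4584.comm_pow y x (ded_comm_central hn y x y) q
    have h3 : ⁅y, x⁆ = c⁻¹ := by rw [hc, commutatorElement_inv]
    have h4 : ⁅y ^ q, x⁆ = 1 := by
      rw [commutatorElement_eq_one_iff_commute]; exact hcomm.symm
    rw [h4, h3, inv_pow] at h2
    exact inv_eq_one.mp h2.symm
  have hx1 : orderOf x ≠ 1 := by
    intro h; rw [orderOf_eq_one_iff] at h; apply hxy; rw [h, one_mul, mul_one]
  have hy1 : orderOf y ≠ 1 := by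
    intro h; rw [orderOf_eq_one_iff] at h; apply hxy; rw [h, one_mul, mul_one]
  obtain ⟨p, hp, hpx⟩ := Nat.exists_prime_and_dvd hx1
  have hcp : orderOf c = p := by
    have h := orderOf_dvd_of_pow_eq_one (h1x p hp hpx)
    rcases (Nat.dvd_prime hp).mp h with h | h
    · exact absurd (orderOf_eq_one_iff.mp h) hc1
    · exact h
  have hprx : ∀ q : ℕ, q.Prime → q ∣ orderOf x → q = p := by
    intro q hq hqx
    have h := orderOf_dvd_of_pow_eq_one (h1x q hq hqx)
    rw [hcp] at h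
    exact ((Nat.prime_dvd_prime_iff_eq hp hq).mp h).symm
  have hpry : ∀ q : ℕ, q.Prime → q ∣ orderOf y → q = p := by
    intro q hq hqy
    have h := orderOf_dvd_of_pow_eq_one (h1y q hq hqy)
    rw [hcp] at h
    exact ((Nat.prime_dvd_prime_iff_eq hp hq).mp h).symm
  obtain ⟨a, ha⟩ : ∃ a, orderOf x = p ^ a :=
    ⟨_, Nat.eq_prime_pow_of_unique_prime_dvd hox.ne' (fun hd hdx => hprx _ hd hdx)⟩
  obtain ⟨b, hb⟩ : ∃ b, orderOf y = p ^ b :=
    ⟨_, Nat.eq_prime_pow_of_unique_prime_dvd hoy.ne' (fun hd hdy => hpry _ hd hdy)⟩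
  have hb1 : 1 ≤ b := by
    by_contra h
    have h0 : b = 0 := by omega
    rw [h0, pow_zero] at hb; exact hy1 hb
  have hba : b ≤ a := by
    rw [ha, hb] at hle
    exact (Nat.pow_le_pow_iff_right hp.one_lt).mp hle
  haveI : Fact p.Prime := ⟨hp⟩
  obtain ⟨m, hm⟩ : ∃ m, m = p ^ (b - 1) := ⟨_, rfl⟩
  have hmp : m * p = p ^ b := by rw [hm, ← pow_succ]; congr 1; omega
  have hm0 : 0 < m := by rw [hm]; exact pow_pos hp.pos _
  have hmlt : m < orderOf y := by
    rw [hb, ← hmp]; exact lt_mul_of_one_lt_right hm0 hp.one_lt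
  have hym_ord : orderOf (y ^ m) = p := by
    apply orderOf_eq_prime
    · rw [← pow_mul, hmp, ← hb]; exact pow_orderOf_eq_one y
    · exact pow_ne_one_of_lt_orderOf hm0.ne' hmlt
  have hym_c : y ^ m ∈ Subgroup.zpowers c :=
    Cfsg.Agent.S4403.cyc_unique p (Subgroup.zpowers y) (Subgroup.isCyclic_zpowers y) c (y ^ m) hcy
      (Subgroup.pow_mem _ (Subgroup.mem_zpowers y) m) hcp hym_ord
  have hym_x : y ^ m ∈ Subgroup.zpowers x := (Subgroup.zpowers_le.mpr hcx) hym_c
  rw [← mem_powers_iff_mem_zpowers] at hym_x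
  obtain ⟨k, hk⟩ := (Submonoid.mem_powers_iff _ _).mp hym_x
  have hk_dvd : p ^ a ∣ k * p := by
    rw [← ha]
    apply orderOf_dvd_of_pow_eq_one
    rw [pow_mul, hk, ← pow_mul, hmp, ← hb]; exact pow_orderOf_eq_one y
  have hmk : m ∣ k := by
    have h1 : m * p ∣ k * p := by
      rw [hmp]; exact (pow_dvd_pow p hba).trans hk_dvd
    exact Nat.dvd_of_mul_dvd_mul_right hp.pos h1
  obtain ⟨k₁, hk₁⟩ := hmk
  obtain ⟨w, hw⟩ : ∃ w, w = x ^ k₁ := ⟨_, rfl⟩
  have hwm : w ^ m = y ^ m := by rw [hw, ← pow_mul, mul_comm, ← hk₁, hk]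
  have hwx : Commute w x := by rw [hw]; exact (Commute.refl x).pow_left k₁
  have hbase : x * y = c * y * x := by rw [hc, commutatorElement_def]; group
  obtain ⟨d, hd⟩ : ∃ d, d = c ^ k₁ := ⟨_, rfl⟩
  have hrel : w * y = d * y * w := by
    rw [hw, hd]; exact Cfsg.Agent.S4126.pow_mul_c2 y x c hbase (hcz x) k₁
  have hdz : ∀ z, Commute d z := fun z => by rw [hd]; exact (hcz z).pow_left k₁
  have hyw : y * w⁻¹ = d * w⁻¹ * y := by
    calc y * w⁻¹ = w⁻¹ * (w * y) * w⁻¹ := by group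
      _ = w⁻¹ * (d * y * w) * w⁻¹ := by rw [hrel]
      _ = w⁻¹ * d * y := by group
      _ = d * w⁻¹ * y := by rw [(hdz w⁻¹).eq]
  have hy₂ : (w⁻¹ * y) ^ m = d ^ (m.choose 2) := by
    rw [Cfsg.Agent.S4126.mul_pow_c2 w⁻¹ y d hyw (hdz _) (hdz _) m, inv_pow, hwm]; group
  have hne₂ : x * (w⁻¹ * y) ≠ (w⁻¹ * y) * x := by
    intro h
    apply hxy
    have h2 : w⁻¹ * (x * y) = w⁻¹ * (y * x) := by
      calc w⁻¹ * (x * y) = (w⁻¹ * x) * y := by group
        _ = (x * w⁻¹) * y := by rw [(hwx.inv_left).eq]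
        _ = x * (w⁻¹ * y) := by group
        _ = (w⁻¹ * y) * x := h
        _ = w⁻¹ * (y * x) := by group
    exact mul_left_cancel h2
  have hmin₂ := hmin x (w⁻¹ * y) hne₂
  have hord₂ : orderOf y ≤ orderOf (w⁻¹ * y) := by omega
  have hndvd : ¬ p ∣ k₁ * m.choose 2 := by
    intro hdvd
    have h1 : (w⁻¹ * y) ^ m = 1 := by
      rw [hy₂, hd, ← pow_mul]
      obtain ⟨t, ht⟩ := hdvd
      rw [ht, pow_mul, ← hcp, pow_orderOf_eq_one, one_pow]
    have h2 := Nat.le_of_dvd hm0 (orderOf_dvd_of_pow_eq_one h1)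
    omega
  have hk₁p : ¬ p ∣ k₁ := fun h => hndvd (Dvd.dvd.mul_right h _)
  have hchp : ¬ p ∣ m.choose 2 := fun h => hndvd (Dvd.dvd.mul_left h _)
  have hab : a = b := by
    have h1 : p ^ a ∣ p ^ b * k₁ := by
      have : k * p = p ^ b * k₁ := by rw [hk₁, ← hmp]; ring
      rw [← this]; exact hk_dvd
    have hcop : Nat.Coprime (p ^ a) k₁ :=
      Nat.Coprime.pow_left a ((Nat.Prime.coprime_iff_not_dvd hp).mpr hk₁p)
    have h2 : p ^ a ∣ p ^ b := hcop.dvd_of_dvd_mul_right h1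
    have := (Nat.pow_dvd_pow_iff_le_right hp.one_lt).mp h2
    omega
  have hb2 : 2 ≤ b := by
    by_contra h
    have hb1' : b = 1 := by omega
    apply hchp
    rw [hm, hb1']; simp
  have hpm : p ∣ m := by
    rw [hm]; exact dvd_pow_self p (by omega)
  have hp2 : p = 2 := by
    by_contra hne
    apply hchp
    have h1 : p ∣ 2 * m.choose 2 := by
      rw [two_mul_choose_two]; exact Dvd.dvd.mul_right hpm _
    rcases (Nat.Prime.dvd_mul hp).mp h1 with h | h
    · exact absurd ((Nat.prime_dvd_prime_iff_eq hp Nat.prime_two).mp h) hne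
    · exact h
  have hb2' : b = 2 := by
    by_contra hne
    have hb3 : 3 ≤ b := by omega
    apply hchp
    rw [hp2]
    obtain ⟨t, ht⟩ : ∃ t, m = 4 * t := by
      refine ⟨2 ^ (b - 3), ?_⟩
      rw [hm, hp2]
      have : b - 1 = 2 + (b - 3) := by omega
      rw [this, pow_add]; norm_num
    have h2 := two_mul_choose_two m
    rw [ht] at h2 ⊢
    have h3 : (4 * t).choose 2 = 2 * (t * (4 * t - 1)) := by
      have : 2 * (4 * t).choose 2 = 2 * (2 * (t * (4 * t - 1))) := by rw [h2]; ring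
      exact Nat.eq_of_mul_eq_mul_left (by norm_num) this
    rw [h3]; exact dvd_mul_right 2 _
  have hx4 : orderOf x = 4 := by rw [ha, hab, hb2', hp2]; norm_num
  have hy4 : orderOf y = 4 := by rw [hb, hb2', hp2]; norm_num
  have hcp2 : orderOf c = 2 := by rw [hcp, hp2]
  have hc_pow : ∀ (z : G), orderOf z = 4 → c ∈ Subgroup.zpowers z → c = z ^ 2 := by
    intro z hz hcz'
    have hz2 : z ^ 2 ≠ 1 := pow_ne_one_of_lt_orderOf (by norm_num) (by rw [hz]; norm_num)
    have hz4 : z ^ 4 = 1 := by rw [← hz]; exact pow_orderOf_eq_one z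
    have hcc : c ^ 2 = 1 := by rw [← hcp2]; exact pow_orderOf_eq_one c
    rcases zp4 z c hz4 hcz' with h | h | h | h
    · exact absurd h hc1
    · exfalso; rw [h] at hcc; exact hz2 hcc
    · exact h
    · exfalso
      apply hz2
      rw [h] at hcc
      calc z ^ 2 = z ^ 4 * z ^ 2 := by rw [hz4, one_mul]
        _ = (z ^ 3) ^ 2 := by rw [← pow_mul, ← pow_add]
        _ = 1 := hcc
  exact ⟨hx4, hy4, hc_pow x hx4 hcx, hc_pow y hy4 hcy⟩

theorem exists_q8_pair [Finite G] (hn : ∀ H : Subgroup G, H.Normal)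
    (hna : ∃ a b : G, a * b ≠ b * a) :
    ∃ x y : G, orderOf x = 4 ∧ orderOf y = 4 ∧ ⁅x, y⁆ = x ^ 2 ∧ ⁅x, y⁆ = y ^ 2 := by
  classical
  have hex : ∃ n, ∃ x y : G, x * y ≠ y * x ∧ orderOf x + orderOf y = n := by
    obtain ⟨a, b, hab⟩ := hna; exact ⟨_, a, b, hab, rfl⟩
  obtain ⟨x, y, hxy, hsum⟩ := Nat.find_spec hex
  have hmin : ∀ x' y' : G, x' * y' ≠ y' * x' →
      orderOf x + orderOf y ≤ orderOf x' + orderOf y' := by
    intro x' y' h'
    rw [hsum]
    exact Nat.find_min' hex ⟨x', y', h', rfl⟩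
  rcases le_total (orderOf y) (orderOf x) with hle | hle
  · exact ⟨x, y, minimal_pair hn x y hxy hmin hle⟩
  · have hmin' : ∀ x' y' : G, x' * y' ≠ y' * x' →
        orderOf y + orderOf x ≤ orderOf x' + orderOf y' := by
      intro x' y' h'; have := hmin x' y' h'; omega
    obtain ⟨h1, h2, h3, h4⟩ := minimal_pair hn y x (Ne.symm hxy) hmin' hle
    have hx4 : x ^ 4 = 1 := by rw [← h2]; exact pow_orderOf_eq_one x
    have hy4 : y ^ 4 = 1 := by rw [← h1]; exact pow_orderOf_eq_one y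
    refine ⟨x, y, h2, h1, ?_, ?_⟩
    · rw [← commutatorElement_inv, h4]
      exact inv_eq_of_mul_eq_one_left (by rw [← pow_add]; exact hx4)
    · rw [← commutatorElement_inv, h3]
      exact inv_eq_of_mul_eq_one_left (by rw [← pow_add]; exact hy4)

theorem quatHom_inj (x y : G) (hx4 : orderOf x = 4) (h : x ^ (2 * 2) = 1) (hb : y * y = x ^ 2)
    (hc : y * x * y⁻¹ = x⁻¹) (hnot : y ∉ Subgroup.zpowers x) :
    Function.Injective (quatHom 2 x y h hb hc) := by
  haveI : NeZero (2 * 2) := ⟨by norm_num⟩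
  rw [injective_iff_map_eq_one]
  rintro (i | i) hi
  · rw [quatHom_a] at hi
    have h1 : qp (2 * 2) x h i = x ^ i.val := by
      rw [← qp_natCast (2 * 2) x h, ZMod.natCast_zmod_val]
    rw [h1] at hi
    have h2 := orderOf_dvd_of_pow_eq_one hi
    rw [hx4] at h2
    have h3 : i.val < 2 * 2 := ZMod.val_lt i
    have h4 : i.val = 0 := Nat.eq_zero_of_dvd_of_lt h2 (by omega)
    rw [ZMod.val_eq_zero] at h4
    rw [h4, QuaternionGroup.a_zero]
  · exfalso
    rw [quatHom_xa] at hi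
    apply hnot
    obtain ⟨k, hk⟩ := qp_eq_zpow (2 * 2) x h i
    rw [hk] at hi
    have h5 : y = (x ^ k)⁻¹ := eq_inv_of_mul_eq_one_left hi
    rw [h5]
    exact Subgroup.inv_mem _ (Subgroup.zpow_mem _ (Subgroup.mem_zpowers x) k)

end ded

theorem result {G : Type*} [Group G] [Finite G] (hna : ¬ IsMulCommutative G) (hn : ∀ H : Subgroup G, H.Normal) : ∃ Q E A : Subgroup G, Nonempty (Q ≃* QuaternionGroup 2) ∧ Cfsg.IsElementaryAbelian 2 E ∧ IsMulCommutative A ∧ Odd (Nat.card A) ∧ E ⊓ A = ⊥ ∧ Q ⊓ (E ⊔ A) = ⊥ ∧ Q ⊔ (E ⊔ A) = ⊤ := by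
  classical
  have hna' : ∃ a b : G, a * b ≠ b * a := by
    by_contra hcon
    push_neg at hcon
    exact hna ⟨⟨hcon⟩⟩
  obtain ⟨x, y, hx4, hy4, hcx2, hcy2⟩ := exists_q8_pair hn hna'
  obtain ⟨c, hc⟩ : ∃ c, c = ⁅x, y⁆ := ⟨_, rfl⟩
  rw [← hc] at hcx2 hcy2
  have hcz : ∀ z, Commute c z := fun z => by rw [hc]; exact ded_comm_central hn x y z
  have hx4' : x ^ 4 = 1 := by rw [← hx4]; exact pow_orderOf_eq_one x
  have hy4' : y ^ 4 = 1 := by rw [← hy4]; exact pow_orderOf_eq_one y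
  have hx2 : x ^ 2 ≠ 1 := pow_ne_one_of_lt_orderOf (by norm_num) (by rw [hx4]; norm_num)
  have hc1 : c ≠ 1 := by rw [hcx2]; exact hx2
  have hcc : c * c = 1 := by rw [hcx2, ← pow_add]; exact hx4'
  have hxy : x * y ≠ y * x := by
    intro h
    apply hc1
    rw [hc, commutatorElement_eq_one_iff_commute]; exact h
  have hyx : y * x * y⁻¹ = x⁻¹ := by
    have e1 : y * x⁻¹ * y⁻¹ = x := by
      have : x * (y * x⁻¹ * y⁻¹) = x * x := by
        rw [← pow_two, ← hcx2, hc, commutatorElement_def]; group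
      exact mul_left_cancel this
    calc y * x * y⁻¹ = (y * x⁻¹ * y⁻¹)⁻¹ := by group
      _ = x⁻¹ := by rw [e1]
  have hy3 : y ^ 3 = y⁻¹ := by
    apply eq_inv_of_mul_eq_one_left
    calc y ^ 3 * y = y ^ 4 := by group
      _ = 1 := hy4'
  have hx3 : x ^ 3 = x⁻¹ := by
    apply eq_inv_of_mul_eq_one_left
    calc x ^ 3 * x = x ^ 4 := by group
      _ = 1 := hx4'
  have hxyx : x * y * x⁻¹ = y⁻¹ := by
    have e1 : x * y * x⁻¹ = y ^ 2 * y := by
      rw [← hcy2, hc, commutatorElement_def]; group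
    rw [e1, ← hy3]; group
  have hb : y * y = x ^ 2 := by rw [← pow_two, ← hcy2, hcx2]
  have h4 : x ^ (2 * 2) = 1 := hx4'
  have hnot : y ∉ Subgroup.zpowers x := by
    intro hmem
    obtain ⟨k, hk⟩ := Subgroup.mem_zpowers_iff.mp hmem
    apply hxy
    rw [← hk]
    exact ((Commute.refl x).zpow_right k).eq
  have hinj := quatHom_inj x y hx4 h4 hb hyx hnot
  obtain ⟨φ, hφ⟩ : ∃ φ : QuaternionGroup 2 →* G, φ = quatHom 2 x y h4 hb hyx := ⟨_, rfl⟩
  have hxQ : x ∈ φ.range := by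
    refine ⟨QuaternionGroup.a 1, ?_⟩
    rw [hφ, quatHom_a]
    have := qp_natCast (2 * 2) x h4 1
    rw [Nat.cast_one, pow_one] at this
    exact this
  have hyQ : y ∈ φ.range := by
    refine ⟨QuaternionGroup.xa 0, ?_⟩
    rw [hφ, quatHom_xa]
    have := qp_natCast (2 * 2) x h4 0
    rw [Nat.cast_zero, pow_zero] at this
    rw [this, mul_one]
  have hQel : ∀ q ∈ φ.range, (∃ k : ℤ, q = x ^ k) ∨ (∃ k : ℤ, q = y * x ^ k) := by
    rintro q ⟨(i | i), rfl⟩
    · left
      obtain ⟨k, hk⟩ := qp_eq_zpow (2 * 2) x h4 i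
      exact ⟨k, by rw [hφ, quatHom_a, hk]⟩
    · right
      obtain ⟨k, hk⟩ := qp_eq_zpow (2 * 2) x h4 i
      exact ⟨k, by rw [hφ, quatHom_xa, hk]⟩
  obtain ⟨C, hCdef⟩ : ∃ C : Subgroup G, C = Subgroup.centralizer ({x, y} : Set G) := ⟨_, rfl⟩
  have hCmem : ∀ u, u ∈ C ↔ (x * u = u * x ∧ y * u = u * y) := by
    intro u
    rw [hCdef, Subgroup.mem_centralizer_iff]
    constructor
    · intro h; exact ⟨h x (by simp), h y (by simp)⟩
    · rintro ⟨h1, h2⟩ z hz
      rcases hz with hz | hz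
      · rw [hz]; exact h1
      · rw [Set.mem_singleton_iff] at hz; rw [hz]; exact h2
  have hconj : ∀ (z : G), orderOf z = 4 → ∀ g : G, g * z * g⁻¹ = z ∨ g * z * g⁻¹ = z⁻¹ := by
    intro z hz g
    have hz4 : z ^ 4 = 1 := by rw [← hz]; exact pow_orderOf_eq_one z
    have hz2 : z ^ 2 ≠ 1 := pow_ne_one_of_lt_orderOf (by norm_num) (by rw [hz]; norm_num)
    have hmem := (hn (Subgroup.zpowers z)).conj_mem z (Subgroup.mem_zpowers z) g
    rcases zp4 z _ hz4 hmem with h | h | h | h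
    · exfalso
      rw [conj_eq_one_iff] at h
      apply hz2; rw [h, one_pow]
    · left; exact h
    · exfalso
      apply hz2
      have h2 : (g * z * g⁻¹) ^ 2 = 1 := by rw [h, ← pow_mul]; exact hz4
      rw [conj_pow] at h2
      exact conj_eq_one_iff.mp h2
    · right
      rw [h]
      apply eq_inv_of_mul_eq_one_left
      calc z ^ 3 * z = z ^ 4 := by group
        _ = 1 := hz4
  have hQC : ∀ g : G, ∃ q ∈ φ.range, q⁻¹ * g ∈ C := by
    intro g
    rcases hconj x hx4 g with hgx | hgx <;> rcases hconj y hy4 g with hgy | hgy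
    · refine ⟨1, one_mem _, ?_⟩
      rw [hCmem]
      constructor
      · calc x * (1⁻¹ * g) = (g * x * g⁻¹) * g := by rw [hgx]; group
          _ = 1⁻¹ * g * x := by group
      · calc y * (1⁻¹ * g) = (g * y * g⁻¹) * g := by rw [hgy]; group
          _ = 1⁻¹ * g * y := by group
    · refine ⟨x, hxQ, ?_⟩
      rw [hCmem]
      constructor
      · calc x * (x⁻¹ * g) = x⁻¹ * (g * x * g⁻¹) * g := by rw [hgx]; group
          _ = x⁻¹ * g * x := by group
      · calc y * (x⁻¹ * g) = x⁻¹ * (x * y * x⁻¹) * g := by group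
          _ = x⁻¹ * y⁻¹ * g := by rw [hxyx]
          _ = x⁻¹ * (g * y * g⁻¹) * g := by rw [hgy]
          _ = x⁻¹ * g * y := by group
    · refine ⟨y, hyQ, ?_⟩
      rw [hCmem]
      constructor
      · calc x * (y⁻¹ * g) = y⁻¹ * (y * x * y⁻¹) * g := by group
          _ = y⁻¹ * x⁻¹ * g := by rw [hyx]
          _ = y⁻¹ * (g * x * g⁻¹) * g := by rw [hgx]
          _ = y⁻¹ * g * x := by group
      · calc y * (y⁻¹ * g) = y⁻¹ * (g * y * g⁻¹) * g := by rw [hgy]; group
          _ = y⁻¹ * g * y := by group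
    · refine ⟨x * y, mul_mem hxQ hyQ, ?_⟩
      rw [hCmem]
      constructor
      · calc x * ((x * y)⁻¹ * g) = y⁻¹ * (y * x * y⁻¹) * x⁻¹ * g := by group
          _ = y⁻¹ * x⁻¹ * x⁻¹ * g := by rw [hyx]
          _ = (x * y)⁻¹ * (g * x * g⁻¹) * g := by rw [hgx]; group
          _ = (x * y)⁻¹ * g * x := by group
      · calc y * ((x * y)⁻¹ * g) = y⁻¹ * x⁻¹ * (x * y * x⁻¹) * g := by group
          _ = y⁻¹ * x⁻¹ * y⁻¹ * g := by rw [hxyx]
          _ = (x * y)⁻¹ * (g * y * g⁻¹) * g := by rw [hgy]; group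
          _ = (x * y)⁻¹ * g * y := by group
  have hno4 : ∀ z ∈ C, z ^ 4 = 1 → z ^ 2 = 1 := by
    intro z hzC hz4
    obtain ⟨hzx, hzy⟩ := (hCmem z).mp hzC
    obtain ⟨t, ht⟩ : ∃ t, t = z * y := ⟨_, rfl⟩
    have hzy' : Commute z y := hzy.symm
    have ht4 : t ^ 4 = 1 := by rw [ht, hzy'.mul_pow, hz4, hy4', one_mul]
    have hconj_t : x * t * x⁻¹ = t * c := by
      rw [ht]
      have e1 : x * (z * y) * x⁻¹ = z * y⁻¹ := by
        calc x * (z * y) * x⁻¹ = (x * z) * y * x⁻¹ := by group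
          _ = (z * x) * y * x⁻¹ := by rw [hzx]
          _ = z * (x * y * x⁻¹) := by group
          _ = z * y⁻¹ := by rw [hxyx]
      have e2 : z * y * c = z * y⁻¹ := by
        rw [hcy2]
        calc z * y * y ^ 2 = z * y ^ 3 := by group
          _ = z * y⁻¹ := by rw [hy3]
      rw [e1, e2]
    have hmem := (hn (Subgroup.zpowers t)).conj_mem t (Subgroup.mem_zpowers t) x
    rw [hconj_t] at hmem
    have hzney : z ≠ y := by
      intro h; apply hxy; rw [← h]; exact hzx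
    rcases zp4 t _ ht4 hmem with h | h | h | h
    · exfalso; apply hzney
      have h1 : z * y * c = 1 := by rw [← ht]; exact h
      have h2 : z = (y * c)⁻¹ := eq_inv_of_mul_eq_one_left (by rw [← mul_assoc]; exact h1)
      rw [h2, hcy2]
      apply inv_eq_of_mul_eq_one_left
      calc y * (y * y ^ 2) = y ^ 4 := by group
        _ = 1 := hy4'
    · exfalso; apply hc1
      exact mul_left_cancel (h.trans (mul_one t).symm)
    · exfalso; apply hzney
      have h2 : c = t := by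
        have : t * c = t * t := by rw [h, pow_two]
        exact mul_left_cancel this
      rw [ht, hcy2, pow_two] at h2
      exact (mul_right_cancel h2).symm
    · have h2 : c = t ^ 2 := by
        have : t * c = t * t ^ 2 := by rw [h]; group
        exact mul_left_cancel this
      rw [ht, hzy'.mul_pow, ← hcy2] at h2
      have : 1 * c = z ^ 2 * c := by rw [one_mul]; exact h2
      exact (mul_right_cancel this).symm
  have hCcomm : ∀ u ∈ C, ∀ v ∈ C, u * v = v * u := by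
    by_contra hcon
    push_neg at hcon
    obtain ⟨u, hu, v, hv, huv⟩ := hcon
    have hnC : ∀ H : Subgroup C, H.Normal := by
      intro H
      have h1 := (hn (H.map C.subtype)).comap C.subtype
      rwa [Subgroup.comap_map_eq_self_of_injective (Subgroup.subtype_injective C)] at h1
    obtain ⟨z, _, hz4, _, _, _⟩ := exists_q8_pair hnC
      ⟨⟨u, hu⟩, ⟨v, hv⟩, fun h => huv (congrArg Subtype.val h)⟩
    have hz4' : (z : G) ^ 4 = 1 := by
      rw [← hz4, ← Subgroup.orderOf_coe]; exact pow_orderOf_eq_one _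
    have hz2 : (z : G) ^ 2 ≠ 1 := by
      apply pow_ne_one_of_lt_orderOf (by norm_num)
      rw [Subgroup.orderOf_coe, hz4]; norm_num
    exact hz2 (hno4 z z.2 hz4')
  obtain ⟨e, m, hm_odd, hcard⟩ : ∃ e m : ℕ, Odd m ∧ Nat.card G = 2 ^ e * m := by
    obtain ⟨e, m, hm, h⟩ := Nat.exists_eq_pow_mul_and_not_dvd
      (Nat.card_pos (α := G)).ne' 2 (by norm_num)
    exact ⟨e, m, Nat.odd_iff.mpr (by omega), h⟩
  have h2el : ∀ e : ℕ, ∀ z ∈ C, z ^ (2 ^ e) = 1 → z ^ 2 = 1 := by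
    intro e
    induction e with
    | zero => intro z _ hz; rw [pow_zero, pow_one] at hz; rw [hz, one_pow]
    | succ e ih =>
      intro z hzC hz
      rcases Nat.eq_zero_or_pos e with he | he
      · rw [he] at hz; simpa using hz
      · obtain ⟨e', rfl⟩ : ∃ e', e = e' + 1 := ⟨e - 1, by omega⟩
        have hw : (z ^ (2 ^ e')) ^ 4 = 1 := by
          rw [← pow_mul]
          have : 2 ^ e' * 4 = 2 ^ (e' + 1 + 1) := by ring
          rw [this]; exact hz
        have hw2 := hno4 _ (pow_mem hzC _) hw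
        apply ih z hzC
        rw [← pow_mul] at hw2
        have : 2 ^ e' * 2 = 2 ^ (e' + 1) := by ring
        rw [this] at hw2; exact hw2
  let E' : Subgroup G :=
    { carrier := {u | u ∈ C ∧ u ^ 2 = 1}
      one_mem' := ⟨one_mem _, one_pow _⟩
      mul_mem' := by
        rintro u v ⟨hu, hu2⟩ ⟨hv, hv2⟩
        refine ⟨mul_mem hu hv, ?_⟩
        have hc' : Commute u v := hCcomm u hu v hv
        rw [hc'.mul_pow, hu2, hv2, one_mul]
      inv_mem' := by
        rintro u ⟨hu, hu2⟩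
        exact ⟨inv_mem hu, by rw [inv_pow, hu2, inv_one]⟩ }
  let A : Subgroup G :=
    { carrier := {u | u ∈ C ∧ u ^ m = 1}
      one_mem' := ⟨one_mem _, one_pow _⟩
      mul_mem' := by
        rintro u v ⟨hu, hu2⟩ ⟨hv, hv2⟩
        refine ⟨mul_mem hu hv, ?_⟩
        have hc' : Commute u v := hCcomm u hu v hv
        rw [hc'.mul_pow, hu2, hv2, one_mul]
      inv_mem' := by
        rintro u ⟨hu, hu2⟩
        exact ⟨inv_mem hu, by rw [inv_pow, hu2, inv_one]⟩ }
  have hE'mem : ∀ u, u ∈ E' ↔ (u ∈ C ∧ u ^ 2 = 1) := fun u => Iff.rfl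
  have hAmem : ∀ u, u ∈ A ↔ (u ∈ C ∧ u ^ m = 1) := fun u => Iff.rfl
  have hdecomp : ∀ u ∈ C, ∃ a ∈ A, ∃ e₁ ∈ E', u = a * e₁ := by
    intro u hu
    have hcop : Nat.Coprime (2 ^ e) m :=
      Nat.Coprime.pow_left e (Nat.coprime_two_left.mpr hm_odd)
    obtain ⟨α, β, hαβ⟩ := Nat.Coprime.isCoprime hcop
    have hu_card : u ^ (2 ^ e * m) = 1 := by rw [← hcard]; exact pow_card_eq_one'
    have hu_card' : u ^ (((2 ^ e * m : ℕ)) : ℤ) = 1 := by rw [zpow_natCast]; exact hu_card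
    refine ⟨u ^ (α * ((2 ^ e : ℕ) : ℤ)), (hAmem _).mpr ⟨zpow_mem hu _, ?_⟩,
      u ^ (β * (m : ℤ)), (hE'mem _).mpr ⟨zpow_mem hu _, ?_⟩, ?_⟩
    · have : (u ^ (α * ((2 ^ e : ℕ) : ℤ))) ^ m = (u ^ (((2 ^ e * m : ℕ)) : ℤ)) ^ α := by
        rw [← zpow_natCast (u ^ (α * ((2 ^ e : ℕ) : ℤ))) m, ← zpow_mul, ← zpow_mul]
        congr 1; push_cast; ring
      rw [this, hu_card', one_zpow]
    · apply h2el e _ (zpow_mem hu _)
      have : (u ^ (β * (m : ℤ))) ^ (2 ^ e) = (u ^ (((2 ^ e * m : ℕ)) : ℤ)) ^ β := by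
        rw [← zpow_natCast (u ^ (β * (m : ℤ))) (2 ^ e), ← zpow_mul, ← zpow_mul]
        congr 1; push_cast; ring
      rw [this, hu_card', one_zpow]
    · rw [← zpow_add, hαβ, zpow_one]
  have hcE' : c ∈ E' :=
    (hE'mem c).mpr ⟨(hCmem c).mpr ⟨(hcz x).eq.symm, (hcz y).eq.symm⟩, by rw [pow_two]; exact hcc⟩
  obtain ⟨E, -, hEmax⟩ := Finite.exists_le_maximal
    (p := fun E : Subgroup G => E ≤ E' ∧ c ∉ E) (a := (⊥ : Subgroup G))
    ⟨bot_le, fun h => hc1 (Subgroup.mem_bot.mp h)⟩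
  have hEE' : E ≤ E' := hEmax.prop.1
  have hcE : c ∉ E := hEmax.prop.2
  have hsplit : ∀ z ∈ E', z ∈ E ∨ c * z ∈ E := by
    intro z hz
    by_cases hzE : z ∈ E
    · left; exact hzE
    · right
      have hz2 : z ^ 2 = 1 := ((hE'mem z).mp hz).2
      have hle : E ⊔ Subgroup.zpowers z ≤ E' := sup_le hEE' (Subgroup.zpowers_le.mpr hz)
      have hcmem : c ∈ E ⊔ Subgroup.zpowers z := by
        by_contra hcn
        have := hEmax.le_of_ge ⟨hle, hcn⟩ le_sup_left
        exact hzE (this (Subgroup.mem_sup_right (Subgroup.mem_zpowers z)))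
      haveI := hn (Subgroup.zpowers z)
      have hmul : c ∈ (E : Set G) * (Subgroup.zpowers z : Set G) := by
        rw [← Subgroup.mul_normal]; exact hcmem
      obtain ⟨e₁, he₁, s, hs, hes⟩ := Set.mem_mul.mp hmul
      have hs' : s = 1 ∨ s = z := by
        have hs2 : s ∈ Subgroup.zpowers z := hs
        rw [← mem_powers_iff_mem_zpowers] at hs2
        obtain ⟨j, hj⟩ := (Submonoid.mem_powers_iff _ _).mp hs2
        rw [← hj, pow_eq_pow_mod j hz2]
        rcases Nat.mod_two_eq_zero_or_one j with h | h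
        · left; rw [h, pow_zero]
        · right; rw [h, pow_one]
      rcases hs' with hs1 | hs1
      · exfalso; apply hcE; rw [← hes, hs1, mul_one]; exact he₁
      · have : c * z = e₁ := by rw [← hes, hs1, mul_assoc, ← pow_two, hz2, mul_one]
        rw [this]; exact he₁
  have hEC : E ≤ C := fun u hu => ((hE'mem u).mp (hEE' hu)).1
  have hAC : A ≤ C := fun u hu => ((hAmem u).mp hu).1
  have hcQ : c ∈ φ.range := by rw [hcx2]; exact pow_mem hxQ 2
  have hgcd : Nat.gcd 2 m = 1 := Nat.coprime_two_left.mpr hm_odd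
  refine ⟨φ.range, E, A, ?_, ?_, ?_, ?_, ?_, ?_, ?_⟩
  · subst hφ; exact ⟨(MonoidHom.ofInjective hinj).symm⟩
  · exact ⟨⟨⟨fun a b => Subtype.ext (hCcomm a (hEC a.2) b (hEC b.2))⟩⟩,
      fun a ha => ((hE'mem a).mp (hEE' ha)).2⟩
  · exact ⟨⟨fun a b => Subtype.ext (hCcomm a (hAC a.2) b (hAC b.2))⟩⟩
  · by_contra hodd
    rw [Nat.not_odd_iff_even] at hodd
    haveI : Fact (Nat.Prime 2) := ⟨Nat.prime_two⟩
    obtain ⟨a, ha⟩ := exists_prime_orderOf_dvd_card' (G := A) 2 hodd.two_dvd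
    have h1 : (a : G) ^ m = 1 := ((hAmem a).mp a.2).2
    have h2 : orderOf (a : G) = 2 := by rw [Subgroup.orderOf_coe]; exact ha
    have h3 := orderOf_dvd_of_pow_eq_one h1
    rw [h2] at h3
    exact (Nat.not_even_iff_odd.mpr hm_odd) (even_iff_two_dvd.mpr h3)
  · rw [eq_bot_iff]
    intro u hu
    obtain ⟨huE, huA⟩ := Subgroup.mem_inf.mp hu
    have h1 : u ^ 2 = 1 := ((hE'mem u).mp (hEE' huE)).2
    have h2 : u ^ m = 1 := ((hAmem u).mp huA).2
    have h3 : orderOf u ∣ Nat.gcd 2 m :=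
      Nat.dvd_gcd (orderOf_dvd_of_pow_eq_one h1) (orderOf_dvd_of_pow_eq_one h2)
    rw [hgcd] at h3
    rw [Subgroup.mem_bot]
    exact orderOf_eq_one_iff.mp (Nat.dvd_one.mp h3)
  · rw [eq_bot_iff]
    intro u hu
    obtain ⟨huQ, huEA⟩ := Subgroup.mem_inf.mp hu
    have huC : u ∈ C := (sup_le hEC hAC) huEA
    obtain ⟨hux, huy⟩ := (hCmem u).mp huC
    rw [Subgroup.mem_bot]
    rcases hQel u huQ with ⟨k, hk⟩ | ⟨k, hk⟩
    · rcases zp4 x u hx4' (by rw [hk]; exact Subgroup.zpow_mem _ (Subgroup.mem_zpowers x) k)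
        with h | h | h | h
      · exact h
      · exfalso; apply hxy; rw [h] at huy; exact huy.symm
      · exfalso
        rw [h, ← hcx2] at huEA
        haveI := hn A
        have hmul : c ∈ (E : Set G) * (A : Set G) := by
          rw [← Subgroup.mul_normal]; exact huEA
        obtain ⟨e₁, he₁, a, ha, hea⟩ := Set.mem_mul.mp hmul
        have ha2 : a ^ 2 = 1 := by
          have h5 : a = e₁⁻¹ * c := by rw [← hea]; group
          have hmem : e₁⁻¹ * c ∈ E' := mul_mem (inv_mem (hEE' he₁)) hcE'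
          rw [h5]; exact ((hE'mem _).mp hmem).2
        have ham : a ^ m = 1 := ((hAmem a).mp ha).2
        have h3 : orderOf a ∣ Nat.gcd 2 m :=
          Nat.dvd_gcd (orderOf_dvd_of_pow_eq_one ha2) (orderOf_dvd_of_pow_eq_one ham)
        rw [hgcd] at h3
        have ha1 : a = 1 := orderOf_eq_one_iff.mp (Nat.dvd_one.mp h3)
        apply hcE
        rw [← hea, ha1, mul_one]; exact he₁
      · exfalso; apply hxy
        rw [h, hx3] at huy
        calc x * y = x * (y * x⁻¹) * x := by group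
          _ = x * (x⁻¹ * y) * x := by rw [huy]
          _ = y * x := by group
    · exfalso; apply hxy
      rw [hk] at hux
      have hkx : x ^ k * x = x * x ^ k := ((Commute.refl x).zpow_left k).eq
      have h5 : x * y * x ^ k = y * x * x ^ k := by
        calc x * y * x ^ k = x * (y * x ^ k) := by group
          _ = (y * x ^ k) * x := hux
          _ = y * (x ^ k * x) := by group
          _ = y * (x * x ^ k) := by rw [hkx]
          _ = y * x * x ^ k := by group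
      exact mul_right_cancel h5
  · rw [eq_top_iff]
    intro g _
    obtain ⟨q, hq, hqg⟩ := hQC g
    obtain ⟨a, ha, e₁, he₁, hae⟩ := hdecomp _ hqg
    have h2 : g = q * (a * e₁) := by rw [← hae]; group
    rcases hsplit e₁ he₁ with h | h
    · rw [h2]
      exact mul_mem (Subgroup.mem_sup_left hq) (Subgroup.mem_sup_right
        (mul_mem (Subgroup.mem_sup_right ha) (Subgroup.mem_sup_left h)))
    · have h3 : c * (a * (c * e₁)) = a * e₁ := by
        calc c * (a * (c * e₁)) = (c * a) * c * e₁ := by group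
          _ = (a * c) * c * e₁ := by rw [(hcz a).eq]
          _ = a * (c * c) * e₁ := by group
          _ = a * e₁ := by rw [hcc, mul_one]
      have h4 : g = (q * c) * (a * (c * e₁)) := by
        rw [h2, mul_assoc q c, h3]
      rw [h4]
      exact mul_mem (Subgroup.mem_sup_left (mul_mem hq hcQ)) (Subgroup.mem_sup_right
        (mul_mem (Subgroup.mem_sup_right ha) (Subgroup.mem_sup_left h)))

end Cfsg.Agent.S4211
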