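import Cfsg.Statements.S4263

import Mathlib
import Cfsg.Agent.Lib.Helper2.Fit

set_option autoImplicit false
open Cfsg
open scoped Pointwise

namespace Cfsg.Agent.S4263

open Cfsg.Agent.Lib.Helper2

theorem relIndex_mul_card {G : Type*} [Group G] [Finite G] {A B : Subgroup G} (h : A ≤ B) :
    A.relIndex B * Nat.card A = Nat.card B := by
  have h1 := Subgroup.relIndex_mul_index h
  have h2 := Subgroup.card_mul_index A
  have h3 := Subgroup.card_mul_index B
  have h4 : 0 < B.index := Nat.pos_of_ne_zero Subgroup.index_ne_zero_of_finite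
  have : A.relIndex B * Nat.card A * B.index = Nat.card B * B.index := by
    calc A.relIndex B * Nat.card A * B.index = Nat.card A * (A.relIndex B * B.index) := by ring
      _ = Nat.card B * B.index := by rw [h1, h2, h3]
  exact Nat.eq_of_mul_eq_mul_right h4 this

theorem relIndex_dvd_index_of_normal' {G : Type*} [Group G] [Finite G] (H K : Subgroup G)
    [K.Normal] : H.relIndex K ∣ H.index := by
  have ha : K.relIndex (H ⊔ K) = K.relIndex H := Subgroup.relIndex_sup_right H K
  have h1 := relIndex_mul_card (le_sup_right : K ≤ H ⊔ K)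
  have h2 := relIndex_mul_card (le_sup_left : H ≤ H ⊔ K)
  have h3 := relIndex_mul_card (inf_le_right : K ⊓ H ≤ H)
  have h4 := relIndex_mul_card (inf_le_right : H ⊓ K ≤ K)
  rw [Subgroup.inf_relIndex_right] at h3 h4
  rw [inf_comm] at h3
  have hpos : 0 < Nat.card H := Nat.card_pos
  have key : H.relIndex (H ⊔ K) * Nat.card H = H.relIndex K * Nat.card H := by
    calc H.relIndex (H ⊔ K) * Nat.card H = Nat.card (H ⊔ K : Subgroup G) := h2
      _ = K.relIndex H * Nat.card K := by rw [← h1, ha]
      _ = K.relIndex H * (H.relIndex K * Nat.card (H ⊓ K : Subgroup G)) := by rw [h4]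
      _ = H.relIndex K * (K.relIndex H * Nat.card (H ⊓ K : Subgroup G)) := by ring
      _ = H.relIndex K * Nat.card H := by rw [h3]
  rw [← Nat.eq_of_mul_eq_mul_right hpos key]
  exact Subgroup.relIndex_dvd_index_of_le le_sup_left

theorem nil_pow_index {F : Type*} [Group F] [Finite F] [hn : Group.IsNilpotent F] :
    ∀ (n : ℕ) (R : Subgroup F), R.index = n → ∀ x : F, x ^ n ∈ R := by
  intro n
  induction n using Nat.strong_induction_on with
  | _ n ih =>
    intro R hR x
    by_cases hRt : R = ⊤
    · rw [hRt]; exact Subgroup.mem_top _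
    · have hlt : R < Subgroup.normalizer (R : Set F) :=
        Group.normalizerCondition_of_isNilpotent R (lt_top_iff_ne_top.mpr hRt)
      have h1 : R.relIndex (Subgroup.normalizer (R : Set F)) *
          (Subgroup.normalizer (R : Set F)).index = R.index :=
        Subgroup.relIndex_mul_index hlt.le
      have hne1 : R.relIndex (Subgroup.normalizer (R : Set F)) ≠ 1 := by
        intro h; exact hlt.not_ge (Subgroup.relIndex_eq_one.mp h)
      have hne0 : R.relIndex (Subgroup.normalizer (R : Set F)) ≠ 0 := by
        show (R.subgroupOf _).index ≠ 0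
        exact Subgroup.index_ne_zero_of_finite
      have hpos : 0 < (Subgroup.normalizer (R : Set F)).index :=
        Nat.pos_of_ne_zero Subgroup.index_ne_zero_of_finite
      have hNlt : (Subgroup.normalizer (R : Set F)).index < n := by
        rw [← hR, ← h1]
        have : 2 ≤ R.relIndex (Subgroup.normalizer (R : Set F)) := by omega
        nlinarith
      have h2 := ih _ hNlt (Subgroup.normalizer (R : Set F)) rfl x
      have hnorm : (R.subgroupOf (Subgroup.normalizer (R : Set F))).Normal :=
        Subgroup.normal_in_normalizer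
      have h3 := Subgroup.pow_index_mem (R.subgroupOf (Subgroup.normalizer (R : Set F)))
        ⟨x ^ (Subgroup.normalizer (R : Set F)).index, h2⟩
      rw [Subgroup.mem_subgroupOf] at h3
      have h4 : x ^ n = (x ^ (Subgroup.normalizer (R : Set F)).index) ^
          (R.relIndex (Subgroup.normalizer (R : Set F))) := by
        rw [← pow_mul, mul_comm, h1, hR]
      rw [h4]
      exact h3

theorem result {G : Type*} [Group G] [Finite G] (x : G) :
    x ∈ Cfsg.fittingSubgroup G ↔ ∀ H : Subgroup G, x ^ H.index ∈ H := by
  have hFn : (Cfsg.fittingSubgroup G).Normal := Fit.fitting_normal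
  constructor
  · intro hx H
    have hnil : Group.IsNilpotent ↥(Cfsg.fittingSubgroup G) := Fit.fitting_nilpotent
    have h1 := nil_pow_index _ (H.subgroupOf (Cfsg.fittingSubgroup G)) rfl ⟨x, hx⟩
    rw [Subgroup.mem_subgroupOf] at h1
    obtain ⟨k, hk⟩ := relIndex_dvd_index_of_normal' H (Cfsg.fittingSubgroup G)
    rw [hk, pow_mul]
    exact H.pow_mem h1 k
  · intro h
    by_contra hx
    have hq : (QuotientGroup.mk' (Cfsg.fittingSubgroup G) x) ≠ 1 := by
      intro h1; exact hx ((QuotientGroup.eq_one_iff x).mp h1)
    have hord : orderOf (QuotientGroup.mk' (Cfsg.fittingSubgroup G) x) ≠ 1 := by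
      intro h1; exact hq (orderOf_eq_one_iff.mp h1)
    obtain ⟨p, hp, hpd⟩ := Nat.exists_prime_and_dvd hord
    have : Fact p.Prime := ⟨hp⟩
    obtain ⟨P⟩ : Nonempty (Sylow p G) := inferInstance
    have hall : ∀ Q : Sylow p G, x ^ (P : Subgroup G).index ∈ (Q : Subgroup G) := by
      intro Q
      have hidx : (Q : Subgroup G).index = (P : Subgroup G).index := by
        have e1 := Subgroup.index_mul_card (Q : Subgroup G)
        have e2 := Subgroup.index_mul_card (P : Subgroup G)
        have e3 : Nat.card (Q : Subgroup G) = Nat.card (P : Subgroup G) := by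
          rw [Sylow.card_eq_multiplicity, Sylow.card_eq_multiplicity]
        rw [e3, ← e2] at e1
        exact Nat.eq_of_mul_eq_mul_right Nat.card_pos e1
      rw [← hidx]; exact h Q
    have hncl : Subgroup.normalClosure {x ^ (P : Subgroup G).index} ≤ (P : Subgroup G) := by
      rw [Subgroup.normalClosure, Subgroup.closure_le]
      intro z hz
      rw [Group.mem_conjugatesOfSet_iff] at hz
      obtain ⟨a, ha, hconj⟩ := hz
      rw [Set.mem_singleton_iff] at ha
      subst ha
      obtain ⟨c, hc⟩ := isConj_iff.mp hconj
      have h5 := hall (c⁻¹ • P)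
      rw [Sylow.coe_subgroup_smul] at h5
      obtain ⟨y, hy, hya⟩ := h5
      have hya' : c⁻¹ * y * c⁻¹⁻¹ = x ^ (P : Subgroup G).index := hya
      have hz : z = y := by
        rw [← hc, ← hya']; group
      rw [SetLike.mem_coe, hz]; exact hy
    have hpg : IsPGroup p (Subgroup.normalClosure {x ^ (P : Subgroup G).index}) :=
      P.isPGroup'.to_le hncl
    have hle := (Fit.le_pCore _ Subgroup.normalClosure_normal hpg).trans (Fit.pCore_le_fitting p)
    have hy : x ^ (P : Subgroup G).index ∈ Cfsg.fittingSubgroup G :=
      hle (Subgroup.subset_normalClosure (Set.mem_singleton _))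
    have h6 : (QuotientGroup.mk' (Cfsg.fittingSubgroup G) x) ^ (P : Subgroup G).index = 1 := by
      rw [← map_pow]
      exact (QuotientGroup.eq_one_iff _).mpr hy
    have h7 := orderOf_dvd_of_pow_eq_one h6
    exact P.not_dvd_index (hpd.trans h7)

end Cfsg.Agent.S4263
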