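import Cfsg.Statements.S4345

import Mathlib
import Cfsg.Agent.S0003
import Cfsg.Agent.S4263

set_option autoImplicit false
open Cfsg
open scoped Pointwise

namespace Cfsg.Agent.S4345

universe u

theorem normalizer_sup_le {G : Type*} [Group G] [Finite G] {p : ℕ} [Fact p.Prime] (P : Sylow p G)
    (N : Subgroup G) [N.Normal] :
    Subgroup.normalizer (((P : Subgroup G) ⊔ N : Subgroup G) : Set G) ≤
      Subgroup.normalizer ((P : Subgroup G) : Set G) ⊔ N := by
  intro g hg
  have hP : (P : Subgroup G) ≤ (P : Subgroup G) ⊔ N := le_sup_left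
  have hP' : ((g • P : Sylow p G) : Subgroup G) ≤ (P : Subgroup G) ⊔ N := by
    intro y hy
    rw [Sylow.coe_subgroup_smul] at hy
    obtain ⟨z, hz, hzy⟩ := hy
    have hzy' : g * z * g⁻¹ = y := hzy
    rw [← hzy']
    exact (Subgroup.mem_normalizer_iff.mp hg z).mp (hP hz)
  obtain ⟨m, hm⟩ := MulAction.exists_smul_eq ((P : Subgroup G) ⊔ N : Subgroup G)
    (P.subtype hP) ((g • P).subtype hP')
  rw [Sylow.smul_subtype] at hm
  have h1 : m • P = g • P := Sylow.subtype_injective hm
  have h1' : (m : G) • P = g • P := h1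
  have h2 : ((m : G)⁻¹ * g) ∈ Subgroup.normalizer ((P : Subgroup G) : Set G) := by
    have h5 : ((m : G)⁻¹ * g) • P = P := by rw [mul_smul, ← h1', inv_smul_smul]
    exact Sylow.smul_eq_iff_mem_normalizer.mp h5
  have h3 : (m : G) ∈ Subgroup.normalizer ((P : Subgroup G) : Set G) ⊔ N :=
    (sup_le_sup_right Subgroup.le_normalizer N) m.2
  have h4 : g = (m : G) * ((m : G)⁻¹ * g) := by group
  rw [h4]
  exact Subgroup.mul_mem _ h3 (Subgroup.mem_sup_left h2)

theorem relIndex_sup_eq {G : Type*} [Group G] [Finite G] (H K : Subgroup G)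
    [K.Normal] : H.relIndex (H ⊔ K) = H.relIndex K := by
  have ha : K.relIndex (H ⊔ K) = K.relIndex H := Subgroup.relIndex_sup_right H K
  have h1 := Cfsg.Agent.S4263.relIndex_mul_card (le_sup_right : K ≤ H ⊔ K)
  have h2 := Cfsg.Agent.S4263.relIndex_mul_card (le_sup_left : H ≤ H ⊔ K)
  have h3 := Cfsg.Agent.S4263.relIndex_mul_card (inf_le_right : K ⊓ H ≤ H)
  have h4 := Cfsg.Agent.S4263.relIndex_mul_card (inf_le_right : H ⊓ K ≤ K)
  rw [Subgroup.inf_relIndex_right] at h3 h4
  rw [inf_comm] at h3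
  have hpos : 0 < Nat.card H := Nat.card_pos
  have key : H.relIndex (H ⊔ K) * Nat.card H = H.relIndex K * Nat.card H := by
    calc H.relIndex (H ⊔ K) * Nat.card H = Nat.card (H ⊔ K : Subgroup G) := h2
      _ = K.relIndex H * Nat.card K := by rw [← h1, ha]
      _ = K.relIndex H * (H.relIndex K * Nat.card (H ⊓ K : Subgroup G)) := by rw [h4]
      _ = H.relIndex K * (K.relIndex H * Nat.card (H ⊓ K : Subgroup G)) := by ring
      _ = H.relIndex K * Nat.card H := by rw [h3]
  exact Nat.eq_of_mul_eq_mul_right hpos key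

theorem key_step {G : Type*} [Group G] [Finite G] (p : ℕ) [Fact p.Prime] (N : Subgroup G)
    [N.Normal] :
    ∃ t : ℕ, Nat.card (Sylow p G) = t * Nat.card (Sylow p (G ⧸ N)) ∧ t ∣ Nat.card N := by
  obtain ⟨P⟩ : Nonempty (Sylow p G) := inferInstance
  have hsurj := QuotientGroup.mk'_surjective N
  have h1 : Nat.card (Sylow p G) = (Subgroup.normalizer ((P : Subgroup G) : Set G)).index :=
    P.card_eq_index_normalizer
  have h2 : Nat.card (Sylow p (G ⧸ N)) = (Subgroup.normalizer
      (((P.mapSurjective hsurj : Sylow p (G ⧸ N)) : Subgroup (G ⧸ N)) : Set (G ⧸ N))).index :=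
    (P.mapSurjective hsurj).card_eq_index_normalizer
  have h3 : (Subgroup.normalizer
      (((P.mapSurjective hsurj : Sylow p (G ⧸ N)) : Subgroup (G ⧸ N)) : Set (G ⧸ N))).comap
        (QuotientGroup.mk' N) =
      Subgroup.normalizer (((P : Subgroup G) ⊔ N : Subgroup G) : Set G) := by
    rw [Subgroup.comap_normalizer_eq_of_surjective _ hsurj]
    rw [Sylow.coe_mapSurjective, Subgroup.comap_map_eq, QuotientGroup.ker_mk']
  have h4 : (Subgroup.normalizer
      (((P.mapSurjective hsurj : Sylow p (G ⧸ N)) : Subgroup (G ⧸ N)) : Set (G ⧸ N))).index =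
      (Subgroup.normalizer (((P : Subgroup G) ⊔ N : Subgroup G) : Set G)).index := by
    rw [← h3, Subgroup.index_comap_of_surjective _ hsurj]
  have hle : Subgroup.normalizer ((P : Subgroup G) : Set G) ≤
      Subgroup.normalizer (((P : Subgroup G) ⊔ N : Subgroup G) : Set G) := by
    rw [← h3]
    refine le_trans (Subgroup.le_comap_map (QuotientGroup.mk' N) _) ?_
    apply Subgroup.comap_mono
    rw [Sylow.coe_mapSurjective]
    exact Subgroup.le_normalizer_map _
  have heq : Subgroup.normalizer (((P : Subgroup G) ⊔ N : Subgroup G) : Set G) =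
      Subgroup.normalizer ((P : Subgroup G) : Set G) ⊔ N :=
    le_antisymm (normalizer_sup_le P N)
      (sup_le hle (le_trans le_sup_right Subgroup.le_normalizer))
  refine ⟨(Subgroup.normalizer ((P : Subgroup G) : Set G)).relIndex
    (Subgroup.normalizer (((P : Subgroup G) ⊔ N : Subgroup G) : Set G)), ?_, ?_⟩
  · rw [h1, h2, h4]; exact (Subgroup.relIndex_mul_index hle).symm
  · rw [heq, relIndex_sup_eq]
    exact Subgroup.relIndex_dvd_card _ _

theorem aux (p : ℕ) [Fact p.Prime] (ℓ : ℕ) :
    ∀ (n : ℕ) (G : Type u) [Group G] [Finite G], Group.IsSolvable G → Nat.card G = n →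
      ℓ ^ (Nat.card (Sylow p G)).factorization ℓ ≡ 1 [MOD p] := by
  intro n
  induction n using Nat.strong_induction_on with
  | _ n ih =>
    intro G _ _ hG hn
    by_cases htriv : Nontrivial G
    · obtain ⟨r, M, hr, hMn, -, hMne, hMp⟩ := Cfsg.Agent.S0003.exists_normal_abelian_pgroup G
      obtain ⟨t, ht, htd⟩ := key_step p M
      have : Fact r.Prime := ⟨hr⟩
      obtain ⟨c, hc⟩ := IsPGroup.iff_card.mp hMp
      rw [hc] at htd
      obtain ⟨b, hb, rfl⟩ := (Nat.dvd_prime_pow hr).mp htd
      have hlt : Nat.card (G ⧸ M) < n := by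
        rw [← hn, ← Subgroup.index_eq_card]
        have h1 := Subgroup.card_mul_index M
        have h2 : 0 < M.index := Nat.pos_of_ne_zero Subgroup.index_ne_zero_of_finite
        have h3 : 1 < Nat.card M := by
          rw [Subgroup.one_lt_card_iff_ne_bot]; exact hMne
        nlinarith
      have hq := ih _ hlt (G ⧸ M) inferInstance rfl
      have hs1 : Nat.card (Sylow p G) ≡ 1 [MOD p] := card_sylow_modEq_one p G
      have hs2 : Nat.card (Sylow p (G ⧸ M)) ≡ 1 [MOD p] := card_sylow_modEq_one p (G ⧸ M)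
      have ht1 : r ^ b ≡ 1 [MOD p] := by
        have h5 := Nat.ModEq.mul_left (r ^ b) hs2
        rw [← ht, mul_one] at h5
        exact h5.symm.trans hs1
      have h5 : ℓ ^ (r ^ b).factorization ℓ ≡ 1 [MOD p] := by
        rw [Nat.Prime.factorization_pow hr]
        by_cases hlr : ℓ = r
        · subst hlr
          rw [Finsupp.single_eq_same]; exact ht1
        · rw [Finsupp.single_eq_of_ne hlr, pow_zero]
      rw [ht, Nat.factorization_mul (pow_ne_zero _ hr.ne_zero) Nat.card_pos.ne']
      rw [Finsupp.coe_add, Pi.add_apply, pow_add]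
      have h6 := Nat.ModEq.mul h5 hq
      rw [mul_one] at h6
      exact h6
    · rw [not_nontrivial_iff_subsingleton] at htriv
      obtain ⟨P⟩ : Nonempty (Sylow p G) := inferInstance
      have h1 : Nat.card (Sylow p G) ∣ (P : Subgroup G).index := P.card_dvd_index
      have h2 : (P : Subgroup G).index ∣ Nat.card G := Subgroup.index_dvd_card _
      have h3 : Nat.card G = 1 := Nat.card_eq_one_iff_unique.mpr ⟨htriv, ⟨1⟩⟩
      rw [h3] at h2
      have h4 : Nat.card (Sylow p G) = 1 := Nat.dvd_one.mp (h1.trans h2)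
      rw [h4]
      simp [Nat.ModEq]

theorem result {G : Type*} [Group G] [Finite G]
    (hG : Group.IsSolvable G) (p ℓ : ℕ) [Fact p.Prime] (hℓ : ℓ.Prime) :
    ℓ ^ (Nat.card (Sylow p G)).factorization ℓ ≡ 1 [MOD p] := by
  exact aux p ℓ _ G hG rfl

end Cfsg.Agent.S4345
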