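import Cfsg.Statements.S4341

import Mathlib
import Cfsg.Agent.S4345

set_option autoImplicit false
open Cfsg
open scoped Pointwise

namespace Cfsg.Agent.S4341

theorem relIndex_sup_of_le {G : Type*} [Group G] [Finite G] (X P K : Subgroup G) [K.Normal]
    (hPX : P ≤ X) : X.relIndex (P ⊔ K) = X.relIndex K := by
  have h1 : X.relIndex (P ⊔ K) = (X ⊓ (P ⊔ K)).relIndex (P ⊔ K) :=
    (Subgroup.inf_relIndex_right X (P ⊔ K)).symm
  have h2 : (X ⊓ (P ⊔ K)) ⊔ K = P ⊔ K := by
    apply le_antisymm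
    · exact sup_le inf_le_right le_sup_right
    · exact sup_le_sup_right (le_inf hPX le_sup_left) K
  have h3 : (X ⊓ (P ⊔ K)).relIndex ((X ⊓ (P ⊔ K)) ⊔ K) = (X ⊓ (P ⊔ K)).relIndex K :=
    Cfsg.Agent.S4345.relIndex_sup_eq _ K
  rw [h2] at h3
  have h4 : (X ⊓ (P ⊔ K)).relIndex K = ((X ⊓ (P ⊔ K)) ⊓ K).relIndex K :=
    (Subgroup.inf_relIndex_right _ K).symm
  have h5 : (X ⊓ (P ⊔ K)) ⊓ K = X ⊓ K := by
    rw [inf_assoc, inf_eq_right.mpr (le_sup_right : K ≤ P ⊔ K)]
  rw [h1, h3, h4, h5, Subgroup.inf_relIndex_right]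

theorem card_sylow_quotient {G : Type*} [Group G] [Finite G] (p : ℕ) [Fact p.Prime]
    (N : Subgroup G) [N.Normal] (P : Sylow p G) :
    Nat.card (Sylow p (G ⧸ N)) = (Subgroup.normalizer ((P : Subgroup G) : Set G) ⊔ N).index := by
  have hsurj := QuotientGroup.mk'_surjective N
  have h2 : Nat.card (Sylow p (G ⧸ N)) = (Subgroup.normalizer
      (((P.mapSurjective hsurj : Sylow p (G ⧸ N)) : Subgroup (G ⧸ N)) : Set (G ⧸ N))).index :=
    (P.mapSurjective hsurj).card_eq_index_normalizer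
  have h3 : (Subgroup.normalizer
      (((P.mapSurjective hsurj : Sylow p (G ⧸ N)) : Subgroup (G ⧸ N)) : Set (G ⧸ N))).comap
        (QuotientGroup.mk' N) =
      Subgroup.normalizer (((P : Subgroup G) ⊔ N : Subgroup G) : Set G) := by
    rw [Subgroup.comap_normalizer_eq_of_surjective _ hsurj]
    rw [Sylow.coe_mapSurjective, Subgroup.comap_map_eq, QuotientGroup.ker_mk']
  have h4 : (Subgroup.normalizer
      (((P.mapSurjective hsurj : Sylow p (G ⧸ N)) : Subgroup (G ⧸ N)) : Set (G ⧸ N))).index =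
      (Subgroup.normalizer (((P : Subgroup G) ⊔ N : Subgroup G) : Set G)).index := by
    rw [← h3, Subgroup.index_comap_of_surjective _ hsurj]
  have hle : Subgroup.normalizer ((P : Subgroup G) : Set G) ≤
      Subgroup.normalizer (((P : Subgroup G) ⊔ N : Subgroup G) : Set G) := by
    rw [← h3]
    refine le_trans (Subgroup.le_comap_map (QuotientGroup.mk' N) _) ?_
    apply Subgroup.comap_mono
    rw [Sylow.coe_mapSurjective]
    exact Subgroup.le_normalizer_map _
  have heq : Subgroup.normalizer (((P : Subgroup G) ⊔ N : Subgroup G) : Set G) =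
      Subgroup.normalizer ((P : Subgroup G) : Set G) ⊔ N :=
    le_antisymm (Cfsg.Agent.S4345.normalizer_sup_le P N)
      (sup_le hle (le_trans le_sup_right Subgroup.le_normalizer))
  rw [h2, h4, heq]

theorem card_sylow_normal {G : Type*} [Group G] [Finite G] (p : ℕ) [Fact p.Prime]
    (K : Subgroup G) [K.Normal] (P : Sylow p G) :
    Nat.card (Sylow p K) =
      (Subgroup.normalizer (((P : Subgroup G) ⊓ K : Subgroup G) : Set G)).relIndex K := by
  have hpg : IsPGroup p (((P : Subgroup G) ⊓ K).subgroupOf K) :=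
    (P.isPGroup'.to_le inf_le_left).comap_subtype
  have hidx : ¬ p ∣ (((P : Subgroup G) ⊓ K).subgroupOf K).index := by
    intro h
    have h1 : (((P : Subgroup G) ⊓ K).subgroupOf K).index = (P : Subgroup G).relIndex K :=
      Subgroup.inf_relIndex_right _ K
    rw [h1] at h
    exact P.not_dvd_index (h.trans (Cfsg.Agent.S4263.relIndex_dvd_index_of_normal' _ K))
  have h2 := (hpg.toSylow hidx).card_eq_index_normalizer
  rw [h2]
  show (Subgroup.normalizer
    ((((P : Subgroup G) ⊓ K).subgroupOf K : Subgroup K) : Set K)).index = _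
  rw [← Subgroup.subgroupOf_normalizer_eq inf_le_right]
  rfl

theorem card_sylow_section {G : Type*} [Group G] [Finite G] (p : ℕ) [Fact p.Prime]
    (P : Sylow p G) (N R : Subgroup G) (hPN : (P : Subgroup G) ≤ N) (hRP : R ≤ (P : Subgroup G))
    [hn : (R.subgroupOf N).Normal] :
    Nat.card (Sylow p (N ⧸ R.subgroupOf N)) =
      (Subgroup.normalizer ((P : Subgroup G) : Set G)).relIndex N := by
  have hsurj := QuotientGroup.mk'_surjective (R.subgroupOf N)
  have h2 : Nat.card (Sylow p (N ⧸ R.subgroupOf N)) =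
      (Subgroup.normalizer ((((P.subtype hPN).mapSurjective hsurj :
      Sylow p (N ⧸ R.subgroupOf N)) : Subgroup (N ⧸ R.subgroupOf N)) :
        Set (N ⧸ R.subgroupOf N))).index :=
    ((P.subtype hPN).mapSurjective hsurj).card_eq_index_normalizer
  rw [h2]
  have h3 : (Subgroup.normalizer ((((P.subtype hPN).mapSurjective hsurj :
      Sylow p (N ⧸ R.subgroupOf N)) : Subgroup (N ⧸ R.subgroupOf N)) :
        Set (N ⧸ R.subgroupOf N))).comap (QuotientGroup.mk' (R.subgroupOf N)) =
      (Subgroup.normalizer ((P : Subgroup G) : Set G)).subgroupOf N := by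
    rw [Subgroup.comap_normalizer_eq_of_surjective _ hsurj, Sylow.coe_mapSurjective,
      Subgroup.comap_map_eq, QuotientGroup.ker_mk', Sylow.coe_subtype]
    have hle : R.subgroupOf N ≤ (P : Subgroup G).subgroupOf N := Subgroup.comap_mono hRP
    rw [sup_eq_left.mpr hle, Subgroup.subgroupOf_normalizer_eq hPN]
  rw [← Subgroup.index_comap_of_surjective _ hsurj, h3]
  rfl

theorem main_identity {G : Type*} [Group G] [Finite G] (H L P K : Subgroup G) [K.Normal]
    (hPH : P ≤ H) (hHL : H ≤ L) :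
    H.index = (H ⊔ K).index * L.relIndex K * H.relIndex ((P ⊔ K) ⊓ L) := by
  have hPL : P ≤ L := hPH.trans hHL
  have e1 : H.relIndex (H ⊔ K) * (H ⊔ K).index = H.index :=
    Subgroup.relIndex_mul_index le_sup_left
  have e2 : H.relIndex (H ⊔ K) = H.relIndex K := Cfsg.Agent.S4345.relIndex_sup_eq H K
  have e3 : H.relIndex (P ⊔ K) = H.relIndex K := relIndex_sup_of_le H P K hPH
  have e4 : L.relIndex (P ⊔ K) = L.relIndex K := relIndex_sup_of_le L P K hPL
  have e5 : (H ⊓ (P ⊔ K)).relIndex (L ⊓ (P ⊔ K)) * (L ⊓ (P ⊔ K)).relIndex (P ⊔ K) =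
      (H ⊓ (P ⊔ K)).relIndex (P ⊔ K) :=
    Subgroup.relIndex_mul_relIndex _ _ _ (inf_le_inf_right (P ⊔ K) hHL) inf_le_right
  rw [Subgroup.inf_relIndex_right, Subgroup.inf_relIndex_right] at e5
  have e6 : (H ⊓ (P ⊔ K)).relIndex (L ⊓ (P ⊔ K)) = H.relIndex ((P ⊔ K) ⊓ L) := by
    rw [inf_comm L (P ⊔ K), ← Subgroup.inf_relIndex_right H ((P ⊔ K) ⊓ L)]
    congr 1
    rw [← inf_assoc, inf_right_comm, inf_eq_left.mpr hHL]
  rw [← e1, e2, ← e3, ← e5, e6, e4]; ring

theorem result {G : Type*} [Group G] [Finite G]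
    (p : ℕ) [Fact p.Prime] (K : Subgroup G) [K.Normal] (P : Sylow p G) (N : Subgroup G)
    (hN : N = ((P : Subgroup G) ⊔ K) ⊓ Subgroup.normalizer (((P : Subgroup G) ⊓ K : Subgroup G) : Set G))
    [hn : (((P : Subgroup G) ⊓ K).subgroupOf N).Normal] :
    Nat.card (Sylow p G) =
      Nat.card (Sylow p (G ⧸ K)) * Nat.card (Sylow p K) * Nat.card (Sylow p (N ⧸ ((P : Subgroup G) ⊓ K).subgroupOf N)) := by
  subst hN
  have hPH : (P : Subgroup G) ≤ Subgroup.normalizer ((P : Subgroup G) : Set G) :=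
    Subgroup.le_normalizer
  have hHL : Subgroup.normalizer ((P : Subgroup G) : Set G) ≤
      Subgroup.normalizer (((P : Subgroup G) ⊓ K : Subgroup G) : Set G) := by
    intro g hg
    rw [Subgroup.mem_normalizer_iff] at hg ⊢
    intro h
    rw [Subgroup.mem_inf, Subgroup.mem_inf, ← hg h]
    have hK : h ∈ K ↔ g * h * g⁻¹ ∈ K := by
      constructor
      · intro hk; exact ‹K.Normal›.conj_mem h hk g
      · intro hk
        have h1 := ‹K.Normal›.conj_mem _ hk g⁻¹
        have h2 : g⁻¹ * (g * h * g⁻¹) * g⁻¹⁻¹ = h := by group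
        rw [h2] at h1; exact h1
    rw [hK]
  have hPN : (P : Subgroup G) ≤ ((P : Subgroup G) ⊔ K) ⊓
      Subgroup.normalizer (((P : Subgroup G) ⊓ K : Subgroup G) : Set G) :=
    le_inf le_sup_left (hPH.trans hHL)
  rw [P.card_eq_index_normalizer, card_sylow_quotient p K P, card_sylow_normal p K P,
    card_sylow_section p P _ ((P : Subgroup G) ⊓ K) hPN inf_le_left]
  exact main_identity _ _ (P : Subgroup G) K hPH hHL

end Cfsg.Agent.S4341
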