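import Cfsg.Statements.S4303

import Mathlib
import Cfsg.Agent.S4341
import Cfsg.Agent.S0025

set_option autoImplicit false
universe u
open Cfsg
open scoped Pointwise

namespace Cfsg.Agent.S4303

/-- conjugation action of a subgroup `P` on a subgroup `R` it normalizes -/
@[reducible] def conjAct {G : Type*} [Group G] (P R : Subgroup G)
    (h : P ≤ Subgroup.normalizer (R : Set G)) : MulAction P R where
  smul u x := ⟨(u : G) * x * (u : G)⁻¹, (Subgroup.mem_normalizer_iff.mp (h u.2) x).mp x.2⟩
  one_smul x := by
    apply Subtype.ext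
    show ((1 : P) : G) * x * ((1 : P) : G)⁻¹ = x
    simp
  mul_smul u v x := by
    apply Subtype.ext
    show ((u * v : P) : G) * x * ((u * v : P) : G)⁻¹ = (u : G) * ((v : G) * x * (v : G)⁻¹) * (u : G)⁻¹
    simp [mul_assoc]

theorem coprime_part_aux {G : Type*} [Group G] [Finite G] (p : ℕ) [Fact p.Prime] (K : Subgroup G)
    [K.Normal] (hK : ¬ p ∣ Nat.card K) (P : Sylow p G) (r : ℕ) [Fact r.Prime]
    (C : Subgroup G) (hC : C = K ⊓ Subgroup.normalizer ((P : Subgroup G) : Set G)) :
    r ^ ((Subgroup.normalizer ((P : Subgroup G) : Set G)).relIndex K).factorization r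
      ≡ 1 [MOD p] := by
  have hp : p.Prime := Fact.out
  have hr : r.Prime := Fact.out
  have hCK : C ≤ K := by rw [hC]; exact inf_le_left
  have hCN : C ≤ Subgroup.normalizer ((P : Subgroup G) : Set G) := by rw [hC]; exact inf_le_right
  have hcop : (Nat.card (P : Subgroup G)).Coprime (Nat.card K) := by
    obtain ⟨n, hn⟩ := IsPGroup.iff_card.mp P.isPGroup'
    rw [hn]
    exact Nat.Coprime.pow_left n ((Nat.Prime.coprime_iff_not_dvd hp).mpr hK)
  have hPK : (P : Subgroup G) ⊓ K = ⊥ := (Subgroup.disjoint_of_coprime_natCard hcop).eq_bot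
  have hcent : ∀ c ∈ C, ∀ u ∈ (P : Subgroup G), u * c = c * u := by
    intro c hc u hu
    have h1 : c * u * c⁻¹ * u⁻¹ ∈ (P : Subgroup G) :=
      Subgroup.mul_mem _ ((Subgroup.mem_normalizer_iff.mp (hCN hc) u).mp hu)
        (Subgroup.inv_mem _ hu)
    have h2 : c * u * c⁻¹ * u⁻¹ ∈ K := by
      have h3 : u * c⁻¹ * u⁻¹ ∈ K := ‹K.Normal›.conj_mem _ (Subgroup.inv_mem _ (hCK hc)) u
      have h4 : c * u * c⁻¹ * u⁻¹ = c * (u * c⁻¹ * u⁻¹) := by group
      rw [h4]; exact Subgroup.mul_mem _ (hCK hc) h3
    have h5 : c * u * c⁻¹ * u⁻¹ ∈ (P : Subgroup G) ⊓ K := ⟨h1, h2⟩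
    rw [hPK, Subgroup.mem_bot] at h5
    have h6 : c * u = c * u * c⁻¹ * u⁻¹ * (u * c) := by group
    rw [h6, h5, one_mul]
  obtain ⟨S⟩ : Nonempty (Sylow r C) := inferInstance
  have hR0card : Nat.card ((S : Subgroup C).map C.subtype) =
      r ^ (Nat.card C).factorization r := by
    rw [Subgroup.card_map_of_injective (Subgroup.subtype_injective _)]
    exact Sylow.card_eq_multiplicity S
  have hR0C : (S : Subgroup C).map C.subtype ≤ C := Subgroup.map_subtype_le _
  have hR0p : IsPGroup r ((S : Subgroup C).map C.subtype) := S.isPGroup'.map _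
  have hPR0 : (P : Subgroup G) ≤ Subgroup.normalizer
      (((S : Subgroup C).map C.subtype : Subgroup G) : Set G) := by
    intro u hu
    rw [Subgroup.mem_normalizer_iff]
    intro h
    constructor
    · intro hh
      have h1 := hcent h (hR0C hh) u hu
      have h2 : u * h * u⁻¹ = h := by rw [h1]; group
      rw [h2]; exact hh
    · intro hh
      have h1 := hcent _ (hR0C hh) u hu
      have h2 : u * h * u⁻¹ = h := by
        apply mul_left_cancel (a := u)
        rw [h1]; group
      rw [h2] at hh; exact hh
  have hPsolv : Group.IsSolvable (P : Subgroup G) :=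
    @IsNilpotent.to_isSolvable _ _ P.isPGroup'.isNilpotent
  have hPnK : (P : Subgroup G) ≤ Subgroup.normalizer (K : Set G) := by
    rw [Subgroup.normalizer_eq_top]; exact le_top
  obtain ⟨S', hS'1, hS'2⟩ := Cfsg.Agent.S0025.result (P : Subgroup G) K hPnK hcop (Or.inl hPsolv) r
    _ (hR0C.trans hCK) hR0p hPR0
  have hRcard : Nat.card ((S' : Subgroup K).map K.subtype) = r ^ (Nat.card K).factorization r := by
    rw [Subgroup.card_map_of_injective (Subgroup.subtype_injective _)]
    exact Sylow.card_eq_multiplicity S'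
  have hRK : (S' : Subgroup K).map K.subtype ≤ K := Subgroup.map_subtype_le _
  have hinf : (S' : Subgroup K).map K.subtype ⊓ C = (S : Subgroup C).map C.subtype := by
    symm
    apply Subgroup.eq_of_le_of_card_ge (le_inf hS'1 hR0C)
    rw [hR0card]
    have hpg : IsPGroup r ((S' : Subgroup K).map K.subtype ⊓ C : Subgroup G) :=
      (S'.isPGroup'.map K.subtype).to_le inf_le_left
    obtain ⟨j, hj⟩ := IsPGroup.iff_card.mp hpg
    rw [hj]
    have hdvd : r ^ j ∣ Nat.card C := by
      rw [← hj]; exact Subgroup.card_dvd_of_le inf_le_right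
    exact Nat.pow_le_pow_right hr.pos
      ((hr.pow_dvd_iff_le_factorization Nat.card_pos.ne').mp hdvd)
  let _ : MulAction (P : Subgroup G) ((S' : Subgroup K).map K.subtype : Subgroup G) :=
    conjAct _ _ hS'2
  have hfix := P.isPGroup'.card_modEq_card_fixedPoints
    ((S' : Subgroup K).map K.subtype : Subgroup G)
  have hfixcard : Nat.card (MulAction.fixedPoints (P : Subgroup G)
      ((S' : Subgroup K).map K.subtype : Subgroup G)) =
      Nat.card ((S' : Subgroup K).map K.subtype ⊓ C : Subgroup G) := by
    apply Nat.card_congr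
    refine ⟨fun x => ⟨x.1.1, x.1.2, ?_⟩, fun x => ⟨⟨x.1, x.2.1⟩, ?_⟩, ?_, ?_⟩
    · show (x.1 : G) ∈ C
      rw [hC, Subgroup.mem_inf]
      refine ⟨hRK x.1.2, ?_⟩
      rw [Subgroup.mem_normalizer_iff]
      have hx := x.2
      have hcomm : ∀ u ∈ (P : Subgroup G), u * (x.1 : G) = (x.1 : G) * u := by
        intro u hu
        have h1 := hx ⟨u, hu⟩
        have h2 : u * (x.1 : G) * u⁻¹ = (x.1 : G) := congrArg Subtype.val h1
        calc u * (x.1 : G) = u * (x.1 : G) * u⁻¹ * u := by group
          _ = (x.1 : G) * u := by rw [h2]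
      intro h
      constructor
      · intro hh
        have h1 := hcomm h hh
        have h2 : (x.1 : G) * h * (x.1 : G)⁻¹ = h := by
          rw [← h1]; group
        rw [h2]; exact hh
      · intro hh
        have h1 := hcomm _ hh
        have h2 : (x.1 : G) * h * (x.1 : G)⁻¹ = h := by
          apply mul_left_cancel (a := (x.1 : G))
          rw [← h1]; group
        rw [h2] at hh; exact hh
    · intro u
      apply Subtype.ext
      show (u : G) * x.1 * (u : G)⁻¹ = x.1
      have h1 := hcent x.1 x.2.2 u u.2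
      rw [h1]; group
    · intro x; rfl
    · intro x; rfl
  rw [hfixcard, hinf, hRcard, hR0card] at hfix
  have hmul : (Subgroup.normalizer ((P : Subgroup G) : Set G)).relIndex K * Nat.card C =
      Nat.card K := by
    have h1 := Cfsg.Agent.S4263.relIndex_mul_card hCK
    have h2 : C.relIndex K = (Subgroup.normalizer ((P : Subgroup G) : Set G)).relIndex K := by
      rw [hC, inf_comm, Subgroup.inf_relIndex_right]
    rw [h2] at h1; exact h1
  have hne1 : (Subgroup.normalizer ((P : Subgroup G) : Set G)).relIndex K ≠ 0 := by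
    intro h; rw [h, zero_mul] at hmul; exact Nat.card_pos.ne' hmul.symm
  have hfac : (Nat.card K).factorization r =
      ((Subgroup.normalizer ((P : Subgroup G) : Set G)).relIndex K).factorization r +
      (Nat.card C).factorization r := by
    rw [← hmul, Nat.factorization_mul hne1 Nat.card_pos.ne']; rfl
  rw [hfac, pow_add] at hfix
  have hcop2 : Nat.gcd p (r ^ (Nat.card C).factorization r) = 1 := by
    apply (Nat.Prime.coprime_iff_not_dvd hp).mpr
    intro h
    apply hK
    exact h.trans ((Nat.ordProj_dvd _ r).trans (Subgroup.card_dvd_of_le hCK))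
  apply Nat.ModEq.cancel_right_of_coprime hcop2
  rw [one_mul]; exact hfix

theorem coprime_part {G : Type*} [Group G] [Finite G] (p : ℕ) [Fact p.Prime] (K : Subgroup G)
    [K.Normal] (hK : ¬ p ∣ Nat.card K) (P : Sylow p G) (r : ℕ) [Fact r.Prime] :
    r ^ ((Subgroup.normalizer ((P : Subgroup G) : Set G)).relIndex K).factorization r
      ≡ 1 [MOD p] :=
  coprime_part_aux p K hK P r _ rfl

def Good (p m : ℕ) : Prop :=
  ∃ l : List ℕ, l.prod = m ∧ ∀ x ∈ l, (IsPrimePow x ∧ x % p = 1) ∨
    ∃ (S : Type u) (_ : Group S) (_ : Finite S), IsSimpleGroup S ∧ x = Nat.card (Sylow p S)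

theorem good_one (p : ℕ) : Good.{u} p 1 := ⟨[], rfl, by simp⟩

theorem good_mul {p a b : ℕ} (ha : Good.{u} p a) (hb : Good.{u} p b) : Good.{u} p (a * b) := by
  obtain ⟨l1, h1, h1'⟩ := ha
  obtain ⟨l2, h2, h2'⟩ := hb
  refine ⟨l1 ++ l2, by rw [List.prod_append, h1, h2], ?_⟩
  intro x hx
  rcases List.mem_append.mp hx with h | h
  · exact h1' x h
  · exact h2' x h

theorem good_of_parts (p : ℕ) [Fact p.Prime] (t : ℕ) (ht : t ≠ 0)
    (h : ∀ r : ℕ, r.Prime → r ^ t.factorization r ≡ 1 [MOD p]) : Good.{u} p t := by
  refine ⟨t.primeFactors.toList.map (fun r => r ^ t.factorization r), ?_, ?_⟩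
  · rw [Finset.prod_map_toList]
    conv_rhs => rw [← Nat.prod_factorization_pow_eq_self ht]
    rw [Finsupp.prod, Nat.support_factorization]
  · intro x hx
    left
    obtain ⟨r, hr, rfl⟩ := List.mem_map.mp hx
    rw [Finset.mem_toList] at hr
    have hrp := Nat.prime_of_mem_primeFactors hr
    constructor
    · exact hrp.isPrimePow.pow
        (Nat.Prime.factorization_pos_of_dvd hrp ht (Nat.dvd_of_mem_primeFactors hr)).ne'
    · have h1 := h r hrp
      rw [Nat.ModEq, Nat.mod_eq_of_lt (Fact.out : p.Prime).one_lt] at h1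
      exact h1

theorem aux (p : ℕ) [Fact p.Prime] : ∀ (n : ℕ) (G : Type u) [Group G] [Finite G],
    Nat.card G = n → Good.{u} p (Nat.card (Sylow p G)) := by
  intro n
  induction n using Nat.strong_induction_on with
  | _ n ih =>
    intro G _ _ hn
    by_cases hsimple : ∀ H : Subgroup G, H.Normal → H = ⊥ ∨ H = ⊤
    · by_cases hnt : Nontrivial G
      · have hS : IsSimpleGroup G := ⟨hsimple⟩
        refine ⟨[Nat.card (Sylow p G)], by simp, ?_⟩
        intro x hx
        right
        rw [List.mem_singleton] at hx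
        exact ⟨G, inferInstance, inferInstance, hS, hx⟩
      · rw [not_nontrivial_iff_subsingleton] at hnt
        obtain ⟨P⟩ : Nonempty (Sylow p G) := inferInstance
        have h1 : Nat.card (Sylow p G) ∣ (P : Subgroup G).index := P.card_dvd_index
        have h2 : (P : Subgroup G).index ∣ Nat.card G := Subgroup.index_dvd_card _
        have h3 : Nat.card G = 1 := Nat.card_eq_one_iff_unique.mpr ⟨hnt, ⟨1⟩⟩
        rw [h3] at h2
        have h4 : Nat.card (Sylow p G) = 1 := Nat.dvd_one.mp (h1.trans h2)
        rw [h4]; exact good_one p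
    · push Not at hsimple
      obtain ⟨K, hKn, hKbot, hKtop⟩ := hsimple
      obtain ⟨P⟩ : Nonempty (Sylow p G) := inferInstance
      have hlt : Nat.card (G ⧸ K) < n := by
        rw [← hn, ← Subgroup.index_eq_card]
        have h1 := Subgroup.card_mul_index K
        have h2 : 0 < K.index := Nat.pos_of_ne_zero Subgroup.index_ne_zero_of_finite
        have h3 : 1 < Nat.card K := by
          rw [Subgroup.one_lt_card_iff_ne_bot]; exact hKbot
        nlinarith
      have hq : Good.{u} p (Nat.card (Sylow p (G ⧸ K))) := ih _ hlt (G ⧸ K) rfl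
      by_cases hpK : p ∣ Nat.card K
      · have hKlt : Nat.card K < n := by
          rw [← hn]
          by_contra hcon
          push Not at hcon
          exact hKtop (Subgroup.eq_top_of_le_card K hcon)
        have hk : Good.{u} p (Nat.card (Sylow p K)) := ih _ hKlt K rfl
        have hnorm : (((P : Subgroup G) ⊓ K).subgroupOf (((P : Subgroup G) ⊔ K) ⊓
            Subgroup.normalizer (((P : Subgroup G) ⊓ K : Subgroup G) : Set G))).Normal :=
          Subgroup.normal_subgroupOf_of_le_normalizer inf_le_right
        have hform := Cfsg.Agent.S4341.result p K P _ rfl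
        have hPKne : (P : Subgroup G) ⊓ K ≠ ⊥ := by
          have hidx : ¬ p ∣ (P : Subgroup G).relIndex K := fun h =>
            P.not_dvd_index (h.trans (Cfsg.Agent.S4263.relIndex_dvd_index_of_normal' _ K))
          intro hbot
          have h5 : (P : Subgroup G).relIndex K = Nat.card K := by
            rw [← Subgroup.inf_relIndex_right, hbot, Subgroup.relIndex_bot_left]
          rw [h5] at hidx; exact hidx hpK
        have hPKN : (P : Subgroup G) ⊓ K ≤ ((P : Subgroup G) ⊔ K) ⊓
            Subgroup.normalizer (((P : Subgroup G) ⊓ K : Subgroup G) : Set G) :=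
          le_inf (inf_le_left.trans le_sup_left) Subgroup.le_normalizer
        have hQne : (((P : Subgroup G) ⊓ K).subgroupOf (((P : Subgroup G) ⊔ K) ⊓
            Subgroup.normalizer (((P : Subgroup G) ⊓ K : Subgroup G) : Set G))) ≠ ⊥ := by
          intro h
          rw [Subgroup.subgroupOf_eq_bot] at h
          exact hPKne (h.eq_bot_of_le hPKN)
        have hlt3 : Nat.card ((((P : Subgroup G) ⊔ K) ⊓
            Subgroup.normalizer (((P : Subgroup G) ⊓ K : Subgroup G) : Set G) : Subgroup G) ⧸
            (((P : Subgroup G) ⊓ K).subgroupOf (((P : Subgroup G) ⊔ K) ⊓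
            Subgroup.normalizer (((P : Subgroup G) ⊓ K : Subgroup G) : Set G)))) < n := by
          rw [← hn, ← Subgroup.index_eq_card]
          have h1 := Subgroup.index_mul_card (((P : Subgroup G) ⊓ K).subgroupOf
            (((P : Subgroup G) ⊔ K) ⊓
            Subgroup.normalizer (((P : Subgroup G) ⊓ K : Subgroup G) : Set G)))
          have h2 : 1 < Nat.card (((P : Subgroup G) ⊓ K).subgroupOf
            (((P : Subgroup G) ⊔ K) ⊓
            Subgroup.normalizer (((P : Subgroup G) ⊓ K : Subgroup G) : Set G))) := by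
            rw [Subgroup.one_lt_card_iff_ne_bot]; exact hQne
          have h3 : Nat.card ((((P : Subgroup G) ⊔ K) ⊓
            Subgroup.normalizer (((P : Subgroup G) ⊓ K : Subgroup G) : Set G) : Subgroup G))
            ≤ Nat.card G := Subgroup.card_le_card_group _
          have h4 : 0 < (((P : Subgroup G) ⊓ K).subgroupOf (((P : Subgroup G) ⊔ K) ⊓
            Subgroup.normalizer (((P : Subgroup G) ⊓ K : Subgroup G) : Set G))).index :=
            Nat.pos_of_ne_zero Subgroup.index_ne_zero_of_finite
          nlinarith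
        have h3 := ih _ hlt3 _ rfl
        rw [hform]; exact good_mul (good_mul hq hk) h3
      · have hPc : Nat.card (Sylow p G) =
            (Subgroup.normalizer ((P : Subgroup G) : Set G)).index :=
          P.card_eq_index_normalizer
        have h1 : Nat.card (Sylow p G) =
            (Subgroup.normalizer ((P : Subgroup G) : Set G)).relIndex K *
              Nat.card (Sylow p (G ⧸ K)) := by
          rw [Cfsg.Agent.S4341.card_sylow_quotient p K P, hPc,
            ← Cfsg.Agent.S4345.relIndex_sup_eq _ K]
          exact (Subgroup.relIndex_mul_index le_sup_left).symm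
        rw [h1]
        refine good_mul ?_ hq
        apply good_of_parts
        · intro h0
          rw [h0, zero_mul] at h1
          exact Nat.card_pos.ne' h1
        · intro r hr
          have : Fact r.Prime := ⟨hr⟩
          exact coprime_part p K hpK P r

theorem result {G : Type u} [Group G] [Finite G]
    (p : ℕ) [Fact p.Prime] :
    ∃ l : List ℕ, l.prod = Nat.card (Sylow p G) ∧
      ∀ m ∈ l, (IsPrimePow m ∧ m % p = 1) ∨
        ∃ (S : Type u) (_ : Group S) (_ : Finite S), IsSimpleGroup S ∧ m = Nat.card (Sylow p S) := by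
  exact aux p _ G rfl

end Cfsg.Agent.S4303
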