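import Cfsg.Statements.S4304

import Mathlib
import Cfsg.Agent.S4303
import Cfsg.Agent.S4263

set_option autoImplicit false
open Cfsg
open scoped Pointwise

namespace Cfsg.Agent.S4304

universe u

theorem faithful {S : Type*} [Group S] [Finite S] [IsSimpleGroup S] (p : ℕ) [Fact p.Prime]
    (hn : Nat.card (Sylow p S) ≠ 1) (g : S) (hg : ∀ Q : Sylow p S, g • Q = Q) : g = 1 := by
  have hker : (MulAction.toPermHom S (Sylow p S)).ker = ⊥ ∨
      (MulAction.toPermHom S (Sylow p S)).ker = ⊤ :=
    ((MulAction.toPermHom S (Sylow p S)).normal_ker).eq_bot_or_eq_top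
  have hgk : g ∈ (MulAction.toPermHom S (Sylow p S)).ker := by
    rw [MonoidHom.mem_ker]
    refine Equiv.ext fun Q => ?_
    show g • Q = Q
    exact hg Q
  rcases hker with h | h
  · rw [h, Subgroup.mem_bot] at hgk
    exact hgk
  · exfalso
    apply hn
    obtain ⟨P⟩ : Nonempty (Sylow p S) := inferInstance
    rw [Nat.card_eq_one_iff_unique]
    refine ⟨⟨fun Q R => ?_⟩, ⟨P⟩⟩
    obtain ⟨x, hx⟩ := MulAction.exists_smul_eq S Q R
    have hxk : x ∈ (MulAction.toPermHom S (Sylow p S)).ker := by
      rw [h]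
      trivial
    rw [MonoidHom.mem_ker] at hxk
    have h2 := congrArg (fun σ : Equiv.Perm (Sylow p S) => σ Q) hxk
    have h3 : x • Q = Q := by simpa using h2
    rw [← hx, h3]

theorem card_dvd_factorial {S : Type*} [Group S] [Finite S] [IsSimpleGroup S] (p : ℕ)
    [Fact p.Prime] (hn : Nat.card (Sylow p S) ≠ 1) :
    Nat.card S ∣ (Nat.card (Sylow p S)).factorial := by
  classical
  have hinj : Function.Injective (MulAction.toPermHom S (Sylow p S)) := by
    rw [injective_iff_map_eq_one]
    intro g hg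
    apply faithful p hn g
    intro Q
    have h2 := congrArg (fun σ : Equiv.Perm (Sylow p S) => σ Q) hg
    simpa using h2
  have h3 := Subgroup.card_dvd_of_injective _ hinj
  rwa [Nat.card_perm] at h3

theorem brodkey {G : Type*} [Group G] [Finite G] (p : ℕ) [Fact p.Prime]
    (hab : ∀ P : Sylow p G, ∀ a ∈ (P : Subgroup G), ∀ b ∈ (P : Subgroup G), a * b = b * a) :
    ∃ P Q : Sylow p G, ∀ R : Sylow p G, (P : Subgroup G) ⊓ Q ≤ R := by
  obtain ⟨⟨P, Q⟩, hmin⟩ := Finite.exists_min
    (fun x : Sylow p G × Sylow p G => Nat.card ((x.1 : Subgroup G) ⊓ x.2 : Subgroup G))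
  refine ⟨P, Q, fun R => ?_⟩
  have hnorm : ∀ (P' : Sylow p G), (P : Subgroup G) ⊓ Q ≤ P' →
      (P' : Subgroup G) ≤ Subgroup.normalizer (((P : Subgroup G) ⊓ Q : Subgroup G) : Set G) := by
    intro P' hle a ha
    rw [Subgroup.mem_normalizer_iff]
    intro d
    constructor
    · intro hd
      have : a * d * a⁻¹ = d := by
        rw [hab P' a ha d (hle hd), mul_inv_cancel_right]
      rw [this]
      exact hd
    · intro hd
      have : a * d * a⁻¹ = d := by
        have h1 := hab P' a⁻¹ (Subgroup.inv_mem _ ha) _ (hle hd)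
        have h1' : d * a⁻¹ = a * d * a⁻¹ * a⁻¹ := by
          rw [← h1]
          group
        exact (mul_right_cancel h1').symm
      rw [this] at hd
      exact hd
  have hPN := hnorm P inf_le_left
  have hQN := hnorm Q inf_le_right
  set D : Subgroup G := (P : Subgroup G) ⊓ Q with hD
  set N : Subgroup G := Subgroup.normalizer (D : Set G) with hN
  -- R ⊓ N inside a conjugate of P by an element of N
  have hex : ∃ x ∈ N, ∀ z ∈ (R : Subgroup G) ⊓ N, x⁻¹ * z * x ∈ (P : Subgroup G) := by
    have hpg : IsPGroup p (((R : Subgroup G) ⊓ N).subgroupOf N) :=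
      (R.isPGroup'.to_le inf_le_left).comap_subtype
    obtain ⟨R', hR'⟩ := hpg.exists_le_sylow
    obtain ⟨x, hx⟩ := MulAction.exists_smul_eq N (P.subtype hPN) R'
    refine ⟨x, x.2, fun z hz => ?_⟩
    have h1 : (⟨z, hz.2⟩ : N) ∈ (R' : Subgroup N) := hR' (by
      rw [Subgroup.mem_subgroupOf]
      exact hz)
    rw [← hx, Sylow.coe_subgroup_smul,
      Subgroup.mem_pointwise_smul_iff_inv_smul_mem] at h1
    have h2 : ((x⁻¹ * ⟨z, hz.2⟩ * x : N) : G) ∈ (P : Subgroup G) := by
      have h3 : (MulAut.conj x)⁻¹ • (⟨z, hz.2⟩ : N) = x⁻¹ * ⟨z, hz.2⟩ * x := by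
        simp [MulAut.smul_def, MulAut.conj_inv_apply]
      rw [h3] at h1
      exact h1
    simpa using h2
  obtain ⟨x, hxN, hx⟩ := hex
  have hxD : ∀ d, d ∈ D ↔ x * d * x⁻¹ ∈ D := Subgroup.mem_normalizer_iff.mp hxN
  have hsub : (R : Subgroup G) ⊓ ((x • Q : Sylow p G) : Subgroup G) ≤ D := by
    intro z hz
    have hzR : z ∈ (R : Subgroup G) := hz.1
    have hzQ : z ∈ ((x • Q : Sylow p G) : Subgroup G) := hz.2
    rw [Sylow.coe_subgroup_smul, Subgroup.mem_pointwise_smul_iff_inv_smul_mem] at hzQ
    have hzQ' : x⁻¹ * z * x ∈ (Q : Subgroup G) := by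
      have h3 : (MulAut.conj x)⁻¹ • z = x⁻¹ * z * x := by
        simp [MulAut.smul_def, MulAut.conj_inv_apply]
      rw [h3] at hzQ
      exact hzQ
    have hzN : z ∈ N := by
      have h4 : z = x * (x⁻¹ * z * x) * x⁻¹ := by group
      rw [h4]
      exact N.mul_mem (N.mul_mem hxN (hQN hzQ')) (N.inv_mem hxN)
    have hzP := hx z ⟨hzR, hzN⟩
    have hzD : x⁻¹ * z * x ∈ D := ⟨hzP, hzQ'⟩
    have h5 := (hxD _).mp hzD
    have h6 : x * (x⁻¹ * z * x) * x⁻¹ = z := by group
    rwa [h6] at h5
  have hcard := hmin (R, x • Q)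
  have heq : (R : Subgroup G) ⊓ ((x • Q : Sylow p G) : Subgroup G) = D :=
    Subgroup.eq_of_le_of_card_ge hsub hcard
  rw [← heq]
  exact inf_le_left

theorem sylow_card_le {S : Type*} [Group S] [Finite S] [IsSimpleGroup S] (p : ℕ) [Fact p.Prime]
    (hn : Nat.card (Sylow p S) ≠ 1)
    (hab : ∀ P : Sylow p S, ∀ a ∈ (P : Subgroup S), ∀ b ∈ (P : Subgroup S), a * b = b * a)
    (P : Sylow p S) : Nat.card (P : Subgroup S) ≤ Nat.card (Sylow p S) := by
  obtain ⟨P₁, Q₁, h⟩ := brodkey p hab
  have hbot : (P₁ : Subgroup S) ⊓ Q₁ = ⊥ := by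
    rw [eq_bot_iff]
    intro d hd
    rw [Subgroup.mem_bot]
    apply faithful p hn d
    intro R
    rw [Sylow.smul_eq_iff_mem_normalizer]
    exact Subgroup.le_normalizer (h R hd)
  have hinj : Function.Injective (fun u : (P₁ : Subgroup S) => (u : S) • Q₁) := by
    intro u v huv
    have huv' : (u : S) • Q₁ = (v : S) • Q₁ := huv
    have h1 : ((v : S)⁻¹ * (u : S)) • Q₁ = Q₁ := by
      rw [mul_smul, huv', inv_smul_smul]
    rw [Sylow.smul_eq_iff_mem_normalizer] at h1
    have h5 := P₁.isPGroup'.inf_normalizer_sylow Q₁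
    have h2 : (v : S)⁻¹ * (u : S) ∈ (P₁ : Subgroup S) ⊓ (Q₁ : Subgroup S) := by
      rw [← h5]
      exact ⟨Subgroup.mul_mem _ (Subgroup.inv_mem _ v.2) u.2, h1⟩
    rw [hbot, Subgroup.mem_bot] at h2
    apply Subtype.ext
    exact (inv_mul_eq_one.mp h2).symm
  have h3 := Nat.card_le_card_of_injective _ hinj
  have h4 : Nat.card (P : Subgroup S) = Nat.card (P₁ : Subgroup S) := by
    rw [Sylow.card_eq_multiplicity, Sylow.card_eq_multiplicity]
  rw [h4]
  exact h3

theorem sylow_card_eq {S : Type*} [Group S] [Finite S] [IsSimpleGroup S] (p : ℕ) [Fact p.Prime]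
    (hn : Nat.card (Sylow p S) = 2 * p + 1) (hfac : ¬ p ^ 3 ∣ (2 * p + 1).factorial)
    (hp3 : 3 ≤ p) (P : Sylow p S) : Nat.card (P : Subgroup S) = p := by
  have hp : p.Prime := Fact.out
  have hn1 : Nat.card (Sylow p S) ≠ 1 := by
    rw [hn]
    omega
  obtain ⟨k, hk⟩ := IsPGroup.iff_card.mp P.isPGroup'
  have hdvd : p ^ k ∣ (2 * p + 1).factorial := by
    rw [← hk, ← hn]
    exact (Subgroup.card_subgroup_dvd_card _).trans (card_dvd_factorial p hn1)
  have hk2 : k ≤ 2 := by
    by_contra h
    exact hfac ((pow_dvd_pow p (by omega : 3 ≤ k)).trans hdvd)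
  have hk0 : k ≠ 0 := by
    rintro rfl
    apply hn1
    rw [Nat.card_eq_one_iff_unique]
    refine ⟨⟨fun Q R => ?_⟩, ⟨P⟩⟩
    have hQ : Nat.card (Q : Subgroup S) = 1 := by
      rw [Sylow.card_eq_multiplicity, ← Sylow.card_eq_multiplicity P, hk, pow_zero]
    have hR : Nat.card (R : Subgroup S) = 1 := by
      rw [Sylow.card_eq_multiplicity, ← Sylow.card_eq_multiplicity P, hk, pow_zero]
    apply Sylow.ext
    rw [Subgroup.card_eq_one.mp hQ, Subgroup.card_eq_one.mp hR]
  have hab : ∀ Q : Sylow p S, ∀ a ∈ (Q : Subgroup S), ∀ b ∈ (Q : Subgroup S),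
      a * b = b * a := by
    intro Q a ha b hb
    have hQ : Nat.card (Q : Subgroup S) = p ^ k := by
      rw [Sylow.card_eq_multiplicity, ← hk, Sylow.card_eq_multiplicity]
    have hcomm : ∀ x y : (Q : Subgroup S), x * y = y * x := by
      interval_cases k
      · exact absurd rfl hk0
      · have hc : IsCyclic (Q : Subgroup S) := isCyclic_of_prime_card (p := p) (by simpa using hQ)
        intro x y
        obtain ⟨g, hg⟩ := hc.exists_generator
        obtain ⟨i, rfl⟩ := Subgroup.mem_zpowers_iff.mp (hg x)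
        obtain ⟨j, rfl⟩ := Subgroup.mem_zpowers_iff.mp (hg y)
        rw [← zpow_add, ← zpow_add, add_comm]
      · exact IsPGroup.commutative_of_card_eq_prime_sq hQ
    exact congrArg Subtype.val (hcomm ⟨a, ha⟩ ⟨b, hb⟩)
  have hle := sylow_card_le p hn1 hab P
  rw [hk, hn] at hle
  rw [hk]
  interval_cases k
  · exact absurd rfl hk0
  · simp
  · exfalso
    nlinarith

theorem toPerm_injective {S : Type*} [Group S] [Finite S] [IsSimpleGroup S] (p : ℕ)
    [Fact p.Prime] (hn : Nat.card (Sylow p S) ≠ 1) :
    Function.Injective (MulAction.toPermHom S (Sylow p S)) := by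
  rw [injective_iff_map_eq_one]
  intro g hg
  apply faithful p hn g
  intro Q
  have h2 := congrArg (fun σ : Equiv.Perm (Sylow p S) => σ Q) hg
  simpa using h2

theorem no_cent {S : Type*} [Group S] [Finite S] [IsSimpleGroup S] (p : ℕ) [Fact p.Prime]
    (hp3 : 3 ≤ p) (hpodd : Odd p)
    (hn : Nat.card (Sylow p S) = 2 * p + 1) (P : Sylow p S)
    (x : S) (hx : ∀ u ∈ (P : Subgroup S), x * u = u * x) (r : ℕ) (hr : r.Prime)
    (hxr : orderOf x = r) (hrp : r ≠ p) : False := by
  classical
  have hp : p.Prime := Fact.out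
  have hn1 : Nat.card (Sylow p S) ≠ 1 := by
    rw [hn]
    omega
  have : Fact r.Prime := ⟨hr⟩
  have hxP : x • P = P := by
    rw [Sylow.smul_eq_iff_mem_normalizer]
    show x ∈ Subgroup.normalizer ((P : Subgroup S) : Set S)
    rw [Subgroup.mem_normalizer_iff]
    intro u
    constructor
    · intro hu
      have h0 : x * u * x⁻¹ = u := by
        rw [hx u hu, mul_inv_cancel_right]
      rw [h0]
      exact hu
    · intro hu
      have h1 := hx _ hu
      have h2 : x * u * x⁻¹ = u := by
        have h3 : x * (x * u * x⁻¹) = x * u := by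
          rw [h1]
          group
        exact mul_left_cancel h3
      rw [h2] at hu
      exact hu
  let F : SubMulAction (P : Subgroup S) (Sylow p S) :=
    { carrier := {Q | x • Q = Q}
      smul_mem' := by
        intro u Q hQ
        show x • (u • Q) = u • Q
        have h1 : x • ((u : S) • Q) = (u : S) • (x • Q) := by
          rw [← mul_smul, ← mul_smul, hx u u.2]
        have h2 : u • Q = (u : S) • Q := rfl
        have hQ' : x • Q = Q := hQ
        rw [h2, h1, hQ'] }
  have hcardfix : Nat.card (MulAction.fixedPoints (P : Subgroup S) F) = 1 := by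
    rw [Nat.card_eq_one_iff_exists]
    refine ⟨⟨⟨P, hxP⟩, ?_⟩, ?_⟩
    · intro u
      apply Subtype.ext
      show (u : S) • P = P
      rw [Sylow.smul_eq_iff_mem_normalizer]
      exact Subgroup.le_normalizer u.2
    · rintro ⟨⟨Q, hQ⟩, hfix⟩
      apply Subtype.ext
      apply Subtype.ext
      show Q = P
      have hPN : ∀ u ∈ (P : Subgroup S), u ∈ Subgroup.normalizer ((Q : Subgroup S) : Set S) := by
        intro u hu
        have h1 := hfix ⟨u, hu⟩
        have h2 : (u : S) • Q = Q := congrArg (fun q : F => (q : Sylow p S)) h1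
        rwa [Sylow.smul_eq_iff_mem_normalizer] at h2
      have h3 := P.isPGroup'.inf_normalizer_sylow Q
      have hPQ : (P : Subgroup S) ≤ Q := by
        intro u hu
        have h4 : u ∈ (P : Subgroup S) ⊓ (Q : Subgroup S) := by
          rw [← h3]
          exact ⟨hu, hPN u hu⟩
        exact h4.2
      exact (Sylow.ext (P.3 Q.isPGroup' hPQ))
  have hmod := P.isPGroup'.card_modEq_card_fixedPoints F
  rw [hcardfix] at hmod
  have hFinj : Function.Injective (fun q : F => (q : Sylow p S)) := Subtype.val_injective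
  have hFle : Nat.card F ≤ 2 * p + 1 := by
    rw [← hn]
    exact Nat.card_le_card_of_injective _ hFinj
  have hxPG : IsPGroup r (Subgroup.zpowers x) := by
    apply IsPGroup.of_card (n := 1)
    rw [Nat.card_zpowers, hxr, pow_one]
  have hmod2 := hxPG.card_modEq_card_fixedPoints (Sylow p S)
  have hfixeq : Nat.card (MulAction.fixedPoints (Subgroup.zpowers x) (Sylow p S))
      = Nat.card F := by
    apply Nat.card_congr
    refine Equiv.subtypeEquivRight (fun Q => ?_)
    constructor
    · intro h
      exact h ⟨x, Subgroup.mem_zpowers x⟩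
    · intro h g
      obtain ⟨g, hg⟩ := g
      obtain ⟨i, rfl⟩ := Subgroup.mem_zpowers_iff.mp hg
      show (x ^ i) • Q = Q
      have h5 : x ∈ MulAction.stabilizer S Q := h
      exact (MulAction.stabilizer S Q).zpow_mem h5 i
  rw [hfixeq, hn] at hmod2
  -- arithmetic
  have hf1 : Nat.card F % p = 1 := by
    have h6 : Nat.card F % p = 1 % p := hmod
    rwa [Nat.mod_eq_of_lt (by omega : 1 < p)] at h6
  obtain ⟨q, hq⟩ : ∃ q, Nat.card F = p * q + 1 := ⟨Nat.card F / p, by
    have := Nat.div_add_mod (Nat.card F) p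
    omega⟩
  have hq2 : q ≤ 2 := by
    by_contra h
    have : p * 3 ≤ p * q := Nat.mul_le_mul_left p (by omega)
    omega
  have hxne : x ≠ 1 := by
    rintro rfl
    rw [orderOf_one] at hxr
    exact hr.one_lt.ne hxr
  interval_cases q
  · -- one fixed point: r = 2, odd permutation
    have hr2 : r = 2 := by
      have h7 : r ∣ (2 * p + 1) - Nat.card F := (Nat.modEq_iff_dvd' (by omega)).mp hmod2.symm
      rw [hq] at h7
      have h8 : r ∣ 2 * p := by
        have : 2 * p + 1 - (p * 0 + 1) = 2 * p := by omega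
        rwa [this] at h7
      rcases (Nat.Prime.dvd_mul hr).mp h8 with h9 | h9
      · exact (Nat.prime_dvd_prime_iff_eq hr Nat.prime_two).mp h9
      · exact absurd ((Nat.prime_dvd_prime_iff_eq hr hp).mp h9) hrp
    subst hr2
    have hinj := toPerm_injective (S := S) p hn1
    have hfin : Fintype (Sylow p S) := Fintype.ofFinite _
    set σ : Equiv.Perm (Sylow p S) := MulAction.toPermHom S (Sylow p S) x with hσ
    have hσ2 : orderOf σ = 2 := by
      rw [hσ, orderOf_injective _ hinj, hxr]
    obtain ⟨m, hm⟩ := Equiv.Perm.cycleType_prime_order (σ := σ) (by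
      rw [hσ2]
      exact Nat.prime_two)
    rw [hσ2] at hm
    have hsum : σ.cycleType.sum = σ.support.card := Equiv.Perm.sum_cycleType σ
    have hcompl : Nat.card F = (σ.supportᶜ).card := by
      rw [← Fintype.card_coe, ← Nat.card_eq_fintype_card]
      apply Nat.card_congr
      refine Equiv.subtypeEquivRight (fun Q => ?_)
      rw [Finset.mem_compl, Equiv.Perm.mem_support, not_not]
      exact Iff.rfl
    have hsupp : σ.support.card = 2 * p := by
      have h10 := Finset.card_compl σ.support
      have h11 : Fintype.card (Sylow p S) = 2 * p + 1 := by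
        rw [← Nat.card_eq_fintype_card, hn]
      have h12 := Finset.card_le_univ σ.support
      rw [← hcompl, hq, h11] at h10
      rw [h11] at h12
      omega
    rw [hm, Multiset.sum_replicate, hsupp] at hsum
    have hm1 : m + 1 = p := by
      simp only [smul_eq_mul] at hsum
      omega
    have hsign : Equiv.Perm.sign σ = -1 := by
      rw [Equiv.Perm.sign_of_cycleType, hm, Multiset.sum_replicate, Multiset.card_replicate, hm1]
      apply Odd.neg_one_pow
      obtain ⟨j, hj⟩ := hpodd
      exact ⟨3 * j + 1, by simp only [smul_eq_mul]; omega⟩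
    have hker : ((Equiv.Perm.sign).comp (MulAction.toPermHom S (Sylow p S))).ker = ⊥ ∨
        ((Equiv.Perm.sign).comp (MulAction.toPermHom S (Sylow p S))).ker = ⊤ :=
      (MonoidHom.normal_ker _).eq_bot_or_eq_top
    rcases hker with h | h
    · have hinj2 : Function.Injective
          ((Equiv.Perm.sign).comp (MulAction.toPermHom S (Sylow p S))) :=
        (MonoidHom.ker_eq_bot_iff _).mp h
      have h13 := Subgroup.card_dvd_of_injective _ hinj2
      rw [Nat.card_eq_fintype_card (α := ℤˣ), Fintype.card_units_int] at h13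
      have h14 : Nat.card (Sylow p S) ∣ Nat.card S := by
        have h15 : Nat.card (Sylow p S) =
            (Subgroup.normalizer ((P : Subgroup S) : Set S)).index := P.card_eq_index_normalizer
        rw [h15]
        exact Subgroup.index_dvd_card _
      have h16 := Nat.le_of_dvd (by norm_num) (h14.trans h13)
      rw [hn] at h16
      omega
    · have h17 : x ∈ ((Equiv.Perm.sign).comp (MulAction.toPermHom S (Sylow p S))).ker := by
        rw [h]
        trivial
      rw [MonoidHom.mem_ker, MonoidHom.comp_apply, ← hσ, hsign] at h17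
      exact absurd h17 (by decide)
  · -- p + 1 fixed points: r ∣ p
    have h7 : r ∣ (2 * p + 1) - Nat.card F := (Nat.modEq_iff_dvd' (by omega)).mp hmod2.symm
    rw [hq] at h7
    have h8 : r ∣ p := by
      have : 2 * p + 1 - (p * 1 + 1) = p := by omega
      rwa [this] at h7
    exact hrp ((Nat.prime_dvd_prime_iff_eq hr hp).mp h8)
  · -- all fixed: x = 1
    apply hxne
    apply faithful p hn1 x
    intro Q
    have hbij := Function.Injective.bijective_of_nat_card_le hFinj (by
      rw [hn, hq]
      omega)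
    obtain ⟨q', hq'⟩ := hbij.2 Q
    have h18 : x • (q' : Sylow p S) = q' := q'.2
    rw [← hq']
    exact h18

theorem burnside_contra {S : Type*} [Group S] [Finite S] [IsSimpleGroup S] (q : ℕ)
    [Fact q.Prime] (Q : Sylow q S)
    (hNC : Subgroup.normalizer (Q : Set S) ≤ Subgroup.centralizer (Q : Set S))
    (h1 : Nat.card (Q : Subgroup S) ≠ 1) (h2 : Nat.card (Q : Subgroup S) ≠ Nat.card S) :
    False := by
  have hc := MonoidHom.ker_transferSylow_isComplement' Q hNC
  have hcard := hc.card_mul_card
  rcases (MonoidHom.normal_ker (MonoidHom.transferSylow Q hNC)).eq_bot_or_eq_top with h | h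
  · rw [h, Subgroup.card_bot, one_mul] at hcard
    exact h2 hcard
  · rw [h, Subgroup.card_top] at hcard
    have hpos : 0 < Nat.card S := Nat.card_pos
    exact h1 (Nat.eq_of_mul_eq_mul_left hpos (hcard.trans (mul_one _).symm))

theorem relIndex_dvd_totient {S : Type*} [Group S] [Finite S] (q : ℕ) [Fact q.Prime]
    (Q : Sylow q S) (hQ : IsCyclic (Q : Subgroup S)) :
    (Subgroup.centralizer (Q : Set S)).relIndex (Subgroup.normalizer (Q : Set S)) ∣
      (Nat.card (Q : Subgroup S)).totient := by
  have key := Subgroup.card_dvd_of_injective _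
    (QuotientGroup.kerLift_injective (Subgroup.normalizerMonoidHom (Q : Subgroup S)))
  rw [Subgroup.normalizerMonoidHom_ker, ← Subgroup.index, ← Subgroup.relIndex] at key
  rw [IsCyclic.card_mulAut] at key
  exact key

theorem even_contra {S : Type*} [Group S] [Finite S] [IsSimpleGroup S] (p : ℕ) [Fact p.Prime]
    (hp3 : 3 ≤ p) (hn_odd : Odd (Nat.card (Sylow p S))) (P : Sylow p S)
    (hP : Nat.card (P : Subgroup S) = p)
    (hC : ∀ x : S, (∀ u ∈ (P : Subgroup S), x * u = u * x) → orderOf x ≠ 2)
    (h2 : 2 ∣ Nat.card S) : False := by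
  have hp : p.Prime := Fact.out
  have : Fact (Nat.Prime 2) := ⟨Nat.prime_two⟩
  obtain ⟨T⟩ : Nonempty (Sylow 2 S) := inferInstance
  have hNidx : ¬ 2 ∣ (Subgroup.normalizer ((P : Subgroup S) : Set S)).index := by
    have h15 : Nat.card (Sylow p S) =
        (Subgroup.normalizer ((P : Subgroup S) : Set S)).index := P.card_eq_index_normalizer
    rw [← h15]
    intro h
    exact (Nat.not_even_iff_odd.mpr hn_odd) (even_iff_two_dvd.mpr h)
  have hfix := T.isPGroup'.nonempty_fixed_point_of_prime_not_dvd_card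
    (S ⧸ Subgroup.normalizer ((P : Subgroup S) : Set S)) (by rwa [← Subgroup.index_eq_card])
  obtain ⟨c, hc⟩ := hfix
  induction c using QuotientGroup.induction_on with
  | H g =>
    have hTN : ∀ t ∈ (T : Subgroup S),
        g⁻¹ * t * g ∈ Subgroup.normalizer ((P : Subgroup S) : Set S) := by
      intro t ht
      have h1 := hc ⟨t, ht⟩
      have h2' : ((t * g : S) : S ⧸ Subgroup.normalizer ((P : Subgroup S) : Set S))
          = (g : S ⧸ Subgroup.normalizer ((P : Subgroup S) : Set S)) := h1
      rw [QuotientGroup.eq] at h2'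
      have h3 := Subgroup.inv_mem _ h2'
      have e : ((t * g)⁻¹ * g)⁻¹ = g⁻¹ * t * g := by group
      rwa [e] at h3
    let f : (T : Subgroup S) →* Subgroup.normalizer ((P : Subgroup S) : Set S) :=
      { toFun := fun t => ⟨g⁻¹ * t * g, hTN t t.2⟩
        map_one' := by
          apply Subtype.ext
          simp
        map_mul' := by
          intro a b
          apply Subtype.ext
          simp [mul_assoc] }
    have hψ : Function.Injective ((Subgroup.normalizerMonoidHom (P : Subgroup S)).comp f) := by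
      rw [injective_iff_map_eq_one]
      intro t ht
      have h4 : f t ∈ (Subgroup.normalizerMonoidHom (P : Subgroup S)).ker := ht
      rw [Subgroup.normalizerMonoidHom_ker, Subgroup.mem_subgroupOf] at h4
      have h5 : g⁻¹ * (t : S) * g ∈ Subgroup.centralizer ((P : Subgroup S) : Set S) := h4
      by_contra hne
      obtain ⟨k, hk⟩ := IsPGroup.iff_orderOf.mp T.isPGroup' t
      have hk0 : k ≠ 0 := by
        rintro rfl
        rw [pow_zero, orderOf_eq_one_iff] at hk
        exact hne hk
      have hord : orderOf (g⁻¹ * (t : S) * g) = 2 ^ k := by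
        have h6 := orderOf_injective (MulAut.conj g⁻¹).toMonoidHom (MulEquiv.injective _) (t : S)
        have h7 : (MulAut.conj g⁻¹).toMonoidHom (t : S) = g⁻¹ * (t : S) * g := by simp
        rw [h7] at h6
        rw [h6, Subgroup.orderOf_coe, hk]
      have h2dvd : 2 ∣ orderOf (g⁻¹ * (t : S) * g) := by
        rw [hord]
        exact dvd_pow_self 2 hk0
      have hw : orderOf ((g⁻¹ * (t : S) * g) ^ (orderOf (g⁻¹ * (t : S) * g) / 2)) = 2 :=
        orderOf_pow_orderOf_div (orderOf_pos _).ne' h2dvd
      apply hC _ _ hw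
      intro u hu
      have hcu := Subgroup.mem_centralizer_iff.mp h5 u hu
      exact (Commute.pow_left (show Commute (g⁻¹ * (t : S) * g) u from hcu.symm) _).eq
    have hcyc : IsCyclic (MulAut (P : Subgroup S)) := by
      have hPc : IsCyclic (P : Subgroup S) := isCyclic_of_prime_card (p := p) hP
      have e := IsCyclic.mulAutMulEquiv (P : Subgroup S)
      rw [hP] at e
      exact isCyclic_of_injective e.toMonoidHom e.injective
    have hTcyc : IsCyclic (T : Subgroup S) := isCyclic_of_injective _ hψ
    have hmin : (Nat.card S).minFac = 2 := (Nat.minFac_eq_two_iff _).mpr h2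
    have hNC := IsCyclic.normalizer_le_centralizer hmin hTcyc
    apply burnside_contra 2 T hNC
    · intro h1
      have h8 := Subgroup.card_mul_index (T : Subgroup S)
      rw [h1, one_mul] at h8
      exact T.not_dvd_index (by rw [h8]; exact h2)
    · intro h1
      obtain ⟨k, hk⟩ := IsPGroup.iff_card.mp T.isPGroup'
      have h9 : p ∣ Nat.card S := by
        rw [← hP]
        exact Subgroup.card_subgroup_dvd_card _
      rw [← h1, hk] at h9
      have h10 := (Nat.prime_dvd_prime_iff_eq hp Nat.prime_two).mp (hp.dvd_of_dvd_pow h9)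
      omega

theorem not_pp (n a b : ℕ) (ha : a.Prime) (hb : b.Prime) (hab : a ≠ b) (han : a ∣ n)
    (hbn : b ∣ n) : ¬ IsPrimePow n := by
  intro h
  rw [isPrimePow_nat_iff] at h
  obtain ⟨q, k, hq, hk, rfl⟩ := h
  have h1 := (Nat.prime_dvd_prime_iff_eq ha hq).mp (ha.dvd_of_dvd_pow han)
  have h2 := (Nat.prime_dvd_prime_iff_eq hb hq).mp (hb.dvd_of_dvd_pow hbn)
  exact hab (h1.trans h2.symm)

theorem reduce (p n : ℕ) [Fact p.Prime] (hn1 : n ≠ 1) (hnpp : ¬ IsPrimePow n)
    (hdiv : ∀ m, m ∣ n → m % p = 1 → m = 1 ∨ m = n)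
    (hsimple : ∀ (S : Type u) [Group S] [Finite S] [IsSimpleGroup S],
      Nat.card (Sylow p S) ≠ n)
    {G : Type u} [Group G] [Finite G] : Nat.card (Sylow p G) ≠ n := by
  intro hG
  obtain ⟨l, hprod, hl⟩ := Cfsg.Agent.S4303.result (G := G) p
  rw [hG] at hprod
  have hp : p.Prime := Fact.out
  have hall : ∀ m ∈ l, m = 1 := by
    intro m hm
    have hmd : m ∣ n := by
      rw [← hprod]
      exact List.dvd_prod hm
    have hmod : m % p = 1 := by
      rcases hl m hm with ⟨-, h⟩ | ⟨S, iG, iF, hS, hmS⟩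
      · exact h
      · have h3 := card_sylow_modEq_one p S
        rw [Nat.ModEq, Nat.mod_eq_of_lt hp.one_lt] at h3
        rw [hmS]
        exact h3
    rcases hdiv m hmd hmod with h | h
    · exact h
    · exfalso
      rcases hl m hm with ⟨hpp, -⟩ | ⟨S, iG, iF, hS, hmS⟩
      · rw [h] at hpp
        exact hnpp hpp
      · exact @hsimple S iG iF hS (hmS ▸ h)
  have h4 : l.prod = 1 := List.prod_eq_one hall
  rw [hprod] at h4
  exact hn1 h4

theorem simple_contra {S : Type*} [Group S] [Finite S] [IsSimpleGroup S] (p : ℕ) [Fact p.Prime]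
    (hp : p = 7 ∨ p = 17) (hn : Nat.card (Sylow p S) = 2 * p + 1) : False := by
  have hpp : p.Prime := Fact.out
  have hp3 : 3 ≤ p := by
    rcases hp with rfl | rfl <;> norm_num
  have hpodd : Odd p := by
    rcases hp with rfl | rfl <;> decide
  have hfac : ¬ p ^ 3 ∣ (2 * p + 1).factorial := by
    rcases hp with rfl | rfl <;> decide
  obtain ⟨P⟩ : Nonempty (Sylow p S) := inferInstance
  have hP := sylow_card_eq p hn hfac hp3 P
  have hn1 : Nat.card (Sylow p S) ≠ 1 := by
    rw [hn]
    omega
  have hC : ∀ x : S, (∀ u ∈ (P : Subgroup S), x * u = u * x) → ∀ r : ℕ, r.Prime →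
      orderOf x = r → r = p := by
    intro x hx r hr hxr
    by_contra hrp
    exact no_cent p hp3 hpodd hn P x hx r hr hxr hrp
  have hodd : ¬ 2 ∣ Nat.card S := by
    intro h2
    apply even_contra p hp3 (by rw [hn]; exact ⟨p, by ring⟩) P hP _ h2
    intro x hx hx2
    have h3 := hC x hx 2 Nat.prime_two hx2
    omega
  have hPc : IsCyclic (P : Subgroup S) := isCyclic_of_prime_card (p := p) hP
  have he1 : (Subgroup.centralizer (P : Set S)).relIndex (Subgroup.normalizer (P : Set S))
      ∣ p - 1 := by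
    have h4 := relIndex_dvd_totient p P hPc
    rwa [hP, Nat.totient_prime hpp] at h4
  have he2 : (Subgroup.centralizer (P : Set S)).relIndex (Subgroup.normalizer (P : Set S))
      ∣ Nat.card S :=
    (Subgroup.relIndex_dvd_card _ _).trans (Subgroup.card_subgroup_dvd_card _)
  have he_odd : ¬ 2 ∣ (Subgroup.centralizer (P : Set S)).relIndex
      (Subgroup.normalizer (P : Set S)) := fun h => hodd (h.trans he2)
  have hP1 : Nat.card (P : Subgroup S) ≠ 1 := by
    rw [hP]
    omega
  have hidx : (Subgroup.normalizer ((P : Subgroup S) : Set S)).index = 2 * p + 1 := by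
    have h15 : Nat.card (Sylow p S) =
        (Subgroup.normalizer ((P : Subgroup S) : Set S)).index := P.card_eq_index_normalizer
    rw [← h15, hn]
  have hPS : Nat.card (P : Subgroup S) ≠ Nat.card S := by
    intro h
    have h5 : (P : Subgroup S) = ⊤ := Subgroup.eq_top_of_card_eq _ h
    have h6 : Subgroup.normalizer ((P : Subgroup S) : Set S) = ⊤ :=
      top_le_iff.mp (h5 ▸ Subgroup.le_normalizer)
    rw [h6, Subgroup.index_top] at hidx
    omega
  have hne1 : (Subgroup.centralizer (P : Set S)).relIndex (Subgroup.normalizer (P : Set S))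
      ≠ 1 := by
    intro h
    rw [Subgroup.relIndex_eq_one] at h
    exact burnside_contra p P h hP1 hPS
  obtain ⟨e, he⟩ : ∃ e, (Subgroup.centralizer (P : Set S)).relIndex
      (Subgroup.normalizer (P : Set S)) = e := ⟨_, rfl⟩
  rw [he] at he1 he_odd hne1
  rcases hp with rfl | rfl
  · -- p = 7
    have hle : e ≤ 6 := Nat.le_of_dvd (by norm_num) he1
    have he3 : e = 3 := by
      interval_cases e <;> omega
    subst he3
    -- C = P
    have hPC : (P : Subgroup S) ≤ Subgroup.centralizer ((P : Subgroup S) : Set S) := by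
      intro u hu
      rw [Subgroup.mem_centralizer_iff]
      intro v hv
      obtain ⟨g, hg⟩ := hPc.exists_generator
      obtain ⟨i, hi⟩ := Subgroup.mem_zpowers_iff.mp (hg ⟨u, hu⟩)
      obtain ⟨j, hj⟩ := Subgroup.mem_zpowers_iff.mp (hg ⟨v, hv⟩)
      have hu' : u = ((g ^ i : (P : Subgroup S)) : S) := by rw [hi]
      have hv' : v = ((g ^ j : (P : Subgroup S)) : S) := by rw [hj]
      rw [hu', hv', ← Subgroup.coe_mul, ← Subgroup.coe_mul, ← zpow_add, ← zpow_add, add_comm]
    have hCp : IsPGroup 7 (Subgroup.centralizer ((P : Subgroup S) : Set S)) := by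
      rw [IsPGroup.iff_orderOf]
      intro c
      have hc0 : orderOf (c : S) ≠ 0 := (orderOf_pos _).ne'
      refine ⟨(orderOf (c : S)).primeFactorsList.length, ?_⟩
      rw [← Subgroup.orderOf_coe]
      apply Nat.eq_prime_pow_of_unique_prime_dvd hc0
      intro r hr hrd
      have hw : orderOf ((c : S) ^ (orderOf (c : S) / r)) = r := orderOf_pow_orderOf_div hc0 hrd
      apply hC _ _ r hr hw
      intro u hu
      have hcu := Subgroup.mem_centralizer_iff.mp c.2 u hu
      exact (Commute.pow_left (show Commute (c : S) u from hcu.symm) _).eq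
    have hCP : Subgroup.centralizer ((P : Subgroup S) : Set S) = (P : Subgroup S) :=
      P.3 hCp hPC
    have hCN : Subgroup.centralizer ((P : Subgroup S) : Set S) ≤
        Subgroup.normalizer ((P : Subgroup S) : Set S) := Subgroup.centralizer_le_normalizer _
    have hNcard := Cfsg.Agent.S4263.relIndex_mul_card hCN
    have he' : (Subgroup.centralizer ((P : Subgroup S) : Set S)).relIndex
        (Subgroup.normalizer ((P : Subgroup S) : Set S)) = 3 := he
    rw [he', hCP, hP] at hNcard
    have hS : Nat.card S = 315 := by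
      have h7 := Subgroup.card_mul_index (Subgroup.normalizer ((P : Subgroup S) : Set S))
      rw [hidx, ← hNcard] at h7
      omega
    have : Fact (Nat.Prime 5) := ⟨by norm_num⟩
    obtain ⟨Q⟩ : Nonempty (Sylow 5 S) := inferInstance
    obtain ⟨k, hk⟩ := IsPGroup.iff_card.mp Q.isPGroup'
    have hQdvd : 5 ^ k ∣ 315 := by
      rw [← hk, ← hS]
      exact Subgroup.card_subgroup_dvd_card _
    have hk1 : k ≤ 1 := by
      by_contra h
      have h8 : 5 ^ 2 ∣ 315 := (pow_dvd_pow 5 (by omega)).trans hQdvd
      norm_num at h8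
    have hk0 : k ≠ 0 := by
      rintro rfl
      have h9 := Subgroup.card_mul_index (Q : Subgroup S)
      rw [hk, pow_zero, one_mul, hS] at h9
      exact Q.not_dvd_index (by rw [h9]; norm_num)
    have hQ5 : Nat.card (Q : Subgroup S) = 5 := by
      interval_cases k
      · exact absurd rfl hk0
      · simpa using hk
    have hQc : IsCyclic (Q : Subgroup S) := isCyclic_of_prime_card (p := 5) hQ5
    have hd := relIndex_dvd_totient 5 Q hQc
    rw [hQ5, Nat.totient_prime (by norm_num)] at hd
    have hd2 : (Subgroup.centralizer (Q : Set S)).relIndex (Subgroup.normalizer (Q : Set S))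
        ∣ 315 := by
      rw [← hS]
      exact (Subgroup.relIndex_dvd_card _ _).trans (Subgroup.card_subgroup_dvd_card _)
    have h10 : (Subgroup.centralizer (Q : Set S)).relIndex (Subgroup.normalizer (Q : Set S))
        = 1 := Nat.eq_one_of_dvd_coprimes (by norm_num : Nat.Coprime (5 - 1) 315) hd hd2
    rw [Subgroup.relIndex_eq_one] at h10
    exact burnside_contra 5 Q h10 (by rw [hQ5]; norm_num) (by rw [hQ5, hS]; norm_num)
  · -- p = 17
    have hle : e ≤ 16 := Nat.le_of_dvd (by norm_num) he1
    have he1' : e = 1 := by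
      interval_cases e <;> omega
    exact hne1 he1'

theorem result {G : Type*} [Group G] [Finite G] : Nat.card (Sylow 7 G) ≠ 15 := by
  have : Fact (Nat.Prime 7) := ⟨by norm_num⟩
  apply reduce 7 15 (by norm_num)
    (not_pp 15 3 5 (by norm_num) (by norm_num) (by norm_num) (by norm_num) (by norm_num))
  · intro m hm hmod
    have hle := Nat.le_of_dvd (by norm_num) hm
    interval_cases m <;> omega
  · intro S _ _ _ hS
    exact simple_contra 7 (Or.inl rfl) hS

end Cfsg.Agent.S4304
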