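import Cfsg.Statements.S4236

import Mathlib
import Cfsg.Agent.S4304

set_option autoImplicit false
open Cfsg
open scoped Pointwise

namespace Cfsg.Agent.S4236

theorem result {G : Type*} [Group G] [Finite G] : Nat.card (Sylow 17 G) ≠ 35 := by
  have : Fact (Nat.Prime 17) := ⟨by norm_num⟩
  apply Cfsg.Agent.S4304.reduce 17 35 (by norm_num)
    (Cfsg.Agent.S4304.not_pp 35 5 7 (by norm_num) (by norm_num) (by norm_num) (by norm_num)
      (by norm_num))
  · intro m hm hmod
    have hle := Nat.le_of_dvd (by norm_num) hm
    interval_cases m <;> omega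
  · intro S _ _ _ hS
    exact Cfsg.Agent.S4304.simple_contra 17 (Or.inr rfl) hS

end Cfsg.Agent.S4236
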