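import Cfsg.Statements.S4269

import Mathlib

set_option autoImplicit false
open Cfsg
open scoped Pointwise

namespace Cfsg.Agent.S4269

open scoped commutatorElement

theorem mem_map_cj {G : Type*} [Group G] (H : Subgroup G) (g y : G) :
    y ∈ H.map (MulAut.conj g).toMonoidHom ↔ g⁻¹ * y * g ∈ H := by
  constructor
  · rintro ⟨z, hz, rfl⟩
    have e : g⁻¹ * ((MulAut.conj g).toMonoidHom z) * g = z := by
      simp [MulAut.conj_apply, mul_assoc]
    rw [e]
    exact hz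
  · intro h
    refine ⟨g⁻¹ * y * g, h, ?_⟩
    simp [MulAut.conj_apply, mul_assoc]

theorem mem_sup_of_normalizes {G : Type*} [Group G] (H K : Subgroup G)
    (hn : ∀ h ∈ H, ∀ c ∈ K, h * c * h⁻¹ ∈ K) (x : G) (hx : x ∈ H ⊔ K) :
    ∃ c ∈ K, ∃ h ∈ H, x = c * h := by
  rw [Subgroup.sup_eq_closure_mul] at hx
  induction hx using Subgroup.closure_induction with
  | mem y hy =>
    obtain ⟨h, hh, k, hk, rfl⟩ := hy
    exact ⟨h * k * h⁻¹, hn h hh k hk, h, hh, by group⟩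
  | one => exact ⟨1, K.one_mem, 1, H.one_mem, by simp⟩
  | mul a b _ _ ha hb =>
    obtain ⟨c₁, hc₁, h₁, hh₁, rfl⟩ := ha
    obtain ⟨c₂, hc₂, h₂, hh₂, rfl⟩ := hb
    exact ⟨c₁ * (h₁ * c₂ * h₁⁻¹), K.mul_mem hc₁ (hn h₁ hh₁ c₂ hc₂), h₁ * h₂,
      H.mul_mem hh₁ hh₂, by group⟩
  | inv a _ ha =>
    obtain ⟨c, hc, h, hh, rfl⟩ := ha
    exact ⟨h⁻¹ * c⁻¹ * h⁻¹⁻¹, hn h⁻¹ (H.inv_mem hh) c⁻¹ (K.inv_mem hc), h⁻¹, H.inv_mem hh,
      by group⟩

theorem comm_le_of_inv {G : Type*} [Group G] (H U : Subgroup G)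
    (hU : ∀ h ∈ H, U.map (MulAut.conj h).toMonoidHom = U) : ⁅H, U⁆ ≤ U := by
  rw [Subgroup.commutator_le]
  intro h hh u hu
  have h1 : h * u * h⁻¹ ∈ U := by
    have h2 : h * u * h⁻¹ ∈ U.map (MulAut.conj h).toMonoidHom := by
      rw [mem_map_cj]
      have e : h⁻¹ * (h * u * h⁻¹) * h = u := by group
      rw [e]
      exact hu
    rwa [hU h hh] at h2
  rw [commutatorElement_def]
  exact U.mul_mem h1 (U.inv_mem hu)

theorem conj_mem_iff {G : Type*} [Group G] (H : Subgroup G) (h : G) (hh : h ∈ H) (w : G) :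
    h⁻¹ * w * h ∈ H ↔ w ∈ H := by
  constructor
  · intro hy
    have e : w = h * (h⁻¹ * w * h) * h⁻¹ := by group
    rw [e]
    exact H.mul_mem (H.mul_mem hh hy) (H.inv_mem hh)
  · intro hy
    exact H.mul_mem (H.mul_mem (H.inv_mem hh) hy) hh

theorem comm_normalized {G : Type*} [Group G] (H U : Subgroup G)
    (hU : ∀ h ∈ H, U.map (MulAut.conj h).toMonoidHom = U) (h : G) (hh : h ∈ H) (c : G)
    (hc : c ∈ ⁅H, U⁆) : h * c * h⁻¹ ∈ ⁅H, U⁆ := by
  have h1 : (⁅H, U⁆).map (MulAut.conj h).toMonoidHom = ⁅H, U⁆ := by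
    rw [Subgroup.map_commutator, hU h hh]
    congr 1
    ext y
    rw [mem_map_cj]
    exact conj_mem_iff H h hh y
  rw [← h1, mem_map_cj]
  have e : h⁻¹ * (h * c * h⁻¹) * h = c := by group
  rw [e]
  exact hc

theorem forward {G : Type*} [Group G] (H : Subgroup G) (hpro : Cfsg.IsPronormal H)
    (U : Subgroup G) (hU : ∀ h ∈ H, U.map (MulAut.conj h).toMonoidHom = U) :
    U = (U ⊓ Subgroup.normalizer (H : Set G)) ⊔ ⁅H, U⁆ := by
  have hcU := comm_le_of_inv H U hU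
  apply le_antisymm
  · intro u hu
    obtain ⟨x, hx, hmap⟩ := hpro u
    have hle : H ⊔ H.map (MulAut.conj u).toMonoidHom ≤ H ⊔ ⁅H, U⁆ := by
      apply sup_le le_sup_left
      intro y hy
      rw [mem_map_cj] at hy
      have e : y = (⁅u⁻¹ * y * u, u⁆)⁻¹ * (u⁻¹ * y * u) := by
        rw [commutatorElement_def]
        group
      rw [e]
      exact Subgroup.mul_mem _
        (Subgroup.mem_sup_right (Subgroup.inv_mem _ (Subgroup.commutator_mem_commutator hy hu)))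
        (Subgroup.mem_sup_left hy)
    obtain ⟨c, hc, h, hh, rfl⟩ := mem_sup_of_normalizes H ⁅H, U⁆
      (fun h hh c hc => comm_normalized H U hU h hh c hc) x (hle hx)
    have hn : c⁻¹ * u ∈ Subgroup.normalizer (H : Set G) := by
      rw [Subgroup.mem_normalizer_iff]
      intro z
      have h1 : u * z * u⁻¹ ∈ H.map (MulAut.conj u).toMonoidHom ↔ z ∈ H := by
        rw [mem_map_cj]
        have e : u⁻¹ * (u * z * u⁻¹) * u = z := by group
        rw [e]
      have h2 : u * z * u⁻¹ ∈ H.map (MulAut.conj (c * h)).toMonoidHom ↔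
          c⁻¹ * u * z * (c⁻¹ * u)⁻¹ ∈ H := by
        rw [mem_map_cj]
        have e : (c * h)⁻¹ * (u * z * u⁻¹) * (c * h) =
            h⁻¹ * (c⁻¹ * u * z * (c⁻¹ * u)⁻¹) * h := by group
        rw [e, conj_mem_iff H h hh]
      show z ∈ H ↔ c⁻¹ * u * z * (c⁻¹ * u)⁻¹ ∈ H
      rw [← h1, hmap, h2]
    have hcu : c⁻¹ * u ∈ U := U.mul_mem (U.inv_mem (hcU hc)) hu
    have e : u = c * (c⁻¹ * u) := by group
    rw [e]
    exact Subgroup.mul_mem _ (Subgroup.mem_sup_right hc) (Subgroup.mem_sup_left ⟨hcu, hn⟩)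
  · exact sup_le inf_le_left hcU

theorem backward {G : Type*} [Group G] (V : Subgroup G) [hVn : V.Normal]
    (hV : IsMulCommutative ↥V) (H : Subgroup G) (hHV : H ⊔ V = ⊤)
    (crit : ∀ U : Subgroup G, U ≤ V → (∀ h ∈ H, U.map (MulAut.conj h).toMonoidHom = U) →
        U = (U ⊓ Subgroup.normalizer (H : Set G)) ⊔ ⁅H, U⁆) : Cfsg.IsPronormal H := by
  intro g
  have hcommV : ∀ a ∈ V, ∀ b ∈ V, a * b = b * a := by
    intro a ha b hb
    have h1 := hV.is_comm.comm (⟨a, ha⟩ : V) ⟨b, hb⟩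
    exact congrArg Subtype.val h1
  have hg : g ∈ ((V ⊔ H : Subgroup G) : Set G) := by
    rw [sup_comm, hHV]
    trivial
  rw [Subgroup.normal_mul] at hg
  obtain ⟨v, hv, h, hh, rfl⟩ := hg
  obtain ⟨U, hUdef⟩ : ∃ U : Subgroup G,
      U = Subgroup.closure {y : G | ∃ k ∈ H, y = k * v * k⁻¹} := ⟨_, rfl⟩
  have hUV : U ≤ V := by
    rw [hUdef, Subgroup.closure_le]
    rintro _ ⟨k, hk, rfl⟩
    exact hVn.conj_mem v hv k
  have hUinv : ∀ k ∈ H, U.map (MulAut.conj k).toMonoidHom = U := by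
    intro k hk
    rw [hUdef, MonoidHom.map_closure]
    congr 1
    ext y
    constructor
    · rintro ⟨_, ⟨k', hk', rfl⟩, rfl⟩
      exact ⟨k * k', H.mul_mem hk hk', by simp [MulAut.conj_apply, mul_assoc]⟩
    · rintro ⟨k', hk', rfl⟩
      exact ⟨k⁻¹ * k' * v * (k⁻¹ * k')⁻¹, ⟨k⁻¹ * k', H.mul_mem (H.inv_mem hk) hk', rfl⟩,
        by simp [MulAut.conj_apply, mul_assoc]⟩
  have hvU : v ∈ U := by
    rw [hUdef]
    exact Subgroup.subset_closure ⟨1, H.one_mem, by simp⟩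
  have key := crit U hUV hUinv
  have hcU := comm_le_of_inv H U hUinv
  have hv' : v ∈ (U ⊓ Subgroup.normalizer (H : Set G)) ⊔ ⁅H, U⁆ := by
    rw [← key]
    exact hvU
  obtain ⟨c, hc, n, hn, hvcn⟩ := mem_sup_of_normalizes (U ⊓ Subgroup.normalizer (H : Set G))
    ⁅H, U⁆
    (by
      intro n hn c hc
      have h1 := hcommV n (hUV hn.1) c (hUV (hcU hc))
      rw [h1, mul_inv_cancel_right]
      exact hc) v hv'
  have hJ : ∀ z ∈ H, v * z * v⁻¹ ∈ H.map (MulAut.conj (v * h)).toMonoidHom := by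
    intro z hz
    rw [mem_map_cj]
    have e : (v * h)⁻¹ * (v * z * v⁻¹) * (v * h) = h⁻¹ * z * h := by group
    rw [e]
    exact H.mul_mem (H.mul_mem (H.inv_mem hh) hz) hh
  have hcJ : ⁅H, U⁆ ≤ H ⊔ H.map (MulAut.conj (v * h)).toMonoidHom := by
    rw [Subgroup.commutator_le]
    intro k hk u hu
    have aux : u ∈ V ∧ ∀ k ∈ H, ⁅k, u⁆ ∈ H ⊔ H.map (MulAut.conj (v * h)).toMonoidHom := by
      rw [hUdef] at hu
      induction hu using Subgroup.closure_induction with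
      | mem y hy =>
        obtain ⟨k', hk', rfl⟩ := hy
        refine ⟨hVn.conj_mem v hv k', ?_⟩
        intro k hk
        have e : ⁅k, k' * v * k'⁻¹⁆ =
            k' * ((k'⁻¹ * k * k') * (v * (k'⁻¹ * k * k')⁻¹ * v⁻¹)) * k'⁻¹ := by
          rw [commutatorElement_def]
          group
        rw [e]
        have hk'' : k'⁻¹ * k * k' ∈ H := H.mul_mem (H.mul_mem (H.inv_mem hk') hk) hk'
        exact Subgroup.mul_mem _ (Subgroup.mul_mem _ (Subgroup.mem_sup_left hk')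
          (Subgroup.mul_mem _ (Subgroup.mem_sup_left hk'')
            (Subgroup.mem_sup_right (hJ _ (H.inv_mem hk'')))))
          (Subgroup.mem_sup_left (H.inv_mem hk'))
      | one =>
        exact ⟨V.one_mem, fun k _ => by
          rw [commutatorElement_one_right]
          exact Subgroup.one_mem _⟩
      | mul a b _ _ ha hb =>
        refine ⟨V.mul_mem ha.1 hb.1, ?_⟩
        intro k hk
        have hkb : ⁅k, b⁆ ∈ V := by
          rw [commutatorElement_def]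
          exact V.mul_mem (hVn.conj_mem b hb.1 k) (V.inv_mem hb.1)
        have e : ⁅k, a * b⁆ = ⁅k, a⁆ * ⁅k, b⁆ := by
          have h1 := hcommV a ha.1 ⁅k, b⁆ hkb
          have e1 : ⁅k, a * b⁆ = ⁅k, a⁆ * (a * ⁅k, b⁆ * a⁻¹) := by
            simp only [commutatorElement_def]
            group
          rw [e1, h1, mul_inv_cancel_right]
        rw [e]
        exact Subgroup.mul_mem _ (ha.2 k hk) (hb.2 k hk)
      | inv a _ ha =>
        refine ⟨V.inv_mem ha.1, ?_⟩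
        intro k hk
        have hka : ⁅k, a⁆ ∈ V := by
          rw [commutatorElement_def]
          exact V.mul_mem (hVn.conj_mem a ha.1 k) (V.inv_mem ha.1)
        have e : ⁅k, a⁻¹⁆ = (⁅k, a⁆)⁻¹ := by
          have h1 := hcommV a⁻¹ (V.inv_mem ha.1) (⁅k, a⁆)⁻¹ (V.inv_mem hka)
          have e1 : ⁅k, a⁻¹⁆ = a⁻¹ * (⁅k, a⁆)⁻¹ * a⁻¹⁻¹ := by
            simp only [commutatorElement_def]
            group
          rw [e1, h1, mul_inv_cancel_right]
        rw [e]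
        exact Subgroup.inv_mem _ (ha.2 k hk)
    exact aux.2 k hk
  refine ⟨c, hcJ hc, ?_⟩
  ext y
  rw [mem_map_cj, mem_map_cj]
  have hm : n * h ∈ Subgroup.normalizer (H : Set G) :=
    Subgroup.mul_mem _ hn.2 (Subgroup.le_normalizer hh)
  have e : (v * h)⁻¹ * y * (v * h) = (n * h)⁻¹ * (c⁻¹ * y * c) * (n * h) := by
    rw [hvcn]
    group
  rw [e]
  have h1 := (Subgroup.mem_normalizer_iff.mp hm) ((n * h)⁻¹ * (c⁻¹ * y * c) * (n * h))
  have e2 : (n * h) * ((n * h)⁻¹ * (c⁻¹ * y * c) * (n * h)) * (n * h)⁻¹ = c⁻¹ * y * c := by group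
  rw [e2] at h1
  exact h1

theorem result {G : Type*} [Group G] [Finite G]
    (V : Subgroup G) [V.Normal] (hV : IsMulCommutative ↥V) (H : Subgroup G) (hHV : H ⊔ V = ⊤) :
    Cfsg.IsPronormal H ↔
      ∀ U : Subgroup G, U ≤ V → (∀ h ∈ H, U.map (MulAut.conj h).toMonoidHom = U) →
        U = (U ⊓ Subgroup.normalizer (H : Set G)) ⊔ ⁅H, U⁆ := by
  constructor
  · intro hpro U _ hU
    exact forward H hpro U hU
  · intro crit
    exact backward V hV H hHV crit

end Cfsg.Agent.S4269
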