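import Cfsg.Statements.S4238

import Mathlib
import Cfsg.Agent.S0071
import Cfsg.Agent.S0538
import Cfsg.Agent.S0539
import Cfsg.Agent.S4269
import Cfsg.Agent.Lib.Helper2.Local

set_option autoImplicit false
open Cfsg
open scoped Pointwise

namespace Cfsg.Agent.S4238

open Cfsg.Agent.Lib.Helper2

theorem mem_conj {H : Type*} [Group H] (g x : H) (K : Subgroup H) :
    x ∈ MulAut.conj g • K ↔ g⁻¹ * x * g ∈ K := by
  rw [Subgroup.mem_pointwise_smul_iff_inv_smul_mem]
  simp

theorem exists_order_eq_exponent {K : Type*} [Group K] [Finite K] (p : ℕ) [Fact p.Prime]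
    (hK : IsPGroup p K) : ∃ k : K, orderOf k = Monoid.exponent K := by
  have hp : p.Prime := Fact.out
  obtain ⟨n, hn⟩ := IsPGroup.iff_card.mp hK
  have h1 : Monoid.exponent K ∣ p ^ n := by
    rw [← hn]
    exact Group.exponent_dvd_nat_card
  obtain ⟨e, -, he⟩ := (Nat.dvd_prime_pow hp).mp h1
  by_contra hcon
  push_neg at hcon
  rcases Nat.eq_zero_or_pos e with h0 | hpos
  · apply hcon 1
    rw [orderOf_one, he, h0, pow_zero]
  · have h2 : Monoid.exponent K ∣ p ^ (e - 1) := by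
      apply Monoid.exponent_dvd_of_forall_pow_eq_one
      intro k
      have h3 : orderOf k ∣ p ^ e := by
        rw [← he]
        exact Monoid.order_dvd_exponent k
      obtain ⟨j, hj, hjk⟩ := (Nat.dvd_prime_pow hp).mp h3
      have hj' : j ≠ e := by
        intro h
        apply hcon k
        rw [hjk, h, he]
      have hj2 : j ≤ e - 1 := by omega
      rw [← orderOf_dvd_iff_pow_eq_one, hjk]
      exact pow_dvd_pow p hj2
    rw [he] at h2
    have h4 := (Nat.pow_dvd_pow_iff_le_right hp.one_lt).mp h2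
    omega

theorem lemL {X : Type*} [Group X] [Finite X] (p : ℕ) [Fact p.Prime] (Q : Subgroup X)
    [hQn : Q.Normal] (hQp : IsPGroup p Q) (g : X) (hg : (orderOf g).Coprime p)
    (hgen : ∀ y : X, ∃ c ∈ Q, ∃ j : ℕ, y = c * g ^ j)
    (hnc : ∃ x ∈ Q, g * x * g⁻¹ * x⁻¹ ≠ 1)
    (hmin : ∀ Q₁ : Subgroup X, Q₁ ≤ Q → Q₁ ≠ Q → (∀ x ∈ Q₁, g * x * g⁻¹ ∈ Q₁) →
      ∀ x ∈ Q₁, g * x = x * g)
    (hsec : ∀ (N : Subgroup X) [N.Normal], Cfsg.pPrimeCore p (X ⧸ N) = ⊥ →
      ∃ k : X ⧸ N, orderOf k = Monoid.exponent (X ⧸ N)) : False := by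
  classical
  have hp : p.Prime := Fact.out
  obtain ⟨N, ⟨hNn, hNx⟩, hNmax⟩ := Set.exists_max_image
    {N : Subgroup X | N.Normal ∧ ∃ x ∈ Q, g * x * g⁻¹ * x⁻¹ ∉ N} (fun N => Nat.card N)
    (Set.toFinite _) ⟨⊥, inferInstance, by
      obtain ⟨x, hx, h⟩ := hnc
      exact ⟨x, hx, by rwa [Subgroup.mem_bot]⟩⟩
  haveI := hNn
  have hbig : ∀ M : Subgroup X, M.Normal → N ≤ M → M ≠ N →
      ∀ x ∈ Q, g * x * g⁻¹ * x⁻¹ ∈ M := by
    intro M hMn hNM hne x hx
    by_contra hx'
    have h1 := hNmax M ⟨hMn, x, hx, hx'⟩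
    exact hne (Subgroup.eq_of_le_of_card_ge hNM h1).symm
  have hcop : ∀ x : X, g * (g * x * g⁻¹ * x⁻¹) = (g * x * g⁻¹ * x⁻¹) * g →
      g * x * g⁻¹ * x⁻¹ ∈ Q → g * x * g⁻¹ * x⁻¹ = 1 := by
    intro x hc hcQ
    have hpow : ∀ j : ℕ, g ^ j * x * (g ^ j)⁻¹ = (g * x * g⁻¹ * x⁻¹) ^ j * x := by
      intro j
      induction j with
      | zero => simp
      | succ j ih =>
        have hcj : g * (g * x * g⁻¹ * x⁻¹) ^ j = (g * x * g⁻¹ * x⁻¹) ^ j * g :=
          (Commute.pow_right hc j)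
        calc g ^ (j+1) * x * (g ^ (j+1))⁻¹ = g * (g ^ j * x * (g ^ j)⁻¹) * g⁻¹ := by
              rw [pow_succ']
              group
          _ = g * ((g * x * g⁻¹ * x⁻¹) ^ j * x) * g⁻¹ := by rw [ih]
          _ = (g * (g * x * g⁻¹ * x⁻¹) ^ j) * x * g⁻¹ := by group
          _ = (g * x * g⁻¹ * x⁻¹) ^ j * (g * x * g⁻¹ * x⁻¹) * x := by
              rw [hcj]
              group
          _ = (g * x * g⁻¹ * x⁻¹) ^ (j+1) * x := by rw [← pow_succ]
    have h1 := hpow (orderOf g)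
    rw [pow_orderOf_eq_one] at h1
    have h2 : (g * x * g⁻¹ * x⁻¹) ^ orderOf g = 1 := by
      have h2' : (g * x * g⁻¹ * x⁻¹) ^ orderOf g * x = 1 * x := by
        rw [← h1]
        group
      exact mul_right_cancel h2'
    obtain ⟨a, ha⟩ := hQp ⟨_, hcQ⟩
    have h3 : (g * x * g⁻¹ * x⁻¹) ^ p ^ a = 1 := by
      have h3' := congrArg Subtype.val ha
      rwa [Subgroup.coe_pow] at h3'
    have h4 := pow_gcd_eq_one.mpr ⟨h2, h3⟩
    have h5 : Nat.gcd (orderOf g) (p ^ a) = 1 := Nat.Coprime.pow_right a hg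
    rw [h5, pow_one] at h4
    exact h4
  have hπs := QuotientGroup.mk'_surjective N
  have hQbn : (Q.map (QuotientGroup.mk' N)).Normal := hQn.map _ hπs
  have hQbp : IsPGroup p (Q.map (QuotientGroup.mk' N)) := hQp.map _
  have hcomap : ∀ M : Subgroup (X ⧸ N), N ≤ M.comap (QuotientGroup.mk' N) := by
    intro M y hy
    rw [Subgroup.mem_comap]
    have h1 : QuotientGroup.mk' N y = 1 := (QuotientGroup.eq_one_iff y).mpr hy
    rw [h1]
    exact one_mem _
  have hcomap_ne : ∀ M : Subgroup (X ⧸ N), M ≠ ⊥ → M.comap (QuotientGroup.mk' N) ≠ N := by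
    intro M hne h
    apply hne
    rw [eq_bot_iff]
    intro z hz
    obtain ⟨y, rfl⟩ := hπs z
    have h1 : y ∈ N := by
      rw [← h]
      exact hz
    exact Subgroup.mem_bot.mpr ((QuotientGroup.eq_one_iff y).mpr h1)
  -- p'-elements of Q̄ are trivial
  have hQb_p' : ∀ x ∈ Q.map (QuotientGroup.mk' N), ∀ m : ℕ, m.Coprime p → x ^ m = 1 → x = 1 := by
    intro x hx m hm hxm
    obtain ⟨a, ha⟩ := hQbp ⟨x, hx⟩
    have ha' : x ^ p ^ a = 1 := by
      have h3' := congrArg Subtype.val ha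
      rwa [Subgroup.coe_pow] at h3'
    have h4 := pow_gcd_eq_one.mpr ⟨hxm, ha'⟩
    have h5 : Nat.gcd m (p ^ a) = 1 := Nat.Coprime.pow_right a hm
    rw [h5, pow_one] at h4
    exact h4
  have hK1 : Cfsg.pPrimeCore p (X ⧸ N) = ⊥ := by
    by_contra hne
    have hMn : (Cfsg.pPrimeCore p (X ⧸ N)).Normal := inferInstance
    have hMc := Local.pPrimeCore_coprime (G := X ⧸ N) p
    obtain ⟨x, hx, hxN⟩ := hNx
    apply hxN
    have h1 := hbig _ (hMn.comap _) (hcomap _) (hcomap_ne _ hne) x hx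
    rw [Subgroup.mem_comap] at h1
    have h2 : QuotientGroup.mk' N (g * x * g⁻¹ * x⁻¹) ∈ Q.map (QuotientGroup.mk' N) :=
      Subgroup.mem_map_of_mem _ (Q.mul_mem (hQn.conj_mem x hx g) (Q.inv_mem hx))
    have hb : (QuotientGroup.mk' N (g * x * g⁻¹ * x⁻¹)) ^
        Nat.card (Cfsg.pPrimeCore p (X ⧸ N)) = 1 := by
      have hb1 := pow_card_eq_one' (G := ↥(Cfsg.pPrimeCore p (X ⧸ N))) (x := ⟨_, h1⟩)
      have hb2 := congrArg Subtype.val hb1
      rwa [Subgroup.coe_pow] at hb2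
    have h3 := hQb_p' _ h2 _ hMc hb
    exact (QuotientGroup.eq_one_iff _).mp h3
  obtain ⟨k, hk⟩ := hsec N hK1
  have hK3 : ∀ M : Subgroup (X ⧸ N), M.Normal → M ≤ Q.map (QuotientGroup.mk' N) → M ≠ ⊥ →
      Q.map (QuotientGroup.mk' N) ≤ M := by
    intro M hMn hMQ hM1
    by_contra hnle
    have hcM := hbig _ (hMn.comap _) (hcomap M) (hcomap_ne M hM1)
    have hQ1 := hmin (Q ⊓ M.comap (QuotientGroup.mk' N)) inf_le_left ?_ ?_
    · obtain ⟨x, hx, hxN⟩ := hNx
      apply hxN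
      have hcQ : g * x * g⁻¹ * x⁻¹ ∈ Q := Q.mul_mem (hQn.conj_mem x hx g) (Q.inv_mem hx)
      have h1 := hQ1 (g * x * g⁻¹ * x⁻¹) (Subgroup.mem_inf.mpr ⟨hcQ, hcM x hx⟩)
      rw [hcop x h1 hcQ]
      exact N.one_mem
    · intro h
      apply hnle
      intro z hz
      obtain ⟨y, hy, rfl⟩ := hz
      have h1 : y ∈ Q ⊓ M.comap (QuotientGroup.mk' N) := by
        rw [h]
        exact hy
      exact (Subgroup.mem_inf.mp h1).2
    · intro x hx
      have hx' := Subgroup.mem_inf.mp hx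
      exact Subgroup.mem_inf.mpr ⟨hQn.conj_mem x hx'.1 g,
        (hMn.comap (QuotientGroup.mk' N)).conj_mem x hx'.2 g⟩
  have hQb1 : Q.map (QuotientGroup.mk' N) ≠ ⊥ := by
    intro h
    obtain ⟨x, hx, hxN⟩ := hNx
    apply hxN
    have h1 : QuotientGroup.mk' N x ∈ Q.map (QuotientGroup.mk' N) := Subgroup.mem_map_of_mem _ hx
    rw [h, Subgroup.mem_bot] at h1
    have h2 : x ∈ N := (QuotientGroup.eq_one_iff x).mp h1
    exact N.mul_mem (hNn.conj_mem x h2 g) (N.inv_mem h2)
  have hQab : ∀ a ∈ Q.map (QuotientGroup.mk' N), ∀ b ∈ Q.map (QuotientGroup.mk' N),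
      a * b = b * a := by
    haveI : Nontrivial ↥(Q.map (QuotientGroup.mk' N)) :=
      (Subgroup.nontrivial_iff_ne_bot _).mpr hQb1
    haveI hcn := hQbp.center_nontrivial
    obtain ⟨z, hz1⟩ := exists_ne (1 : ↥(Subgroup.center ↥(Q.map (QuotientGroup.mk' N))))
    have hMn : (Q.map (QuotientGroup.mk' N) ⊓
        Subgroup.centralizer (Q.map (QuotientGroup.mk' N) : Set (X ⧸ N))).Normal := by
      haveI := hQbn
      infer_instance
    have h1 := hK3 _ hMn inf_le_left ?_
    · intro a ha b hb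
      have h2 := (Subgroup.mem_inf.mp (h1 ha)).2
      exact (Subgroup.mem_centralizer_iff.mp h2 b hb).symm
    · intro hbot
      apply hz1
      have hzmem : ((z : ↥(Q.map (QuotientGroup.mk' N))) : X ⧸ N) ∈
          Q.map (QuotientGroup.mk' N) ⊓
            Subgroup.centralizer (Q.map (QuotientGroup.mk' N) : Set (X ⧸ N)) := by
        refine Subgroup.mem_inf.mpr ⟨(z : ↥(Q.map (QuotientGroup.mk' N))).2, ?_⟩
        rw [Subgroup.mem_centralizer_iff]
        intro b hb
        have h3 := Subgroup.mem_center_iff.mp z.2 ⟨b, hb⟩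
        exact congrArg Subtype.val h3
      rw [hbot, Subgroup.mem_bot] at hzmem
      exact Subtype.ext (Subtype.ext hzmem)
  have hgenK : ∀ y : X ⧸ N, ∃ c ∈ Q.map (QuotientGroup.mk' N), ∃ j : ℕ,
      y = c * (QuotientGroup.mk' N g) ^ j := by
    intro y
    obtain ⟨y0, rfl⟩ := hπs y
    obtain ⟨c, hc, j, rfl⟩ := hgen y0
    exact ⟨_, Subgroup.mem_map_of_mem _ hc, j, by rw [map_mul, map_pow]⟩
  have hgbo : (orderOf (QuotientGroup.mk' N g)).Coprime p :=
    Nat.Coprime.coprime_dvd_left (orderOf_map_dvd _ g) hg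
  have hpowQ : ∀ y : X ⧸ N, y ^ orderOf (QuotientGroup.mk' N g) ∈ Q.map (QuotientGroup.mk' N) := by
    intro y
    obtain ⟨c, hc, j, rfl⟩ := hgenK y
    haveI := hQbn
    have hq : ∀ c ∈ Q.map (QuotientGroup.mk' N),
        QuotientGroup.mk' (Q.map (QuotientGroup.mk' N)) c = 1 :=
      fun c hc => (QuotientGroup.eq_one_iff c).mpr hc
    apply (QuotientGroup.eq_one_iff _).mp
    show QuotientGroup.mk' (Q.map (QuotientGroup.mk' N))
      ((c * (QuotientGroup.mk' N g) ^ j) ^ orderOf (QuotientGroup.mk' N g)) = 1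
    rw [map_pow, map_mul, hq c hc, one_mul, map_pow, ← pow_mul, mul_comm, pow_mul, ← map_pow,
      pow_orderOf_eq_one, map_one, one_pow]
  -- normality of fixed points of a power of ḡ in Q̄
  have hfixn : ∀ j : ℕ, (∃ z ∈ Q.map (QuotientGroup.mk' N), z ≠ 1 ∧
      (QuotientGroup.mk' N g) ^ j * z = z * (QuotientGroup.mk' N g) ^ j) →
      ∀ u ∈ Q.map (QuotientGroup.mk' N),
        (QuotientGroup.mk' N g) ^ j * u = u * (QuotientGroup.mk' N g) ^ j := by
    intro j hz u hu
    obtain ⟨z, hzQ, hz1, hzc⟩ := hz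
    have hMn : (Q.map (QuotientGroup.mk' N) ⊓
        Subgroup.centralizer ({(QuotientGroup.mk' N g) ^ j} : Set (X ⧸ N))).Normal := by
      constructor
      intro v hv y
      have hv' := Subgroup.mem_inf.mp hv
      refine Subgroup.mem_inf.mpr ⟨hQbn.conj_mem v hv'.1 y, ?_⟩
      obtain ⟨c, hc, i, rfl⟩ := hgenK y
      have hvc : (QuotientGroup.mk' N g) ^ j * v = v * (QuotientGroup.mk' N g) ^ j :=
        Subgroup.mem_centralizer_iff.mp hv'.2 _ rfl
      have hinner : (QuotientGroup.mk' N g) ^ i * v * ((QuotientGroup.mk' N g) ^ i)⁻¹ ∈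
          Q.map (QuotientGroup.mk' N) := hQbn.conj_mem v hv'.1 _
      have e1 : c * (QuotientGroup.mk' N g) ^ i * v * (c * (QuotientGroup.mk' N g) ^ i)⁻¹ =
          (QuotientGroup.mk' N g) ^ i * v * ((QuotientGroup.mk' N g) ^ i)⁻¹ := by
        have h1 := hQab c hc _ hinner
        calc c * (QuotientGroup.mk' N g) ^ i * v * (c * (QuotientGroup.mk' N g) ^ i)⁻¹
            = c * ((QuotientGroup.mk' N g) ^ i * v * ((QuotientGroup.mk' N g) ^ i)⁻¹) * c⁻¹ := by
              group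
          _ = ((QuotientGroup.mk' N g) ^ i * v * ((QuotientGroup.mk' N g) ^ i)⁻¹) * c * c⁻¹ := by
              rw [h1]
          _ = (QuotientGroup.mk' N g) ^ i * v * ((QuotientGroup.mk' N g) ^ i)⁻¹ := by group
      rw [e1, Subgroup.mem_centralizer_iff]
      intro w hw
      rw [Set.mem_singleton_iff] at hw
      rw [hw]
      have hcomm : Commute ((QuotientGroup.mk' N g) ^ j) ((QuotientGroup.mk' N g) ^ i) :=
        (Commute.refl _).pow_pow j i
      have hcv : Commute ((QuotientGroup.mk' N g) ^ j) v := hvc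
      exact ((hcomm.mul_right hcv).mul_right hcomm.inv_right).eq
    have h1 := hK3 _ hMn inf_le_left (by
      intro hbot
      have hzm : z ∈ Q.map (QuotientGroup.mk' N) ⊓
          Subgroup.centralizer ({(QuotientGroup.mk' N g) ^ j} : Set (X ⧸ N)) := by
        refine Subgroup.mem_inf.mpr ⟨hzQ, ?_⟩
        rw [Subgroup.mem_centralizer_iff]
        intro w hw
        rw [Set.mem_singleton_iff] at hw
        rw [hw]
        exact hzc
      rw [hbot, Subgroup.mem_bot] at hzm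
      exact hz1 hzm)
    exact Subgroup.mem_centralizer_iff.mp (Subgroup.mem_inf.mp (h1 hu)).2 _ rfl
  -- the order arithmetic
  have hE : ∀ y : X ⧸ N, y ^ orderOf k = 1 := by
    intro y
    rw [hk]
    exact Monoid.pow_exponent_eq_one y
  obtain ⟨a, m, hpm, hkm⟩ := Nat.exists_eq_pow_mul_and_not_dvd (orderOf_pos k).ne' p hp.ne_one
  have hmcop : m.Coprime p := ((Nat.Prime.coprime_iff_not_dvd hp).mpr hpm).symm
  -- n̄ ∣ m
  have hnm : orderOf (QuotientGroup.mk' N g) ∣ m := by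
    have h1 : orderOf (QuotientGroup.mk' N g) ∣ p ^ a * m := by
      rw [← hkm]
      exact orderOf_dvd_of_pow_eq_one (hE _)
    exact (Nat.Coprime.pow_right a hgbo).dvd_of_dvd_mul_left h1
  -- z := k ^ n̄
  have hzQ : k ^ orderOf (QuotientGroup.mk' N g) ∈ Q.map (QuotientGroup.mk' N) := hpowQ k
  have hz1 : k ^ orderOf (QuotientGroup.mk' N g) ≠ 1 := by
    intro h
    have h1 : orderOf k ∣ orderOf (QuotientGroup.mk' N g) := orderOf_dvd_of_pow_eq_one h
    have h2 : (orderOf k).Coprime p := Nat.Coprime.coprime_dvd_left h1 hgbo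
    apply hQb1
    rw [eq_bot_iff]
    intro u hu
    exact Subgroup.mem_bot.mpr (hQb_p' u hu _ h2 (hE u))
  -- w := k ^ (p^a) = x * ḡ^j
  obtain ⟨x, hxQ, j, hw⟩ := hgenK (k ^ p ^ a)
  have hzw : Commute (k ^ orderOf (QuotientGroup.mk' N g)) (k ^ p ^ a) :=
    (Commute.refl k).pow_pow _ _
  have hzx : Commute (k ^ orderOf (QuotientGroup.mk' N g)) x := hQab _ hzQ x hxQ
  have hzg : (QuotientGroup.mk' N g) ^ j * k ^ orderOf (QuotientGroup.mk' N g) =
      k ^ orderOf (QuotientGroup.mk' N g) * (QuotientGroup.mk' N g) ^ j := by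
    have e : (QuotientGroup.mk' N g) ^ j = x⁻¹ * k ^ p ^ a := by
      rw [hw]
      group
    rw [e]
    exact ((hzx.inv_right.mul_right hzw).eq).symm
  have hcent := hfixn j ⟨_, hzQ, hz1, hzg⟩
  -- x = 1
  have hxg : Commute x ((QuotientGroup.mk' N g) ^ j) := (hcent x hxQ).symm
  have hx1 : x = 1 := by
    apply hQb_p' x hxQ (m * orderOf (QuotientGroup.mk' N g))
      (Nat.Coprime.mul_left hmcop hgbo)
    have h1 : (k ^ p ^ a) ^ m = 1 := by
      rw [← pow_mul, ← hkm]
      exact pow_orderOf_eq_one k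
    rw [hw, hxg.mul_pow] at h1
    have h2 : x ^ m = (((QuotientGroup.mk' N g) ^ j) ^ m)⁻¹ := eq_inv_of_mul_eq_one_left h1
    have h9 : j * (m * orderOf (QuotientGroup.mk' N g)) =
        orderOf (QuotientGroup.mk' N g) * (j * m) := by ring
    rw [pow_mul, h2, inv_pow, ← pow_mul, ← pow_mul, inv_eq_one, h9, pow_mul, pow_orderOf_eq_one,
      one_pow]
  rw [hx1, one_mul] at hw
  -- orderOf (ḡ^j) = orderOf ḡ
  have hord : orderOf ((QuotientGroup.mk' N g) ^ j) = orderOf (QuotientGroup.mk' N g) := by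
    apply Nat.dvd_antisymm (orderOf_pow_dvd j)
    have h1 : (k ^ p ^ a) ^ orderOf ((QuotientGroup.mk' N g) ^ j) = 1 := by
      rw [hw]
      exact pow_orderOf_eq_one _
    rw [← pow_mul] at h1
    have h2 : orderOf k ∣ p ^ a * orderOf ((QuotientGroup.mk' N g) ^ j) :=
      orderOf_dvd_of_pow_eq_one h1
    rw [hkm] at h2
    have h3 : m ∣ orderOf ((QuotientGroup.mk' N g) ^ j) :=
      Nat.dvd_of_mul_dvd_mul_left (pow_pos hp.pos a) h2
    exact hnm.trans h3
  have hzp : Subgroup.zpowers ((QuotientGroup.mk' N g) ^ j) =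
      Subgroup.zpowers (QuotientGroup.mk' N g) := by
    apply Subgroup.eq_of_le_of_card_ge
    · rw [Subgroup.zpowers_le]
      exact Subgroup.pow_mem _ (Subgroup.mem_zpowers _) j
    · rw [Nat.card_zpowers, Nat.card_zpowers, hord]
  have hgmem : QuotientGroup.mk' N g ∈ Subgroup.zpowers ((QuotientGroup.mk' N g) ^ j) := by
    rw [hzp]
    exact Subgroup.mem_zpowers _
  obtain ⟨i, hi⟩ := Subgroup.mem_zpowers_iff.mp hgmem
  -- final contradiction
  obtain ⟨x0, hx0, hx0N⟩ := hNx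
  apply hx0N
  apply (QuotientGroup.eq_one_iff _).mp
  have hcomm : Commute (QuotientGroup.mk' N g) (QuotientGroup.mk' N x0) := by
    rw [← hi]
    exact Commute.zpow_left (hcent _ (Subgroup.mem_map_of_mem _ hx0)) i
  show QuotientGroup.mk' N (g * x0 * g⁻¹ * x0⁻¹) = 1
  rw [map_mul, map_mul, map_mul, map_inv, map_inv, hcomm.eq]
  group

theorem result {G : Type*} [Group G] [Finite G] (p : ℕ) [Fact p.Prime] :
    Cfsg.HasNormalPComplement p G ↔
      ∀ (H : Subgroup G) (N : Subgroup H) [N.Normal], Cfsg.pPrimeCore p (H ⧸ N) = ⊥ →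
        ∃ k : H ⧸ N, orderOf k = Monoid.exponent (H ⧸ N) := by
  classical
  have hp : p.Prime := Fact.out
  constructor
  · rintro ⟨P, N0, hN0n, hN0c⟩ H N hNn hO
    haveI := hN0n
    have hidx : N0.index = Nat.card (P : Subgroup G) := hN0c.symm.index_eq_card
    obtain ⟨n, hn⟩ := IsPGroup.iff_card.mp P.isPGroup'
    have hN0cop : (Nat.card N0).Coprime p := by
      have h1 : (P : Subgroup G).index = Nat.card N0 := hN0c.index_eq_card
      rw [← h1]
      exact ((Nat.Prime.coprime_iff_not_dvd hp).mpr P.not_dvd_index).symm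
    have hpowN0 : ∀ x : G, x ^ p ^ n ∈ N0 := by
      intro x
      rw [← hn, ← hidx]
      exact Subgroup.pow_index_mem N0 x
    -- image of N0 ∩ H in the quotient is trivial
    have hM : ∀ y : ↥H, (y : G) ∈ N0 → QuotientGroup.mk' N y = 1 := by
      intro y hy
      have hMn : ((N0.subgroupOf H).map (QuotientGroup.mk' N)).Normal :=
        (inferInstance : (N0.subgroupOf H).Normal).map _ (QuotientGroup.mk'_surjective N)
      have hMc : (Nat.card ((N0.subgroupOf H).map (QuotientGroup.mk' N))).Coprime p := by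
        apply Nat.Coprime.symm
        rw [Nat.Prime.coprime_iff_not_dvd hp]
        intro hdvd
        obtain ⟨z, hz⟩ := exists_prime_orderOf_dvd_card'
          (G := ↥((N0.subgroupOf H).map (QuotientGroup.mk' N))) p hdvd
        obtain ⟨y', hy', hy'z⟩ := z.2
        have h1 : (y' : G) ^ Nat.card N0 = 1 := by
          have h2 := pow_card_eq_one' (G := ↥N0) (x := ⟨(y' : G), Subgroup.mem_subgroupOf.mp hy'⟩)
          have h3 := congrArg Subtype.val h2
          rwa [Subgroup.coe_pow] at h3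
        have h4 : (z : ↥H ⧸ N) ^ Nat.card N0 = 1 := by
          rw [← hy'z, ← map_pow]
          have h5 : y' ^ Nat.card N0 = 1 := by
            apply Subtype.ext
            rw [Subgroup.coe_pow, h1]
            rfl
          rw [h5, map_one]
        have h6 : orderOf (z : ↥H ⧸ N) ∣ Nat.card N0 := orderOf_dvd_of_pow_eq_one h4
        rw [Subgroup.orderOf_coe, hz] at h6
        exact (Nat.Prime.coprime_iff_not_dvd hp).mp hN0cop.symm h6
      have hle : (N0.subgroupOf H).map (QuotientGroup.mk' N) ≤ Cfsg.pPrimeCore p (↥H ⧸ N) :=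
        le_sSup ⟨hMn, hMc⟩
      rw [hO] at hle
      exact Subgroup.mem_bot.mp (hle ⟨y, Subgroup.mem_subgroupOf.mpr hy, rfl⟩)
    have hKp : IsPGroup p (↥H ⧸ N) := by
      intro z
      obtain ⟨y, rfl⟩ := QuotientGroup.mk'_surjective N z
      refine ⟨n, ?_⟩
      rw [← map_pow]
      apply hM
      rw [Subgroup.coe_pow]
      exact hpowN0 _
    exact exists_order_eq_exponent p hKp
  · intro hsec
    obtain ⟨P⟩ : Nonempty (Sylow p G) := inferInstance
    refine ⟨P, (Cfsg.Agent.S0071.result P).mpr ?_⟩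
    by_contra hcon
    push_neg at hcon
    obtain ⟨Q0, hQ0P, g0, hg0n, hg0c, hg0⟩ := hcon
    obtain ⟨Q, ⟨hQp, g, hgn, hgc, hgQ⟩, hQmin⟩ := Set.exists_min_image
      {Q : Subgroup G | IsPGroup p Q ∧ ∃ g ∈ Subgroup.normalizer (Q : Set G),
        (orderOf g).Coprime p ∧ g ∉ Subgroup.centralizer (Q : Set G)}
      (fun Q => Nat.card Q) (Set.toFinite _) ⟨Q0, P.isPGroup'.to_le hQ0P, g0, hg0n, hg0c, hg0⟩
    have hF1 : ∀ Q₁ : Subgroup G, Q₁ ≤ Q → Q₁ ≠ Q → g ∈ Subgroup.normalizer (Q₁ : Set G) →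
        g ∈ Subgroup.centralizer (Q₁ : Set G) := by
      intro Q₁ hle hne hn
      by_contra hc
      have h1 := hQmin Q₁ ⟨hQp.to_le hle, g, hn, hgc, hc⟩
      exact hne (Subgroup.eq_of_le_of_card_ge hle h1)
    have hQH : Q ≤ Q ⊔ Subgroup.zpowers g := le_sup_left
    have hgH : g ∈ Q ⊔ Subgroup.zpowers g := Subgroup.mem_sup_right (Subgroup.mem_zpowers g)
    have hHn : Q ⊔ Subgroup.zpowers g ≤ Subgroup.normalizer (Q : Set G) :=
      sup_le Subgroup.le_normalizer ((Subgroup.zpowers_le).mpr hgn)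
    haveI hQ'n : (Q.subgroupOf (Q ⊔ Subgroup.zpowers g)).Normal :=
      (Subgroup.normal_subgroupOf_iff_le_normalizer hQH).mpr hHn
    apply lemL p (Q.subgroupOf (Q ⊔ Subgroup.zpowers g)) hQp.comap_subtype ⟨g, hgH⟩
    · rw [Subgroup.orderOf_mk]
      exact hgc
    · intro y
      have hy : (y : G) ∈ Subgroup.zpowers g ⊔ Q := by
        rw [sup_comm]
        exact y.2
      obtain ⟨c, hc, h, hh, hyc⟩ := Cfsg.Agent.S4269.mem_sup_of_normalizes (Subgroup.zpowers g) Q
        (fun h hh c hc => (Subgroup.mem_normalizer_iff.mp (hHn (Subgroup.mem_sup_right hh)) c).mp hc) _ hy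
      obtain ⟨j, hj⟩ := (Submonoid.mem_powers_iff _ _).mp (mem_powers_iff_mem_zpowers.mpr hh)
      refine ⟨⟨c, hQH hc⟩, Subgroup.mem_subgroupOf.mpr hc, j, ?_⟩
      apply Subtype.ext
      rw [Subgroup.coe_mul, Subgroup.coe_pow, hj]
      exact hyc
    · rw [Subgroup.mem_centralizer_iff] at hgQ
      push_neg at hgQ
      obtain ⟨x, hx, hxg⟩ := hgQ
      refine ⟨⟨x, hQH hx⟩, Subgroup.mem_subgroupOf.mpr hx, ?_⟩
      intro h
      apply hxg
      have h1 := congrArg Subtype.val h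
      simp only [Subgroup.coe_mul, Subgroup.coe_inv, Subgroup.coe_one] at h1
      have h2 : g * x = (g * x * g⁻¹ * x⁻¹) * (x * g) := by group
      rw [h1, one_mul] at h2
      exact h2.symm
    · intro Q₁ hle hne hnorm x hx
      have h1 := hF1 (Q₁.map (Subgroup.subtype _)) ?_ ?_ ?_
      · have h2 := Subgroup.mem_centralizer_iff.mp h1 (x : G) ⟨x, hx, rfl⟩
        apply Subtype.ext
        rw [Subgroup.coe_mul, Subgroup.coe_mul]
        exact h2.symm
      · rintro y ⟨z, hz, rfl⟩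
        exact Subgroup.mem_subgroupOf.mp (hle hz)
      · intro h
        apply hne
        apply le_antisymm hle
        intro y hy
        have h3 : (y : G) ∈ Q₁.map (Subgroup.subtype _) := by
          rw [h]
          exact Subgroup.mem_subgroupOf.mp hy
        obtain ⟨z, hz, hzy⟩ := h3
        have h4 : z = y := Subtype.ext hzy
        rw [← h4]
        exact hz
      · rw [Cfsg.Agent.S0538.mem_normalizer_iff_smul]
        apply Cfsg.Agent.S0539.smul_eq_of_le
        intro y hy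
        rw [mem_conj] at hy
        obtain ⟨z, hz, hzy⟩ := hy
        have h5 := hnorm z hz
        refine ⟨_, h5, ?_⟩
        simp only [Subgroup.coe_subtype, Subgroup.coe_mul, Subgroup.coe_inv] at hzy ⊢
        rw [hzy]
        group
    · intro N _ hO
      exact hsec _ N hO

end Cfsg.Agent.S4238
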