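import Cfsg.Statements.S4370

import Mathlib
import Cfsg.Agent.S4107
import Cfsg.Agent.S4106
import Cfsg.Agent.S4403
import Cfsg.Agent.Lib.Helper1.UniqP

set_option autoImplicit false
open Cfsg
open scoped Pointwise

namespace Cfsg.Agent.S4370

theorem centralize_coprime {G : Type*} [Group G] [Finite G] (hG : Group.IsNilpotent G) (p : ℕ)
    [Fact p.Prime] (P : Sylow p G) (a : G) (ha : (orderOf a).Coprime p) (y : G)
    (hy : y ∈ (P : Subgroup G)) : a * y = y * a := by
  classical
  have hp : p.Prime := Fact.out
  have h03 : Group.IsNilpotent G ↔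
      ∀ (p : ℕ) (_hp : Fact p.Prime) (P : Sylow p G), (↑P : Subgroup G).Normal :=
    (Group.isNilpotent_of_finite_tfae (G := G)).out 0 3
  have hnorm : ∀ (q : ℕ) (hq : Fact q.Prime) (Q : Sylow q G), (Q : Subgroup G).Normal :=
    fun q hq Q => h03.mp hG q hq Q
  haveI hPn : (P : Subgroup G).Normal := hnorm p inferInstance P
  haveI hCn : (Subgroup.centralizer ((P : Subgroup G) : Set G)).Normal :=
    Subgroup.normal_centralizer
  have hidx : ∀ q : ℕ, q.Prime →
      q ∣ (Subgroup.centralizer ((P : Subgroup G) : Set G)).index → q = p := by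
    intro q hq hdvd
    by_contra hne
    haveI : Fact q.Prime := ⟨hq⟩
    obtain ⟨Q⟩ : Nonempty (Sylow q G) := inferInstance
    have hQn := hnorm q inferInstance Q
    have hQC : (Q : Subgroup G) ≤ Subgroup.centralizer ((P : Subgroup G) : Set G) := by
      intro u hu
      rw [Subgroup.mem_centralizer_iff]
      intro v hv
      have hdisj : Disjoint (P : Subgroup G) (Q : Subgroup G) := by
        rw [Subgroup.disjoint_def]
        intro w hwP hwQ
        obtain ⟨i, hi⟩ := P.isPGroup' ⟨w, hwP⟩
        obtain ⟨j, hj⟩ := Q.isPGroup' ⟨w, hwQ⟩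
        have hi' : w ^ p ^ i = 1 := by
          have h1 := congrArg Subtype.val hi
          rwa [Subgroup.coe_pow] at h1
        have hj' : w ^ q ^ j = 1 := by
          have h1 := congrArg Subtype.val hj
          rwa [Subgroup.coe_pow] at h1
        exact Cfsg.Agent.S4107.eq_one_of_two hp hq (Ne.symm hne) w i j hi' hj'
      exact (Subgroup.commute_of_normal_of_disjoint _ _ hPn hQn hdisj v u hv hu).eq
    have h1 : (Subgroup.centralizer ((P : Subgroup G) : Set G)).index ∣ (Q : Subgroup G).index :=
      Subgroup.index_dvd_of_le hQC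
    exact Q.not_dvd_index (hdvd.trans h1)
  have hidx2 := Nat.eq_prime_pow_of_unique_prime_dvd
    (n := (Subgroup.centralizer ((P : Subgroup G) : Set G)).index) (p := p)
    Subgroup.index_ne_zero_of_finite (fun {d} hd hdvd => hidx d hd hdvd)
  have h2 := Subgroup.pow_index_mem (Subgroup.centralizer ((P : Subgroup G) : Set G)) a
  rw [hidx2] at h2
  have hcop : (p ^ (Subgroup.centralizer ((P : Subgroup G) : Set G)).index.primeFactorsList.length).Coprime
      (orderOf a) := Nat.Coprime.pow_left _ ha.symm
  obtain ⟨i, hi⟩ := exists_pow_eq_self_of_coprime hcop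
  have h3 : a ∈ Subgroup.centralizer ((P : Subgroup G) : Set G) := by
    rw [← hi]
    exact Subgroup.pow_mem _ h2 i
  exact (Subgroup.mem_centralizer_iff.mp h3 y hy).symm

theorem zmod_double (n : ℕ) [NeZero n] (u : ZMod (2 * n)) (h : u + u = 0) :
    u = 0 ∨ u = (n : ZMod (2 * n)) := by
  haveI : NeZero (2 * n) := ⟨by have := NeZero.ne n; omega⟩
  have h1 : ((u.val + u.val : ℕ) : ZMod (2 * n)) = 0 := by
    push_cast
    rw [ZMod.natCast_zmod_val]
    exact h
  rw [ZMod.natCast_eq_zero_iff] at h1
  have h2 : u.val < 2 * n := ZMod.val_lt u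
  obtain ⟨t, ht⟩ := h1
  have h3 : t = 0 ∨ t = 1 := by
    rcases Nat.lt_or_ge t 2 with h | h
    · omega
    · exfalso
      nlinarith
  rcases h3 with rfl | rfl
  · left
    have h4 : u.val = 0 := by omega
    exact (ZMod.val_eq_zero u).mp h4
  · right
    have h4 : u.val = n := by omega
    have h5 := ZMod.natCast_zmod_val u
    rw [h4] at h5
    exact h5.symm

theorem quat_centralizer_cyclic (n : ℕ) [NeZero n] (g : QuaternionGroup n)
    (hg : ∃ h : QuaternionGroup n, g * h ≠ h * g) :
    IsCyclic (Subgroup.centralizer ({g} : Set (QuaternionGroup n))) := by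
  haveI : NeZero (2 * n) := ⟨by have := NeZero.ne n; omega⟩
  have hmem : ∀ c : QuaternionGroup n,
      c ∈ Subgroup.centralizer ({g} : Set (QuaternionGroup n)) ↔ g * c = c * g := by
    intro c
    rw [Subgroup.mem_centralizer_iff]
    constructor
    · intro h
      exact h g rfl
    · intro h w hw
      rw [Set.mem_singleton_iff] at hw
      rw [hw]
      exact h
  have hgen : ∀ g₁ : QuaternionGroup n, g * g₁ = g₁ * g →
      (∀ c : QuaternionGroup n, g * c = c * g → ∃ j : ℕ, g₁ ^ j = c) →
      IsCyclic (Subgroup.centralizer ({g} : Set (QuaternionGroup n))) := by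
    intro g₁ hg₁ hall
    refine ⟨⟨⟨g₁, (hmem g₁).mpr hg₁⟩, fun c => ?_⟩⟩
    obtain ⟨j, hj⟩ := hall c.1 ((hmem c.1).mp c.2)
    refine ⟨(j : ℤ), ?_⟩
    apply Subtype.ext
    simp only [zpow_natCast, Subgroup.coe_pow]
    exact hj
  rcases g with i | i
  · obtain ⟨h, hh⟩ := hg
    have hi : i + i ≠ 0 := by
      intro h0
      apply hh
      rcases h with j | j
      · rw [QuaternionGroup.a_mul_a, QuaternionGroup.a_mul_a, add_comm]
      · rw [QuaternionGroup.a_mul_xa, QuaternionGroup.xa_mul_a]
        congr 1
        have h5 : -i = i := by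
          rw [neg_eq_iff_add_eq_zero]
          exact h0
        rw [sub_eq_add_neg, h5]
    apply hgen (QuaternionGroup.a 1)
    · rw [QuaternionGroup.a_mul_a, QuaternionGroup.a_mul_a, add_comm]
    · intro c hc
      rcases c with j | j
      · refine ⟨j.val, ?_⟩
        rw [QuaternionGroup.a_one_pow, ZMod.natCast_zmod_val]
      · exfalso
        apply hi
        rw [QuaternionGroup.a_mul_xa, QuaternionGroup.xa_mul_a] at hc
        have h1 : j - i = j + i := QuaternionGroup.xa.inj hc
        have h5 : i + i = (j + i) - (j - i) := by ring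
        rw [h5, h1, sub_self]
  · apply hgen (QuaternionGroup.xa i) rfl
    intro c hc
    rcases c with j | j
    · rw [QuaternionGroup.xa_mul_a, QuaternionGroup.a_mul_xa] at hc
      have h1 : i + j = i - j := QuaternionGroup.xa.inj hc
      have h2 : j + j = 0 := by
        have h5 : j + j = (i + j) - (i - j) := by ring
        rw [h5, h1, sub_self]
      rcases zmod_double n j h2 with h | h
      · refine ⟨0, ?_⟩
        rw [pow_zero, h, QuaternionGroup.one_def]
      · refine ⟨2, ?_⟩
        rw [QuaternionGroup.xa_sq, h]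
    · rw [QuaternionGroup.xa_mul_xa, QuaternionGroup.xa_mul_xa] at hc
      have h1 : (n : ZMod (2 * n)) + j - i = (n : ZMod (2 * n)) + i - j :=
        QuaternionGroup.a.inj hc
      have h2 : (j - i) + (j - i) = 0 := by
        have h5 : (j - i) + (j - i) =
            ((n : ZMod (2 * n)) + j - i) - ((n : ZMod (2 * n)) + i - j) := by ring
        rw [h5, h1, sub_self]
      rcases zmod_double n (j - i) h2 with h | h
      · refine ⟨1, ?_⟩
        rw [pow_one]
        congr 1
        exact (sub_eq_zero.mp h).symm
      · refine ⟨3, ?_⟩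
        have e : (QuaternionGroup.xa i : QuaternionGroup n) ^ 3 =
            QuaternionGroup.xa i ^ 2 * QuaternionGroup.xa i := pow_succ _ 2
        rw [e, QuaternionGroup.xa_sq, QuaternionGroup.a_mul_xa]
        congr 1
        have hnn : (n : ZMod (2 * n)) + (n : ZMod (2 * n)) = 0 := by
          have h6 : ((2 * n : ℕ) : ZMod (2 * n)) = 0 := ZMod.natCast_self (2 * n)
          rw [← h6]
          push_cast
          ring
        have h7 : j = i + n := by
          rw [← h]
          ring
        have h8 : -(n : ZMod (2 * n)) = n := by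
          rw [neg_eq_iff_add_eq_zero]
          exact hnn
        rw [h7, sub_eq_add_neg, h8]

theorem result {G : Type*} [Group G] [Finite G] (hG : Group.IsNilpotent G)
    (hna : ¬ IsMulCommutative G) :
    (∀ x : G, x ∉ Subgroup.center G → IsCyclic (Subgroup.centralizer ({x} : Set G))) ↔
      ∃ (k m : ℕ), 1 ≤ k ∧ Odd m ∧ Nonempty (G ≃* QuaternionGroup (2 ^ k) × Multiplicative (ZMod m)) := by
  classical
  constructor
  · intro hcyc
    have h03 : Group.IsNilpotent G ↔
        ∀ (p : ℕ) (_hp : Fact p.Prime) (P : Sylow p G), (↑P : Subgroup G).Normal :=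
      (Group.isNilpotent_of_finite_tfae (G := G)).out 0 3
    have hnorm : ∀ (q : ℕ) (hq : Fact q.Prime) (Q : Sylow q G), (Q : Subgroup G).Normal :=
      fun q hq Q => h03.mp hG q hq Q
    obtain ⟨x0, hx0⟩ : ∃ x : G, x ∉ Subgroup.center G := by
      by_contra hall
      push_neg at hall
      apply hna
      exact ⟨⟨fun a b => ((Subgroup.mem_center_iff.mp (hall b)) a)⟩⟩
    obtain ⟨x, hx, hxmin⟩ := Set.exists_min_image {x : G | x ∉ Subgroup.center G}
      (fun x => orderOf x) (Set.toFinite _) ⟨x0, hx0⟩
    have hx1 : x ≠ 1 := by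
      intro h
      apply hx
      rw [h]
      exact Subgroup.one_mem _
    obtain ⟨p, hp, hpdvd⟩ := Nat.exists_prime_and_dvd (orderOf_eq_one_iff.not.mpr hx1)
    haveI : Fact p.Prime := ⟨hp⟩
    obtain ⟨a, b, hab, ⟨j, hj⟩, hb⟩ := Cfsg.Agent.S4106.p_decomp p x
    have hbZ : x ^ b ∈ Subgroup.center G := by
      by_contra hbn
      have h1 : orderOf x ≤ orderOf (x ^ b) := hxmin (x ^ b) hbn
      have h2 : orderOf (x ^ b) ∣ orderOf x := orderOf_pow_dvd b
      have h3 : orderOf (x ^ b) = orderOf x :=
        Nat.le_antisymm (Nat.le_of_dvd (orderOf_pos x) h2) h1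
      apply hb
      rw [h3]
      exact hpdvd
    have hy0 : x ^ a ∉ Subgroup.center G := by
      intro h
      apply hx
      rw [← hab]
      exact mul_mem h hbZ
    obtain ⟨y, hyd⟩ : ∃ y : G, y = x ^ a := ⟨_, rfl⟩
    rw [← hyd] at hy0 hj
    have hyp : IsPGroup p (Subgroup.zpowers y) := by
      apply IsPGroup.of_card (n := j)
      rw [Nat.card_zpowers, hj]
    obtain ⟨P, hP⟩ := hyp.exists_le_sylow
    have hyP : y ∈ (P : Subgroup G) := hP (Subgroup.mem_zpowers y)
    haveI hPn : (P : Subgroup G).Normal := hnorm p inferInstance P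
    obtain ⟨A, hA⟩ := Subgroup.exists_right_complement'_of_coprime (N := (P : Subgroup G))
      P.card_coprime_index
    have hAcard : (Nat.card A).Coprime p := by
      have h1 : (P : Subgroup G).index = Nat.card A := hA.symm.index_eq_card
      rw [← h1]
      exact ((Nat.Prime.coprime_iff_not_dvd hp).mpr P.not_dvd_index).symm
    have hAP : ∀ a ∈ A, ∀ u ∈ (P : Subgroup G), a * u = u * a := by
      intro a ha u hu
      apply centralize_coprime hG p P a _ u hu
      exact Nat.Coprime.coprime_dvd_left (Subgroup.orderOf_dvd_natCard A ha) hAcard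
    have hbij : Function.Bijective (fun z : ↥(P : Subgroup G) × ↥A => (z.1 : G) * (z.2 : G)) := hA
    let φ : ↥(P : Subgroup G) × ↥A →* G := MonoidHom.mk' (fun z => (z.1 : G) * (z.2 : G)) (by
      intro z w
      show ((z.1 * w.1 : ↥(P : Subgroup G)) : G) * ((z.2 * w.2 : ↥A) : G) =
        (z.1 : G) * (z.2 : G) * ((w.1 : G) * (w.2 : G))
      rw [Subgroup.coe_mul, Subgroup.coe_mul]
      have h1 := hAP z.2 z.2.2 w.1 w.1.2
      calc (z.1 : G) * w.1 * (z.2 * w.2) = z.1 * (w.1 * z.2) * w.2 := by group
        _ = z.1 * (z.2 * w.1) * w.2 := by rw [h1]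
        _ = z.1 * z.2 * (w.1 * w.2) := by group)
    have hAle : A ≤ Subgroup.centralizer ({y} : Set G) := by
      intro a ha
      rw [Subgroup.mem_centralizer_iff]
      intro w hw
      rw [Set.mem_singleton_iff] at hw
      rw [hw]
      exact (hAP a ha y hyP).symm
    haveI hCy := hcyc y hy0
    haveI hAcyc : IsCyclic ↥A :=
      isCyclic_of_injective (Subgroup.inclusion hAle) (Subgroup.inclusion_injective hAle)
    have hPna : ¬ IsCyclic ↥(P : Subgroup G) := by
      intro hPc
      apply hy0
      rw [Subgroup.mem_center_iff]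
      intro g
      obtain ⟨⟨u, a⟩, hua⟩ := hbij.surjective g
      rw [← hua]
      show (u : G) * a * y = y * ((u : G) * a)
      have h1 : (u : G) * y = y * u := by
        have h0 := (IsCyclic.isMulCommutative (α := ↥(P : Subgroup G))).is_comm.comm u ⟨y, hyP⟩
        exact congrArg Subtype.val h0
      have h2 := hAP a a.2 y hyP
      calc (u : G) * a * y = u * (a * y) := by group
        _ = u * (y * a) := by rw [h2]
        _ = (u * y) * a := by group
        _ = (y * u) * a := by rw [h1]
        _ = y * (u * a) := by group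
    have hPp : IsPGroup p ↥(P : Subgroup G) := P.isPGroup'
    haveI hPnt : Nontrivial ↥(P : Subgroup G) := by
      refine ⟨⟨⟨y, hyP⟩, 1, fun h => hy0 ?_⟩⟩
      have h1 : y = 1 := congrArg Subtype.val h
      rw [h1]
      exact Subgroup.one_mem _
    haveI hZnt := hPp.center_nontrivial
    have hpdvdZ : p ∣ Nat.card (Subgroup.center ↥(P : Subgroup G)) := by
      obtain ⟨t, ht⟩ := IsPGroup.iff_card.mp (hPp.to_subgroup (Subgroup.center _))
      rw [ht]
      have ht0 : t ≠ 0 := by
        intro h0
        rw [h0, pow_zero] at ht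
        have h1 := Finite.one_lt_card_iff_nontrivial.mpr hZnt
        omega
      exact dvd_pow_self p ht0
    obtain ⟨z, hz⟩ := exists_prime_orderOf_dvd_card'
      (G := ↥(Subgroup.center ↥(P : Subgroup G))) p hpdvdZ
    have hzo : orderOf ((z : ↥(P : Subgroup G)) : G) = p := by
      rw [Subgroup.orderOf_coe, Subgroup.orderOf_coe, hz]
    have hzc : ∀ u ∈ (P : Subgroup G),
        ((z : ↥(P : Subgroup G)) : G) * u = u * ((z : ↥(P : Subgroup G)) : G) := by
      intro u hu
      have h0 := Subgroup.mem_center_iff.mp z.2 ⟨u, hu⟩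
      exact (congrArg Subtype.val h0).symm
    have hord : ∀ e ∈ (P : Subgroup G), orderOf e = p →
        e ∈ Subgroup.zpowers ((z : ↥(P : Subgroup G)) : G) := by
      intro e he heo
      by_cases hec : e ∈ Subgroup.center G
      · apply Cfsg.Agent.S4403.cyc_unique p (Subgroup.centralizer ({y} : Set G)) (hcyc y hy0)
          _ _ ?_ ?_ hzo heo
        · rw [Subgroup.mem_centralizer_iff]
          intro w hw
          rw [Set.mem_singleton_iff] at hw
          rw [hw]
          exact (hzc y hyP).symm
        · rw [Subgroup.mem_centralizer_iff]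
          intro w hw
          rw [Set.mem_singleton_iff] at hw
          rw [hw]
          exact (Subgroup.mem_center_iff.mp hec y)
      · apply Cfsg.Agent.S4403.cyc_unique p (Subgroup.centralizer ({e} : Set G)) (hcyc e hec)
          _ _ ?_ ?_ hzo heo
        · rw [Subgroup.mem_centralizer_iff]
          intro w hw
          rw [Set.mem_singleton_iff] at hw
          rw [hw]
          exact (hzc e he).symm
        · rw [Subgroup.mem_centralizer_iff]
          intro w hw
          rw [Set.mem_singleton_iff] at hw
          rw [hw]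
    have huniq : ∀ H K : Subgroup ↥(P : Subgroup G), Nat.card H = p → Nat.card K = p → H = K := by
      have key : ∀ H : Subgroup ↥(P : Subgroup G), Nat.card H = p →
          H = Subgroup.zpowers (z : ↥(P : Subgroup G)) := by
        intro H hH
        apply Subgroup.eq_of_le_of_card_ge
        · intro h hh
          by_cases h1 : h = 1
          · rw [h1]
            exact Subgroup.one_mem _
          · have ho : orderOf h = p := by
              have hd : orderOf (⟨h, hh⟩ : ↥H) ∣ p :=
                (orderOf_dvd_natCard _).trans (dvd_of_eq hH)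
              rcases (Nat.dvd_prime hp).mp hd with h2 | h2
              · exfalso
                apply h1
                have h3 := orderOf_eq_one_iff.mp h2
                exact congrArg Subtype.val h3
              · exact (Subgroup.orderOf_mk h hh).symm.trans h2
            have h3 := hord (h : G) h.2 (by rw [Subgroup.orderOf_coe, ho])
            obtain ⟨i, hi⟩ := Subgroup.mem_zpowers_iff.mp h3
            rw [Subgroup.mem_zpowers_iff]
            refine ⟨i, ?_⟩
            apply Subtype.ext
            rw [Subgroup.coe_zpow]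
            exact hi
        · rw [Nat.card_zpowers, hH]
          exact le_of_eq (by rw [Subgroup.orderOf_coe, hz])
      intro H K hH hK
      rw [key H hH, key K hK]
    rcases Cfsg.Agent.Lib.Helper1.UniqP.cyclic_or_quat hPp huniq with hc | ⟨hp2, n, ⟨eQ⟩⟩
    · exact absurd hc hPna
    · have hn1 : 1 ≤ n := by
        by_contra h0
        have h0' : n = 0 := by omega
        subst h0'
        apply hPna
        have h1 : IsCyclic (QuaternionGroup (2 ^ 0)) := by
          rw [pow_zero]
          exact QuaternionGroup.quaternionGroup_one_isCyclic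
        exact eQ.isCyclic.mpr h1
      refine ⟨n, Nat.card A, hn1, ?_, ⟨?_⟩⟩
      · rw [hp2] at hAcard
        exact Nat.coprime_two_right.mp hAcard
      · exact (MulEquiv.ofBijective φ hbij).symm.trans
          (MulEquiv.prodCongr eQ (zmodCyclicMulEquiv hAcyc).symm)
  · rintro ⟨k, m, hk, hm, ⟨e⟩⟩ x hx
    haveI : NeZero (2 ^ k) := ⟨by positivity⟩
    have hg : ∃ h : QuaternionGroup (2 ^ k), (e x).1 * h ≠ h * (e x).1 := by
      by_contra hcon
      push_neg at hcon
      apply hx
      rw [Subgroup.mem_center_iff]
      intro y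
      apply e.injective
      rw [map_mul, map_mul]
      apply Prod.ext
      · simp only [Prod.fst_mul]
        exact (hcon (e y).1).symm
      · simp only [Prod.snd_mul]
        exact mul_comm _ _
    haveI hcyc := quat_centralizer_cyclic (2 ^ k) (e x).1 hg
    let f : ↥(Subgroup.centralizer ({x} : Set G)) →*
        ↥(Subgroup.centralizer ({(e x).1} : Set (QuaternionGroup (2 ^ k)))) ×
          Multiplicative (ZMod m) :=
      MonoidHom.prod
        (((MonoidHom.fst _ _).comp (e.toMonoidHom.comp (Subgroup.subtype _))).codRestrict _ (by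
          intro c
          rw [Subgroup.mem_centralizer_iff]
          intro w hw
          rw [Set.mem_singleton_iff] at hw
          rw [hw]
          have h1 := Subgroup.mem_centralizer_iff.mp c.2 x rfl
          have h2 := congrArg (fun z => (e z).1) h1
          simpa using h2))
        ((MonoidHom.snd _ _).comp (e.toMonoidHom.comp (Subgroup.subtype _)))
    have hf : Function.Injective f := by
      intro c c' h
      have h1 : (e c.1).1 = (e c'.1).1 := congrArg (fun z => (z.1 : QuaternionGroup (2 ^ k))) h
      have h2 : (e c.1).2 = (e c'.1).2 := congrArg (fun z => z.2) h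
      exact Subtype.ext (e.injective (Prod.ext h1 h2))
    haveI : IsCyclic (↥(Subgroup.centralizer ({(e x).1} : Set (QuaternionGroup (2 ^ k)))) ×
        Multiplicative (ZMod m)) := by
      rw [Group.isCyclic_prod_iff]
      refine ⟨hcyc, inferInstance, ?_⟩
      have h1 : Nat.card ↥(Subgroup.centralizer ({(e x).1} : Set (QuaternionGroup (2 ^ k)))) ∣
          2 ^ (k + 2) := by
        have h0 := Subgroup.card_subgroup_dvd_card
          (Subgroup.centralizer ({(e x).1} : Set (QuaternionGroup (2 ^ k))))
        rw [Nat.card_eq_fintype_card (α := QuaternionGroup (2 ^ k)), QuaternionGroup.card] at h0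
        have e2 : 2 ^ (k + 2) = 4 * 2 ^ k := by ring
        rw [e2]
        exact h0
      have h2 : Nat.card (Multiplicative (ZMod m)) = m := Nat.card_zmod m
      rw [h2]
      exact Nat.Coprime.coprime_dvd_left h1 (Nat.Coprime.pow_left _ (Nat.coprime_two_left.mpr hm))
    exact isCyclic_of_injective f hf

end Cfsg.Agent.S4370
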