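import Cfsg.Statements.S4242

import Mathlib
import Cfsg.Agent.S4370
import Cfsg.Agent.S0071
import Cfsg.Agent.S4269

set_option autoImplicit false
open Cfsg
open scoped Pointwise

namespace Cfsg.Agent.S4242

theorem comm_of_nilpotent {N : Type*} [Group N] [Finite N] (hN : Group.IsNilpotent N) (p : ℕ)
    [Fact p.Prime] (u w : N) (hu : ∃ k : ℕ, u ^ p ^ k = 1) (hw : (orderOf w).Coprime p) :
    w * u = u * w := by
  have hup : IsPGroup p (Subgroup.zpowers u) := by
    obtain ⟨k, hk⟩ := hu
    rintro ⟨g, hg⟩
    obtain ⟨i, rfl⟩ := Subgroup.mem_zpowers_iff.mp hg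
    refine ⟨k, Subtype.ext ?_⟩
    show (u ^ i) ^ p ^ k = 1
    rw [← zpow_natCast, ← zpow_mul, mul_comm, zpow_mul, zpow_natCast, hk, one_zpow]
  obtain ⟨P, hP⟩ := hup.exists_le_sylow
  exact Cfsg.Agent.S4370.centralize_coprime hN p P w hw u (hP (Subgroup.mem_zpowers u))

theorem nilp_of_le {G : Type*} [Group G] (H L : Subgroup G) (h : H ≤ L)
    (hL : Group.IsNilpotent ↥L) : Group.IsNilpotent ↥H := by
  haveI := hL
  haveI h1 : Group.IsNilpotent ↥(H.subgroupOf L) := inferInstance
  exact Group.nilpotent_of_mulEquiv (Subgroup.subgroupOfEquivOfLe h)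

theorem nilp_of_comm {N : Type*} [Group N] (h : ∀ a b : N, a * b = b * a) :
    Group.IsNilpotent N := by
  letI : CommGroup N := { (inferInstance : Group N) with mul_comm := h }
  exact CommGroup.isNilpotent

theorem exists_invariant_sylow {G : Type*} [Group G] [Finite G] (M : Subgroup G) [M.Normal]
    (p : ℕ) [Fact p.Prime] (P : Subgroup G) (hP : IsPGroup p P) (hM : ¬ p ∣ Nat.card M)
    (q : ℕ) [Fact q.Prime] :
    ∃ Q : Sylow q ↥M, ∀ u ∈ P, ∀ x : ↥M, x ∈ Q → MulAut.conjNormal u x ∈ Q := by
  classical
  letI : MulAction ↥P (Sylow q ↥M) :=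
    MulAction.compHom (Sylow q ↥M) ((MulAut.conjNormal (H := M)).comp P.subtype)
  have hcard : ¬ p ∣ Nat.card (Sylow q ↥M) := by
    intro h
    obtain ⟨Q0⟩ : Nonempty (Sylow q ↥M) := inferInstance
    have h1 := Sylow.card_dvd_index Q0
    have h2 : (Q0 : Subgroup ↥M).index ∣ Nat.card ↥M := Subgroup.index_dvd_card _
    exact hM (h.trans (h1.trans h2))
  obtain ⟨Q, hQ⟩ := hP.nonempty_fixed_point_of_prime_not_dvd_card (Sylow q ↥M) hcard
  refine ⟨Q, ?_⟩
  intro u hu x hx
  have h1 : (⟨u, hu⟩ : ↥P) • Q = Q := hQ ⟨u, hu⟩
  have h2 : (MulAut.conjNormal u : MulAut ↥M) • Q = Q := h1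
  have h3 : (MulAut.conjNormal u : MulAut ↥M) • x ∈
      (MulAut.conjNormal u : MulAut ↥M) • (Q : Subgroup ↥M) :=
    Subgroup.smul_mem_pointwise_smul x _ _ hx
  rw [← Sylow.pointwise_smul_def, h2] at h3
  exact h3

theorem result {G : Type*} [Group G] [Finite G] (p : ℕ) (hp : p.Prime) (hpG : p ∣ Nat.card G) :
    (∀ M : Subgroup G, IsCoatom M → p ∣ Nat.card M → Group.IsNilpotent M) ↔
      (Group.IsNilpotent G ∨ Cfsg.IsMinimalNonNilpotent G ∨
        ∃ Z K : Subgroup G, Z.Normal ∧ K.Normal ∧ Z ⊓ K = ⊥ ∧ Z ⊔ K = ⊤ ∧ Nat.card Z = p ∧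
          Cfsg.IsMinimalNonNilpotent K ∧ ¬ p ∣ Nat.card K) := by
  classical
  haveI : Fact p.Prime := ⟨hp⟩
  constructor
  · intro hyp
    by_cases hnil : Group.IsNilpotent G
    · exact Or.inl hnil
    by_cases hmin : Cfsg.IsMinimalNonNilpotent G
    · exact Or.inr (Or.inl hmin)
    right
    right
    have stepA : ∀ L : Subgroup G, L ≠ ⊤ → p ∣ Nat.card L → Group.IsNilpotent ↥L := by
      intro L hL hpL
      obtain ⟨M1, hM1, hle⟩ := (eq_top_or_exists_le_coatom L).resolve_left hL
      exact nilp_of_le L M1 hle (hyp M1 hM1 (hpL.trans (Subgroup.card_dvd_of_le hle)))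
    have hex : ∃ H : Subgroup G, H ≠ ⊤ ∧ ¬ Group.IsNilpotent ↥H := by
      by_contra hcon
      push_neg at hcon
      exact hmin ⟨hnil, hcon⟩
    obtain ⟨H, hHtop, hHnil⟩ := hex
    obtain ⟨M, hMco, hHM⟩ := (eq_top_or_exists_le_coatom H).resolve_left hHtop
    have hMnil : ¬ Group.IsNilpotent ↥M := fun h => hHnil (nilp_of_le H M hHM h)
    have hpM : ¬ p ∣ Nat.card M := fun h => hMnil (hyp M hMco h)
    obtain ⟨P⟩ : Nonempty (Sylow p G) := inferInstance
    have hPne : (P : Subgroup G) ≠ ⊥ := P.ne_bot_of_dvd_card hpG
    have hPp : IsPGroup p ↥(P : Subgroup G) := P.isPGroup'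
    have hMcop : ∀ w ∈ M, (orderOf w).Coprime p := by
      intro w hw
      have h1 : orderOf w ∣ Nat.card M := Subgroup.orderOf_dvd_natCard M hw
      exact Nat.Coprime.coprime_dvd_left h1 ((Nat.Prime.coprime_iff_not_dvd hp).mpr hpM).symm
    have hPel : ∀ u ∈ (P : Subgroup G), ∃ k : ℕ, u ^ p ^ k = 1 := by
      intro u hu
      obtain ⟨k, hk⟩ := hPp ⟨u, hu⟩
      refine ⟨k, ?_⟩
      have h1 := congrArg Subtype.val hk
      rwa [Subgroup.coe_pow] at h1
    have hdisj : ∀ x, x ∈ (P : Subgroup G) → x ∈ M → x = 1 := by
      intro x hxP hxM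
      obtain ⟨k, hk⟩ := hPel x hxP
      have h1 : orderOf x ∣ p ^ k := orderOf_dvd_of_pow_eq_one hk
      have h2 : (orderOf x).Coprime (p ^ k) := Nat.Coprime.pow_right k (hMcop x hxM)
      exact orderOf_eq_one_iff.mp (Nat.Coprime.eq_one_of_dvd h2 h1)
    have hcommL : ∀ L : Subgroup G, L ≠ ⊤ → ∀ u ∈ (P : Subgroup G), u ∈ L → u ≠ 1 →
        ∀ w ∈ L, (orderOf w).Coprime p → w * u = u * w := by
      intro L hL u hu huL hu1 w hwL hwcop
      obtain ⟨k, hk⟩ := hPel u hu
      have hpL : p ∣ Nat.card L := by
        have h1 : orderOf u ∣ p ^ k := orderOf_dvd_of_pow_eq_one hk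
        obtain ⟨j, hj, hj2⟩ := (Nat.dvd_prime_pow hp).mp h1
        have hj0 : j ≠ 0 := by
          intro h0
          rw [h0, pow_zero] at hj2
          exact hu1 (orderOf_eq_one_iff.mp hj2)
        have h2 : p ∣ orderOf u := by
          rw [hj2]
          exact dvd_pow_self p hj0
        exact h2.trans (Subgroup.orderOf_dvd_natCard L huL)
      have hLn := stepA L hL hpL
      have hu' : ∃ k : ℕ, (⟨u, huL⟩ : ↥L) ^ p ^ k = 1 := by
        refine ⟨k, Subtype.ext ?_⟩
        rw [Subgroup.coe_pow]
        exact hk
      have hw' : (orderOf (⟨w, hwL⟩ : ↥L)).Coprime p := by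
        rw [Subgroup.orderOf_mk]
        exact hwcop
      have h3 := comm_of_nilpotent hLn p (⟨u, huL⟩ : ↥L) ⟨w, hwL⟩ hu' hw'
      exact congrArg Subtype.val h3
    have hPM_top : (P : Subgroup G) ⊔ M = ⊤ := by
      apply hMco.2
      apply lt_of_le_of_ne le_sup_right
      intro heq
      apply hPne
      rw [eq_bot_iff]
      intro x hx
      have hxM : x ∈ M := by
        rw [heq]
        exact Subgroup.mem_sup_left hx
      rw [Subgroup.mem_bot]
      exact hdisj x hx hxM
    have hcomm : ∀ u ∈ (P : Subgroup G), ∀ w ∈ M, w * u = u * w := by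
      by_cases hPn : (P : Subgroup G).Normal
      · intro u hu w hw
        by_cases hu1 : u = 1
        · rw [hu1, mul_one, one_mul]
        have hLtop : (P : Subgroup G) ⊔ Subgroup.zpowers w ≠ ⊤ := by
          intro htop
          apply hMnil
          have hMle : M ≤ Subgroup.zpowers w := by
            intro m hm
            have h2 : m ∈ (((P : Subgroup G) ⊔ Subgroup.zpowers w : Subgroup G) : Set G) := by
              rw [htop]
              exact Subgroup.mem_top m
            rw [Subgroup.normal_mul] at h2
            obtain ⟨a, ha, b, hb, hab⟩ := Set.mem_mul.mp h2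
            have hbM : b ∈ M := (Subgroup.zpowers_le.mpr hw) hb
            have haM : a ∈ M := by
              have h5 : a = m * b⁻¹ := by
                rw [← hab]
                group
              rw [h5]
              exact M.mul_mem hm (M.inv_mem hbM)
            have ha1 := hdisj a ha haM
            rw [← hab, ha1, one_mul]
            exact hb
          apply nilp_of_comm
          rintro ⟨a, ha⟩ ⟨b, hb⟩
          apply Subtype.ext
          obtain ⟨i, rfl⟩ := Subgroup.mem_zpowers_iff.mp (hMle ha)
          obtain ⟨j, rfl⟩ := Subgroup.mem_zpowers_iff.mp (hMle hb)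
          show w ^ i * w ^ j = w ^ j * w ^ i
          rw [← zpow_add, ← zpow_add, add_comm]
        exact hcommL _ hLtop u hu (Subgroup.mem_sup_left hu) hu1 w
          (Subgroup.mem_sup_right (Subgroup.mem_zpowers w)) (hMcop w hw)
      · have hfrob : ∀ Q : Subgroup G, Q ≤ (P : Subgroup G) →
            ∀ g ∈ Subgroup.normalizer (Q : Set G), Nat.Coprime (orderOf g) p →
            g ∈ Subgroup.centralizer (Q : Set G) := by
          intro Q hQ g hg hgcop
          rw [Subgroup.mem_centralizer_iff]
          intro h hh
          by_cases hh1 : h = 1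
          · rw [hh1, one_mul, mul_one]
          have hNtop : Subgroup.normalizer (Q : Set G) ≠ ⊤ := by
            intro htop
            haveI hQn : Q.Normal := Subgroup.normalizer_eq_top_iff.mp htop
            apply hPn
            have hQM : Q ⊔ M = ⊤ := by
              apply hMco.2
              apply lt_of_le_of_ne le_sup_right
              intro heq
              apply hh1
              apply hdisj h (hQ hh)
              rw [heq]
              exact Subgroup.mem_sup_left hh
            have hPQ : (P : Subgroup G) ≤ Q := by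
              intro x hx
              have h2 : x ∈ ((Q ⊔ M : Subgroup G) : Set G) := by
                rw [hQM]
                exact Subgroup.mem_top x
              rw [Subgroup.normal_mul] at h2
              obtain ⟨a, ha, b, hb, hab⟩ := Set.mem_mul.mp h2
              have hbP : b ∈ (P : Subgroup G) := by
                have h5 : b = a⁻¹ * x := by
                  rw [← hab]
                  group
                rw [h5]
                exact (P : Subgroup G).mul_mem ((P : Subgroup G).inv_mem (hQ ha)) hx
              have hb1 := hdisj b hbP hb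
              rw [← hab, hb1, mul_one]
              exact ha
            have hPeq : (P : Subgroup G) = Q := le_antisymm hPQ hQ
            rw [hPeq]
            exact hQn
          exact (hcommL _ hNtop h (hQ hh) (Subgroup.le_normalizer hh) hh1 g hg hgcop).symm
        obtain ⟨Kc, hKn, hKc⟩ := (Cfsg.Agent.S0071.result P).mpr hfrob
        haveI := hKn
        have hMK : M ≤ Kc := by
          intro m hm
          have h2 := Subgroup.pow_index_mem Kc m
          have hidx : Kc.index = Nat.card (P : Subgroup G) := hKc.symm.index_eq_card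
          obtain ⟨t, ht⟩ := IsPGroup.iff_card.mp hPp
          rw [hidx, ht] at h2
          have hcop : (p ^ t).Coprime (orderOf m) := Nat.Coprime.pow_left _ (hMcop m hm).symm
          obtain ⟨i, hi⟩ := exists_pow_eq_self_of_coprime hcop
          rw [← hi]
          exact Subgroup.pow_mem _ h2 i
        have hKtop : Kc ≠ ⊤ := by
          intro htop
          apply hPne
          have h1 := hKc.card_mul_card
          rw [htop, Subgroup.card_top] at h1
          have hGpos : 0 < Nat.card G := Nat.card_pos
          have h2 : Nat.card (P : Subgroup G) = 1 :=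
            Nat.eq_of_mul_eq_mul_left hGpos (h1.trans (mul_one _).symm)
          exact Subgroup.card_eq_one.mp h2
        have hMeqK : M = Kc := by
          by_contra hne
          exact hKtop (hMco.2 Kc (lt_of_le_of_ne hMK hne))
        haveI hMn : M.Normal := by
          rw [hMeqK]
          exact hKn
        have hcent : ∀ (q : ℕ) (hq : q.Prime), ∃ Q : Sylow q ↥M, ∀ x : ↥M, x ∈ Q →
            ∀ u ∈ (P : Subgroup G), (x : G) * u = u * x := by
          intro q hq
          haveI : Fact q.Prime := ⟨hq⟩
          obtain ⟨Q, hQ⟩ := exists_invariant_sylow M p (P : Subgroup G) hPp hpM q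
          refine ⟨Q, ?_⟩
          intro x hx u hu
          by_cases hu1 : u = 1
          · rw [hu1, mul_one, one_mul]
          have hQtM : (Q : Subgroup ↥M).map M.subtype ≤ M := by
            rintro _ ⟨y, _, rfl⟩
            exact y.2
          have hnorm : ∀ h ∈ (P : Subgroup G), ∀ c ∈ (Q : Subgroup ↥M).map M.subtype,
              h * c * h⁻¹ ∈ (Q : Subgroup ↥M).map M.subtype := by
            rintro h hh _ ⟨y, hy, rfl⟩
            refine ⟨MulAut.conjNormal h y, hQ h hh y hy, ?_⟩
            show ((MulAut.conjNormal h y : ↥M) : G) = h * (y : G) * h⁻¹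
            rw [MulAut.conjNormal_apply]
          have hLtop : (P : Subgroup G) ⊔ (Q : Subgroup ↥M).map M.subtype ≠ ⊤ := by
            intro htop
            apply hMnil
            have hMle : ∀ m ∈ M, m ∈ (Q : Subgroup ↥M).map M.subtype := by
              intro m hm
              obtain ⟨c, hc, h, hh, hmch⟩ := Cfsg.Agent.S4269.mem_sup_of_normalizes
                (P : Subgroup G) ((Q : Subgroup ↥M).map M.subtype) hnorm m (by
                  rw [htop]
                  exact Subgroup.mem_top m)
              have hhM : h ∈ M := by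
                have h5 : h = c⁻¹ * m := by
                  rw [hmch]
                  group
                rw [h5]
                exact M.mul_mem (M.inv_mem (hQtM hc)) hm
              have hh1 := hdisj h hh hhM
              rw [hmch, hh1, mul_one]
              exact hc
            have hMq : IsPGroup q ↥M := by
              intro m
              obtain ⟨y, hy, hym⟩ := hMle m.1 m.2
              have hym' : y = m := Subtype.ext hym
              obtain ⟨k, hk⟩ := Q.isPGroup' ⟨y, hy⟩
              refine ⟨k, ?_⟩
              rw [← hym']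
              have h7 := congrArg Subtype.val hk
              rw [Subgroup.coe_pow] at h7
              exact h7
            exact hMq.isNilpotent
          have hxQt : (x : G) ∈ (Q : Subgroup ↥M).map M.subtype := ⟨x, hx, rfl⟩
          exact hcommL _ hLtop u hu (Subgroup.mem_sup_left hu) hu1 (x : G)
            (Subgroup.mem_sup_right hxQt) (hMcop _ x.2)
        have hCtop : (Subgroup.centralizer ((P : Subgroup G) : Set G)).subgroupOf M = ⊤ := by
          apply Subgroup.eq_top_of_card_eq
          apply Nat.dvd_antisymm (Subgroup.card_subgroup_dvd_card _)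
          rw [← Nat.factorization_prime_le_iff_dvd Nat.card_pos.ne' Nat.card_pos.ne']
          intro q hq
          haveI : Fact q.Prime := ⟨hq⟩
          obtain ⟨Q, hQ⟩ := hcent q hq
          have hQC : (Q : Subgroup ↥M) ≤
              (Subgroup.centralizer ((P : Subgroup G) : Set G)).subgroupOf M := by
            intro x hx
            rw [Subgroup.mem_subgroupOf, Subgroup.mem_centralizer_iff]
            intro u hu
            exact (hQ x hx u hu).symm
          have h1 : Nat.card Q ∣
              Nat.card ((Subgroup.centralizer ((P : Subgroup G) : Set G)).subgroupOf M) :=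
            Subgroup.card_dvd_of_le hQC
          rw [Sylow.card_eq_multiplicity] at h1
          exact (hq.pow_dvd_iff_le_factorization Nat.card_pos.ne').mp h1
        intro u hu w hw
        have h1 : (⟨w, hw⟩ : ↥M) ∈
            (Subgroup.centralizer ((P : Subgroup G) : Set G)).subgroupOf M := by
          rw [hCtop]
          exact Subgroup.mem_top _
        rw [Subgroup.mem_subgroupOf, Subgroup.mem_centralizer_iff] at h1
        exact (h1 u hu).symm
    have hPn : (P : Subgroup G).Normal := by
      rw [← Subgroup.normalizer_eq_top_iff, eq_top_iff, ← hPM_top, sup_le_iff]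
      refine ⟨Subgroup.le_normalizer, ?_⟩
      intro w hw
      apply Subgroup.centralizer_le_normalizer
      rw [Subgroup.mem_centralizer_iff]
      intro u hu
      exact (hcomm u hu w hw).symm
    have hMn : M.Normal := by
      rw [← Subgroup.normalizer_eq_top_iff, eq_top_iff, ← hPM_top, sup_le_iff]
      refine ⟨?_, Subgroup.le_normalizer⟩
      intro u hu
      apply Subgroup.centralizer_le_normalizer
      rw [Subgroup.mem_centralizer_iff]
      intro w hw
      exact hcomm u hu w hw
    obtain ⟨z, hz⟩ := exists_prime_orderOf_dvd_card' (G := ↥(P : Subgroup G)) p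
      (P.dvd_card_of_dvd_card hpG)
    have hzo : orderOf (z : G) = p := by
      rw [Subgroup.orderOf_coe, hz]
    have hz1 : (z : G) ≠ 1 := by
      intro h
      rw [h, orderOf_one] at hzo
      exact hp.one_lt.ne hzo
    have hMZtop : M ⊔ Subgroup.zpowers (z : G) = ⊤ := by
      apply hMco.2
      apply lt_of_le_of_ne le_sup_left
      intro heq
      apply hz1
      apply hdisj _ z.2
      rw [heq]
      exact Subgroup.mem_sup_right (Subgroup.mem_zpowers _)
    have hPle : (P : Subgroup G) ≤ Subgroup.zpowers (z : G) := by
      intro u hu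
      have h2 : u ∈ ((M ⊔ Subgroup.zpowers (z : G) : Subgroup G) : Set G) := by
        rw [hMZtop]
        exact Subgroup.mem_top u
      rw [Subgroup.normal_mul] at h2
      obtain ⟨a, ha, b, hb, hab⟩ := Set.mem_mul.mp h2
      have hbP : b ∈ (P : Subgroup G) := (Subgroup.zpowers_le.mpr z.2) hb
      have haP : a ∈ (P : Subgroup G) := by
        have h5 : a = u * b⁻¹ := by
          rw [← hab]
          group
        rw [h5]
        exact (P : Subgroup G).mul_mem hu ((P : Subgroup G).inv_mem hbP)
      have ha1 := hdisj a haP ha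
      rw [← hab, ha1, one_mul]
      exact hb
    have hPeq : (P : Subgroup G) = Subgroup.zpowers (z : G) :=
      le_antisymm hPle (Subgroup.zpowers_le.mpr z.2)
    have hPcard : Nat.card (P : Subgroup G) = p := by
      rw [hPeq, Nat.card_zpowers, hzo]
    refine ⟨(P : Subgroup G), M, hPn, hMn, ?_, hPM_top, hPcard, ⟨hMnil, ?_⟩, hpM⟩
    · rw [eq_bot_iff]
      rintro x ⟨hxP, hxM⟩
      rw [Subgroup.mem_bot]
      exact hdisj x hxP hxM
    · intro H' hH'
      have hle : H'.map M.subtype ≤ (P : Subgroup G) ⊔ H'.map M.subtype := le_sup_right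
      have hH'M : H'.map M.subtype ≤ M := by
        rintro _ ⟨y, _, rfl⟩
        exact y.2
      have hLtop : (P : Subgroup G) ⊔ H'.map M.subtype ≠ ⊤ := by
        intro htop
        apply hH'
        rw [eq_top_iff]
        intro m _
        have h2 : (m : G) ∈ (((P : Subgroup G) ⊔ H'.map M.subtype : Subgroup G) : Set G) := by
          rw [htop]
          exact Subgroup.mem_top _
        rw [Subgroup.normal_mul] at h2
        obtain ⟨a, ha, b, hb, hab⟩ := Set.mem_mul.mp h2
        have haM : a ∈ M := by
          have h5 : a = m * b⁻¹ := by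
            rw [← hab]
            group
          rw [h5]
          exact M.mul_mem m.2 (M.inv_mem (hH'M hb))
        have ha1 := hdisj a ha haM
        obtain ⟨y, hy, hyb⟩ := hb
        have hym : y = m := by
          apply Subtype.ext
          rw [← hab, ha1, one_mul]
          exact hyb
        rw [← hym]
        exact hy
      have hpL : p ∣ Nat.card ↥((P : Subgroup G) ⊔ H'.map M.subtype) :=
        (P.dvd_card_of_dvd_card hpG).trans (Subgroup.card_dvd_of_le le_sup_left)
      have hLn := stepA _ hLtop hpL
      have h8 := nilp_of_le _ _ hle hLn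
      haveI := h8
      exact Group.nilpotent_of_mulEquiv
        (H'.equivMapOfInjective M.subtype M.subtype_injective).symm
  · rintro (hnil | hmin | ⟨Z, K, hZn, hKn, hZK, hZKtop, hZcard, hKmin, hpK⟩) M hMco hpM
    · haveI := hnil
      exact inferInstance
    · exact hmin.2 M hMco.1
    · haveI := hZn
      haveI := hKn
      have hZp : IsPGroup p ↥Z := IsPGroup.of_card (n := 1) (by rw [hZcard, pow_one])
      have hcomm : ∀ z ∈ Z, ∀ k ∈ K, z * k = k * z := fun z hz k hk =>
        (Subgroup.commute_of_normal_of_disjoint Z K hZn hKn (disjoint_iff.mpr hZK) z k hz hk).eq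
      have hdec : ∀ g : G, ∃ z ∈ Z, ∃ k ∈ K, z * k = g := by
        intro g
        have h2 : g ∈ ((Z ⊔ K : Subgroup G) : Set G) := by
          rw [hZKtop]
          exact Subgroup.mem_top g
        rw [Subgroup.normal_mul] at h2
        exact Set.mem_mul.mp h2
      have hcard : Nat.card Z * Nat.card K = Nat.card G := by
        have hc : Z.IsComplement' K :=
          Subgroup.isComplement'_of_disjoint_and_mul_eq_univ (disjoint_iff.mpr hZK) (by
            rw [Set.eq_univ_iff_forall]
            intro g
            obtain ⟨z, hz, k, hk, hzk⟩ := hdec g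
            exact Set.mem_mul.mpr ⟨z, hz, k, hk, hzk⟩)
        exact hc.card_mul_card
      have hZM : Z ≤ M := by
        by_contra hnot
        have htop : M ⊔ Z = ⊤ :=
          hMco.2 _ (lt_of_le_of_ne le_sup_left (fun heq => hnot (heq ▸ le_sup_right)))
        have hMZ : M ⊓ Z = ⊥ := by
          have h1 : Nat.card ↥(M ⊓ Z) ∣ Nat.card Z := Subgroup.card_dvd_of_le inf_le_right
          rw [hZcard] at h1
          rcases (Nat.dvd_prime hp).mp h1 with h2 | h2
          · exact Subgroup.card_eq_one.mp h2
          · exfalso
            apply hnot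
            have h3 : M ⊓ Z = Z :=
              Subgroup.eq_of_le_of_card_ge inf_le_right (by rw [h2, hZcard])
            rw [← h3]
            exact inf_le_left
        have hc : M.IsComplement' Z :=
          Subgroup.isComplement'_of_disjoint_and_mul_eq_univ (disjoint_iff.mpr hMZ) (by
            rw [← Subgroup.mul_normal, htop]
            rfl)
        have h1 := hc.card_mul_card
        rw [← hcard, hZcard, mul_comm] at h1
        have h2 : Nat.card M = Nat.card K := Nat.eq_of_mul_eq_mul_left hp.pos h1
        rw [h2] at hpM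
        exact hpK hpM
      have hKne : (M ⊓ K).subgroupOf K ≠ ⊤ := by
        intro htop
        rw [Subgroup.subgroupOf_eq_top] at htop
        apply hMco.1
        rw [eq_top_iff, ← hZKtop, sup_le_iff]
        exact ⟨hZM, htop.trans inf_le_left⟩
      haveI hn1 : Group.IsNilpotent ↥((M ⊓ K).subgroupOf K) := hKmin.2 _ hKne
      haveI hn2 : Group.IsNilpotent ↥(M ⊓ K) :=
        Group.nilpotent_of_mulEquiv (Subgroup.subgroupOfEquivOfLe (inf_le_right : M ⊓ K ≤ K))
      haveI hn3 : Group.IsNilpotent ↥Z := hZp.isNilpotent
      let f : ↥Z →* ↥M := Subgroup.inclusion hZM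
      let g : ↥(M ⊓ K) →* ↥M := Subgroup.inclusion inf_le_left
      have hfg : ∀ a b, Commute (f a) (g b) := by
        intro a b
        apply Subtype.ext
        exact hcomm a.1 a.2 b.1 b.2.2
      apply Group.nilpotent_of_surjective (f.noncommCoprod g hfg)
      intro m
      obtain ⟨z, hz, k, hk, hzk⟩ := hdec m.1
      have hkM : k ∈ M := by
        have h5 : k = z⁻¹ * m := by
          rw [← hzk]
          group
        rw [h5]
        exact M.mul_mem (M.inv_mem (hZM hz)) m.2
      refine ⟨(⟨z, hz⟩, ⟨k, ⟨hkM, hk⟩⟩), ?_⟩
      apply Subtype.ext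
      rw [MonoidHom.noncommCoprod_apply]
      exact hzk

end Cfsg.Agent.S4242
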