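import Cfsg.Statements.S4261

import Mathlib
import Cfsg.Agent.S0003
import Cfsg.Agent.S4203

set_option autoImplicit false
open Cfsg
open scoped Pointwise

namespace Cfsg.Agent.S4261

universe u

theorem coatom_map {G G' : Type*} [Group G] [Group G'] (f : G →* G')
    (hf : Function.Surjective f) (M : Subgroup G) (hM : IsCoatom M) (hker : f.ker ≤ M) :
    IsCoatom (M.map f) := by
  have hcm : (M.map f).comap f = M := by rw [Subgroup.comap_map_eq, sup_eq_left.mpr hker]
  constructor
  · intro h
    apply hM.1
    rw [← hcm, h, Subgroup.comap_top]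
  · intro K hK
    have h1 : M < K.comap f := by
      rw [← hcm]
      refine lt_of_le_of_ne (Subgroup.comap_mono hK.le) (fun h => hK.ne ?_)
      have h2 := congrArg (Subgroup.map f) h
      rwa [Subgroup.map_comap_eq_self_of_surjective hf,
        Subgroup.map_comap_eq_self_of_surjective hf] at h2
    have h2 := hM.2 _ h1
    rw [← Subgroup.map_comap_eq_self_of_surjective hf K, h2, Subgroup.map_top_of_surjective f hf]

theorem idx (n : ℕ) : ∀ (G : Type u) [Group G] [Finite G], Group.IsSolvable G → Nat.card G = n →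
    ∀ M : Subgroup G, IsCoatom M → ∃ r b : ℕ, r.Prime ∧ M.index = r ^ b := by
  induction n using Nat.strong_induction_on with
  | _ n ih =>
    intro G _ _ hG hn M hM
    have hnt : Nontrivial G := by
      by_contra h
      rw [not_nontrivial_iff_subsingleton] at h
      apply hM.1
      rw [eq_top_iff]
      intro x _
      rw [Subsingleton.elim x 1]; exact M.one_mem
    obtain ⟨r, A, hr, hAn, -, hAne, hAp⟩ := Cfsg.Agent.S0003.exists_normal_abelian_pgroup G
    have : Fact r.Prime := ⟨hr⟩
    by_cases hAM : A ≤ M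
    · have hlt : Nat.card (G ⧸ A) < n := by
        rw [← hn, ← Subgroup.index_eq_card]
        have h1 := Subgroup.card_mul_index A
        have h2 : 0 < A.index := Nat.pos_of_ne_zero Subgroup.index_ne_zero_of_finite
        have h3 : 1 < Nat.card A := by
          rw [Subgroup.one_lt_card_iff_ne_bot]; exact hAne
        nlinarith
      have hc := coatom_map (QuotientGroup.mk' A) (QuotientGroup.mk'_surjective A) M hM
        (by rw [QuotientGroup.ker_mk']; exact hAM)
      obtain ⟨r', b, hr', hb⟩ := ih _ hlt (G ⧸ A) inferInstance rfl _ hc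
      refine ⟨r', b, hr', ?_⟩
      rw [← hb, Subgroup.index_map, QuotientGroup.ker_mk', sup_eq_left.mpr hAM,
        MonoidHom.range_eq_top.mpr (QuotientGroup.mk'_surjective A), Subgroup.index_top, mul_one]
    · have hsup : M ⊔ A = ⊤ :=
        hM.2 _ (lt_of_le_of_ne le_sup_left (fun h => hAM (by rw [h]; exact le_sup_right)))
      have h1 : M.relIndex A = M.index := Cfsg.Agent.S4203.index_eq_relIndex_of_sup M A hsup
      have h2 : M.relIndex A ∣ Nat.card A := Subgroup.relIndex_dvd_card M A
      obtain ⟨c, hc⟩ := IsPGroup.iff_card.mp hAp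
      rw [hc, h1] at h2
      obtain ⟨b, -, hb⟩ := (Nat.dvd_prime_pow hr).mp h2
      exact ⟨r, b, hr, hb⟩

theorem result {G : Type*} [Group G] [Finite G] (hG : Group.IsSolvable G) (M : Subgroup G) (hM : IsCoatom M)
    (hexp : ∀ x : G, x ^ M.index ∈ M) : M.Normal := by
  obtain ⟨r, b, hr, hb⟩ := idx _ G hG rfl M hM
  have : Fact r.Prime := ⟨hr⟩
  have hcore : ∀ x : G, x ^ M.index ∈ M.normalCore := by
    intro x g
    have h1 := hexp (g * x * g⁻¹)
    rwa [conj_pow] at h1
  have hpg : IsPGroup r (G ⧸ M.normalCore) := by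
    intro q
    obtain ⟨x, rfl⟩ := QuotientGroup.mk_surjective q
    refine ⟨b, ?_⟩
    rw [← hb, ← QuotientGroup.mk_pow]
    exact (QuotientGroup.eq_one_iff _).mpr (hcore x)
  have hnil : Group.IsNilpotent (G ⧸ M.normalCore) := hpg.isNilpotent
  have hc := coatom_map (QuotientGroup.mk' M.normalCore) (QuotientGroup.mk'_surjective _) M hM
    (by rw [QuotientGroup.ker_mk']; exact Subgroup.normalCore_le M)
  have hn : (M.map (QuotientGroup.mk' M.normalCore)).Normal :=
    Subgroup.NormalizerCondition.normal_of_coatom _ Group.normalizerCondition_of_isNilpotent hc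
  have hcm : (M.map (QuotientGroup.mk' M.normalCore)).comap (QuotientGroup.mk' M.normalCore) = M := by
    rw [Subgroup.comap_map_eq, QuotientGroup.ker_mk', sup_eq_left.mpr (Subgroup.normalCore_le M)]
  rw [← hcm]
  exact hn.comap _

end Cfsg.Agent.S4261
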