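import Cfsg.Statements.S4342

import Mathlib
import Cfsg.Agent.S4341

set_option autoImplicit false
open Cfsg
open scoped Pointwise

namespace Cfsg.Agent.S4342

theorem result {G : Type*} [Group G] [Finite G]
    (p : ℕ) [Fact p.Prime] (H : Subgroup G) [H.Normal] (hp : ¬ p ∣ H.index) :
    Nat.card (Sylow p (H ⧸ Subgroup.center H)) = Nat.card (Sylow p G) := by
  obtain ⟨P⟩ : Nonempty (Sylow p G) := inferInstance
  obtain ⟨Q⟩ : Nonempty (Sylow p H) := inferInstance
  have hPH : (P : Subgroup G) ≤ H := by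
    rw [← Subgroup.relIndex_eq_one]
    have h1 : H.relIndex (P : Subgroup G) ∣ H.index := Subgroup.relIndex_dvd_index_of_normal H _
    have h2 : H.relIndex (P : Subgroup G) ∣ Nat.card (P : Subgroup G) :=
      Subgroup.relIndex_dvd_card _ _
    obtain ⟨n, hn⟩ := IsPGroup.iff_card.mp P.isPGroup'
    rw [hn] at h2
    obtain ⟨b, hb, hb'⟩ := (Nat.dvd_prime_pow (Fact.out)).mp h2
    rw [hb'] at h1 ⊢
    cases b with
    | zero => simp
    | succ b => exact absurd ((dvd_pow_self p (Nat.succ_ne_zero b)).trans h1) hp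
  rw [Cfsg.Agent.S4341.card_sylow_quotient p (Subgroup.center H) Q]
  have hcn : Subgroup.center H ≤ Subgroup.normalizer ((Q : Subgroup H) : Set H) :=
    Subgroup.center_le_normalizer _
  rw [sup_eq_left.mpr hcn]
  have hQ : Nat.card (Sylow p H) = (Subgroup.normalizer ((Q : Subgroup H) : Set H)).index :=
    Q.card_eq_index_normalizer
  have hPc : Nat.card (Sylow p G) = (Subgroup.normalizer ((P : Subgroup G) : Set G)).index :=
    P.card_eq_index_normalizer
  rw [← hQ, Cfsg.Agent.S4341.card_sylow_normal p H P, inf_eq_left.mpr hPH, hPc]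
  have h1 : Subgroup.normalizer ((P : Subgroup G) : Set G) ⊔ H = ⊤ :=
    Sylow.normalizer_sup_eq_top' P hPH
  have h2 := Cfsg.Agent.S4345.relIndex_sup_eq (Subgroup.normalizer ((P : Subgroup G) : Set G)) H
  rw [h1, Subgroup.relIndex_top_right] at h2
  exact h2.symm

end Cfsg.Agent.S4342
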