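import Cfsg.Statements.S4343

import Mathlib
import Cfsg.Agent.S4304

set_option autoImplicit false
open Cfsg
open scoped Pointwise

namespace Cfsg.Agent.S4343

theorem npne {S : Type*} [Group S] [Finite S] [IsSimpleGroup S] (hS : ¬ IsMulCommutative S)
    (p : ℕ) [Fact p.Prime] (hp : p ∣ Nat.card S) : Nat.card (Sylow p S) ≠ 1 := by
  intro h1
  have hpp : p.Prime := Fact.out
  obtain ⟨P⟩ : Nonempty (Sylow p S) := inferInstance
  have hsub : Subsingleton (Sylow p S) := (Nat.card_eq_one_iff_unique.mp h1).1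
  have hnorm : (P : Subgroup S).Normal := by
    constructor
    intro n hn g
    have h2 : g • P = P := Subsingleton.elim _ _
    rw [Sylow.smul_eq_iff_mem_normalizer] at h2
    have h3 : g ∈ Subgroup.normalizer ((P : Subgroup S) : Set S) := h2
    exact (Subgroup.mem_normalizer_iff.mp h3 n).mp hn
  rcases hnorm.eq_bot_or_eq_top with h | h
  · have h4 := Subgroup.card_mul_index (P : Subgroup S)
    rw [h, Subgroup.card_bot, one_mul] at h4
    have h5 := P.not_dvd_index
    rw [h, h4] at h5
    exact h5 hp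
  · apply hS
    have hpg : IsPGroup p S := by
      intro g
      obtain ⟨k, hk⟩ := P.isPGroup' ⟨g, by rw [h]; trivial⟩
      exact ⟨k, congrArg Subtype.val hk⟩
    have hnt : Nontrivial (Subgroup.center S) := hpg.center_nontrivial
    have hc : Subgroup.center S = ⊤ := by
      rcases (Subgroup.instNormalCenter : (Subgroup.center S).Normal).eq_bot_or_eq_top with h6 | h6
      · exfalso
        obtain ⟨x, y, hxy⟩ := hnt
        apply hxy
        apply Subtype.ext
        have hx : (x : S) = 1 := Subgroup.mem_bot.mp (h6.le x.2)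
        have hy : (y : S) = 1 := Subgroup.mem_bot.mp (h6.le y.2)
        rw [hx, hy]
      · exact h6
    refine ⟨⟨fun a b => ?_⟩⟩
    have ha : a ∈ Subgroup.center S := by
      rw [hc]
      trivial
    exact (Subgroup.mem_center_iff.mp ha b).symm

theorem comm_mem {S : Type*} [Group S] [Finite S] (p : ℕ) [Fact p.Prime]
    (hn : Nat.card (Sylow p S) < p ^ 2) (P Q : Sylow p S) (hPQ : Q ≠ P) (a b : S)
    (ha : a ∈ (P : Subgroup S)) (hb : b ∈ (P : Subgroup S)) :
    a * b * a⁻¹ * b⁻¹ ∈ (Q : Subgroup S) := by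
  have hpp : p.Prime := Fact.out
  obtain ⟨D, hD⟩ : ∃ D : Subgroup (P : Subgroup S), D = (Q : Subgroup S).subgroupOf P :=
    ⟨_, rfl⟩
  have hstab : MulAction.stabilizer (P : Subgroup S) Q ≤ D := by
    intro u hu
    rw [MulAction.mem_stabilizer_iff] at hu
    have hu' : (u : S) • Q = Q := hu
    rw [Sylow.smul_eq_iff_mem_normalizer] at hu'
    have h5 := P.isPGroup'.inf_normalizer_sylow Q
    have h6 : (u : S) ∈ (P : Subgroup S) ⊓ (Q : Subgroup S) := by
      rw [← h5]
      exact ⟨u.2, hu'⟩
    rw [hD, Subgroup.mem_subgroupOf]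
    exact h6.2
  have hle : D.index < p ^ 2 := by
    have h1 := Subgroup.index_dvd_of_le hstab
    have h2 := MulAction.index_stabilizer (P : Subgroup S) Q
    have h3 := Set.ncard_le_card (MulAction.orbit (P : Subgroup S) Q)
    have h4 : D.index ≤ (MulAction.stabilizer (P : Subgroup S) Q).index :=
      Nat.le_of_dvd (Nat.pos_of_ne_zero (Subgroup.index_ne_zero_of_finite)) h1
    omega
  obtain ⟨k, hk⟩ := IsPGroup.iff_card.mp P.isPGroup'
  have hdvd : D.index ∣ p ^ k := by
    rw [← hk]
    exact Subgroup.index_dvd_card D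
  obtain ⟨i, -, hi⟩ := (Nat.dvd_prime_pow hpp).mp hdvd
  have hi1 : D.index ≠ 1 := by
    intro h1
    apply hPQ
    have hDtop : D = ⊤ := Subgroup.index_eq_one.mp h1
    have hPleQ : (P : Subgroup S) ≤ Q := by
      intro u hu
      have h7 : (⟨u, hu⟩ : (P : Subgroup S)) ∈ D := by
        rw [hDtop]
        trivial
      rw [hD, Subgroup.mem_subgroupOf] at h7
      exact h7
    exact Sylow.ext (P.3 Q.isPGroup' hPleQ)
  have hip : D.index = p := by
    rw [hi] at hle hi1 ⊢
    have hi2 : i < 2 := by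
      by_contra hge
      have : p ^ 2 ≤ p ^ i := Nat.pow_le_pow_right hpp.pos (by omega)
      omega
    interval_cases i
    · simp at hi1
    · simp
  have hk0 : k ≠ 0 := by
    rintro rfl
    rw [pow_zero] at hdvd
    exact hi1 (Nat.dvd_one.mp hdvd)
  have hDn : D.Normal := by
    apply Subgroup.normal_of_index_eq_minFac_card
    rw [hip, hk, hpp.pow_minFac hk0]
  have hqc : Nat.card ((P : Subgroup S) ⧸ D) = p := by
    rw [← Subgroup.index_eq_card, hip]
  have hcyc : IsCyclic ((P : Subgroup S) ⧸ D) := isCyclic_of_prime_card hqc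
  have hcomm : commutator (P : Subgroup S) ≤ D := by
    have h1 := @Abelianization.commutator_subset_ker (P : Subgroup S) _
      ((P : Subgroup S) ⧸ D) (IsCyclic.commGroup) (QuotientGroup.mk' D)
    rwa [QuotientGroup.ker_mk'] at h1
  have h8 := hcomm (Subgroup.commutator_mem_commutator
    (g₁ := (⟨a, ha⟩ : (P : Subgroup S))) (g₂ := ⟨b, hb⟩)
    (Subgroup.mem_top _) (Subgroup.mem_top _))
  rw [hD, Subgroup.mem_subgroupOf, commutatorElement_def] at h8
  exact h8

theorem result {S : Type*} [Group S] [Finite S]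
    [IsSimpleGroup S] (hS : ¬ IsMulCommutative S) (p : ℕ) [Fact p.Prime] (hp : p ∣ Nat.card S)
    (hn : Nat.card (Sylow p S) < p ^ 2) (P : Sylow p S) : Nat.card P = p := by
  have hpp : p.Prime := Fact.out
  have hn1 := npne hS p hp
  have hab : ∀ Q : Sylow p S, ∀ a ∈ (Q : Subgroup S), ∀ b ∈ (Q : Subgroup S),
      a * b = b * a := by
    intro Q a ha b hb
    have hc : a * b * a⁻¹ * b⁻¹ = 1 := by
      apply Cfsg.Agent.S4304.faithful p hn1
      intro R
      rw [Sylow.smul_eq_iff_mem_normalizer]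
      by_cases hR : R = Q
      · rw [hR]
        exact Subgroup.le_normalizer (Subgroup.mul_mem _ (Subgroup.mul_mem _
          (Subgroup.mul_mem _ ha hb) (Subgroup.inv_mem _ ha)) (Subgroup.inv_mem _ hb))
      · exact Subgroup.le_normalizer (comm_mem p hn Q R hR a b ha hb)
    have h9 : a * b = a * b * a⁻¹ * b⁻¹ * (b * a) := by group
    rw [h9, hc, one_mul]
  have hle := Cfsg.Agent.S4304.sylow_card_le p hn1 hab P
  obtain ⟨k, hk⟩ := IsPGroup.iff_card.mp P.isPGroup'
  have hk' : Nat.card (P : Subgroup S) = p ^ k := hk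
  rw [hk'] at hle
  have hk2 : k < 2 := by
    by_contra hge
    have : p ^ 2 ≤ p ^ k := Nat.pow_le_pow_right hpp.pos (by omega)
    omega
  have hk0 : k ≠ 0 := by
    rintro rfl
    have h4 := Subgroup.card_mul_index (P : Subgroup S)
    rw [hk', pow_zero, one_mul] at h4
    have h5 := P.not_dvd_index
    rw [h4] at h5
    exact h5 hp
  show Nat.card (P : Subgroup S) = p
  rw [hk']
  interval_cases k
  · exact absurd rfl hk0
  · simp

end Cfsg.Agent.S4343
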