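import Cfsg.Statements.S4347

set_option autoImplicit false
open Cfsg
open scoped Pointwise

namespace Cfsg.Agent.S4347

theorem result {G : Type*} [Group G] [Finite G]
    (p : ℕ) [Fact p.Prime] :
    (¬ ∃ Q : Sylow p G, ∀ x : G, (∃ k : ℕ, orderOf x = p ^ k) → ∃ P : Sylow p G, P ≠ Q ∧ x ∈ P) ↔
      ∃ x : G, (∃ k : ℕ, orderOf x = p ^ k) ∧ ∃! P : Sylow p G, x ∈ P := by
  constructor
  · intro h
    push Not at h
    obtain ⟨x, ⟨k, hk⟩, hx⟩ := h (Classical.arbitrary (Sylow p G))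
    have hpg : IsPGroup p (Subgroup.zpowers x) := by
      apply IsPGroup.of_card (n := k)
      rw [Nat.card_zpowers, hk]
    obtain ⟨P₀, hP₀⟩ := hpg.exists_le_sylow
    have hxP₀ : x ∈ P₀ := hP₀ (Subgroup.mem_zpowers x)
    refine ⟨x, ⟨k, hk⟩, P₀, hxP₀, ?_⟩
    intro P hP
    have h1 : P = Classical.arbitrary (Sylow p G) := by
      by_contra hne
      exact hx P hne hP
    have h2 : P₀ = Classical.arbitrary (Sylow p G) := by
      by_contra hne
      exact hx P₀ hne hxP₀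
    rw [h1, h2]
  · rintro ⟨x, ⟨k, hk⟩, P₀, hxP₀, huniq⟩
    push Not
    intro Q
    obtain ⟨g, hg⟩ := MulAction.exists_smul_eq G P₀ Q
    refine ⟨g * x * g⁻¹, ⟨k, ?_⟩, ?_⟩
    · rw [← hk]
      exact ((SemiconjBy.conj_mk g x).orderOf_eq g).symm
    · intro P hP hmem
      apply hP
      have hx' : x ∈ g⁻¹ • P := by
        change x ∈ ((g⁻¹ • P : Sylow p G) : Subgroup G)
        rw [Sylow.coe_subgroup_smul, Subgroup.mem_pointwise_smul_iff_inv_smul_mem]
        have e : (MulAut.conj g⁻¹)⁻¹ • x = g * x * g⁻¹ := by simp [MulAut.smul_def]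
        rw [e]
        exact hmem
      have h3 := huniq (g⁻¹ • P) hx'
      rw [← hg, ← h3, smul_inv_smul]

end Cfsg.Agent.S4347
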