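import Cfsg.Statements.S4348

import Mathlib

set_option autoImplicit false
open Cfsg
open scoped Pointwise

namespace Cfsg.Agent.S4348

theorem result {G : Type*} [Group G] [Finite G]
    (p : ℕ) [Fact p.Prime] (P : Sylow p G)
    [hn : ((Cfsg.pCore p G).subgroupOf (P : Subgroup G)).Normal]
    (hc : IsCyclic ((P : Subgroup G) ⧸ (Cfsg.pCore p G).subgroupOf (P : Subgroup G))) :
    ∃ x : G, (∃ k : ℕ, orderOf x = p ^ k) ∧ ∃! Q : Sylow p G, x ∈ Q := by
  obtain ⟨q, hq⟩ := hc.exists_generator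
  obtain ⟨x', rfl⟩ := QuotientGroup.mk_surjective q
  have hpcore : IsPGroup p (Cfsg.pCore p G) := by
    unfold Cfsg.pCore
    apply Sylow.sSup_of_normal
    · intro H hH; exact hH.2
    · intro H hH; exact hH.1
  have hnorm : (Cfsg.pCore p G).Normal := Subgroup.sSup_normal _ (fun H hH => hH.1)
  refine ⟨(x' : G), ?_, P, x'.2, ?_⟩
  · obtain ⟨k, hk⟩ := (IsPGroup.iff_orderOf.mp P.isPGroup') x'
    exact ⟨k, by rw [← hk, Subgroup.orderOf_coe]⟩
  · intro Q hxQ
    have hle : (P : Subgroup G) ≤ Q := by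
      intro y hy
      obtain ⟨k, hk⟩ := Subgroup.mem_zpowers_iff.mp (hq (QuotientGroup.mk ⟨y, hy⟩))
      rw [← QuotientGroup.mk_zpow, QuotientGroup.eq] at hk
      rw [Subgroup.mem_subgroupOf] at hk
      have h0 : (((x' : G) ^ k)⁻¹ * y) ∈ Cfsg.pCore p G := by simpa using hk
      have h1 : ((x' : G) ^ k)⁻¹ * y ∈ (Q : Subgroup G) := (hpcore.le_sylow_of_normal Q) h0
      have h2 : (x' : G) ^ k ∈ (Q : Subgroup G) := zpow_mem hxQ k
      have := mul_mem h2 h1
      simpa using this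
    exact Sylow.ext (P.3 Q.2 hle)

end Cfsg.Agent.S4348
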