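import Cfsg.Statements.S4398

import Mathlib
import Cfsg.Agent.S4399
import Cfsg.Agent.S3919

set_option autoImplicit false
open Cfsg
open scoped Pointwise

namespace Cfsg.Agent.S4398

open Cfsg.Agent.Lib.Helper1
open scoped commutatorElement

universe u

theorem sectional_sub {X : Type*} [Group X] (M : Subgroup X) (hr : Cfsg.SectionalPRankLE 2 2 X) :
    Cfsg.SectionalPRankLE 2 2 ↥M := by
  intro H N _ A hA hA2
  have hinj : Function.Injective M.subtype := M.subtype_injective
  let e : ↥H ≃* ↥(H.map M.subtype) := H.equivMapOfInjective M.subtype hinj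
  let N' : Subgroup ↥(H.map M.subtype) := N.map e.toMonoidHom
  haveI : N'.Normal := Subgroup.Normal.map inferInstance _ e.surjective
  let φ : (↥H ⧸ N) ≃* (↥(H.map M.subtype) ⧸ N') := QuotientGroup.congr N N' e rfl
  have h := hr (H.map M.subtype) N' (A.map φ.toMonoidHom) ?_ ?_
  · have h0 := Subgroup.card_map_of_injective (K := A) (f := φ.toMonoidHom) φ.injective
    rw [h0] at h
    exact h
  · refine ⟨⟨?_⟩⟩
    rintro ⟨a, ha⟩ ⟨b, hb⟩
    obtain ⟨a', ha', rfl⟩ := ha
    obtain ⟨b', hb', rfl⟩ := hb
    apply Subtype.ext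
    have h1 := hA.is_comm.comm ⟨a', ha'⟩ ⟨b', hb'⟩
    have h2 : a' * b' = b' * a' := congrArg Subtype.val h1
    show φ.toMonoidHom a' * φ.toMonoidHom b' = φ.toMonoidHom b' * φ.toMonoidHom a'
    rw [← map_mul, ← map_mul, h2]
  · rintro a ⟨a', ha', rfl⟩
    rw [← map_pow, hA2 a' ha', map_one]

theorem sec_contra {X : Type*} [Group X] [Finite X] (hr : Cfsg.SectionalPRankLE 2 2 X)
    (N : Subgroup X) [N.Normal] (hsq : ∀ x : X, x * x ∈ N) (hcard : 8 * Nat.card N ≤ Nat.card X) :
    False := by
  have hq : ∀ q : (↥(⊤ : Subgroup X) ⧸ N.subgroupOf ⊤), q * q = 1 := by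
    intro q
    induction q using QuotientGroup.induction_on with
    | H x =>
      rw [← QuotientGroup.mk_mul, QuotientGroup.eq_one_iff, Subgroup.mem_subgroupOf]
      exact hsq x
  have h := hr ⊤ (N.subgroupOf ⊤) ⊤ ⟨⟨fun a b => Subtype.ext (MaxCl.comm_of_sq hq a b)⟩⟩
    (fun a _ => by rw [pow_two]; exact hq a)
  rw [Subgroup.card_top, ← Subgroup.index_eq_card] at h
  have h1 : (N.subgroupOf ⊤).index = N.index := by
    show N.relIndex ⊤ = N.index
    exact Subgroup.relIndex_top_right N
  rw [h1] at h
  have h2 := Subgroup.card_mul_index N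
  have h3 : 0 < Nat.card N := Nat.card_pos
  nlinarith

theorem two_elems' {X : Type*} [Group X] (D : Subgroup X) (hD : Nat.card D = 2)
    (z : X) (hz : z ∈ D) (hz1 : z ≠ 1) (w : X) (hw : w ∈ D) :
    w = 1 ∨ w = z := by
  by_cases hw1 : w = 1
  · exact Or.inl hw1
  right
  obtain ⟨y, -, hy⟩ := (Nat.card_eq_two_iff' (1 : D)).mp hD
  have h1 : (⟨w, hw⟩ : D) = y := hy _ (fun h => hw1 (congrArg Subtype.val h))
  have h2 : (⟨z, hz⟩ : D) = y := hy _ (fun h => hz1 (congrArg Subtype.val h))
  exact congrArg Subtype.val (h1.trans h2.symm)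

theorem sub8 {S : Type*} [Group S]
    (hsub : ∃ H : Subgroup S, Nonempty (↥H ≃* DihedralGroup 4) ∨ Nonempty (↥H ≃* QuaternionGroup 2)) :
    ∃ H : Subgroup S, Nat.card H = 8 ∧ ∃ r ∈ H, ∃ s ∈ H, r * s ≠ s * r := by
  obtain ⟨H, h | h⟩ := hsub
  · obtain ⟨e⟩ := h
    refine ⟨H, ?_, (e.symm (DihedralGroup.r 1) : S), (e.symm (DihedralGroup.r 1)).2,
      (e.symm (DihedralGroup.sr 0) : S), (e.symm (DihedralGroup.sr 0)).2, ?_⟩
    · rw [Nat.card_congr e.toEquiv, DihedralGroup.nat_card]
    · intro h
      have h1 : e.symm (DihedralGroup.r 1) * e.symm (DihedralGroup.sr 0) =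
          e.symm (DihedralGroup.sr 0) * e.symm (DihedralGroup.r 1) := Subtype.ext h
      rw [← map_mul, ← map_mul] at h1
      have h2 := e.symm.injective h1
      revert h2
      decide
  · obtain ⟨e⟩ := h
    refine ⟨H, ?_, (e.symm (QuaternionGroup.a 1) : S), (e.symm (QuaternionGroup.a 1)).2,
      (e.symm (QuaternionGroup.xa 0) : S), (e.symm (QuaternionGroup.xa 0)).2, ?_⟩
    · rw [Nat.card_congr e.toEquiv, Nat.card_eq_fintype_card, QuaternionGroup.card]
    · intro h
      have h1 : e.symm (QuaternionGroup.a 1) * e.symm (QuaternionGroup.xa 0) =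
          e.symm (QuaternionGroup.xa 0) * e.symm (QuaternionGroup.a 1) := Subtype.ext h
      rw [← map_mul, ← map_mul] at h1
      have h2 := e.symm.injective h1
      revert h2
      decide

theorem gamma_sq {X : Type*} [Group X] [Finite X] (M : Subgroup X) (hMidx : M.index = 2)
    (hM8 : Nat.card M = 8)
    (z u : X) (hzc : ∀ g : X, g * z = z * g) (hz1 : z ≠ 1) (hz2 : z * z = 1) (hu2 : u * u = 1)
    (hu1 : u ≠ 1) (huz : u ≠ z) (hconj : ∀ x : X, x * u * x⁻¹ = u ∨ x * u * x⁻¹ = u * z)
    (hzM : z ∈ M) (huM : u ∈ M)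
    (hcen : ∀ m ∈ M, (∀ m' ∈ M, m' * m = m * m') → m = 1 ∨ m = z)
    (hsq : ∀ m ∈ M, m * m = 1 ∨ m * m = z) :
    ∀ x : X, x * x = 1 ∨ x * x = z := by
  classical
  haveI : M.Normal := Subgroup.normal_of_index_eq_two hMidx
  have hzi : z⁻¹ = z := inv_eq_of_mul_eq_one_right hz2
  have hcj : ∀ x : X, x * u = u * x ∨ x * u = u * z * x := by
    intro x
    have h0 : x * u = (x * u * x⁻¹) * x := by group
    rcases hconj x with h | h
    · left; rw [h0, h]
    · right; rw [h0, h]
  obtain ⟨t, htM, htu0⟩ : ∃ t ∈ M, t * u ≠ u * t := by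
    by_contra hcon
    push_neg at hcon
    rcases hcen u huM hcon with h | h
    · exact hu1 h
    · exact huz h
  have htu : t * u = u * z * t := by
    rcases hcj t with h | h
    · exact absurd h htu0
    · exact h
  have hne1 : u * z ≠ 1 := fun h => huz (by rw [← hzi]; exact eq_inv_of_mul_eq_one_left h)
  have hCu : ∀ m ∈ M, m * u = u * m → m = 1 ∨ m = z ∨ m = u ∨ m = u * z := by
    intro m hm hmu
    by_contra hcon
    push_neg at hcon
    obtain ⟨hm1, hmz, hmu', hmuz⟩ := hcon
    obtain ⟨C, hC⟩ : ∃ C : Subgroup X, C = Subgroup.centralizer {u} ⊓ M := ⟨_, rfl⟩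
    have hCM : C ≤ M := by rw [hC]; exact inf_le_right
    have hmem : ∀ x, x ∈ C ↔ (x * u = u * x ∧ x ∈ M) := by
      intro x
      rw [hC, Subgroup.mem_inf, Subgroup.mem_centralizer_singleton_iff]
    have hS : (({1, z, u, u * z, m} : Finset X) : Set X) ⊆ (C : Set X) := by
      intro x hx
      simp only [Finset.coe_insert, Finset.coe_singleton, Set.mem_insert_iff,
        Set.mem_singleton_iff] at hx
      rw [SetLike.mem_coe, hmem]
      rcases hx with rfl | rfl | rfl | rfl | rfl
      · exact ⟨by rw [one_mul, mul_one], M.one_mem⟩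
      · exact ⟨(hzc u).symm, hzM⟩
      · exact ⟨rfl, huM⟩
      · exact ⟨by rw [mul_assoc, ← hzc u], M.mul_mem huM hzM⟩
      · exact ⟨hmu, hm⟩
    have hcard5 : ({1, z, u, u * z, m} : Finset X).card = 5 := by
      rw [Finset.card_insert_of_notMem, Finset.card_insert_of_notMem,
        Finset.card_insert_of_notMem, Finset.card_insert_of_notMem, Finset.card_singleton]
      · simp only [Finset.mem_singleton]
        exact fun h => hmuz h.symm
      · simp only [Finset.mem_insert, Finset.mem_singleton, not_or]
        exact ⟨fun h => hz1 (by simpa using h), fun h => hmu' h.symm⟩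
      · simp only [Finset.mem_insert, Finset.mem_singleton, not_or]
        exact ⟨fun h => huz h.symm, fun h => hu1 (by simpa using h), fun h => hmz h.symm⟩
      · simp only [Finset.mem_insert, Finset.mem_singleton, not_or]
        exact ⟨fun h => hz1 h.symm, fun h => hu1 h.symm, fun h => hne1 h.symm,
          fun h => hm1 h.symm⟩
    have h5 : 5 ≤ Nat.card C := by
      have h := Set.ncard_le_ncard hS (Set.toFinite _)
      rw [Set.ncard_coe_finset, hcard5] at h
      rw [← Nat.card_coe_set_eq] at h
      exact h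
    have hdvd : Nat.card C ∣ Nat.card M := Subgroup.card_dvd_of_le hCM
    rw [hM8] at hdvd
    have hne : Nat.card C ≠ 8 := by
      intro h8
      have hCeq : C = M := Subgroup.eq_of_le_of_card_ge hCM (by rw [h8, hM8])
      have htC : t ∈ C := by rw [hCeq]; exact htM
      exact htu0 ((hmem t).mp htC).1
    have hle : Nat.card C ≤ 8 := Nat.le_of_dvd (by norm_num) hdvd
    obtain ⟨q, hq⟩ := hdvd
    rcases Nat.lt_or_ge q 2 with hq2 | hq2
    · interval_cases q <;> omega
    · nlinarith
  obtain ⟨c, hcM⟩ := MaxCl.exists_not_mem_of_index_two M hMidx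
  obtain ⟨c₁, hc₁M, hc₁u⟩ : ∃ c₁, c₁ ∉ M ∧ c₁ * u = u * c₁ := by
    rcases hcj c with h | h
    · exact ⟨c, hcM, h⟩
    · refine ⟨c * t, ?_, ?_⟩
      · rw [Subgroup.mul_mem_iff_of_index_two hMidx]
        intro hiff
        exact hcM (hiff.mpr htM)
      · calc c * t * u = c * (t * u) := by group
          _ = c * (u * z * t) := by rw [htu]
          _ = (c * u) * z * t := by group
          _ = u * z * c * z * t := by rw [h]
          _ = u * z * (c * z) * t := by group
          _ = u * z * (z * c) * t := by rw [hzc c]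
          _ = u * (z * z) * (c * t) := by group
          _ = u * (c * t) := by rw [hz2, mul_one]
  have hc₁ui : c₁⁻¹ * u = u * c₁⁻¹ := by
    calc c₁⁻¹ * u = c₁⁻¹ * (u * c₁) * c₁⁻¹ := by group
      _ = c₁⁻¹ * (c₁ * u) * c₁⁻¹ := by rw [hc₁u]
      _ = u * c₁⁻¹ := by group
  have hti : t⁻¹ * u = u * z * t⁻¹ := by
    calc t⁻¹ * u = t⁻¹ * u * (z * z) := by rw [hz2, mul_one]
      _ = t⁻¹ * (u * z * t) * t⁻¹ * z := by group
      _ = t⁻¹ * (t * u) * t⁻¹ * z := by rw [htu]
      _ = u * (t⁻¹ * z) := by group
      _ = u * (z * t⁻¹) := by rw [hzc t⁻¹]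
      _ = u * z * t⁻¹ := by group
  obtain ⟨e, he⟩ : ∃ e : X, e = c₁ * t * c₁⁻¹ := ⟨_, rfl⟩
  have heM : e ∈ M := by
    rw [he]; exact (inferInstance : M.Normal).conj_mem t htM c₁
  have heu : e * u = u * z * e := by
    calc e * u = c₁ * t * (c₁⁻¹ * u) := by rw [he]; group
      _ = c₁ * t * (u * c₁⁻¹) := by rw [hc₁ui]
      _ = c₁ * (t * u) * c₁⁻¹ := by group
      _ = c₁ * (u * z * t) * c₁⁻¹ := by rw [htu]
      _ = (c₁ * u) * (z * t * c₁⁻¹) := by group
      _ = (u * c₁) * (z * t * c₁⁻¹) := by rw [hc₁u]
      _ = u * (c₁ * z) * (t * c₁⁻¹) := by group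
      _ = u * (z * c₁) * (t * c₁⁻¹) := by rw [hzc c₁]
      _ = u * z * (c₁ * t * c₁⁻¹) := by group
      _ = u * z * e := by rw [he]
  have hdM : e * t⁻¹ ∈ M := M.mul_mem heM (M.inv_mem htM)
  have hdu : e * t⁻¹ * u = u * (e * t⁻¹) := by
    calc e * t⁻¹ * u = e * (t⁻¹ * u) := by group
      _ = e * (u * z * t⁻¹) := by rw [hti]
      _ = (e * u) * z * t⁻¹ := by group
      _ = u * z * e * z * t⁻¹ := by rw [heu]
      _ = u * z * (e * z) * t⁻¹ := by group
      _ = u * z * (z * e) * t⁻¹ := by rw [hzc e]
      _ = u * (z * z) * (e * t⁻¹) := by group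
      _ = u * (e * t⁻¹) := by rw [hz2, mul_one]
  have htt : ∀ g : X, g * (t * t) = (t * t) * g := by
    intro g
    rcases hsq t htM with h | h
    · rw [h, one_mul, mul_one]
    · rw [h]; exact hzc g
  have hee : e * e = t * t := by
    calc e * e = c₁ * (t * t) * c₁⁻¹ := by rw [he]; group
      _ = (t * t) * c₁ * c₁⁻¹ := by rw [htt c₁]
      _ = t * t := by group
  have hutut : u * t * (u * t) = z * (t * t) := by
    calc u * t * (u * t) = u * (t * u) * t := by group
      _ = u * (u * z * t) * t := by rw [htu]
      _ = (u * u) * z * (t * t) := by group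
      _ = z * (t * t) := by rw [hu2, one_mul]
  have hd : e * t⁻¹ = 1 ∨ e * t⁻¹ = z := by
    rcases hCu _ hdM hdu with h | h | h | h
    · exact Or.inl h
    · exact Or.inr h
    · exfalso
      have h1 : e = u * t := mul_inv_eq_iff_eq_mul.mp h
      rw [h1, hutut] at hee
      exact hz1 (by simpa using hee)
    · exfalso
      have h1 : e = u * z * t := mul_inv_eq_iff_eq_mul.mp h
      have h2 : u * z * t * (u * z * t) = z * (t * t) := by
        calc u * z * t * (u * z * t) = u * (z * t) * (u * z) * t := by group
          _ = u * (t * z) * (z * u) * t := by rw [← hzc t, hzc u]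
          _ = u * t * (z * z) * u * t := by group
          _ = u * t * (u * t) := by rw [hz2, mul_one]; group
          _ = z * (t * t) := hutut
      rw [h1, h2] at hee
      exact hz1 (by simpa using hee)
  obtain ⟨y, hyM, hyu, hyt⟩ : ∃ y, y ∉ M ∧ y * u = u * y ∧ y * t = t * y := by
    rcases hd with h | h
    · refine ⟨c₁, hc₁M, hc₁u, ?_⟩
      have h1 : e = t := mul_inv_eq_one.mp h
      calc c₁ * t = (c₁ * t * c₁⁻¹) * c₁ := by group
        _ = e * c₁ := by rw [he]
        _ = t * c₁ := by rw [h1]
    · refine ⟨c₁ * u, ?_, ?_, ?_⟩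
      · rw [Subgroup.mul_mem_iff_of_index_two hMidx]
        intro hiff
        exact hc₁M (hiff.mpr huM)
      · calc c₁ * u * u = (u * c₁) * u := by rw [hc₁u]
          _ = u * (c₁ * u) := by group
      · have h1 : e = z * t := mul_inv_eq_iff_eq_mul.mp h
        have hut : u * t = z * (t * u) := by
          calc u * t = u * (z * z) * t := by rw [hz2, mul_one]
            _ = (u * z) * z * t := by group
            _ = (z * u) * z * t := by rw [hzc u]
            _ = z * (u * z * t) := by group
            _ = z * (t * u) := by rw [htu]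
        calc c₁ * u * t = c₁ * (u * t) := by group
          _ = c₁ * (z * (t * u)) := by rw [hut]
          _ = (c₁ * z) * t * u := by group
          _ = (z * c₁) * t * u := by rw [hzc c₁]
          _ = z * (c₁ * t * c₁⁻¹) * c₁ * u := by group
          _ = z * e * c₁ * u := by rw [he]
          _ = z * (z * t) * c₁ * u := by rw [h1]
          _ = (z * z) * t * (c₁ * u) := by group
          _ = t * (c₁ * u) := by rw [hz2, one_mul]
  have hyz : y * z = z * y := hzc y
  have hyM' : ∀ m ∈ M, y * m = m * y := by
    intro m hm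
    have hV : ∀ v : X, (v = 1 ∨ v = z ∨ v = u ∨ v = u * z) → y * v = v * y := by
      intro v hv
      rcases hv with rfl | rfl | rfl | rfl
      · rw [mul_one, one_mul]
      · exact hyz
      · exact hyu
      · calc y * (u * z) = (y * u) * z := by group
          _ = (u * y) * z := by rw [hyu]
          _ = u * (y * z) := by group
          _ = u * (z * y) := by rw [hyz]
          _ = u * z * y := by group
    rcases hcj m with h | h
    · exact hV m (hCu m hm h)
    · have h1 : t⁻¹ * m ∈ M := M.mul_mem (M.inv_mem htM) hm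
      have h2 : t⁻¹ * m * u = u * (t⁻¹ * m) := by
        calc t⁻¹ * m * u = t⁻¹ * (m * u) := by group
          _ = t⁻¹ * (u * z * m) := by rw [h]
          _ = (t⁻¹ * u) * z * m := by group
          _ = (u * z * t⁻¹) * z * m := by rw [hti]
          _ = u * z * (t⁻¹ * z) * m := by group
          _ = u * z * (z * t⁻¹) * m := by rw [hzc t⁻¹]
          _ = u * (z * z) * (t⁻¹ * m) := by group
          _ = u * (t⁻¹ * m) := by rw [hz2, mul_one]
      have h3 := hV _ (hCu _ h1 h2)
      calc y * m = y * t * (t⁻¹ * m) := by group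
        _ = t * y * (t⁻¹ * m) := by rw [hyt]
        _ = t * (y * (t⁻¹ * m)) := by group
        _ = t * ((t⁻¹ * m) * y) := by rw [h3]
        _ = m * y := by group
  have hyyM : y * y ∈ M := by
    rw [Subgroup.mul_mem_iff_of_index_two hMidx]
  have hyy : y * y = 1 ∨ y * y = z := by
    apply hcen _ hyyM
    intro m' hm'
    calc m' * (y * y) = (m' * y) * y := by group
      _ = (y * m') * y := by rw [← hyM' m' hm']
      _ = y * (m' * y) := by group
      _ = y * (y * m') := by rw [← hyM' m' hm']
      _ = y * y * m' := by group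
  intro x
  by_cases hx : x ∈ M
  · exact hsq x hx
  · have hm : x * y⁻¹ ∈ M := by
      rw [Subgroup.mul_mem_iff_of_index_two hMidx]
      constructor
      · intro h; exact absurd h hx
      · intro h; exact absurd (M.inv_mem_iff.mp h) hyM
    have hxx : x * x = (x * y⁻¹) * (x * y⁻¹) * (y * y) := by
      calc x * x = x * y⁻¹ * (y * (x * y⁻¹)) * y := by group
        _ = x * y⁻¹ * ((x * y⁻¹) * y) * y := by rw [hyM' _ hm]
        _ = (x * y⁻¹) * (x * y⁻¹) * (y * y) := by group
    rw [hxx]
    rcases hsq _ hm with h1 | h1 <;> rcases hyy with h2 | h2 <;> rw [h1, h2]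
    · left; rw [mul_one]
    · right; rw [one_mul]
    · right; rw [mul_one]
    · left; exact hz2

theorem main : ∀ (n : ℕ) (X : Type u) [Group X] [Finite X], Nat.card X = 2 ^ n →
    Cfsg.SectionalPRankLE 2 2 X →
    (∃ H : Subgroup X, Nat.card H = 8 ∧ ∃ r ∈ H, ∃ s ∈ H, r * s ≠ s * r) →
    (commutator X).index = 4 := by
  intro n
  induction n with
  | zero =>
    intro X _ _ hX hr ⟨H, hH, _⟩
    exfalso
    have h1 := Subgroup.card_subgroup_dvd_card H
    rw [hH, hX] at h1
    omega
  | succ k ih =>
    intro X _ _ hX hr ⟨H, hH, r, hrH, s, hsH, hrs⟩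
    classical
    haveI : Fact (Nat.Prime 2) := ⟨Nat.prime_two⟩
    have hXp : IsPGroup 2 X := IsPGroup.of_card hX
    haveI := hXp.isNilpotent
    have hnc : ¬ ∀ a b : X, a * b = b * a := fun h => hrs (h r s)
    have hk3 : 3 ≤ k + 1 := by
      have h1 := Subgroup.card_subgroup_dvd_card H
      rw [hH, hX] at h1
      have h2 : (2:ℕ) ^ 3 ∣ 2 ^ (k + 1) := by simpa using h1
      exact (Nat.pow_dvd_pow_iff_le_right (by norm_num : 1 < 2)).mp h2
    by_cases hk : k + 1 = 3
    · rw [hk] at hX
      have hcle := MaxCl.class_le (p := 2) 3 X hX (by norm_num)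
      have hc : Group.nilpotencyClass X = 3 - 1 := by
        have : 2 ≤ Group.nilpotencyClass X := by
          by_contra hlt; push_neg at hlt
          exact hnc (MaxCl.comm_of_class_le_one (by omega))
        omega
      exact MaxCl.index_commutator_of_maxclass 3 X (by norm_num) hX hc
    · have hk4 : 3 ≤ k := by omega
      obtain ⟨M, hMcard, hHM⟩ := Sylow.exists_subgroup_card_pow_prime_le 2 (m := k) (n := 3)
        (by rw [hX]; exact pow_dvd_pow 2 (by omega)) H (by rw [hH]; norm_num) hk4
      have hMidx : M.index = 2 := by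
        have h1 := Subgroup.card_mul_index M
        rw [hMcard, hX, pow_succ] at h1
        exact Nat.eq_of_mul_eq_mul_left (by positivity) h1
      haveI hMn : M.Normal := Subgroup.normal_of_index_eq_two hMidx
      have hidxM : (commutator ↥M).index = 4 := by
        apply ih ↥M hMcard (sectional_sub M hr)
        refine ⟨H.subgroupOf M, ?_, ⟨r, hHM hrH⟩, ?_, ⟨s, hHM hsH⟩, ?_, ?_⟩
        · rw [Nat.card_congr (Subgroup.subgroupOfEquivOfLe hHM).toEquiv]; exact hH
        · exact hrH
        · exact hsH
        · intro h; exact hrs (congrArg Subtype.val h)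
      by_cases hNF : ∃ z u : X, (∀ g : X, g * z = z * g) ∧ z ≠ 1 ∧ z * z = 1 ∧ u * u = 1 ∧ u ≠ 1 ∧
          u ≠ z ∧ ∀ x : X, x * u * x⁻¹ = u ∨ x * u * x⁻¹ = u * z
      swap
      · rcases S4477.lemmaA hXp hNF with hc | hidx
        · exfalso
          haveI := hc
          exact hnc (fun a b => (inferInstance : IsMulCommutative X).is_comm.comm a b)
        · exact hidx
      exfalso
      obtain ⟨z, u, hzc, hz1, hz2, hu2, hu1, huz, hconj⟩ := hNF
      have hzi : z⁻¹ = z := inv_eq_of_mul_eq_one_right hz2
      have hcM : Group.nilpotencyClass ↥M = k - 1 :=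
        MaxCl.maxclass_of_index k ↥M (by omega) hMcard hidxM
      obtain ⟨hZM, -, -⟩ := MaxCl.card_center k hk4 hMcard hcM
      have hZle := MaxCl.center_le_commutator k hk4 hMcard hcM
      have hK := MaxCl.klein_of_maxclass k hk4 hMcard hcM
      obtain ⟨D, hD⟩ : ∃ D : Subgroup X, D = ⁅M, M⁆ := ⟨_, rfl⟩
      haveI hDn : D.Normal := by rw [hD]; infer_instance
      have hDmap : (commutator ↥M).map M.subtype = D := by
        rw [hD]; exact Subgroup.map_subtype_commutator M
      have hDmem : ∀ m : ↥M, m ∈ commutator ↥M → (m : X) ∈ D := by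
        intro m hm
        rw [← hDmap]
        exact Subgroup.mem_map_of_mem M.subtype hm
      have hDcard : 4 * Nat.card D = 2 ^ k := by
        have h1 := Subgroup.card_mul_index (commutator ↥M)
        rw [hidxM, hMcard] at h1
        have h2 : Nat.card D = Nat.card (commutator ↥M) := by
          rw [← hDmap]
          exact Subgroup.card_map_of_injective M.subtype_injective
        omega
      have hDX : 8 * Nat.card D ≤ Nat.card X := by
        rw [hX, pow_succ]; omega
      have hsqM : ∀ m ∈ M, m * m ∈ D := by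
        intro m hm
        have h1 : ((⟨m, hm⟩ : ↥M) : ↥M ⧸ commutator ↥M) ^ 2 = 1 := by
          have h2 := Monoid.pow_exponent_eq_one ((⟨m, hm⟩ : ↥M) : ↥M ⧸ commutator ↥M)
          rw [hK.exponent_two] at h2
          exact h2
        rw [← QuotientGroup.mk_pow, QuotientGroup.eq_one_iff] at h1
        have h3 := hDmem _ h1
        rw [pow_two] at h3
        exact h3
      have hzD : z ∈ M → z ∈ D := by
        intro hzM
        apply hDmem ⟨z, hzM⟩
        apply hZle
        rw [Subgroup.mem_center_iff]
        intro g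
        exact Subtype.ext (hzc g)
      have hsqX : ∀ x : X, x * x ∈ D := by
        by_cases hzM : z ∈ M
        swap
        · intro x
          by_cases hx : x ∈ M
          · exact hsqM x hx
          · have hm : x * z ∈ M := by
              rw [Subgroup.mul_mem_iff_of_index_two hMidx]
              constructor
              · intro h; exact absurd h hx
              · intro h; exact absurd h hzM
            have h1 : x * z * (x * z) = x * x := by
              calc x * z * (x * z) = x * (z * x) * z := by group
                _ = x * (x * z) * z := by rw [hzc x]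
                _ = x * x * (z * z) := by group
                _ = x * x := by rw [hz2, mul_one]
            rw [← h1]
            exact hsqM _ hm
        by_cases huM : u ∈ M
        swap
        · intro x
          by_cases hx : x ∈ M
          · exact hsqM x hx
          · have hm : x * u ∈ M := by
              rw [Subgroup.mul_mem_iff_of_index_two hMidx]
              constructor
              · intro h; exact absurd h hx
              · intro h; exact absurd h huM
            have h0 : x * u = (x * u * x⁻¹) * x := by group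
            rcases hconj x with h | h
            · have h1 : x * u * (x * u) = x * x := by
                calc x * u * (x * u) = x * u * (x * u * x⁻¹ * x) := by rw [← h0]
                  _ = x * u * (u * x) := by rw [h]
                  _ = x * (u * u) * x := by group
                  _ = x * x := by rw [hu2, mul_one]
              rw [← h1]
              exact hsqM _ hm
            · have h1 : x * x = z * (x * u * (x * u)) := by
                calc x * x = (z * z) * x * (u * u) * x := by rw [hz2, hu2, one_mul, mul_one]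
                  _ = z * (z * x) * u * (u * x) := by group
                  _ = z * (x * z) * u * (u * x) := by rw [hzc x]
                  _ = z * (x * u * (u * z * x)) := by
                    have hzu : z * u = u * z := (hzc u).symm
                    calc z * (x * z) * u * (u * x) = z * x * (z * u) * (u * x) := by group
                      _ = z * x * (u * z) * (u * x) := by rw [hzu]
                      _ = z * x * u * (z * u) * x := by group
                      _ = z * x * u * (u * z) * x := by rw [hzu]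
                      _ = z * (x * u * (u * z * x)) := by group
                  _ = z * (x * u * (x * u * x⁻¹ * x)) := by rw [h]
                  _ = z * (x * u * (x * u)) := by rw [← h0]
              rw [h1]
              exact D.mul_mem (hzD hzM) (hsqM _ hm)
        -- case gamma
        have hnaM : ¬ IsMulCommutative ↥M := by
          intro hcomm
          have h1 := hcomm.is_comm.comm (⟨r, hHM hrH⟩ : ↥M) ⟨s, hHM hsH⟩
          exact hrs (congrArg Subtype.val h1)
        have hSC := (S3919.result hnaM k hMcard).mpr (by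
          rw [Ne, Subgroup.lowerCentralSeries_eq_bot_iff_nilpotencyClass_le]
          omega)
        have h8 := S3919.nf_small hSC (⟨z, hzM⟩ : ↥M) ⟨u, huM⟩
          (fun g => Subtype.ext (hzc g)) (fun h => hz1 (congrArg Subtype.val h))
          (Subtype.ext hz2) (Subtype.ext hu2) (fun h => hu1 (congrArg Subtype.val h))
          (fun h => huz (congrArg Subtype.val h))
          (fun x => by
            rcases hconj x with h | h
            · left; exact Subtype.ext h
            · right; exact Subtype.ext h)
        rw [hMcard] at h8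
        have hk3' : k = 3 := by
          by_contra hne
          have : 2 ^ 4 ≤ 2 ^ k := Nat.pow_le_pow_right (by norm_num) (by omega)
          omega
        subst hk3'
        have hD2 : Nat.card D = 2 := by omega
        have hzD' := hzD hzM
        have hcen : ∀ m ∈ M, (∀ m' ∈ M, m' * m = m * m') → m = 1 ∨ m = z := by
          intro m hm hall
          have h1 : (⟨m, hm⟩ : ↥M) ∈ Subgroup.center ↥M := by
            rw [Subgroup.mem_center_iff]
            intro g
            exact Subtype.ext (hall g g.2)
          have h2 : (⟨z, hzM⟩ : ↥M) ∈ Subgroup.center ↥M := by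
            rw [Subgroup.mem_center_iff]
            intro g
            exact Subtype.ext (hzc g)
          rcases S4399.two_elems hZM ⟨z, hzM⟩ h2 (fun h => hz1 (congrArg Subtype.val h))
            ⟨m, hm⟩ h1 with h | h
          · left; exact congrArg Subtype.val h
          · right; exact congrArg Subtype.val h
        have hsq8 : ∀ m ∈ M, m * m = 1 ∨ m * m = z :=
          fun m hm => two_elems' D hD2 z hzD' hz1 _ (hsqM m hm)
        intro x
        rcases gamma_sq M hMidx hMcard z u hzc hz1 hz2 hu2 hu1 huz hconj hzM huM hcen hsq8 x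
          with h | h
        · rw [h]; exact D.one_mem
        · rw [h]; exact hzD'
      exact sec_contra hr D hsqX hDX

theorem result {S : Type*} [Group S] [Finite S] (h2 : IsPGroup 2 S) (hr : Cfsg.SectionalPRankLE 2 2 S)
    (hsub : ∃ H : Subgroup S, Nonempty (↥H ≃* DihedralGroup 4) ∨ Nonempty (↥H ≃* QuaternionGroup 2)) :
    ((∃ k : ℕ, Nonempty (S ≃* DihedralGroup (2 ^ (k + 2)))) ∨
      (∃ k : ℕ, Nat.card S = 2 ^ (k + 4) ∧ ∃ a b : S, orderOf a = 2 ^ (k + 3) ∧ orderOf b = 2 ∧ b * a * b⁻¹ = a ^ (2 ^ (k + 2) - 1)) ∨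
      (∃ k : ℕ, Nonempty (S ≃* QuaternionGroup (2 ^ (k + 1))))) := by
  obtain ⟨H, hH, r, hrH, s, hsH, hrs⟩ := sub8 hsub
  obtain ⟨n, hn⟩ := IsPGroup.iff_card.mp h2
  have hidx := main n S hn hr ⟨H, hH, r, hrH, s, hsH, hrs⟩
  have hab : Nat.card (Abelianization S) = 4 := by
    rw [← hidx, Subgroup.index_eq_card]; rfl
  rcases S4399.core h2 hab with h4 | h
  · exfalso
    have h1 := Subgroup.card_subgroup_dvd_card H
    rw [hH, h4] at h1
    omega
  · exact h

end Cfsg.Agent.S4398
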