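import Cfsg.Statements.S4400

import Mathlib
import Cfsg.Agent.S4155
import Cfsg.Agent.S0003
import Cfsg.Agent.Lib.Helper1.Nil

set_option autoImplicit false
open Cfsg
open scoped Pointwise

namespace Cfsg.Agent.S4400

open Subgroup

theorem comm_of_sq' {G : Type*} [Group G] (hsq : ∀ x : G, x * x = 1) (a b : G) : a * b = b * a := by
  calc a * b = (a * b)⁻¹ := (inv_eq_of_mul_eq_one_right (hsq (a * b))).symm
    _ = b⁻¹ * a⁻¹ := mul_inv_rev a b
    _ = b * a := by rw [inv_eq_of_mul_eq_one_right (hsq a), inv_eq_of_mul_eq_one_right (hsq b)]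

theorem sectional_sub4 {X : Type*} [Group X] (M : Subgroup X) (hr : Cfsg.SectionalPRankLE 2 4 X) :
    Cfsg.SectionalPRankLE 2 4 ↥M := by
  intro H N _ A hA hA2
  have hinj : Function.Injective M.subtype := M.subtype_injective
  let e : ↥H ≃* ↥(H.map M.subtype) := H.equivMapOfInjective M.subtype hinj
  let N' : Subgroup ↥(H.map M.subtype) := N.map e.toMonoidHom
  haveI : N'.Normal := Subgroup.Normal.map inferInstance _ e.surjective
  let φ : (↥H ⧸ N) ≃* (↥(H.map M.subtype) ⧸ N') := QuotientGroup.congr N N' e rfl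
  have h := hr (H.map M.subtype) N' (A.map φ.toMonoidHom) ?_ ?_
  · have h0 := Subgroup.card_map_of_injective (K := A) (f := φ.toMonoidHom) φ.injective
    rw [h0] at h
    exact h
  · refine ⟨⟨?_⟩⟩
    rintro ⟨a, ha⟩ ⟨b, hb⟩
    obtain ⟨a', ha', rfl⟩ := ha
    obtain ⟨b', hb', rfl⟩ := hb
    apply Subtype.ext
    have h1 := hA.is_comm.comm ⟨a', ha'⟩ ⟨b', hb'⟩
    have h2 : a' * b' = b' * a' := congrArg Subtype.val h1
    show φ.toMonoidHom a' * φ.toMonoidHom b' = φ.toMonoidHom b' * φ.toMonoidHom a'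
    rw [← map_mul, ← map_mul, h2]
  · rintro a ⟨a', ha', rfl⟩
    rw [← map_pow, hA2 a' ha', map_one]

theorem sec_contra4 {X : Type*} [Group X] [Finite X] (hr : Cfsg.SectionalPRankLE 2 4 X)
    (N : Subgroup X) [N.Normal] (hsq : ∀ x : X, x * x ∈ N) (hcard : 32 * Nat.card N ≤ Nat.card X) :
    False := by
  have hq : ∀ q : (↥(⊤ : Subgroup X) ⧸ N.subgroupOf ⊤), q * q = 1 := by
    intro q
    induction q using QuotientGroup.induction_on with
    | H x =>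
      rw [← QuotientGroup.mk_mul, QuotientGroup.eq_one_iff, Subgroup.mem_subgroupOf]
      exact hsq x
  have h := hr ⊤ (N.subgroupOf ⊤) ⊤ ⟨⟨fun a b => Subtype.ext (comm_of_sq' hq a b)⟩⟩
    (fun a _ => by rw [pow_two]; exact hq a)
  rw [Subgroup.card_top, ← Subgroup.index_eq_card] at h
  have h1 : (N.subgroupOf ⊤).index = N.index := by
    show N.relIndex ⊤ = N.index
    exact Subgroup.relIndex_top_right N
  rw [h1] at h
  have h2 := Subgroup.card_mul_index N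
  have h3 : 0 < Nat.card N := Nat.card_pos
  nlinarith

theorem mem_center_map {S : Type*} [Group S] (P : Subgroup S) (w : S) :
    w ∈ (center ↥P).map P.subtype ↔ w ∈ P ∧ ∀ a ∈ P, a * w = w * a := by
  constructor
  · rintro ⟨z, hz, rfl⟩
    refine ⟨z.2, fun a ha => ?_⟩
    have h0 := mem_center_iff.mp hz ⟨a, ha⟩
    exact congrArg Subtype.val h0
  · rintro ⟨hw, hcomm⟩
    refine ⟨⟨w, hw⟩, ?_, rfl⟩
    show (⟨w, hw⟩ : ↥P) ∈ center ↥P
    rw [mem_center_iff]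
    intro a
    apply Subtype.ext
    exact hcomm a a.2

theorem struct {S : Type*} [Group S] [Finite S] (h2 : IsPGroup 2 S) (P : Subgroup S)
    (hP : ¬ IsMulCommutative ↥P) (hZP : Nat.card ↥(center ↥P) = 2) :
    ∃ z : S, z ≠ 1 ∧ z ∈ P ∧ (∀ a ∈ P, a * z = z * a) ∧
      (∀ w ∈ P, (∀ a ∈ P, a * w = w * a) → w = 1 ∨ w = z) ∧
      ∃ P₀ : Subgroup S, P₀ ≤ P ∧ (∀ a ∈ P, a * a ∈ P₀) ∧ z ∈ P₀ ∧ 4 * Nat.card P₀ ≤ Nat.card P ∧
        (∀ a ∈ P, ∀ n ∈ P₀, a * n * a⁻¹ ∈ P₀) ∧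
        (∀ K : Subgroup S, K ≤ P → (∀ a ∈ P, ∀ k ∈ K, a * k * a⁻¹ ∈ K) → K ≠ ⊥ → z ∈ K) := by
  haveI : Fact (Nat.Prime 2) := ⟨Nat.prime_two⟩
  have hP2 : IsPGroup 2 ↥P := h2.to_subgroup P
  haveI hnil : Group.IsNilpotent ↥P := hP2.isNilpotent
  obtain ⟨y, hy1, hy⟩ := (Nat.card_eq_two_iff' (1 : center ↥P)).mp hZP
  have hyu : ∀ v : ↥P, v ∈ center ↥P → v ≠ 1 → v = (y : ↥P) := by
    intro v hv hv1
    have h0 := hy ⟨v, hv⟩ (fun h => hv1 (congrArg Subtype.val h))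
    exact congrArg Subtype.val h0
  have hmeet : ∀ K' : Subgroup ↥P, K'.Normal → K' ≠ ⊥ → (y : ↥P) ∈ K' := by
    intro K' hK'n hK'
    haveI := hK'n
    obtain ⟨v, hvK, hvc, hv1⟩ := Cfsg.Agent.S4155.normal_inf_center K' hK'
    rw [← hyu v hvc hv1]; exact hvK
  have hz1 : (((y : ↥P)) : S) ≠ 1 := by
    intro h
    apply hy1
    apply Subtype.ext
    apply Subtype.ext
    exact h
  have hzc : ∀ a ∈ P, a * (((y : ↥P)) : S) = (((y : ↥P)) : S) * a := by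
    intro a ha
    exact congrArg Subtype.val (mem_center_iff.mp y.2 ⟨a, ha⟩)
  have hzu : ∀ w ∈ P, (∀ a ∈ P, a * w = w * a) → w = 1 ∨ w = (((y : ↥P)) : S) := by
    intro w hw hwc
    by_cases hw1 : w = 1
    · exact Or.inl hw1
    · right
      have hwc' : (⟨w, hw⟩ : ↥P) ∈ center ↥P := by
        rw [mem_center_iff]
        intro a
        apply Subtype.ext
        exact hwc a a.2
      have h0 := hyu ⟨w, hw⟩ hwc' (fun h => hw1 (congrArg Subtype.val h))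
      exact congrArg Subtype.val h0
  have hncomm : ∀ (hc : ∀ a b : ↥P, a * b = b * a), False := fun hc => hP ⟨⟨hc⟩⟩
  -- coatoms
  have hbt : (⊥ : Subgroup ↥P) ≠ ⊤ := by
    intro h
    apply hncomm
    intro a b
    have ha : a ∈ (⊥ : Subgroup ↥P) := by rw [h]; trivial
    have hb : b ∈ (⊥ : Subgroup ↥P) := by rw [h]; trivial
    rw [Subgroup.mem_bot] at ha hb
    rw [ha, hb]
  obtain ⟨M₁, hM₁, _⟩ := (eq_top_or_exists_le_coatom (⊥ : Subgroup ↥P)).resolve_left hbt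
  obtain ⟨a, _, haM₁⟩ := SetLike.exists_of_lt hM₁.lt_top
  have hza : zpowers a ≠ ⊤ := by
    intro h
    apply hncomm
    intro b c
    have hb : b ∈ zpowers a := by rw [h]; trivial
    have hc : c ∈ zpowers a := by rw [h]; trivial
    obtain ⟨i, rfl⟩ := mem_zpowers_iff.mp hb
    obtain ⟨j, rfl⟩ := mem_zpowers_iff.mp hc
    rw [← zpow_add, ← zpow_add, add_comm]
  obtain ⟨M₂, hM₂, haM₂⟩ := (eq_top_or_exists_le_coatom (zpowers a)).resolve_left hza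
  have hne12 : M₁ ≠ M₂ := by
    intro h
    apply haM₁
    rw [h]; exact haM₂ (mem_zpowers a)
  obtain ⟨hn1, hi1⟩ := Cfsg.Agent.Lib.Helper1.coatom_normal_index_of_isPGroup 2 hP2 M₁ hM₁
  obtain ⟨hn2, hi2⟩ := Cfsg.Agent.Lib.Helper1.coatom_normal_index_of_isPGroup 2 hP2 M₂ hM₂
  have hMbot : ∀ M : Subgroup ↥P, M.index = 2 → M ≠ ⊥ := by
    intro M hM hbot
    rw [hbot, Subgroup.index_bot] at hM
    have h0 : center ↥P = ⊤ := Subgroup.eq_top_of_card_eq _ (by rw [hZP, hM])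
    apply hncomm
    intro b c
    have hb : b ∈ center ↥P := by rw [h0]; trivial
    exact (mem_center_iff.mp hb c).symm
  have hy1' := hmeet M₁ hn1 (hMbot M₁ hi1)
  have hy2' := hmeet M₂ hn2 (hMbot M₂ hi2)
  refine ⟨(((y : ↥P)) : S), hz1, (y : ↥P).2, hzc, hzu, (M₁ ⊓ M₂).map P.subtype, ?_, ?_, ?_, ?_, ?_, ?_⟩
  · exact Subgroup.map_subtype_le _
  · intro b hb
    exact ⟨⟨b, hb⟩ * ⟨b, hb⟩, ⟨Subgroup.mul_self_mem_of_index_two hi1 _,
      Subgroup.mul_self_mem_of_index_two hi2 _⟩, rfl⟩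
  · exact ⟨(y : ↥P), ⟨hy1', hy2'⟩, rfl⟩
  · rw [Subgroup.card_map_of_injective (Subgroup.subtype_injective _)]
    have hle : M₁ ⊓ M₂ ≤ M₁ := inf_le_left
    have hdvd := Subgroup.card_dvd_of_le hle
    have hneq : Nat.card ↥(M₁ ⊓ M₂) ≠ Nat.card M₁ := by
      intro heq
      have h0 := Subgroup.eq_of_le_of_card_ge hle (le_of_eq heq.symm)
      have h1 : M₁ ≤ M₂ := by rw [← h0]; exact inf_le_right
      exact hM₂.1 (hM₁.2 M₂ (lt_of_le_of_ne h1 hne12))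
    have hcm := Subgroup.card_mul_index M₁
    rw [hi1] at hcm
    obtain ⟨k, hk⟩ := hdvd
    have hpos : 0 < Nat.card ↥(M₁ ⊓ M₂) := Nat.card_pos
    have hk2 : 2 ≤ k := by
      by_contra hlt
      have hk01 : k = 0 ∨ k = 1 := by omega
      rcases hk01 with rfl | rfl
      · rw [mul_zero] at hk
        have := Nat.card_pos (α := M₁); omega
      · rw [mul_one] at hk; exact absurd hk.symm hneq
    nlinarith
  · intro b hb n hn
    obtain ⟨m, hm, rfl⟩ := hn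
    refine ⟨⟨b, hb⟩ * m * ⟨b, hb⟩⁻¹, ⟨hn1.conj_mem _ hm.1 _, hn2.conj_mem _ hm.2 _⟩, rfl⟩
  · intro K hKP hKn hK
    have hK'n : (K.subgroupOf P).Normal := by
      constructor
      intro n hn g
      rw [Subgroup.mem_subgroupOf] at hn ⊢
      exact hKn g g.2 n hn
    have hK' : K.subgroupOf P ≠ ⊥ := by
      intro hbot
      apply hK
      rw [eq_bot_iff]
      intro k hk
      have h0 : (⟨k, hKP hk⟩ : ↥P) ∈ K.subgroupOf P := by rw [Subgroup.mem_subgroupOf]; exact hk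
      rw [hbot, Subgroup.mem_bot] at h0
      rw [Subgroup.mem_bot]
      exact congrArg Subtype.val h0
    have h0 := hmeet _ hK'n hK'
    exact Subgroup.mem_subgroupOf.mp h0

theorem result {S : Type*} [Group S] [Finite S] (h2 : IsPGroup 2 S) (hr : Cfsg.SectionalPRankLE 2 4 S)
    (P Q : Subgroup S) [P.Normal] [Q.Normal] (hP : ¬ IsMulCommutative ↥P) (hQ : ¬ IsMulCommutative ↥Q)
    (hZP : Nat.card ↥(Subgroup.center ↥P) = 2) (hZQ : Nat.card ↥(Subgroup.center ↥Q) = 2)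
    (hne : (Subgroup.center ↥P).map P.subtype ≠ (Subgroup.center ↥Q).map Q.subtype) :
    ⁅P, Q⁆ = ⊥ ∧ P ⊓ Q = ⊥ ∧ Subgroup.centralizer ((P ⊔ Q : Subgroup S) : Set S) ≤ P ⊔ Q := by
  haveI : Fact (Nat.Prime 2) := ⟨Nat.prime_two⟩
  obtain ⟨zP, hzP1, hzPP, hzPc, hzPu, P₀, hP₀P, hP₀sq, hzP₀, hP₀card, hP₀n, hPmeet⟩ :=
    struct h2 P hP hZP
  obtain ⟨zQ, hzQ1, hzQQ, hzQc, hzQu, Q₀, hQ₀Q, hQ₀sq, hzQ₀, hQ₀card, hQ₀n, hQmeet⟩ :=
    struct h2 Q hQ hZQ
  have hPn : P.Normal := inferInstance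
  have hQn : Q.Normal := inferInstance
  have hzPS : ∀ g : S, g * zP * g⁻¹ = zP := by
    intro g
    have h1 : g * zP * g⁻¹ ∈ P := hPn.conj_mem _ hzPP g
    have h2' : ∀ a ∈ P, a * (g * zP * g⁻¹) = (g * zP * g⁻¹) * a := by
      intro a ha
      have h3 : g⁻¹ * a * g⁻¹⁻¹ ∈ P := hPn.conj_mem _ ha g⁻¹
      have h4 := hzPc _ h3
      calc a * (g * zP * g⁻¹) = g * ((g⁻¹ * a * g⁻¹⁻¹) * zP) * g⁻¹ := by group
        _ = g * (zP * (g⁻¹ * a * g⁻¹⁻¹)) * g⁻¹ := by rw [h4]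
        _ = (g * zP * g⁻¹) * a := by group
    rcases hzPu _ h1 h2' with h | h
    · exfalso; apply hzP1
      have h5 : zP = g⁻¹ * (g * zP * g⁻¹) * g := by group
      rw [h5, h]; group
    · exact h
  have hPQ : P ⊓ Q = ⊥ := by
    by_contra hne'
    have hz : zP ∈ P ⊓ Q := hPmeet (P ⊓ Q) inf_le_left
      (fun a _ k hk => (inferInstance : (P ⊓ Q).Normal).conj_mem k hk a) hne'
    have hzQ' : zP ∈ Q := hz.2
    have hc : ∀ a ∈ Q, a * zP = zP * a := by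
      intro a _
      have h0 := hzPS a
      calc a * zP = (a * zP * a⁻¹) * a := by group
        _ = zP * a := by rw [h0]
    rcases hzQu zP hzQ' hc with h | h
    · exact hzP1 h
    · apply hne
      ext w
      rw [mem_center_map, mem_center_map]
      constructor
      · rintro ⟨hw, hwc⟩
        rcases hzPu w hw hwc with h' | h'
        · rw [h']; exact ⟨Q.one_mem, fun a _ => by simp⟩
        · rw [h', h]; exact ⟨hzQQ, hzQc⟩
      · rintro ⟨hw, hwc⟩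
        rcases hzQu w hw hwc with h' | h'
        · rw [h']; exact ⟨P.one_mem, fun a _ => by simp⟩
        · rw [h', ← h]; exact ⟨hzPP, hzPc⟩
  have hcomm : ⁅P, Q⁆ = ⊥ := by
    rw [eq_bot_iff, ← hPQ]; exact Subgroup.commutator_le_inf P Q
  have hPQc : ∀ a ∈ P, ∀ b ∈ Q, a * b = b * a := by
    intro a ha b hb
    have h0 := Subgroup.commutator_eq_bot_iff_le_centralizer.mp hcomm ha
    exact (Subgroup.mem_centralizer_iff.mp h0 b hb).symm
  refine ⟨hcomm, hPQ, ?_⟩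
  by_contra hnot
  obtain ⟨c₀, hc₀C, hc₀PQ⟩ := SetLike.not_le_iff_exists.mp hnot
  have hex : ∃ j : ℕ, c₀ ^ (2 ^ j) ∈ P ⊔ Q := by
    obtain ⟨k, hk⟩ := h2 c₀
    exact ⟨k, by rw [hk]; exact one_mem _⟩
  classical
  have hj0 : Nat.find hex ≠ 0 := by
    intro h0
    have h1 := Nat.find_spec hex
    rw [h0, pow_zero, pow_one] at h1
    exact hc₀PQ h1
  obtain ⟨j, hj⟩ := Nat.exists_eq_succ_of_ne_zero hj0
  have hcPQ : c₀ ^ (2 ^ j) ∉ P ⊔ Q := Nat.find_min hex (by rw [hj]; exact Nat.lt_succ_self j)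
  have hc2 : c₀ ^ (2 ^ j) * c₀ ^ (2 ^ j) ∈ P ⊔ Q := by
    have h1 := Nat.find_spec hex
    rw [hj, pow_succ, pow_mul] at h1
    rw [← pow_two]; exact h1
  have hcC : c₀ ^ (2 ^ j) ∈ Subgroup.centralizer ((P ⊔ Q : Subgroup S) : Set S) := pow_mem hc₀C _
  generalize c₀ ^ (2 ^ j) = c at hcPQ hc2 hcC
  have hcP : ∀ a ∈ P, a * c = c * a := fun a ha =>
    Subgroup.mem_centralizer_iff.mp hcC a (show a ∈ P ⊔ Q from (le_sup_left (b := Q)) ha)
  have hcQ : ∀ b ∈ Q, b * c = c * b := fun b hb =>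
    Subgroup.mem_centralizer_iff.mp hcC b (show b ∈ P ⊔ Q from (le_sup_right (a := P)) hb)
  have hc2N : c * c ∈ P₀ ⊔ Q₀ := by
    obtain ⟨a₀, ha₀, b₀, hb₀, hab⟩ := Subgroup.mem_sup_of_normal_right.mp hc2
    have h1 : ∀ a ∈ P, a * a₀ = a₀ * a := by
      intro a ha
      have e1 : a * (c * c) = (c * c) * a := by
        rw [← mul_assoc, hcP a ha, mul_assoc, hcP a ha, mul_assoc]
      rw [← hab] at e1
      have e2 := hPQc a ha b₀ hb₀
      have e3 : a * a₀ * b₀ = a₀ * a * b₀ := by rw [mul_assoc, e1, mul_assoc, mul_assoc, e2]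
      exact mul_right_cancel e3
    have h2' : ∀ b ∈ Q, b * b₀ = b₀ * b := by
      intro b hb
      have e1 : b * (c * c) = (c * c) * b := by
        rw [← mul_assoc, hcQ b hb, mul_assoc, hcQ b hb, mul_assoc]
      rw [← hab] at e1
      have e2 := hPQc a₀ ha₀ b hb
      have e3 : a₀ * (b * b₀) = a₀ * (b₀ * b) := by
        rw [← mul_assoc, e2, mul_assoc, e1, mul_assoc]
      exact mul_left_cancel e3
    have ha₀' : a₀ ∈ P₀ := by
      rcases hzPu a₀ ha₀ h1 with h | h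
      · rw [h]; exact one_mem _
      · rw [h]; exact hzP₀
    have hb₀' : b₀ ∈ Q₀ := by
      rcases hzQu b₀ hb₀ h2' with h | h
      · rw [h]; exact one_mem _
      · rw [h]; exact hzQ₀
    rw [← hab]
    exact Subgroup.mul_mem _ (le_sup_left (b := Q₀) ha₀') (le_sup_right (a := P₀) hb₀')
  have hHmem : ∀ h ∈ (P ⊔ Q) ⊔ Subgroup.zpowers c, ∃ a ∈ P, ∃ b ∈ Q, ∃ i : ℤ, h = a * b * c ^ i := by
    intro h hh
    obtain ⟨y, hy, w, hw, rfl⟩ := Subgroup.mem_sup_of_normal_left.mp hh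
    obtain ⟨a, ha, b, hb, rfl⟩ := Subgroup.mem_sup_of_normal_right.mp hy
    obtain ⟨i, rfl⟩ := Subgroup.mem_zpowers_iff.mp hw
    exact ⟨a, ha, b, hb, i, rfl⟩
  have hP₀H : P₀ ≤ (P ⊔ Q) ⊔ Subgroup.zpowers c :=
    le_trans hP₀P (le_trans le_sup_left le_sup_left)
  have hQ₀H : Q₀ ≤ (P ⊔ Q) ⊔ Subgroup.zpowers c :=
    le_trans hQ₀Q (le_trans le_sup_right le_sup_left)
  have hsq : ∀ h ∈ (P ⊔ Q) ⊔ Subgroup.zpowers c, h * h ∈ P₀ ⊔ Q₀ := by
    intro h hh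
    obtain ⟨a, ha, b, hb, i, rfl⟩ := hHmem h hh
    have e1 := hPQc a ha b hb
    have e2 : a * c ^ i = c ^ i * a := ((show Commute a c from hcP a ha).zpow_right i).eq
    have e3 : b * c ^ i = c ^ i * b := ((show Commute b c from hcQ b hb).zpow_right i).eq
    have e : a * b * c ^ i * (a * b * c ^ i) = (a * a) * (b * b) * (c * c) ^ i := by
      rw [(Commute.refl c).mul_zpow i]
      calc a * b * c ^ i * (a * b * c ^ i) = a * b * (c ^ i * a) * b * c ^ i := by group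
        _ = a * b * (a * c ^ i) * b * c ^ i := by rw [e2]
        _ = a * (b * a) * (c ^ i * b) * c ^ i := by group
        _ = a * (a * b) * (b * c ^ i) * c ^ i := by rw [← e1, e3]
        _ = a * a * (b * b) * (c ^ i * c ^ i) := by group
    rw [e]
    exact mul_mem (mul_mem (le_sup_left (b := Q₀) (hP₀sq a ha)) (le_sup_right (a := P₀) (hQ₀sq b hb)))
      (zpow_mem hc2N i)
  have hconjP : ∀ h ∈ (P ⊔ Q) ⊔ Subgroup.zpowers c, ∀ m ∈ P₀, h * m * h⁻¹ ∈ P₀ := by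
    intro h hh m hm
    obtain ⟨a, ha, b, hb, i, rfl⟩ := hHmem h hh
    have hmP := hP₀P hm
    have e2 : m * c ^ i = c ^ i * m := ((show Commute m c from hcP m hmP).zpow_right i).eq
    have e : a * b * c ^ i * m * (a * b * c ^ i)⁻¹ = a * m * a⁻¹ := by
      calc a * b * c ^ i * m * (a * b * c ^ i)⁻¹
          = a * b * (c ^ i * m) * (c ^ i)⁻¹ * b⁻¹ * a⁻¹ := by group
        _ = a * b * (m * c ^ i) * (c ^ i)⁻¹ * b⁻¹ * a⁻¹ := by rw [e2]
        _ = a * (b * m) * b⁻¹ * a⁻¹ := by group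
        _ = a * (m * b) * b⁻¹ * a⁻¹ := by rw [hPQc m hmP b hb]
        _ = a * m * a⁻¹ := by group
    rw [e]; exact hP₀n a ha m hm
  have hconjQ : ∀ h ∈ (P ⊔ Q) ⊔ Subgroup.zpowers c, ∀ m ∈ Q₀, h * m * h⁻¹ ∈ Q₀ := by
    intro h hh m hm
    obtain ⟨a, ha, b, hb, i, rfl⟩ := hHmem h hh
    have hmQ := hQ₀Q hm
    have e2 : m * c ^ i = c ^ i * m := ((show Commute m c from hcQ m hmQ).zpow_right i).eq
    have e : a * b * c ^ i * m * (a * b * c ^ i)⁻¹ = b * m * b⁻¹ := by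
      calc a * b * c ^ i * m * (a * b * c ^ i)⁻¹
          = a * b * (c ^ i * m) * (c ^ i)⁻¹ * b⁻¹ * a⁻¹ := by group
        _ = a * b * (m * c ^ i) * (c ^ i)⁻¹ * b⁻¹ * a⁻¹ := by rw [e2]
        _ = a * (b * m * b⁻¹) * a⁻¹ := by group
        _ = (b * m * b⁻¹) * a * a⁻¹ := by
            rw [hPQc a ha (b * m * b⁻¹) (Q.mul_mem (Q.mul_mem hb hmQ) (Q.inv_mem hb))]
        _ = b * m * b⁻¹ := by group
    rw [e]; exact hQ₀n b hb m hm
  haveI hP₀n' : (P₀.subgroupOf ((P ⊔ Q) ⊔ Subgroup.zpowers c)).Normal := by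
    constructor
    intro n hn g
    rw [Subgroup.mem_subgroupOf] at hn ⊢
    exact hconjP g g.2 n hn
  haveI hQ₀n' : (Q₀.subgroupOf ((P ⊔ Q) ⊔ Subgroup.zpowers c)).Normal := by
    constructor
    intro n hn g
    rw [Subgroup.mem_subgroupOf] at hn ⊢
    exact hconjQ g g.2 n hn
  have hN'eq : (P₀ ⊔ Q₀).subgroupOf ((P ⊔ Q) ⊔ Subgroup.zpowers c)
      = P₀.subgroupOf ((P ⊔ Q) ⊔ Subgroup.zpowers c) ⊔ Q₀.subgroupOf ((P ⊔ Q) ⊔ Subgroup.zpowers c) :=
    Subgroup.subgroupOf_sup hP₀H hQ₀H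
  haveI hNn : ((P₀ ⊔ Q₀).subgroupOf ((P ⊔ Q) ⊔ Subgroup.zpowers c)).Normal := by
    rw [hN'eq]; infer_instance
  have hcardN : Nat.card ((P₀ ⊔ Q₀).subgroupOf ((P ⊔ Q) ⊔ Subgroup.zpowers c))
      ≤ Nat.card P₀ * Nat.card Q₀ := by
    rw [hN'eq]
    have h1 := Cfsg.Agent.S0003.card_sup_mul_card_inf
      (P₀.subgroupOf ((P ⊔ Q) ⊔ Subgroup.zpowers c)) (Q₀.subgroupOf ((P ⊔ Q) ⊔ Subgroup.zpowers c))
    have h3 : Nat.card (P₀.subgroupOf ((P ⊔ Q) ⊔ Subgroup.zpowers c)) = Nat.card P₀ :=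
      Nat.card_congr (Subgroup.subgroupOfEquivOfLe hP₀H).toEquiv
    have h4 : Nat.card (Q₀.subgroupOf ((P ⊔ Q) ⊔ Subgroup.zpowers c)) = Nat.card Q₀ :=
      Nat.card_congr (Subgroup.subgroupOfEquivOfLe hQ₀H).toEquiv
    rw [h3, h4] at h1
    rw [← h1]
    exact Nat.le_mul_of_pos_right _ Nat.card_pos
  have hcardH : 2 * (Nat.card P * Nat.card Q) ≤ Nat.card ((P ⊔ Q) ⊔ Subgroup.zpowers c : Subgroup S) := by
    have h1 := Cfsg.Agent.S0003.card_sup_mul_card_inf P Q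
    rw [hPQ, Subgroup.card_bot, mul_one] at h1
    have h3 : P ⊔ Q ≤ (P ⊔ Q) ⊔ Subgroup.zpowers c := le_sup_left
    have h4 := Subgroup.card_dvd_of_le h3
    have h5 : Nat.card (P ⊔ Q : Subgroup S) ≠ Nat.card ((P ⊔ Q) ⊔ Subgroup.zpowers c : Subgroup S) := by
      intro heq
      have h6 := Subgroup.eq_of_le_of_card_ge h3 (le_of_eq heq.symm)
      apply hcPQ; rw [h6]; exact le_sup_right (a := P ⊔ Q) (Subgroup.mem_zpowers c)
    obtain ⟨k, hk⟩ := h4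
    have hpos : 0 < Nat.card (P ⊔ Q : Subgroup S) := Nat.card_pos
    have hk2 : 2 ≤ k := by
      by_contra hlt
      have hk01 : k = 0 ∨ k = 1 := by omega
      rcases hk01 with rfl | rfl
      · rw [mul_zero] at hk
        have := Nat.card_pos (α := ((P ⊔ Q) ⊔ Subgroup.zpowers c : Subgroup S)); omega
      · rw [mul_one] at hk; exact absurd hk.symm h5
    rw [← h1, hk]; nlinarith
  apply sec_contra4 (sectional_sub4 ((P ⊔ Q) ⊔ Subgroup.zpowers c) hr)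
    ((P₀ ⊔ Q₀).subgroupOf ((P ⊔ Q) ⊔ Subgroup.zpowers c))
  · intro x
    rw [Subgroup.mem_subgroupOf]
    exact hsq x x.2
  · calc 32 * Nat.card ((P₀ ⊔ Q₀).subgroupOf ((P ⊔ Q) ⊔ Subgroup.zpowers c))
        ≤ 32 * (Nat.card P₀ * Nat.card Q₀) := Nat.mul_le_mul_left _ hcardN
      _ = 2 * ((4 * Nat.card P₀) * (4 * Nat.card Q₀)) := by ring
      _ ≤ 2 * (Nat.card P * Nat.card Q) := Nat.mul_le_mul_left _ (Nat.mul_le_mul hP₀card hQ₀card)
      _ ≤ _ := hcardH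

end Cfsg.Agent.S4400
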