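import Mathlib
import Cfsg.Statements.S4574
import Cfsg.Agent.Lib.Helper3.Char
import Cfsg.Agent.Lib.Helper3.CharCore
import Cfsg.Agent.Lib.Helper3.CharGalois
import Cfsg.Agent.Lib.Helper3.CharEig
import Cfsg.Agent.Lib.Helper3.BlkOrth4

set_option autoImplicit false
open Cfsg
open Cfsg.Agent.Lib.Helper3.Char Cfsg.Agent.Lib.Helper3.CharCore Cfsg.Agent.Lib.Helper3.CharGalois Cfsg.Agent.Lib.Helper3.CharEig Cfsg.Agent.Lib.Helper3.BlkOrth4
open scoped ComplexConjugate IntermediateField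

namespace Cfsg.Agent.S4574

theorem gal_sum_ge {G : Type*} [Group G] [Fintype G] {V : Type*} [AddCommGroup V] [Module ℂ V]
    [FiniteDimensional ℂ V] (ρ : Representation ℂ G V) (R : Finset G)
    (hR : ∀ e : ℕ, e.Coprime (Nat.card G) → ∀ g : G, g ∈ R ↔ g ^ e ∈ R)
    (h0 : ∀ g ∈ R, ρ.character g ≠ 0) :
    (R.card : ℝ) ≤ ∑ g ∈ R, ‖ρ.character g‖ ^ 2 := by
  classical
  have hN : Nat.card G ≠ 0 := Nat.card_pos.ne'
  have hfd := cyc_fd (Nat.card G) hN
  choose a ha1 ha2 ha3 using fun g : G => char_lift ρ g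
  have ha0 : ∀ g ∈ R, a g ≠ 0 := by
    intro g hg h
    apply h0 g hg
    rw [← ha1 g, h]
    rfl
  have hσ : ∀ σ : ℚ⟮zeta (Nat.card G)⟯ →ₐ[ℚ] ℂ,
      ∑ g ∈ R, ‖σ (a g)‖ ^ 2 = ∑ g ∈ R, ‖ρ.character g‖ ^ 2 := by
    intro σ
    obtain ⟨e, he, hσe⟩ := emb_gen (Nat.card G) hN σ
    rw [Finset.sum_congr rfl (fun g _ => by rw [ha3 g σ e hσe])]
    refine Finset.sum_equiv (powCoprime he.symm) (fun g => ?_) (fun g _ => rfl)
    exact hR e he g
  have hge : (Fintype.card (ℚ⟮zeta (Nat.card G)⟯ →ₐ[ℚ] ℂ) : ℝ) * (R.card : ℝ) ≤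
      (Fintype.card (ℚ⟮zeta (Nat.card G)⟯ →ₐ[ℚ] ℂ) : ℝ) * ∑ g ∈ R, ‖ρ.character g‖ ^ 2 := by
    have h1 : ∑ σ : ℚ⟮zeta (Nat.card G)⟯ →ₐ[ℚ] ℂ, ∑ g ∈ R, ‖σ (a g)‖ ^ 2 =
        (Fintype.card (ℚ⟮zeta (Nat.card G)⟯ →ₐ[ℚ] ℂ) : ℝ) * ∑ g ∈ R, ‖ρ.character g‖ ^ 2 := by
      rw [Finset.sum_congr rfl (fun σ _ => hσ σ), Finset.sum_const, Finset.card_univ,
        nsmul_eq_mul]
    rw [← h1, Finset.sum_comm]
    have h2 : ∀ g ∈ R, (Fintype.card (ℚ⟮zeta (Nat.card G)⟯ →ₐ[ℚ] ℂ) : ℝ) ≤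
          ∑ σ : ℚ⟮zeta (Nat.card G)⟯ →ₐ[ℚ] ℂ, ‖σ (a g)‖ ^ 2 :=
      fun g hg => sum_sq_ge_card (Nat.card G) (a g) (ha2 g) (ha0 g hg)
    have h3 := Finset.sum_le_sum h2
    rw [Finset.sum_const, nsmul_eq_mul] at h3
    linarith
  have hne : Nonempty (ℚ⟮zeta (Nat.card G)⟯ →ₐ[ℚ] ℂ) := ⟨IntermediateField.val _⟩
  have hcpos : (0 : ℝ) < (Fintype.card (ℚ⟮zeta (Nat.card G)⟯ →ₐ[ℚ] ℂ) : ℝ) := by
    exact_mod_cast Fintype.card_pos
  exact le_of_mul_le_mul_left hge hcpos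

theorem gal_zero {G : Type*} [Group G] [Finite G] {V : Type*} [AddCommGroup V] [Module ℂ V]
    [FiniteDimensional ℂ V] (ρ : Representation ℂ G V) (e : ℕ) (he : e.Coprime (Nat.card G))
    (g : G) (h : ρ.character g = 0) : ρ.character (g ^ e) = 0 := by
  have hN : Nat.card G ≠ 0 := Nat.card_pos.ne'
  obtain ⟨a, ha1, -, ha3⟩ := char_lift ρ g
  obtain ⟨σ, hσ⟩ := emb_exists (Nat.card G) hN e he
  rw [← ha3 σ e hσ]
  have h1 : a = 0 := by
    have h2 : (a : ℂ) = ((0 : ℚ⟮zeta (Nat.card G)⟯) : ℂ) := by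
      rw [ha1, h]
      rfl
    exact Subtype.ext h2
  rw [h1, map_zero]

theorem gal_norm {G : Type*} [Group G] [Finite G] {V : Type*} [AddCommGroup V] [Module ℂ V]
    [FiniteDimensional ℂ V] (ρ : Representation ℂ G V) (e : ℕ) (g : G)
    (h : ‖ρ.character g‖ = (Module.finrank ℂ V : ℝ)) (hd : Module.finrank ℂ V ≠ 0) :
    ‖ρ.character (g ^ e)‖ = (Module.finrank ℂ V : ℝ) := by
  obtain ⟨ω, hω⟩ := scalar_of_norm_eq ρ g h
  have hdr : (Module.finrank ℂ V : ℝ) ≠ 0 := by exact_mod_cast hd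
  have h1 : ρ.character g = ω * (Module.finrank ℂ V : ℂ) := by
    change LinearMap.trace ℂ V (ρ g) = _
    rw [hω, map_smul, LinearMap.trace_id, smul_eq_mul]
  have hω1 : ‖ω‖ = 1 := by
    rw [h1, norm_mul, Complex.norm_natCast] at h
    exact (mul_eq_right₀ hdr).mp h
  have h2 : ρ (g ^ e) = (ω ^ e) • (LinearMap.id : V →ₗ[ℂ] V) := by
    rw [map_pow, hω]
    ext v
    simp [smul_pow]
  have h3 : ρ.character (g ^ e) = ω ^ e * (Module.finrank ℂ V : ℂ) := by
    change LinearMap.trace ℂ V (ρ (g ^ e)) = _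
    rw [h2, map_smul, LinearMap.trace_id, smul_eq_mul]
  rw [h3, norm_mul, norm_pow, hω1, one_pow, one_mul, Complex.norm_natCast]
theorem result {G : Type*} [Group G] [Fintype G] [DecidableEq G] (χ : G → ℂ) (hχ : Cfsg.IsIrrCharacter G χ) : (Cfsg.charDegree χ ^ 2 - 1) * (Finset.univ.filter (fun g : G => ‖χ g‖ = (Cfsg.charDegree χ : ℝ))).card ≤ (Finset.univ.filter (fun g : G => χ g = 0)).card ∧ ((∀ g : G, ‖χ g‖ = 0 ∨ ‖χ g‖ = 1 ∨ ‖χ g‖ = (Cfsg.charDegree χ : ℝ)) → (Cfsg.charDegree χ ^ 2 - 1) * (Finset.univ.filter (fun g : G => ‖χ g‖ = (Cfsg.charDegree χ : ℝ))).card = (Finset.univ.filter (fun g : G => χ g = 0)).card) := by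
  classical
  obtain ⟨n, ρ, hirr, rfl⟩ := hχ
  have _i : ρ.IsIrreducible := hirr
  have hN : Nat.card G ≠ 0 := Nat.card_pos.ne'
  obtain ⟨d, hd⟩ : ∃ d : ℕ, d = Module.finrank ℂ (Fin n → ℂ) := ⟨_, rfl⟩
  have hχ1 : ρ.character 1 = (d : ℂ) := by
    rw [hd]
    exact Representation.char_one ρ
  have hd0 : d ≠ 0 := by
    intro h0
    rw [h0, Nat.cast_zero] at hχ1
    exact irr_one_ne_zero ⟨n, ρ, hirr, rfl⟩ hχ1
  rw [charDegree_eq hχ1]
  have hP : ∀ e : ℕ, e.Coprime (Nat.card G) → ∀ g : G,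
      (ρ.character g = 0 ∨ ‖ρ.character g‖ = (d : ℝ)) →
      (ρ.character (g ^ e) = 0 ∨ ‖ρ.character (g ^ e)‖ = (d : ℝ)) := by
    intro e he g h
    rcases h with h | h
    · exact Or.inl (gal_zero ρ e he g h)
    · right
      rw [hd] at h ⊢
      exact gal_norm ρ e g h (hd ▸ hd0)
  obtain ⟨R, hRdef⟩ : ∃ R : Finset G, R = Finset.univ.filter
      (fun g : G => ¬ (ρ.character g = 0 ∨ ‖ρ.character g‖ = (d : ℝ))) := ⟨_, rfl⟩
  have hRmem : ∀ g : G, g ∈ R ↔ ¬ (ρ.character g = 0 ∨ ‖ρ.character g‖ = (d : ℝ)) := by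
    intro g
    rw [hRdef, Finset.mem_filter]
    simp only [Finset.mem_univ, true_and]
  have hR : ∀ e : ℕ, e.Coprime (Nat.card G) → ∀ g : G, g ∈ R ↔ g ^ e ∈ R := by
    intro e he g
    rw [hRmem, hRmem, not_iff_not]
    constructor
    · exact hP e he g
    · intro h
      have h1 := Equiv.Perm.perm_symm_on_of_perm_on_finite (f := powCoprime he.symm)
        (p := fun g : G => ρ.character g = 0 ∨ ‖ρ.character g‖ = (d : ℝ))
        (fun x hx => hP e he x hx) (x := g ^ e) h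
      have h2 : (powCoprime he.symm).symm (g ^ e) = g := (powCoprime he.symm).symm_apply_apply g
      rw [h2] at h1
      exact h1
  have h0R : ∀ g ∈ R, ρ.character g ≠ 0 := by
    intro g hg h
    exact (hRmem g).mp hg (Or.inl h)
  have hgal := gal_sum_ge ρ R hR h0R
  have hsum : ∑ g : G, ‖ρ.character g‖ ^ 2 = (Nat.card G : ℝ) := by
    have h1 := irr_inner_self (isIrr_of_rep ρ inferInstance)
    unfold Cfsg.classInner at h1
    have hcard : (Nat.card G : ℂ) ≠ 0 := by exact_mod_cast hN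
    have h2 : ∑ g : G, ρ.character g * (starRingEnd ℂ) (ρ.character g) = (Nat.card G : ℂ) := by
      field_simp at h1
      exact h1
    have h3 : ∀ g : G, ρ.character g * (starRingEnd ℂ) (ρ.character g) =
        ((‖ρ.character g‖ ^ 2 : ℝ) : ℂ) := by
      intro g
      rw [Complex.mul_conj']
      push_cast
      rfl
    rw [Finset.sum_congr rfl (fun g _ => h3 g), ← Complex.ofReal_sum] at h2
    exact_mod_cast h2
  have key : ∀ (Z V : Finset G), (∀ g, g ∈ Z ↔ ‖ρ.character g‖ = (d : ℝ)) →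
      (∀ g, g ∈ V ↔ ρ.character g = 0) →
      ((d ^ 2 - 1) * Z.card ≤ V.card ∧
        ((∀ g : G, ‖ρ.character g‖ = 0 ∨ ‖ρ.character g‖ = 1 ∨ ‖ρ.character g‖ = (d : ℝ)) →
          (d ^ 2 - 1) * Z.card = V.card)) := by
    intro Z V hZ hV
    have hcs : ∀ S : Finset G, (S.card : ℝ) = ∑ g : G, if g ∈ S then (1 : ℝ) else 0 := by
      intro S
      rw [Finset.sum_ite_mem, Finset.univ_inter, Finset.sum_const, nsmul_eq_mul, mul_one]
    have hRs : ∑ g ∈ R, ‖ρ.character g‖ ^ 2 =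
        ∑ g : G, if g ∈ R then ‖ρ.character g‖ ^ 2 else 0 := by
      rw [Finset.sum_ite_mem, Finset.univ_inter]
    have hcard : (Nat.card G : ℝ) = (Z.card : ℝ) + (V.card : ℝ) + (R.card : ℝ) := by
      rw [hcs Z, hcs V, hcs R, ← Finset.sum_add_distrib, ← Finset.sum_add_distrib,
        Nat.card_eq_fintype_card, ← Finset.card_univ, Finset.card_eq_sum_ones]
      push_cast
      refine Finset.sum_congr rfl (fun g _ => ?_)
      by_cases h1 : ‖ρ.character g‖ = (d : ℝ)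
      · have h2 : ρ.character g ≠ 0 := by
          intro h
          rw [h, norm_zero] at h1
          exact hd0 (by exact_mod_cast h1.symm)
        rw [if_pos ((hZ g).mpr h1), if_neg (fun h => h2 ((hV g).mp h)),
          if_neg (fun h => (hRmem g).mp h (Or.inr h1))]
        ring
      · by_cases h2 : ρ.character g = 0
        · rw [if_neg (fun h => h1 ((hZ g).mp h)), if_pos ((hV g).mpr h2),
            if_neg (fun h => (hRmem g).mp h (Or.inl h2))]
          ring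
        · rw [if_neg (fun h => h1 ((hZ g).mp h)), if_neg (fun h => h2 ((hV g).mp h)),
            if_pos ((hRmem g).mpr (fun h => h.elim h2 h1))]
          ring
    have hsq : (Nat.card G : ℝ) = (d : ℝ) ^ 2 * (Z.card : ℝ) + ∑ g ∈ R, ‖ρ.character g‖ ^ 2 := by
      rw [← hsum, hcs Z, hRs, Finset.mul_sum, ← Finset.sum_add_distrib]
      refine Finset.sum_congr rfl (fun g _ => ?_)
      by_cases h1 : ‖ρ.character g‖ = (d : ℝ)
      · rw [if_pos ((hZ g).mpr h1), if_neg (fun h => (hRmem g).mp h (Or.inr h1)), h1]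
        ring
      · by_cases h2 : ρ.character g = 0
        · rw [if_neg (fun h => h1 ((hZ g).mp h)), if_neg (fun h => (hRmem g).mp h (Or.inl h2)),
            h2, norm_zero]
          ring
        · rw [if_neg (fun h => h1 ((hZ g).mp h)),
            if_pos ((hRmem g).mpr (fun h => h.elim h2 h1))]
          ring
    have h1 : ((d ^ 2 - 1 : ℕ) : ℝ) = (d : ℝ) ^ 2 - 1 := by
      rw [Nat.cast_sub (Nat.one_le_pow _ _ (Nat.pos_of_ne_zero hd0))]
      push_cast
      ring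
    constructor
    · have h2 : (((d ^ 2 - 1) * Z.card : ℕ) : ℝ) ≤ (V.card : ℝ) := by
        push_cast
        rw [h1]
        nlinarith
      exact_mod_cast h2
    · intro hall
      have hRone : ∑ g ∈ R, ‖ρ.character g‖ ^ 2 = (R.card : ℝ) := by
        rw [Finset.card_eq_sum_ones, Nat.cast_sum]
        refine Finset.sum_congr rfl (fun g hg => ?_)
        have hg' := (hRmem g).mp hg
        rcases hall g with h | h | h
        · exact absurd (Or.inl (norm_eq_zero.mp h)) hg'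
        · rw [h]
          simp
        · exact absurd (Or.inr h) hg'
      have h2 : (((d ^ 2 - 1) * Z.card : ℕ) : ℝ) = (V.card : ℝ) := by
        push_cast
        rw [h1]
        nlinarith
      exact_mod_cast h2
  exact key _ _ (fun g => by simp) (fun g => by simp)

end Cfsg.Agent.S4574
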