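import Cfsg.Statements.S4602

import Mathlib
import Cfsg.Agent.S0634
import Cfsg.Agent.S0003
import Cfsg.Agent.S4107
import Cfsg.Agent.Lib.Helper5.PCore

set_option autoImplicit false
open Cfsg
open scoped Pointwise

namespace Cfsg.Agent.S4602

open Cfsg.Agent.Lib.Helper2

theorem result {G : Type*} [Group G] [Finite G] (p q : ℕ) [Fact p.Prime] [Fact q.Prime] (hpq : p ≠ q) (hsolv : Cfsg.IsPSolvable p G) :
    (∃ (P : Sylow p G) (Q : Sylow q G), (P : Subgroup G) ≤ Subgroup.normalizer ((Q : Subgroup G) : Set G)) ↔ ¬ q ∣ (Cfsg.pPrimeCore p G).index := by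
  classical
  have hp : p.Prime := Fact.out
  have hq' : q.Prime := Fact.out
  haveI hKn : (Cfsg.pPrimeCore p G).Normal := PComp.pPrimeCore_normal p
  have hKp : ¬ p ∣ Nat.card (Cfsg.pPrimeCore p G) := PComp.not_dvd_of_le_pPrimeCore p le_rfl
  constructor
  · rintro ⟨P, Q, hPQ⟩
    intro hq
    have hsurj : Function.Surjective (QuotientGroup.mk' (Cfsg.pPrimeCore p G)) :=
      QuotientGroup.mk'_surjective _
    have hR : Cfsg.IsPSolvable p (G ⧸ Cfsg.pPrimeCore p G) :=
      Cfsg.Agent.S0629.psolv_map p _ hsurj hsolv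
    have hO : Cfsg.pPrimeCore p (G ⧸ Cfsg.pPrimeCore p G) = ⊥ :=
      PComp.pPrimeCore_quotient_eq_bot p
    have hF := PCons.genFitting_eq_pCore_of (Cfsg.Agent.S0634.layer_bot_of_psolv p hR hO) hO
    have hcen := Comp.centralizer_genFitting_le (G := G ⧸ Cfsg.pPrimeCore p G)
    rw [hF] at hcen
    set Pb : Sylow p (G ⧸ Cfsg.pPrimeCore p G) := P.mapSurjective hsurj with hPb
    set Qb : Sylow q (G ⧸ Cfsg.pPrimeCore p G) := Q.mapSurjective hsurj with hQb
    have hPQb : (Pb : Subgroup (G ⧸ Cfsg.pPrimeCore p G)) ≤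
        Subgroup.normalizer ((Qb : Subgroup (G ⧸ Cfsg.pPrimeCore p G)) : Set _) :=
      PComp.map_le_normalizer_map _ hPQ
    have hVP : Cfsg.pCore p (G ⧸ Cfsg.pPrimeCore p G) ≤ (Pb : Subgroup _) :=
      Cfsg.Agent.Lib.Helper5.PCore.pCore_le_sylow Pb
    haveI hVn : (Cfsg.pCore p (G ⧸ Cfsg.pPrimeCore p G)).Normal := Fit.pCore_normal p
    have hdisj : ∀ u : G ⧸ Cfsg.pPrimeCore p G, u ∈ Cfsg.pCore p (G ⧸ Cfsg.pPrimeCore p G) →
        u ∈ (Qb : Subgroup (G ⧸ Cfsg.pPrimeCore p G)) → u = 1 := by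
      intro u hu1 hu2
      obtain ⟨a, ha⟩ := (Fit.pCore_isPGroup (G := G ⧸ Cfsg.pPrimeCore p G) p) ⟨u, hu1⟩
      obtain ⟨b, hb⟩ := Qb.isPGroup' ⟨u, hu2⟩
      have ha' : u ^ (p ^ a) = 1 := by
        have := congrArg Subtype.val ha
        rw [Subgroup.coe_pow] at this
        exact this
      have hb' : u ^ (q ^ b) = 1 := by
        have := congrArg Subtype.val hb
        rw [Subgroup.coe_pow] at this
        exact this
      exact Cfsg.Agent.S4107.eq_one_of_two hp hq' hpq u a b ha' hb'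
    have hQc : (Qb : Subgroup (G ⧸ Cfsg.pPrimeCore p G)) ≤
        Subgroup.centralizer (Cfsg.pCore p (G ⧸ Cfsg.pPrimeCore p G) : Set _) := by
      intro u hu
      rw [Subgroup.mem_centralizer_iff]
      intro v hv
      have h1 : v * u * v⁻¹ * u⁻¹ ∈ Cfsg.pCore p (G ⧸ Cfsg.pPrimeCore p G) := by
        have h0 : u * v⁻¹ * u⁻¹ ∈ Cfsg.pCore p (G ⧸ Cfsg.pPrimeCore p G) :=
          hVn.conj_mem _ (Subgroup.inv_mem _ hv) u
        have e : v * u * v⁻¹ * u⁻¹ = v * (u * v⁻¹ * u⁻¹) := by group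
        rw [e]; exact Subgroup.mul_mem _ hv h0
      have h2 : v * u * v⁻¹ * u⁻¹ ∈ (Qb : Subgroup (G ⧸ Cfsg.pPrimeCore p G)) := by
        have hvN := hPQb (hVP hv)
        have h0 : v * u * v⁻¹ ∈ (Qb : Subgroup (G ⧸ Cfsg.pPrimeCore p G)) :=
          (Subgroup.mem_normalizer_iff.mp hvN u).mp hu
        exact Subgroup.mul_mem _ h0 (Subgroup.inv_mem _ hu)
      have h3 := hdisj _ h1 h2
      calc v * u = (v * u * v⁻¹ * u⁻¹) * (u * v) := by group
        _ = u * v := by rw [h3, one_mul]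
    have hQbot : (Qb : Subgroup (G ⧸ Cfsg.pPrimeCore p G)) = ⊥ := by
      rw [Subgroup.eq_bot_iff_forall]
      intro u hu
      exact hdisj u (hcen (hQc hu)) hu
    have hqdvd : q ∣ Nat.card (G ⧸ Cfsg.pPrimeCore p G) := hq
    exact Qb.ne_bot_of_dvd_card hqdvd hQbot
  · intro hq
    obtain ⟨Q₀⟩ : Nonempty (Sylow q ↥(Cfsg.pPrimeCore p G)) := inferInstance
    have hfrat := Sylow.normalizer_sup_eq_top Q₀
    set Qs : Subgroup G := (Q₀ : Subgroup ↥(Cfsg.pPrimeCore p G)).map
      (Cfsg.pPrimeCore p G).subtype with hQs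
    have hidx0 : (Cfsg.pPrimeCore p G).index ≠ 0 := Subgroup.index_ne_zero_of_finite
    have hQscard : Nat.card Qs = q ^ (Nat.card G).factorization q := by
      rw [hQs, Subgroup.card_map_of_injective (Subgroup.subtype_injective _),
        Q₀.card_eq_multiplicity]
      congr 1
      have h1 : Nat.card G = Nat.card (Cfsg.pPrimeCore p G) * (Cfsg.pPrimeCore p G).index :=
        ((Cfsg.pPrimeCore p G).card_mul_index).symm
      rw [h1, Nat.factorization_mul Nat.card_pos.ne' hidx0]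
      simp [Nat.factorization_eq_zero_of_not_dvd hq]
    set Nn : Subgroup G := Subgroup.normalizer (Qs : Set G) with hNn
    obtain ⟨P₀⟩ : Nonempty (Sylow p ↥Nn) := inferInstance
    set Ps : Subgroup G := (P₀ : Subgroup ↥Nn).map Nn.subtype with hPs
    have hPsN : Ps ≤ Nn := Subgroup.map_subtype_le _
    have hcard := Cfsg.Agent.S0003.card_sup_mul_card_inf Nn (Cfsg.pPrimeCore p G)
    rw [hfrat, Subgroup.card_top] at hcard
    have hPscard : Nat.card Ps = p ^ (Nat.card G).factorization p := by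
      rw [hPs, Subgroup.card_map_of_injective (Subgroup.subtype_injective _),
        P₀.card_eq_multiplicity]
      congr 1
      have h2 : ¬ p ∣ Nat.card ↥(Nn ⊓ Cfsg.pPrimeCore p G) :=
        fun h => hKp (h.trans (Subgroup.card_dvd_of_le inf_le_right))
      have h3 := congrArg (fun n => n.factorization p) hcard
      rw [Nat.factorization_mul Nat.card_pos.ne' Nat.card_pos.ne',
        Nat.factorization_mul Nat.card_pos.ne' Nat.card_pos.ne'] at h3
      simp only [Finsupp.coe_add, Pi.add_apply, Nat.factorization_eq_zero_of_not_dvd h2,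
        Nat.factorization_eq_zero_of_not_dvd hKp, add_zero] at h3
      exact h3.symm
    exact ⟨Sylow.ofCard Ps hPscard, Sylow.ofCard Qs hQscard, hPsN⟩

end Cfsg.Agent.S4602
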