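import Mathlib
import Cfsg.Statements.S4856
import Cfsg.Agent.Lib.Helper3.Char
import Cfsg.Agent.Lib.Helper3.CharTable
import Cfsg.Agent.Lib.Helper3.BlkOrth2
import Cfsg.Agent.Lib.Helper3.BlkOrth4

set_option autoImplicit false
open Cfsg
open Cfsg.Agent.Lib.Helper3.Char Cfsg.Agent.Lib.Helper3.CharTable Cfsg.Agent.Lib.Helper3.BlkOrth2 Cfsg.Agent.Lib.Helper3.BlkOrth4
open scoped ComplexConjugate

namespace Cfsg.Agent.S4856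

theorem delta_sum {G : Type*} [Group G] [Fintype G] [DecidableEq G]
    [Fintype (Cfsg.IrrCharacter G)] (g : G) :
    ∑ χ : Cfsg.IrrCharacter G, (χ : G → ℂ) g * (χ : G → ℂ) 1 =
      if g = 1 then (Nat.card G : ℂ) else 0 := by
  have h1 := column_orth g 1
  have h2 : ∀ χ : Cfsg.IrrCharacter G, (starRingEnd ℂ) ((χ : G → ℂ) 1) = (χ : G → ℂ) 1 := by
    intro χ
    obtain ⟨n, _, hn⟩ := irr_one_pos χ.2
    rw [hn]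
    simp
  rw [Finset.sum_congr rfl (fun χ _ => by rw [h2 χ])] at h1
  rw [h1]
  split_ifs with hg
  · congr 1
    apply Nat.card_congr
    exact Equiv.subtypeUnivEquiv (fun w => by rw [hg]; simp)
  · have : IsEmpty {y : G // y * g * y⁻¹ = 1} := by
      constructor
      rintro ⟨w, hw⟩
      apply hg
      have e : g = w⁻¹ * (w * g * w⁻¹) * w := by group
      rw [e, hw]
      group
    rw [Nat.card_of_isEmpty, Nat.cast_zero]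

theorem count_formula {G : Type*} [Group G] [Fintype G] [Fintype (Cfsg.IrrCharacter G)] (z : G) :
    (Nat.card {xy : G × G // xy.1 * xy.2 * xy.1⁻¹ * xy.2⁻¹ = z} : ℂ) =
      (Nat.card G : ℂ) * ∑ χ : Cfsg.IrrCharacter G, (χ : G → ℂ) z⁻¹ / (χ : G → ℂ) 1 := by
  classical
  have hG : (Nat.card G : ℂ) ≠ 0 := by exact_mod_cast Nat.card_pos.ne'
  have e1 : (Nat.card {xy : G × G // xy.1 * xy.2 * xy.1⁻¹ * xy.2⁻¹ = z} : ℂ) =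
      ∑ x : G, ∑ y : G, if x * y * x⁻¹ * y⁻¹ = z then (1 : ℂ) else 0 := by
    rw [Nat.card_eq_fintype_card, Fintype.card_subtype, ← Fintype.sum_prod_type', Finset.card_filter]
    push_cast
    rfl
  have e2 : ∀ x y : G, (if x * y * x⁻¹ * y⁻¹ = z then (1 : ℂ) else 0) =
      (Nat.card G : ℂ)⁻¹ * ∑ χ : Cfsg.IrrCharacter G,
        (χ : G → ℂ) (x⁻¹⁻¹ * y * x⁻¹ * (y⁻¹ * z⁻¹)) * (χ : G → ℂ) 1 := by
    intro x y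
    rw [delta_sum]
    have e : x⁻¹⁻¹ * y * x⁻¹ * (y⁻¹ * z⁻¹) = 1 ↔ x * y * x⁻¹ * y⁻¹ = z := by
      constructor
      · intro h
        have e0 : x * y * x⁻¹ * y⁻¹ = (x⁻¹⁻¹ * y * x⁻¹ * (y⁻¹ * z⁻¹)) * z := by group
        rw [e0, h, one_mul]
      · intro h
        rw [← h]
        group
    simp only [e]
    split_ifs
    · rw [inv_mul_cancel₀ hG]
    · rw [mul_zero]
  rw [e1]
  simp_rw [e2]
  have e3 : ∀ χ : Cfsg.IrrCharacter G, ∀ y : G,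
      ∑ x : G, (χ : G → ℂ) (x⁻¹⁻¹ * y * x⁻¹ * (y⁻¹ * z⁻¹)) =
        (Nat.card G : ℂ) * (χ : G → ℂ) y / (χ : G → ℂ) 1 * (χ : G → ℂ) (y⁻¹ * z⁻¹) := by
    intro χ y
    rw [← sum_conj_char (χ : G → ℂ) χ.2 (y⁻¹ * z⁻¹) y]
    exact Equiv.sum_comp (Equiv.inv G) (fun h : G => (χ : G → ℂ) (h⁻¹ * y * h * (y⁻¹ * z⁻¹)))
  have e4 : ∀ χ : Cfsg.IrrCharacter G,
      ∑ y : G, (χ : G → ℂ) y * (χ : G → ℂ) (y⁻¹ * z⁻¹) =
        (Nat.card G : ℂ) / (χ : G → ℂ) 1 * (χ : G → ℂ) z⁻¹ := by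
    intro χ
    have hcf := char_classFun (isCharacter_of_irr χ.2)
    have hf : Cfsg.IsClassFunction G (fun g : G => (χ : G → ℂ) g⁻¹) := by
      intro g k
      show (χ : G → ℂ) (k * g * k⁻¹)⁻¹ = (χ : G → ℂ) g⁻¹
      have e : (k * g * k⁻¹)⁻¹ = k * g⁻¹ * k⁻¹ := by group
      rw [e, hcf]
    have h1 := conv_char (fun g : G => (χ : G → ℂ) g⁻¹) hf (χ : G → ℂ) χ.2 z⁻¹
    have h2 : ∑ g : G, (χ : G → ℂ) g⁻¹ * (χ : G → ℂ) g = (Nat.card G : ℂ) := by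
      have h3 := sum_inner χ χ
      rw [if_pos rfl] at h3
      rw [← h3]
      refine Finset.sum_congr rfl (fun g _ => ?_)
      rw [char_inv (isCharacter_of_irr χ.2), mul_comm]
    rw [h2] at h1
    rw [← h1]
    refine Eq.trans (Finset.sum_congr rfl (fun y _ => ?_)) (Equiv.sum_comp (Equiv.inv G)
      (fun g : G => (χ : G → ℂ) g⁻¹ * (χ : G → ℂ) (g * z⁻¹)))
    show _ = (χ : G → ℂ) (y⁻¹)⁻¹ * (χ : G → ℂ) (y⁻¹ * z⁻¹)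
    rw [inv_inv]
  have e5 : ∑ x : G, ∑ y : G, (Nat.card G : ℂ)⁻¹ * ∑ χ : Cfsg.IrrCharacter G,
      (χ : G → ℂ) (x⁻¹⁻¹ * y * x⁻¹ * (y⁻¹ * z⁻¹)) * (χ : G → ℂ) 1 =
      (Nat.card G : ℂ)⁻¹ * ∑ χ : Cfsg.IrrCharacter G, (χ : G → ℂ) 1 *
        ∑ y : G, ∑ x : G, (χ : G → ℂ) (x⁻¹⁻¹ * y * x⁻¹ * (y⁻¹ * z⁻¹)) := by
    have eL : ∑ x : G, ∑ y : G, (Nat.card G : ℂ)⁻¹ * ∑ χ : Cfsg.IrrCharacter G,
        (χ : G → ℂ) (x⁻¹⁻¹ * y * x⁻¹ * (y⁻¹ * z⁻¹)) * (χ : G → ℂ) 1 =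
        ∑ χ : Cfsg.IrrCharacter G, ∑ y : G, ∑ x : G, (Nat.card G : ℂ)⁻¹ *
          ((χ : G → ℂ) (x⁻¹⁻¹ * y * x⁻¹ * (y⁻¹ * z⁻¹)) * (χ : G → ℂ) 1) := by
      simp_rw [Finset.mul_sum]
      calc ∑ x : G, ∑ y : G, ∑ χ : Cfsg.IrrCharacter G, (Nat.card G : ℂ)⁻¹ *
            ((χ : G → ℂ) (x⁻¹⁻¹ * y * x⁻¹ * (y⁻¹ * z⁻¹)) * (χ : G → ℂ) 1)
          = ∑ y : G, ∑ x : G, ∑ χ : Cfsg.IrrCharacter G, (Nat.card G : ℂ)⁻¹ *
            ((χ : G → ℂ) (x⁻¹⁻¹ * y * x⁻¹ * (y⁻¹ * z⁻¹)) * (χ : G → ℂ) 1) := Finset.sum_comm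
        _ = ∑ y : G, ∑ χ : Cfsg.IrrCharacter G, ∑ x : G, (Nat.card G : ℂ)⁻¹ *
            ((χ : G → ℂ) (x⁻¹⁻¹ * y * x⁻¹ * (y⁻¹ * z⁻¹)) * (χ : G → ℂ) 1) :=
          Finset.sum_congr rfl (fun y _ => Finset.sum_comm)
        _ = ∑ χ : Cfsg.IrrCharacter G, ∑ y : G, ∑ x : G, (Nat.card G : ℂ)⁻¹ *
            ((χ : G → ℂ) (x⁻¹⁻¹ * y * x⁻¹ * (y⁻¹ * z⁻¹)) * (χ : G → ℂ) 1) := Finset.sum_comm
    rw [eL, Finset.mul_sum]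
    refine Finset.sum_congr rfl (fun χ _ => ?_)
    rw [Finset.mul_sum, Finset.mul_sum]
    refine Finset.sum_congr rfl (fun y _ => ?_)
    rw [Finset.mul_sum, Finset.mul_sum]
    refine Finset.sum_congr rfl (fun x _ => ?_)
    ring
  rw [e5]
  simp_rw [e3]
  have e6 : ∀ χ : Cfsg.IrrCharacter G,
      (χ : G → ℂ) 1 * ∑ y : G, (Nat.card G : ℂ) * (χ : G → ℂ) y / (χ : G → ℂ) 1 *
        (χ : G → ℂ) (y⁻¹ * z⁻¹) =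
      (Nat.card G : ℂ) * ((Nat.card G : ℂ) * ((χ : G → ℂ) z⁻¹ / (χ : G → ℂ) 1)) := by
    intro χ
    have hχ1 := irr_one_ne_zero χ.2
    have e7 : ∑ y : G, (Nat.card G : ℂ) * (χ : G → ℂ) y / (χ : G → ℂ) 1 *
        (χ : G → ℂ) (y⁻¹ * z⁻¹) =
        (Nat.card G : ℂ) / (χ : G → ℂ) 1 * ∑ y : G, (χ : G → ℂ) y * (χ : G → ℂ) (y⁻¹ * z⁻¹) := by
      rw [Finset.mul_sum]
      refine Finset.sum_congr rfl (fun y _ => ?_)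
      ring
    rw [e7, e4]
    field_simp
  rw [Finset.sum_congr rfl (fun χ _ => e6 χ), ← Finset.mul_sum, ← Finset.mul_sum, ← mul_assoc,
    inv_mul_cancel₀ hG, one_mul]

theorem result {G : Type*} [Group G] [Finite G] (z : G) : (Nat.card {xy : G × G // xy.1 * xy.2 * xy.1⁻¹ * xy.2⁻¹ = z} : ℂ) = (Nat.card G : ℂ) * ∑ᶠ χ : Cfsg.IrrCharacter G, (χ : G → ℂ) z / (χ : G → ℂ) 1 := by
  classical
  have _fg : Fintype G := Fintype.ofFinite G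
  have _fi : Fintype (Cfsg.IrrCharacter G) := Fintype.ofFinite _
  rw [finsum_eq_sum_of_fintype]
  have h1 := count_formula z⁻¹
  rw [inv_inv] at h1
  rw [← h1]
  congr 1
  apply Nat.card_congr
  refine ⟨fun xy => ⟨(xy.1.2, xy.1.1), ?_⟩, fun xy => ⟨(xy.1.2, xy.1.1), ?_⟩, ?_, ?_⟩
  · have h := xy.2
    show xy.1.2 * xy.1.1 * xy.1.2⁻¹ * xy.1.1⁻¹ = z⁻¹
    have e : xy.1.2 * xy.1.1 * xy.1.2⁻¹ * xy.1.1⁻¹ = (xy.1.1 * xy.1.2 * xy.1.1⁻¹ * xy.1.2⁻¹)⁻¹ := by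
      group
    rw [e]
    exact congrArg Inv.inv h
  · have h := xy.2
    show xy.1.2 * xy.1.1 * xy.1.2⁻¹ * xy.1.1⁻¹ = z
    have e : xy.1.2 * xy.1.1 * xy.1.2⁻¹ * xy.1.1⁻¹ = (xy.1.1 * xy.1.2 * xy.1.1⁻¹ * xy.1.2⁻¹)⁻¹ := by
      group
    rw [e]
    exact (congrArg Inv.inv h).trans (inv_inv z)
  · intro xy
    rfl
  · intro xy
    rfl

end Cfsg.Agent.S4856
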