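import Mathlib
import Cfsg.Statements.S4814
import Cfsg.Agent.Lib.Helper3.Char
import Cfsg.Agent.Lib.Helper3.CharArith
import Cfsg.Agent.Lib.Helper3.CharTable
import Cfsg.Agent.Lib.Helper3.BlkOrth2
import Cfsg.Agent.Lib.Helper3.BlkOrth4
import Cfsg.Agent.S4856

set_option autoImplicit false
open Cfsg
open Cfsg.Agent.Lib.Helper3.Char Cfsg.Agent.Lib.Helper3.CharArith Cfsg.Agent.Lib.Helper3.CharTable Cfsg.Agent.Lib.Helper3.BlkOrth2 Cfsg.Agent.Lib.Helper3.BlkOrth4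
open scoped ComplexConjugate

namespace Cfsg.Agent.S4814

theorem gen_orth {G : Type*} [Group G] [Fintype G] (χ ψ : Cfsg.IrrCharacter G) (w : G)
    [Decidable (χ = ψ)] :
    ∑ y : G, (χ : G → ℂ) y * (ψ : G → ℂ) (y⁻¹ * w) =
      if χ = ψ then (Nat.card G : ℂ) / (χ : G → ℂ) 1 * (χ : G → ℂ) w else 0 := by
  classical
  have hcf := char_classFun (isCharacter_of_irr χ.2)
  have hf : Cfsg.IsClassFunction G (fun g : G => (χ : G → ℂ) g⁻¹) := by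
    intro g k
    show (χ : G → ℂ) (k * g * k⁻¹)⁻¹ = (χ : G → ℂ) g⁻¹
    have e : (k * g * k⁻¹)⁻¹ = k * g⁻¹ * k⁻¹ := by group
    rw [e, hcf]
  have h1 := conv_char (fun g : G => (χ : G → ℂ) g⁻¹) hf (ψ : G → ℂ) ψ.2 w
  have h2 : ∑ g : G, (χ : G → ℂ) g⁻¹ * (ψ : G → ℂ) g =
      if ψ = χ then (Nat.card G : ℂ) else 0 := by
    rw [← sum_inner ψ χ]
    refine Finset.sum_congr rfl (fun g _ => ?_)
    rw [char_inv (isCharacter_of_irr χ.2), mul_comm]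
  rw [h2] at h1
  have h3 : ∑ y : G, (χ : G → ℂ) y * (ψ : G → ℂ) (y⁻¹ * w) =
      ∑ g : G, (χ : G → ℂ) g⁻¹ * (ψ : G → ℂ) (g * w) := by
    refine Eq.trans (Finset.sum_congr rfl (fun y _ => ?_)) (Equiv.sum_comp (Equiv.inv G)
      (fun g : G => (χ : G → ℂ) g⁻¹ * (ψ : G → ℂ) (g * w)))
    show _ = (χ : G → ℂ) (y⁻¹)⁻¹ * (ψ : G → ℂ) (y⁻¹ * w)
    rw [inv_inv]
  rw [h3, h1]
  by_cases h : χ = ψ
  · rw [if_pos h, if_pos h.symm, h]
  · rw [if_neg h, if_neg (fun h' => h h'.symm), zero_div, zero_mul]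

theorem result {G : Type*} [Group G] [Finite G]
    (h : ∑ᶠ χ : Cfsg.IrrCharacter G, 1 / ‖(χ : G → ℂ) 1‖ ^ 2 < (2 : ℝ)) (g : G) :
    ∃ a b c d : G, (a * b * a⁻¹ * b⁻¹) * (c * d * c⁻¹ * d⁻¹) = g := by
  classical
  have _fg : Fintype G := Fintype.ofFinite G
  have _fi : Fintype (Cfsg.IrrCharacter G) := Fintype.ofFinite _
  have hG : (Nat.card G : ℂ) ≠ 0 := by exact_mod_cast Nat.card_pos.ne'
  rw [finsum_eq_sum_of_fintype] at h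
  by_contra hno
  push Not at hno
  have hN : ∀ z : G, (Nat.card {xy : G × G // xy.1 * xy.2 * xy.1⁻¹ * xy.2⁻¹ = z} : ℂ) =
      (Nat.card G : ℂ) * ∑ χ : Cfsg.IrrCharacter G, (χ : G → ℂ) z / (χ : G → ℂ) 1 := by
    intro z
    have h1 := Cfsg.Agent.S4856.result z
    rw [finsum_eq_sum_of_fintype] at h1
    exact h1
  have hzero : ∀ z : G, (Nat.card {xy : G × G // xy.1 * xy.2 * xy.1⁻¹ * xy.2⁻¹ = z} : ℂ) *
      (Nat.card {xy : G × G // xy.1 * xy.2 * xy.1⁻¹ * xy.2⁻¹ = z⁻¹ * g} : ℂ) = 0 := by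
    intro z
    by_contra hne
    have h1 : Nat.card {xy : G × G // xy.1 * xy.2 * xy.1⁻¹ * xy.2⁻¹ = z} ≠ 0 := by
      intro h0
      apply hne
      rw [h0]
      simp
    have h2 : Nat.card {xy : G × G // xy.1 * xy.2 * xy.1⁻¹ * xy.2⁻¹ = z⁻¹ * g} ≠ 0 := by
      intro h0
      apply hne
      rw [h0]
      simp
    obtain ⟨⟨ab, hab⟩⟩ := (Nat.card_ne_zero.mp h1).1
    obtain ⟨⟨cd, hcd⟩⟩ := (Nat.card_ne_zero.mp h2).1
    apply hno ab.1 ab.2 cd.1 cd.2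
    rw [hab, hcd]
    group
  have hsum : ∑ z : G, (∑ χ : Cfsg.IrrCharacter G, (χ : G → ℂ) z / (χ : G → ℂ) 1) *
      (∑ ψ : Cfsg.IrrCharacter G, (ψ : G → ℂ) (z⁻¹ * g) / (ψ : G → ℂ) 1) = 0 := by
    apply Finset.sum_eq_zero
    intro z _
    have h1 := hzero z
    rw [hN z, hN (z⁻¹ * g)] at h1
    have h2 : (Nat.card G : ℂ) * (Nat.card G : ℂ) *
        ((∑ χ : Cfsg.IrrCharacter G, (χ : G → ℂ) z / (χ : G → ℂ) 1) *
        (∑ ψ : Cfsg.IrrCharacter G, (ψ : G → ℂ) (z⁻¹ * g) / (ψ : G → ℂ) 1)) = 0 := by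
      linear_combination h1
    rcases mul_eq_zero.mp h2 with h3 | h3
    · exact absurd h3 (mul_ne_zero hG hG)
    · exact h3
  have hsum2 : ∑ z : G, (∑ χ : Cfsg.IrrCharacter G, (χ : G → ℂ) z / (χ : G → ℂ) 1) *
      (∑ ψ : Cfsg.IrrCharacter G, (ψ : G → ℂ) (z⁻¹ * g) / (ψ : G → ℂ) 1) =
      (Nat.card G : ℂ) * ∑ χ : Cfsg.IrrCharacter G, (χ : G → ℂ) g / (χ : G → ℂ) 1 ^ 3 := by
    simp_rw [Finset.sum_mul_sum]
    calc ∑ z : G, ∑ χ : Cfsg.IrrCharacter G, ∑ ψ : Cfsg.IrrCharacter G,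
          (χ : G → ℂ) z / (χ : G → ℂ) 1 * ((ψ : G → ℂ) (z⁻¹ * g) / (ψ : G → ℂ) 1)
        = ∑ χ : Cfsg.IrrCharacter G, ∑ z : G, ∑ ψ : Cfsg.IrrCharacter G,
          (χ : G → ℂ) z / (χ : G → ℂ) 1 * ((ψ : G → ℂ) (z⁻¹ * g) / (ψ : G → ℂ) 1) :=
          Finset.sum_comm
      _ = ∑ χ : Cfsg.IrrCharacter G, ∑ ψ : Cfsg.IrrCharacter G, ∑ z : G,
          (χ : G → ℂ) z / (χ : G → ℂ) 1 * ((ψ : G → ℂ) (z⁻¹ * g) / (ψ : G → ℂ) 1) :=
          Finset.sum_congr rfl (fun χ _ => Finset.sum_comm)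
      _ = ∑ χ : Cfsg.IrrCharacter G, ∑ ψ : Cfsg.IrrCharacter G,
          (if χ = ψ then (Nat.card G : ℂ) * ((χ : G → ℂ) g / (χ : G → ℂ) 1 ^ 3) else 0) := by
          refine Finset.sum_congr rfl (fun χ _ => Finset.sum_congr rfl (fun ψ _ => ?_))
          have e : ∑ z : G, (χ : G → ℂ) z / (χ : G → ℂ) 1 *
              ((ψ : G → ℂ) (z⁻¹ * g) / (ψ : G → ℂ) 1) =
              (∑ z : G, (χ : G → ℂ) z * (ψ : G → ℂ) (z⁻¹ * g)) /
                ((χ : G → ℂ) 1 * (ψ : G → ℂ) 1) := by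
            rw [Finset.sum_div]
            refine Finset.sum_congr rfl (fun z _ => ?_)
            rw [div_mul_div_comm]
          rw [e, gen_orth]
          by_cases hχψ : χ = ψ
          · rw [if_pos hχψ, if_pos hχψ, ← hχψ]
            have hχ1 := irr_one_ne_zero χ.2
            field_simp
          · rw [if_neg hχψ, if_neg hχψ, zero_div]
      _ = (Nat.card G : ℂ) * ∑ χ : Cfsg.IrrCharacter G, (χ : G → ℂ) g / (χ : G → ℂ) 1 ^ 3 := by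
          rw [Finset.mul_sum]
          refine Finset.sum_congr rfl (fun χ _ => ?_)
          rw [Finset.sum_ite_eq]
          simp
  rw [hsum2] at hsum
  have hS : ∑ χ : Cfsg.IrrCharacter G, (χ : G → ℂ) g / (χ : G → ℂ) 1 ^ 3 = 0 := by
    rcases mul_eq_zero.mp hsum with h3 | h3
    · exact absurd h3 hG
    · exact h3
  obtain ⟨t, ht⟩ : ∃ t : Cfsg.IrrCharacter G, t = ⟨fun _ => 1, isIrr_one G⟩ := ⟨_, rfl⟩
  have ht1 : ∀ u : G, (t : G → ℂ) u = 1 := by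
    intro u
    rw [ht]
  rw [← Finset.add_sum_erase Finset.univ _ (Finset.mem_univ t), ht1, ht1] at hS
  rw [← Finset.add_sum_erase Finset.univ _ (Finset.mem_univ t), ht1] at h
  have hb : ∀ χ : Cfsg.IrrCharacter G, ‖(χ : G → ℂ) g / (χ : G → ℂ) 1 ^ 3‖ ≤
      1 / ‖(χ : G → ℂ) 1‖ ^ 2 := by
    intro χ
    obtain ⟨n, hn, hle⟩ := char_one (isCharacter_of_irr χ.2)
    obtain ⟨m, hm0, hm⟩ := irr_one_pos χ.2
    have hnm : n = m := by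
      have : (n : ℂ) = (m : ℂ) := by rw [← hn, ← hm]
      exact_mod_cast this
    subst hnm
    have h1 := hle g
    have hn0 : (0 : ℝ) < (n : ℝ) := by exact_mod_cast hm0
    rw [norm_div, norm_pow, hn]
    have e : ‖(n : ℂ)‖ = (n : ℝ) := by simp
    rw [e, div_le_div_iff₀ (pow_pos hn0 3) (pow_pos hn0 2)]
    calc ‖(χ : G → ℂ) g‖ * (n : ℝ) ^ 2 ≤ (n : ℝ) * (n : ℝ) ^ 2 :=
          mul_le_mul_of_nonneg_right h1 (pow_nonneg hn0.le 2)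
      _ = 1 * (n : ℝ) ^ 3 := by ring
  have h2 : ‖∑ χ ∈ Finset.univ.erase t, (χ : G → ℂ) g / (χ : G → ℂ) 1 ^ 3‖ ≤
      ∑ χ ∈ Finset.univ.erase t, 1 / ‖(χ : G → ℂ) 1‖ ^ 2 :=
    (norm_sum_le _ _).trans (Finset.sum_le_sum (fun χ _ => hb χ))
  have h3 : ∑ χ ∈ Finset.univ.erase t, (χ : G → ℂ) g / (χ : G → ℂ) 1 ^ 3 = -1 := by
    have e : (1 : ℂ) / 1 ^ 3 = 1 := by norm_num
    rw [e] at hS
    linear_combination hS
  rw [h3] at h2
  simp only [norm_neg, norm_one] at h2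
  have e : (1 : ℝ) / ‖(1 : ℂ)‖ ^ 2 = 1 := by simp
  rw [e] at h
  linarith

end Cfsg.Agent.S4814
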