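import Mathlib
import Cfsg.Statements.S4989
import Cfsg.Agent.Lib.Helper3.Char
import Cfsg.Agent.Lib.Helper3.CharCore
import Cfsg.Agent.S4574

set_option autoImplicit false
open Cfsg
open Cfsg.Agent.Lib.Helper3.Char Cfsg.Agent.Lib.Helper3.CharCore
open scoped ComplexConjugate

namespace Cfsg.Agent.S4989

theorem result {G : Type*} [Group G] [Finite G] (H : Subgroup G) (χ : Cfsg.IrrCharacter G) : (Nat.card ↥H : ℝ)⁻¹ * ∑ᶠ h : ↥H, ‖(χ : G → ℂ) h‖ ^ 2 ≤ 1 + (Set.ncard ({x : G | (χ : G → ℂ) x = 0} \ (H : Set G)) : ℝ) / (Nat.card ↥H : ℝ) := by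
  classical
  have _fg : Fintype G := Fintype.ofFinite G
  obtain ⟨n, ρ, hirr, hρ⟩ := χ.2
  have hP : ∀ e : ℕ, e.Coprime (Nat.card G) → ∀ g : G, (g ∈ H ∨ ρ.character g = 0) →
      (g ^ e ∈ H ∨ ρ.character (g ^ e) = 0) := by
    intro e he g h
    rcases h with h | h
    · exact Or.inl (pow_mem h e)
    · exact Or.inr (Cfsg.Agent.S4574.gal_zero ρ e he g h)
  obtain ⟨R, hRdef⟩ : ∃ R : Finset G, R = Finset.univ.filter
      (fun g : G => ¬ (g ∈ H ∨ ρ.character g = 0)) := ⟨_, rfl⟩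
  have hRmem : ∀ g : G, g ∈ R ↔ ¬ (g ∈ H ∨ ρ.character g = 0) := by
    intro g
    rw [hRdef, Finset.mem_filter]
    simp only [Finset.mem_univ, true_and]
  have hR : ∀ e : ℕ, e.Coprime (Nat.card G) → ∀ g : G, g ∈ R ↔ g ^ e ∈ R := by
    intro e he g
    rw [hRmem, hRmem, not_iff_not]
    constructor
    · exact hP e he g
    · intro h
      have h1 := Equiv.Perm.perm_symm_on_of_perm_on_finite (f := powCoprime he.symm)
        (p := fun g : G => g ∈ H ∨ ρ.character g = 0)
        (fun x hx => hP e he x hx) (x := g ^ e) h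
      have h2 : (powCoprime he.symm).symm (g ^ e) = g := (powCoprime he.symm).symm_apply_apply g
      rw [h2] at h1
      exact h1
  have h0R : ∀ g ∈ R, ρ.character g ≠ 0 := fun g hg h => (hRmem g).mp hg (Or.inr h)
  have hge := Cfsg.Agent.S4574.gal_sum_ge ρ R hR h0R
  have htot : ∑ g : G, ‖ρ.character g‖ ^ 2 = (Nat.card G : ℝ) := by
    have h1 := irr_orthonormal (G := G) χ.2 χ.2
    rw [if_pos rfl, ← hρ] at h1
    unfold Cfsg.classInner at h1
    have h2 : ∀ g : G, ρ.character g * conj (ρ.character g) =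
        ((‖ρ.character g‖ ^ 2 : ℝ) : ℂ) := fun g => by
      rw [Complex.mul_conj']
      push_cast
      rfl
    rw [Finset.sum_congr rfl (fun g _ => h2 g), ← Complex.ofReal_sum] at h1
    have hG0 : (Nat.card G : ℂ) ≠ 0 := by exact_mod_cast Nat.card_pos.ne'
    rw [inv_mul_eq_iff_eq_mul₀ hG0, mul_one] at h1
    exact_mod_cast h1
  have e1 : ∑ g : G, ‖ρ.character g‖ ^ 2 =
      ∑ g ∈ Finset.univ.filter (fun g : G => g ∈ H), ‖ρ.character g‖ ^ 2 +
        ∑ g ∈ R, ‖ρ.character g‖ ^ 2 := by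
    rw [hRdef, Finset.sum_filter, Finset.sum_filter, ← Finset.sum_add_distrib]
    refine Finset.sum_congr rfl (fun g _ => ?_)
    by_cases h1 : g ∈ H <;> by_cases h2 : ρ.character g = 0 <;> simp [h1, h2]
  have e2 : Fintype.card G = (Finset.univ.filter (fun g : G => g ∈ H)).card +
      (Finset.univ.filter (fun g : G => ρ.character g = 0 ∧ g ∉ H)).card + R.card := by
    rw [hRdef, Finset.card_filter, Finset.card_filter, Finset.card_filter,
      ← Finset.sum_add_distrib, ← Finset.sum_add_distrib, ← Finset.card_univ,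
      Finset.card_eq_sum_ones]
    refine Finset.sum_congr rfl (fun g _ => ?_)
    by_cases h1 : g ∈ H <;> by_cases h2 : ρ.character g = 0 <;> simp [h1, h2]
  have hH : (Nat.card ↥H : ℝ) = ((Finset.univ.filter (fun g : G => g ∈ H)).card : ℝ) := by
    rw [Nat.card_eq_fintype_card, Fintype.card_subtype]
  have hfin : ∑ᶠ h : ↥H, ‖(χ : G → ℂ) h‖ ^ 2 =
      ∑ g ∈ Finset.univ.filter (fun g : G => g ∈ H), ‖ρ.character g‖ ^ 2 := by
    rw [finsum_eq_sum_of_fintype, ← hρ]
    exact (Finset.sum_subtype (Finset.univ.filter (fun g : G => g ∈ H)) (fun x => by simp)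
      (fun g => ‖ρ.character g‖ ^ 2)).symm
  have hZ : Set.ncard ({x : G | (χ : G → ℂ) x = 0} \ (H : Set G)) =
      (Finset.univ.filter (fun g : G => ρ.character g = 0 ∧ g ∉ H)).card := by
    rw [Set.ncard_eq_toFinset_card', ← hρ]
    congr 1
    ext g
    simp
  rw [hfin, hZ, hH]
  have hpos : (0 : ℝ) < ((Finset.univ.filter (fun g : G => g ∈ H)).card : ℝ) := by
    have h1 : (1 : G) ∈ Finset.univ.filter (fun g : G => g ∈ H) := by
      rw [Finset.mem_filter]
      exact ⟨Finset.mem_univ _, H.one_mem⟩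
    exact_mod_cast Finset.card_pos.mpr ⟨1, h1⟩
  rw [inv_mul_le_iff₀ hpos]
  have h3 : ((Finset.univ.filter (fun g : G => g ∈ H)).card : ℝ) *
      (1 + ((Finset.univ.filter (fun g : G => ρ.character g = 0 ∧ g ∉ H)).card : ℝ) /
        ((Finset.univ.filter (fun g : G => g ∈ H)).card : ℝ)) =
      ((Finset.univ.filter (fun g : G => g ∈ H)).card : ℝ) +
        ((Finset.univ.filter (fun g : G => ρ.character g = 0 ∧ g ∉ H)).card : ℝ) := by
    field_simp
  rw [h3]
  have e2' : (Nat.card G : ℝ) = ((Finset.univ.filter (fun g : G => g ∈ H)).card : ℝ) +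
      ((Finset.univ.filter (fun g : G => ρ.character g = 0 ∧ g ∉ H)).card : ℝ) + (R.card : ℝ) := by
    rw [Nat.card_eq_fintype_card, e2]
    push_cast
    ring
  linarith

end Cfsg.Agent.S4989
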