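import Cfsg.Statements.S5393

set_option autoImplicit false
open Cfsg

namespace Cfsg.Agent.S5393

open scoped Pointwise

def qw (t : ZMod 23) (p : GolayPt) : ZMod 2 :=
  match p with
  | none => 0
  | some x => if Nat.testBit 340831 (x - t).val then 1 else 0

theorem qr_eq : ∀ t x : ZMod 23,
    qrWord t (some x) = if Nat.testBit 340831 (x - t).val then 1 else 0 := by decide

theorem qrWord_eq_qw : qrWord = qw := by
  funext t p
  cases p with
  | none => rfl
  | some x => exact qr_eq t x

theorem qw_rel : ∀ t : ZMod 23, ∀ p : GolayPt, qw (t + 11) p =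
    qw t p + qw (t + 1) p + qw (t + 5) p + qw (t + 6) p + qw (t + 7) p + qw (t + 9) p := by
  decide

theorem qr_rel (t : ZMod 23) : qrWord (t + 11) =
    qrWord t + qrWord (t + 1) + qrWord (t + 5) + qrWord (t + 6) + qrWord (t + 7) +
      qrWord (t + 9) := by
  rw [qrWord_eq_qw]
  funext p
  exact qw_rel t p

theorem qw_par : ∀ t : ZMod 23, ∑ p, qw t p = 0 := by decide

def shiftFun (a : ZMod 23) : GolayPt → GolayPt
  | none => none
  | some x => some (x + a)

def shift (a : ZMod 23) : Equiv.Perm GolayPt where
  toFun := shiftFun a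
  invFun := shiftFun (-a)
  left_inv := by
    intro p
    cases p with
    | none => rfl
    | some x =>
      change some (x + a + -a) = some x
      rw [add_neg_cancel_right]
  right_inv := by
    intro p
    cases p with
    | none => rfl
    | some x =>
      change some (x + -a + a) = some x
      rw [neg_add_cancel_right]

theorem shift_some (a x : ZMod 23) : shift a (some x) = some (x + a) := rfl

theorem shift_none (a : ZMod 23) : shift a none = none := rfl

theorem shift_symm_some (a x : ZMod 23) : (shift a).symm (some x) = some (x + -a) := rfl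

theorem shift_symm_none (a : ZMod 23) : (shift a).symm none = none := rfl

def act (g : Equiv.Perm GolayPt) : (GolayPt → ZMod 2) →ₗ[ZMod 2] (GolayPt → ZMod 2) :=
  LinearMap.funLeft (ZMod 2) (ZMod 2) g.symm

theorem act_apply (g : Equiv.Perm GolayPt) (w : GolayPt → ZMod 2) (p : GolayPt) :
    act g w p = w (g.symm p) := rfl

theorem act_inv_apply (g : Equiv.Perm GolayPt) (w : GolayPt → ZMod 2) (p : GolayPt) :
    act g⁻¹ w p = w (g p) := rfl

theorem act_one (g : Equiv.Perm GolayPt) : act g 1 = 1 := rfl

theorem act_shift_qr (a t : ZMod 23) : act (shift a) (qrWord t) = qrWord (t + a) := by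
  rw [qrWord_eq_qw]
  funext p
  cases p with
  | none => rfl
  | some x =>
    rw [act_apply, shift_symm_some]
    change (if Nat.testBit 340831 (x + -a - t).val then (1 : ZMod 2) else 0) =
      if Nat.testBit 340831 (x - (t + a)).val then 1 else 0
    rw [show x + -a - t = x - (t + a) by ring]

theorem act_shift_inv_qr (a t : ZMod 23) : act (shift a)⁻¹ (qrWord t) = qrWord (t - a) := by
  rw [qrWord_eq_qw]
  funext p
  cases p with
  | none => rfl
  | some x =>
    rw [act_inv_apply, shift_some]
    change (if Nat.testBit 340831 (x + a - t).val then (1 : ZMod 2) else 0) =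
      if Nat.testBit 340831 (x - (t - a)).val then 1 else 0
    rw [show x + a - t = x - (t - a) by ring]

theorem golay_def : golayCode = Submodule.span (ZMod 2) (Set.range qrWord ∪ {1}) := rfl

theorem qr_mem (t : ZMod 23) : qrWord t ∈ golayCode :=
  Submodule.subset_span (Or.inl ⟨t, rfl⟩)

theorem one_mem : (1 : GolayPt → ZMod 2) ∈ golayCode :=
  Submodule.subset_span (Or.inr rfl)

theorem act_mem_of_gens (g : Equiv.Perm GolayPt) (h1 : ∀ t, act g (qrWord t) ∈ golayCode) :
    ∀ w ∈ golayCode, act g w ∈ golayCode := by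
  intro w hw
  have h : Submodule.map (act g) golayCode ≤ golayCode := by
    rw [golay_def, Submodule.map_span_le]
    rintro m (⟨t, rfl⟩ | hm)
    · exact h1 t
    · rw [Set.mem_singleton_iff] at hm
      rw [hm, act_one]
      exact one_mem
  exact h (Submodule.mem_map_of_mem hw)

theorem smul_support (g : Equiv.Perm GolayPt) (w : GolayPt → ZMod 2) :
    g • support₂ w = support₂ (act g w) := by
  ext p
  simp only [support₂, Finset.mem_smul_finset, Finset.mem_filter, Finset.mem_univ, true_and]
  constructor
  · rintro ⟨q, hq, rfl⟩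
    rw [act_apply, Equiv.Perm.smul_def, Equiv.symm_apply_apply]
    exact hq
  · intro hp
    refine ⟨g.symm p, hp, ?_⟩
    rw [Equiv.Perm.smul_def, Equiv.apply_symm_apply]

theorem mem_M24 (g : Equiv.Perm GolayPt) (h1 : ∀ w ∈ golayCode, act g w ∈ golayCode)
    (h2 : ∀ w ∈ golayCode, act g⁻¹ w ∈ golayCode) : g ∈ M24 := by
  rw [MulAction.mem_stabilizer_iff]
  ext b
  rw [Set.mem_smul_set]
  constructor
  · rintro ⟨c, ⟨w, hw, rfl⟩, rfl⟩
    exact ⟨act g w, h1 w hw, (smul_support g w).symm⟩
  · rintro ⟨w, hw, rfl⟩
    refine ⟨support₂ (act g⁻¹ w), ⟨_, h2 w hw, rfl⟩, ?_⟩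
    rw [smul_support]
    congr 1
    funext p
    rw [act_apply, act_inv_apply, Equiv.apply_symm_apply]

theorem shift_mem (a : ZMod 23) : shift a ∈ M24 := by
  apply mem_M24
  · apply act_mem_of_gens
    intro t
    rw [act_shift_qr]
    exact qr_mem _
  · apply act_mem_of_gens
    intro t
    rw [act_shift_inv_qr]
    exact qr_mem _

theorem sum_eq_zero_of_mem (w : GolayPt → ZMod 2) (hw : w ∈ golayCode) : ∑ p, w p = 0 := by
  rw [golay_def] at hw
  refine Submodule.span_induction ?_ ?_ ?_ ?_ hw
  · rintro x (⟨t, rfl⟩ | hx)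
    · rw [qrWord_eq_qw]
      exact qw_par t
    · rw [Set.mem_singleton_iff] at hx
      rw [hx]
      decide
  · simp
  · intro x y _ _ hx hy
    simp only [Pi.add_apply, Finset.sum_add_distrib, hx, hy, add_zero]
  · intro a x _ hx
    simp only [Pi.smul_apply, ← Finset.smul_sum, hx, smul_zero]

theorem act_shift_add (a b : ZMod 23) (w : GolayPt → ZMod 2) :
    act (shift a) (act (shift b) w) = act (shift (b + a)) w := by
  funext p
  cases p with
  | none => rfl
  | some x =>
    rw [act_apply, shift_symm_some, act_apply, shift_symm_some, act_apply, shift_symm_some]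
    rw [show x + -a + -b = x + -(b + a) by ring]

theorem act_shift_zero (w : GolayPt → ZMod 2) : act (shift 0) w = w := by
  funext p
  cases p with
  | none => rfl
  | some x =>
    rw [act_apply, shift_symm_some, neg_zero, add_zero]

theorem fixed_of_shift (w : GolayPt → ZMod 2) (hw : w ∈ golayCode)
    (hf : act (shift 1) w = w) : w = 0 ∨ w = 1 := by
  have h1 : ∀ x : ZMod 23, w (some (x + -1)) = w (some x) := by
    intro x
    have h := congrFun hf (some x)
    rw [act_apply, shift_symm_some] at h
    exact h
  have h2 : ∀ n : ℕ, w (some (n : ZMod 23)) = w (some 0) := by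
    intro n
    induction n with
    | zero => rw [Nat.cast_zero]
    | succ n ih =>
      have e : ((n + 1 : ℕ) : ZMod 23) + -1 = (n : ZMod 23) := by
        rw [Nat.cast_succ, add_neg_cancel_right]
      rw [← ih, ← h1 ((n + 1 : ℕ) : ZMod 23), e]
  have h3 : ∀ x : ZMod 23, w (some x) = w (some 0) := by
    intro x
    rw [← ZMod.natCast_zmod_val x]
    exact h2 _
  have h4 := sum_eq_zero_of_mem w hw
  rw [Fintype.sum_option, Finset.sum_congr rfl (fun x _ => h3 x), Finset.sum_const,
    Finset.card_univ, ZMod.card, nsmul_eq_mul] at h4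
  have h5 : w none = w (some 0) := by
    have key : ∀ a b : ZMod 2, a + ((23 : ℕ) : ZMod 2) * b = 0 → a = b := by decide
    exact key _ _ h4
  have h6 : ∀ c : ZMod 2, c = 0 ∨ c = 1 := by decide
  rcases h6 (w (some 0)) with h | h
  · left
    funext p
    cases p with
    | none => rw [h5, h]; rfl
    | some x => rw [h3, h]; rfl
  · right
    funext p
    cases p with
    | none => rw [h5, h]; rfl
    | some x => rw [h3, h]; rfl

theorem qr_mem_span (n : ℕ) : qrWord (n : ZMod 23) ∈ Submodule.span (ZMod 2)
    (((Finset.range 11).image (fun i : ℕ => qrWord (i : ZMod 23)) ∪ {1} :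
      Finset (GolayPt → ZMod 2)) : Set (GolayPt → ZMod 2)) := by
  induction n using Nat.strong_induction_on with
  | _ n ih =>
    by_cases hn : n < 11
    · apply Submodule.subset_span
      rw [Finset.mem_coe, Finset.mem_union]
      left
      rw [Finset.mem_image]
      exact ⟨n, Finset.mem_range.mpr hn, rfl⟩
    · obtain ⟨m, rfl⟩ : ∃ m, n = m + 11 := ⟨n - 11, by omega⟩
      have h := qr_rel (m : ZMod 23)
      have e : ((m + 11 : ℕ) : ZMod 23) = (m : ZMod 23) + 11 := by push_cast; ring
      rw [e, h]
      have e1 : (m : ZMod 23) + 1 = ((m + 1 : ℕ) : ZMod 23) := by push_cast; ring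
      have e5 : (m : ZMod 23) + 5 = ((m + 5 : ℕ) : ZMod 23) := by push_cast; ring
      have e6 : (m : ZMod 23) + 6 = ((m + 6 : ℕ) : ZMod 23) := by push_cast; ring
      have e7 : (m : ZMod 23) + 7 = ((m + 7 : ℕ) : ZMod 23) := by push_cast; ring
      have e9 : (m : ZMod 23) + 9 = ((m + 9 : ℕ) : ZMod 23) := by push_cast; ring
      rw [e1, e5, e6, e7, e9]
      refine Submodule.add_mem _ (Submodule.add_mem _ (Submodule.add_mem _ (Submodule.add_mem _
        (Submodule.add_mem _ ?_ ?_) ?_) ?_) ?_) ?_
      · exact ih m (by omega)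
      · exact ih (m + 1) (by omega)
      · exact ih (m + 5) (by omega)
      · exact ih (m + 6) (by omega)
      · exact ih (m + 7) (by omega)
      · exact ih (m + 9) (by omega)

theorem finrank_golay_le : Module.finrank (ZMod 2) golayCode ≤ 12 := by
  have hle : golayCode ≤ Submodule.span (ZMod 2)
      (((Finset.range 11).image (fun i : ℕ => qrWord (i : ZMod 23)) ∪ {1} :
        Finset (GolayPt → ZMod 2)) : Set (GolayPt → ZMod 2)) := by
    rw [golay_def, Submodule.span_le]
    rintro x (⟨t, rfl⟩ | hx)
    · have h := qr_mem_span t.val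
      rw [ZMod.natCast_zmod_val] at h
      exact h
    · rw [Set.mem_singleton_iff] at hx
      rw [hx]
      apply Submodule.subset_span
      rw [Finset.mem_coe, Finset.mem_union]
      right
      exact Finset.mem_singleton_self _
  refine le_trans (Submodule.finrank_mono hle) ?_
  refine le_trans (finrank_span_finset_le_card _) ?_
  refine le_trans (Finset.card_union_le _ _) ?_
  have h1 := Finset.card_image_le (s := Finset.range 11)
    (f := fun i : ℕ => qrWord (i : ZMod 23))
  rw [Finset.card_range] at h1
  rw [Finset.card_singleton]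
  omega

theorem card_cases : ∀ k : ℕ, k ≤ 12 → 2 ^ k % 23 = 2 → k = 1 ∨ k = 12 := by decide

theorem card_mod (W : Submodule (ZMod 2) (GolayPt → ZMod 2))
    (hinv : ∀ a : ZMod 23, ∀ w ∈ W, act (shift a) w ∈ W) (F : Set W)
    (hF : ∀ w : W, w ∈ F ↔ act (shift 1) (w : GolayPt → ZMod 2) = w) :
    Nat.card W ≡ Nat.card F [MOD 23] := by
  let inst : MulAction (Multiplicative (ZMod 23)) W :=
    { smul := fun a w => ⟨act (shift (Multiplicative.toAdd a)) w, hinv _ w w.2⟩
      one_smul := fun w => Subtype.ext (act_shift_zero w)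
      mul_smul := fun a b w => Subtype.ext (by
        change act (shift (Multiplicative.toAdd a + Multiplicative.toAdd b)) (w : GolayPt → ZMod 2) =
          act (shift (Multiplicative.toAdd a)) (act (shift (Multiplicative.toAdd b)) w)
        rw [act_shift_add, add_comm]) }
  have : Fact (Nat.Prime 23) := ⟨by norm_num⟩
  have hG : IsPGroup 23 (Multiplicative (ZMod 23)) := by
    apply IsPGroup.of_card (n := 1)
    rw [Nat.card_congr Multiplicative.toAdd, Nat.card_zmod, pow_one]
  have hmod := hG.card_modEq_card_fixedPoints W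
  have hfix : MulAction.fixedPoints (Multiplicative (ZMod 23)) W = F := by
    ext w
    rw [MulAction.mem_fixedPoints, hF]
    constructor
    · intro h
      exact congrArg Subtype.val (h (Multiplicative.ofAdd 1))
    · intro h m
      apply Subtype.ext
      change act (shift (Multiplicative.toAdd m)) (w : GolayPt → ZMod 2) = w
      have h2 : ∀ n : ℕ, act (shift (n : ZMod 23)) (w : GolayPt → ZMod 2) = w := by
        intro n
        induction n with
        | zero => rw [Nat.cast_zero, act_shift_zero]
        | succ n ih =>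
          rw [Nat.cast_succ, ← act_shift_add, ih, h]
      have h3 := h2 (Multiplicative.toAdd m).val
      rw [ZMod.natCast_zmod_val] at h3
      exact h3
  rw [hfix] at hmod
  exact hmod

theorem main (W : Submodule (ZMod 2) (GolayPt → ZMod 2)) (h1 : (1 : GolayPt → ZMod 2) ∈ W)
    (hWC : W ≤ golayCode) (hinv : ∀ a : ZMod 23, ∀ w ∈ W, act (shift a) w ∈ W) :
    W = Submodule.span (ZMod 2) {(1 : GolayPt → ZMod 2)} ∨ W = golayCode := by
  have hmod := card_mod W hinv {(0 : W), ⟨1, h1⟩} (by
    intro w
    rw [Set.mem_insert_iff, Set.mem_singleton_iff]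
    constructor
    · rintro (rfl | rfl)
      · exact map_zero _
      · rfl
    · intro h2
      rcases fixed_of_shift w (hWC w.2) h2 with h | h
      · left
        exact Subtype.ext h
      · right
        exact Subtype.ext h)
  have hne : (0 : W) ≠ ⟨1, h1⟩ := by
    intro h
    have h2 : ((0 : W) : GolayPt → ZMod 2) none = (1 : GolayPt → ZMod 2) none := by
      rw [h]
    exact zero_ne_one h2
  rw [Nat.card_coe_set_eq, Set.ncard_pair hne, Module.natCard_eq_pow_finrank (K := ZMod 2),
    Nat.card_zmod] at hmod
  have hk : Module.finrank (ZMod 2) W ≤ 12 :=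
    le_trans (Submodule.finrank_mono hWC) finrank_golay_le
  have hmod' : 2 ^ Module.finrank (ZMod 2) W % 23 = 2 := hmod
  rcases card_cases _ hk hmod' with h | h
  · left
    symm
    apply Submodule.eq_of_le_of_finrank_eq
    · rw [Submodule.span_le, Set.singleton_subset_iff]
      exact h1
    · rw [h]
      apply finrank_span_singleton
      intro h0
      exact absurd (congrFun h0 none) (by decide)
  · right
    apply Submodule.eq_of_le_of_finrank_le hWC
    rw [h]
    exact finrank_golay_le

theorem result : (fun _ : Cfsg.GolayPt => (1 : ZMod 2)) ∈ Cfsg.golayCode ∧ ∀ W : Submodule (ZMod 2) (Cfsg.GolayPt → ZMod 2), (fun _ => (1 : ZMod 2)) ∈ W → W ≤ Cfsg.golayCode → (∀ σ ∈ Cfsg.M24, ∀ w ∈ W, (fun p => w (σ.symm p)) ∈ W) → W = Submodule.span (ZMod 2) {fun _ => (1 : ZMod 2)} ∨ W = Cfsg.golayCode := by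
  refine ⟨one_mem, ?_⟩
  intro W h1 hWC hinv
  exact main W h1 hWC (fun a w hw => hinv _ (shift_mem a) w hw)

end Cfsg.Agent.S5393
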