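import Cfsg.Agent.S5393
import Cfsg.Statements.S5548

set_option autoImplicit false
open Cfsg

namespace Cfsg.Agent.S5548

open scoped Pointwise
open Cfsg.Agent.S5393

def wordOf (m : ℕ) (p : GolayPt) : ZMod 2 :=
  (∑ s : ZMod 23, if m.testBit s.val then qw s p else 0) + if m.testBit 23 then 1 else 0

theorem wordOf_mem (m : ℕ) : wordOf m ∈ golayCode := by
  have h : wordOf m = (∑ s : ZMod 23, if m.testBit s.val then qrWord s else 0) +
      if m.testBit 23 then 1 else 0 := by
    funext p
    rw [qrWord_eq_qw]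
    simp only [wordOf, Pi.add_apply, Finset.sum_apply, ite_apply, Pi.zero_apply, Pi.one_apply]
  rw [h]
  apply Submodule.add_mem
  · apply Submodule.sum_mem
    intro s _
    split_ifs
    · exact qr_mem s
    · exact Submodule.zero_mem _
  · split_ifs
    · exact one_mem
    · exact Submodule.zero_mem _

def certP : List ℕ := [8388609, 1392, 738, 1469, 823, 8389121, 1594, 8388974, 1684, 33, 8389018,
  8388613, 1992, 129, 8390253, 8388617, 1025, 8388625, 735, 8388673, 8388865, 8390087, 8388611]

def certC : List ℕ := [1, 409, 403, 1222, 12, 1292, 111, 1302, 516, 80, 1562, 445, 365, 938, 489,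
  349, 576, 1886, 1660, 1556, 706, 1520, 368]

theorem certP_ok : ∀ t : ZMod 23, ∀ p : GolayPt,
    qw t (projInvFun p) = wordOf (certP.getD t.val 0) p := by decide

theorem certC_ok : ∀ t : ZMod 23, ∀ p : GolayPt,
    qw t (cubeTwistFun p) = wordOf (certC.getD t.val 0) p := by decide


theorem act_act_inv (g : Equiv.Perm GolayPt) (w : GolayPt → ZMod 2) : act g (act g⁻¹ w) = w := by
  funext p
  rw [act_apply, act_inv_apply, Equiv.apply_symm_apply]

theorem act_mem_of_inv (g : Equiv.Perm GolayPt) (h : ∀ w ∈ golayCode, act g⁻¹ w ∈ golayCode) :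
    ∀ w ∈ golayCode, act g w ∈ golayCode := by
  intro w hw
  obtain ⟨φ, hφ⟩ : ∃ φ : golayCode →ₗ[ZMod 2] golayCode,
      ∀ u : golayCode, ((φ u : golayCode) : GolayPt → ZMod 2) = act g⁻¹ u :=
    ⟨(act g⁻¹).restrict h, fun u => rfl⟩
  have hinj : Function.Injective φ := by
    intro a b hab
    apply Subtype.ext
    have h2 : act g (act g⁻¹ (a : GolayPt → ZMod 2)) = act g (act g⁻¹ (b : GolayPt → ZMod 2)) := by
      rw [← hφ a, ← hφ b, hab]
    rw [act_act_inv, act_act_inv] at h2
    exact h2
  have hsurj := LinearMap.surjective_of_injective hinj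
  obtain ⟨u, hu⟩ := hsurj ⟨w, hw⟩
  have h2 : act g⁻¹ (u : GolayPt → ZMod 2) = w := by rw [← hφ, hu]
  rw [← h2, act_act_inv]
  exact u.2

theorem mem_M24_of_cert (g : Equiv.Perm GolayPt) (c : List ℕ)
    (h : ∀ t : ZMod 23, ∀ p : GolayPt, qw t (g p) = wordOf (c.getD t.val 0) p) : g ∈ M24 := by
  have h2 : ∀ w ∈ golayCode, act g⁻¹ w ∈ golayCode := by
    apply act_mem_of_gens
    intro t
    have e : act g⁻¹ (qrWord t) = wordOf (c.getD t.val 0) := by
      funext p
      rw [act_inv_apply, qrWord_eq_qw]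
      exact h t p
    rw [e]
    exact wordOf_mem _
  exact mem_M24 g (act_mem_of_inv g h2) h2

theorem projInv_mem : projInv ∈ M24 := mem_M24_of_cert projInv certP certP_ok

theorem cubeTwist_mem : cubeTwist ∈ M24 := mem_M24_of_cert cubeTwist certC certC_ok

def Q0 : Finset (ZMod 23) := Finset.univ.filter (fun r => Nat.testBit 340831 r.val)

def opQ : (GolayPt → ZMod 2) →ₗ[ZMod 2] (GolayPt → ZMod 2) := ∑ r ∈ Q0, act (shift r)

def opN : (GolayPt → ZMod 2) →ₗ[ZMod 2] (GolayPt → ZMod 2) := ∑ r : ZMod 23, act (shift r)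

def opR : (GolayPt → ZMod 2) →ₗ[ZMod 2] (GolayPt → ZMod 2) := LinearMap.id + opQ + opN

theorem opQ_eq (w : GolayPt → ZMod 2) : opQ w = ∑ r ∈ Q0, act (shift r) w := by
  unfold opQ
  rw [LinearMap.sum_apply]

theorem opN_eq (w : GolayPt → ZMod 2) : opN w = ∑ r : ZMod 23, act (shift r) w := by
  unfold opN
  rw [LinearMap.sum_apply]

theorem opR_eq (w : GolayPt → ZMod 2) : opR w = w + opQ w + opN w := rfl

theorem opQ_apply (w : GolayPt → ZMod 2) (p : GolayPt) :
    opQ w p = ∑ r ∈ Q0, w ((shift r).symm p) := by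
  rw [opQ_eq, Finset.sum_apply]
  rfl

theorem opN_apply (w : GolayPt → ZMod 2) (p : GolayPt) :
    opN w p = ∑ r : ZMod 23, w ((shift r).symm p) := by
  rw [opN_eq, Finset.sum_apply]
  rfl

theorem card_Q0 : Q0.card = 12 := by decide

theorem nsmul12 (w : GolayPt → ZMod 2) : 12 • w = 0 := by
  funext p
  have key : ∀ x : ZMod 2, 12 • x = 0 := by decide
  exact key (w p)

theorem nsmul23 (w : GolayPt → ZMod 2) : 23 • w = w := by
  funext p
  have key : ∀ x : ZMod 2, 23 • x = x := by decide
  exact key (w p)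

theorem add_self (w : GolayPt → ZMod 2) : w + w = 0 := by
  funext p
  exact CharTwo.add_self_eq_zero (w p)

theorem opN_none (w : GolayPt → ZMod 2) : opN w none = w none := by
  rw [opN_apply]
  have h : ∀ r : ZMod 23, w ((shift r).symm none) = w none := fun r => rfl
  rw [Finset.sum_congr rfl (fun r _ => h r), Finset.sum_const, Finset.card_univ, ZMod.card]
  have key : ∀ x : ZMod 2, 23 • x = x := by decide
  exact key _

theorem opN_some (w : GolayPt → ZMod 2) (x : ZMod 23) :
    opN w (some x) = ∑ y : ZMod 23, w (some y) := by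
  rw [opN_apply]
  exact Fintype.sum_equiv (Equiv.subLeft x) _ _ (fun r => by
    rw [shift_symm_some, Equiv.subLeft_apply, sub_eq_add_neg])

theorem shift_opN (a : ZMod 23) (w : GolayPt → ZMod 2) : act (shift a) (opN w) = opN w := by
  funext p
  cases p with
  | none => rfl
  | some x => rw [act_apply, shift_symm_some, opN_some, opN_some]

theorem opN_shift (a : ZMod 23) (w : GolayPt → ZMod 2) : opN (act (shift a) w) = opN w := by
  funext p
  cases p with
  | none => rw [opN_none, opN_none]; rfl
  | some x =>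
    rw [opN_some, opN_some]
    exact Fintype.sum_equiv (Equiv.addRight (-a)) _ _ (fun y => by
      rw [act_apply, shift_symm_some]
      rfl)

theorem shift_opQ (a : ZMod 23) (w : GolayPt → ZMod 2) :
    act (shift a) (opQ w) = opQ (act (shift a) w) := by
  rw [opQ_eq, opQ_eq, map_sum]
  apply Finset.sum_congr rfl
  intro r _
  rw [act_shift_add, act_shift_add, add_comm]

theorem opN_opQ (w : GolayPt → ZMod 2) : opN (opQ w) = 0 := by
  rw [opQ_eq, map_sum, Finset.sum_congr rfl (fun r _ => opN_shift r w), Finset.sum_const,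
    card_Q0, nsmul12]

theorem opQ_opN (w : GolayPt → ZMod 2) : opQ (opN w) = 0 := by
  rw [opQ_eq, Finset.sum_congr rfl (fun r _ => shift_opN r w), Finset.sum_const,
    card_Q0, nsmul12]

theorem opN_opN (w : GolayPt → ZMod 2) : opN (opN w) = opN w := by
  rw [opN_eq (opN w), Finset.sum_congr rfl (fun r _ => shift_opN r w), Finset.sum_const,
    Finset.card_univ, ZMod.card, nsmul23]

theorem opQ_single_some (x : ZMod 23) : opQ (Pi.single (some x) 1) = qrWord x := by
  rw [qrWord_eq_qw]
  funext p
  rw [opQ_apply]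
  cases p with
  | none =>
    apply Finset.sum_eq_zero
    intro r _
    rw [shift_symm_none, Pi.single_apply, if_neg (by simp)]
  | some y =>
    have h : ∀ r : ZMod 23, (Pi.single (some x) (1 : ZMod 2) : GolayPt → ZMod 2)
        ((shift r).symm (some y)) = if r = y - x then 1 else 0 := by
      intro r
      rw [shift_symm_some, Pi.single_apply]
      congr 1
      apply propext
      rw [Option.some_inj]
      constructor
      · intro h
        rw [← h]
        ring
      · intro h
        rw [h]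
        ring
    rw [Finset.sum_congr rfl (fun r _ => h r), Finset.sum_ite_eq']
    change _ = if Nat.testBit 340831 (y - x).val then (1 : ZMod 2) else 0
    congr 1
    apply propext
    unfold Q0
    rw [Finset.mem_filter]
    exact ⟨fun h => h.2, fun h => ⟨Finset.mem_univ _, h⟩⟩

theorem opQ_single_none : opQ (Pi.single none 1) = 0 := by
  funext p
  rw [opQ_apply]
  cases p with
  | none =>
    have h : ∀ r : ZMod 23, (Pi.single none (1 : ZMod 2) : GolayPt → ZMod 2)
        ((shift r).symm none) = 1 := by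
      intro r
      rw [shift_symm_none, Pi.single_eq_same]
    rw [Finset.sum_congr rfl (fun r _ => h r), Finset.sum_const, card_Q0]
    decide
  | some y =>
    apply Finset.sum_eq_zero
    intro r _
    rw [shift_symm_some, Pi.single_apply, if_neg (by simp)]

theorem opQ_qw : ∀ x : ZMod 23, ∀ p : GolayPt,
    (∑ r ∈ Q0, qw x ((shift r).symm p)) = qw x p := by decide

theorem opQ_qr (x : ZMod 23) : opQ (qrWord x) = qrWord x := by
  rw [qrWord_eq_qw]
  funext p
  rw [opQ_apply]
  exact opQ_qw x p

theorem opQ_opQ (w : GolayPt → ZMod 2) : opQ (opQ w) = opQ w := by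
  have h : opQ ∘ₗ opQ = opQ := by
    apply LinearMap.pi_ext
    intro i c
    have hc : ∀ c : ZMod 2, c = 0 ∨ c = 1 := by decide
    rcases hc c with rfl | rfl
    · rw [Pi.single_zero, map_zero, map_zero]
    · rw [LinearMap.comp_apply]
      cases i with
      | none => rw [opQ_single_none, map_zero]
      | some x => rw [opQ_single_some, opQ_qr]
  exact congrArg (fun f => f w) h

theorem opQ_opR (w : GolayPt → ZMod 2) : opQ (opR w) = 0 := by
  rw [opR_eq, map_add, map_add, opQ_opQ, opQ_opN, add_zero, add_self]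

theorem opN_opR (w : GolayPt → ZMod 2) : opN (opR w) = 0 := by
  rw [opR_eq, map_add, map_add, opN_opQ, opN_opN, add_zero, add_self]

theorem opR_opQ (w : GolayPt → ZMod 2) : opR (opQ w) = 0 := by
  rw [opR_eq, opQ_opQ, opN_opQ, add_zero, add_self]

theorem decomp (w : GolayPt → ZMod 2) : w = opN w + opR w + opQ w := by
  funext p
  rw [opR_eq]
  have key : ∀ a b c : ZMod 2, c = a + (c + b + a) + b := by decide
  exact key _ _ _

theorem shift_opR (a : ZMod 23) (w : GolayPt → ZMod 2) :
    act (shift a) (opR w) = opR (act (shift a) w) := by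
  rw [opR_eq, opR_eq, map_add, map_add, shift_opQ, shift_opN, opN_shift]

theorem fixed_zero (v : GolayPt → ZMod 2) (h1 : opN v = 0) (h2 : act (shift 1) v = v) :
    v = 0 := by
  have h3 : ∀ n : ℕ, act (shift (n : ZMod 23)) v = v := by
    intro n
    induction n with
    | zero => rw [Nat.cast_zero, act_shift_zero]
    | succ n ih => rw [Nat.cast_succ, ← act_shift_add, ih, h2]
  have h4 : ∀ r : ZMod 23, act (shift r) v = v := by
    intro r
    have h := h3 r.val
    rw [ZMod.natCast_zmod_val] at h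
    exact h
  rw [opN_eq, Finset.sum_congr rfl (fun r _ => h4 r), Finset.sum_const, Finset.card_univ,
    ZMod.card, nsmul23] at h1
  exact h1

theorem pow_cases : ∀ k : ℕ, k ≤ 24 → 2 ^ k % 23 = 1 → k = 0 ∨ k = 11 ∨ k = 22 := by decide

theorem finrank_V : Module.finrank (ZMod 2) (GolayPt → ZMod 2) = 24 := by
  rw [Module.finrank_pi]
  rfl

theorem finrank_cases (U : Submodule (ZMod 2) (GolayPt → ZMod 2))
    (hinv : ∀ a : ZMod 23, ∀ w ∈ U, act (shift a) w ∈ U) (hN : ∀ w ∈ U, opN w = 0) :
    Module.finrank (ZMod 2) U = 0 ∨ Module.finrank (ZMod 2) U = 11 ∨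
      Module.finrank (ZMod 2) U = 22 := by
  have h1 := card_mod U hinv {(0 : U)} (by
    intro w
    rw [Set.mem_singleton_iff]
    constructor
    · intro h
      rw [h]
      exact map_zero _
    · intro h
      apply Subtype.ext
      exact fixed_zero _ (hN _ w.2) h)
  rw [Nat.card_coe_set_eq, Set.ncard_singleton, Module.natCard_eq_pow_finrank (K := ZMod 2),
    Nat.card_zmod] at h1
  have h2 : Module.finrank (ZMod 2) U ≤ 24 := by
    rw [← finrank_V]
    exact Submodule.finrank_le U
  exact pow_cases _ h2 h1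

def RQ : Submodule (ZMod 2) (GolayPt → ZMod 2) := LinearMap.range opQ

def RR : Submodule (ZMod 2) (GolayPt → ZMod 2) := LinearMap.range opR

theorem RQ_shift : ∀ a : ZMod 23, ∀ w ∈ RQ, act (shift a) w ∈ RQ := by
  rintro a w ⟨u, rfl⟩
  exact ⟨act (shift a) u, (shift_opQ a u).symm⟩

theorem RR_shift : ∀ a : ZMod 23, ∀ w ∈ RR, act (shift a) w ∈ RR := by
  rintro a w ⟨u, rfl⟩
  exact ⟨act (shift a) u, (shift_opR a u).symm⟩

theorem RQ_opN : ∀ w ∈ RQ, opN w = 0 := by
  rintro w ⟨u, rfl⟩
  exact opN_opQ u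

theorem RR_opN : ∀ w ∈ RR, opN w = 0 := by
  rintro w ⟨u, rfl⟩
  exact opN_opR u

theorem RQ_inf_RR : RQ ⊓ RR = ⊥ := by
  rw [eq_bot_iff]
  rintro w ⟨⟨u, rfl⟩, ⟨v, hv⟩⟩
  rw [Submodule.mem_bot]
  have h : opQ (opQ u) = opQ (opR v) := by rw [hv]
  rw [opQ_opQ, opQ_opR] at h
  exact h

def jw : GolayPt → ZMod 2
  | none => 0
  | some _ => 1

def nw1 : GolayPt → ZMod 2
  | none => 0
  | some y => (if y = 1 then 1 else 0) + qw 1 (some y) + 1

theorem opR_single1 : opR (Pi.single (some 1) 1) = nw1 := by
  rw [opR_eq, opQ_single_some, qrWord_eq_qw]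
  funext p
  cases p with
  | none =>
    rw [Pi.add_apply, Pi.add_apply, opN_none, Pi.single_apply, if_neg (by simp)]
    rfl
  | some y =>
    rw [Pi.add_apply, Pi.add_apply, opN_some, Pi.single_apply]
    have h : ∑ z : ZMod 23, (Pi.single (some 1) (1 : ZMod 2) : GolayPt → ZMod 2) (some z) = 1 := by
      decide
    rw [h]
    simp [nw1]

theorem RQ_ne : RQ ≠ ⊥ := by
  intro h
  have h1 : qrWord 0 ∈ RQ := ⟨_, opQ_single_some 0⟩
  rw [h, Submodule.mem_bot, qrWord_eq_qw] at h1
  have h2 := congrFun h1 (some 0)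
  revert h2
  decide

theorem RR_ne : RR ≠ ⊥ := by
  intro h
  have h1 : nw1 ∈ RR := ⟨_, opR_single1⟩
  rw [h, Submodule.mem_bot] at h1
  have h2 := congrFun h1 (some 1)
  revert h2
  decide

theorem finrank_RQ_RR : Module.finrank (ZMod 2) RQ = 11 ∧ Module.finrank (ZMod 2) RR = 11 := by
  have h1 := finrank_cases RQ RQ_shift RQ_opN
  have h2 := finrank_cases RR RR_shift RR_opN
  have h3 : Module.finrank (ZMod 2) RQ + Module.finrank (ZMod 2) RR ≤ 24 := by
    have h := Submodule.finrank_sup_add_finrank_inf_eq RQ RR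
    rw [RQ_inf_RR, finrank_bot, add_zero] at h
    rw [← h, ← finrank_V]
    exact Submodule.finrank_le _
  have h4 : Module.finrank (ZMod 2) RQ ≠ 0 := fun h => RQ_ne (Submodule.finrank_eq_zero.mp h)
  have h5 : Module.finrank (ZMod 2) RR ≠ 0 := fun h => RR_ne (Submodule.finrank_eq_zero.mp h)
  omega

theorem inf_cases (W U : Submodule (ZMod 2) (GolayPt → ZMod 2))
    (hs : ∀ a : ZMod 23, ∀ w ∈ W, act (shift a) w ∈ W)
    (hU : ∀ a : ZMod 23, ∀ w ∈ U, act (shift a) w ∈ U)
    (hN : ∀ w ∈ U, opN w = 0) (hf : Module.finrank (ZMod 2) U = 11) :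
    W ⊓ U = ⊥ ∨ W ⊓ U = U := by
  have h1 := finrank_cases (W ⊓ U) (fun a w hw => ⟨hs a w hw.1, hU a w hw.2⟩)
    (fun w hw => hN w hw.2)
  have h2 : Module.finrank (ZMod 2) (W ⊓ U : Submodule (ZMod 2) (GolayPt → ZMod 2)) ≤ 11 := by
    rw [← hf]
    exact Submodule.finrank_mono inf_le_right
  rcases h1 with h | h | h
  · left
    exact Submodule.finrank_eq_zero.mp h
  · right
    exact Submodule.eq_of_le_of_finrank_eq inf_le_right (by rw [h, hf])
  · omega

theorem projInv_single : ∀ p : GolayPt,
    (Pi.single none (1 : ZMod 2) : GolayPt → ZMod 2) (projInvFun p) =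
      (Pi.single (some 0) (1 : ZMod 2) : GolayPt → ZMod 2) p := by decide

theorem projInv_jw : ∑ y : ZMod 23, jw (projInvFun (some y)) = 0 := by decide

theorem top_of_single (W : Submodule (ZMod 2) (GolayPt → ZMod 2))
    (hs : ∀ a : ZMod 23, ∀ w ∈ W, act (shift a) w ∈ W)
    (hp : ∀ w ∈ W, act projInv w ∈ W)
    (h : (Pi.single none 1 : GolayPt → ZMod 2) ∈ W) : W = ⊤ := by
  have h0 : (Pi.single (some 0) 1 : GolayPt → ZMod 2) ∈ W := by
    have e : act projInv (Pi.single none 1) = (Pi.single (some 0) 1 : GolayPt → ZMod 2) := by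
      funext p
      exact projInv_single p
    rw [← e]
    exact hp _ h
  have hx : ∀ x : ZMod 23, (Pi.single (some x) 1 : GolayPt → ZMod 2) ∈ W := by
    intro x
    have e : act (shift x) (Pi.single (some 0) 1) = (Pi.single (some x) 1 : GolayPt → ZMod 2) := by
      funext p
      cases p with
      | none =>
        rw [act_apply, shift_symm_none, Pi.single_apply, Pi.single_apply, if_neg (by simp),
          if_neg (by simp)]
      | some y =>
        rw [act_apply, shift_symm_some, Pi.single_apply, Pi.single_apply]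
        congr 1
        apply propext
        rw [Option.some_inj, Option.some_inj]
        constructor
        · intro h
          linear_combination h
        · intro h
          rw [h]
          ring
    rw [← e]
    exact hs x _ h0
  rw [eq_top_iff]
  intro w _
  rw [← Finset.univ_sum_single w]
  apply Submodule.sum_mem
  intro p _
  have hc : ∀ c : ZMod 2, c = 0 ∨ c = 1 := by decide
  rcases hc (w p) with h1 | h1
  · rw [h1, Pi.single_zero]
    exact Submodule.zero_mem _
  · rw [h1]
    cases p with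
    | none => exact h
    | some x => exact hx x

theorem opN_mem (W : Submodule (ZMod 2) (GolayPt → ZMod 2))
    (hs : ∀ a : ZMod 23, ∀ w ∈ W, act (shift a) w ∈ W) (w : GolayPt → ZMod 2) (hw : w ∈ W) :
    opN w ∈ W := by
  rw [opN_eq]
  exact Submodule.sum_mem _ (fun r _ => hs r w hw)

theorem opQ_mem (W : Submodule (ZMod 2) (GolayPt → ZMod 2))
    (hs : ∀ a : ZMod 23, ∀ w ∈ W, act (shift a) w ∈ W) (w : GolayPt → ZMod 2) (hw : w ∈ W) :
    opQ w ∈ W := by
  rw [opQ_eq]
  exact Submodule.sum_mem _ (fun r _ => hs r w hw)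

theorem top_of_jw (W : Submodule (ZMod 2) (GolayPt → ZMod 2))
    (hs : ∀ a : ZMod 23, ∀ w ∈ W, act (shift a) w ∈ W)
    (hp : ∀ w ∈ W, act projInv w ∈ W) (h : jw ∈ W) : W = ⊤ := by
  apply top_of_single W hs hp
  have h2 : opN (act projInv jw) ∈ W := opN_mem W hs _ (hp _ h)
  have e : opN (act projInv jw) = Pi.single none 1 := by
    funext p
    cases p with
    | none =>
      rw [opN_none, Pi.single_eq_same]
      rfl
    | some x =>
      rw [opN_some, Pi.single_apply, if_neg (by simp)]
      exact projInv_jw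
  rw [← e]
  exact h2

theorem opN_form (w : GolayPt → ZMod 2) :
    opN w = (w none) • (Pi.single none 1 : GolayPt → ZMod 2) +
      (∑ y : ZMod 23, w (some y)) • jw := by
  funext p
  cases p with
  | none =>
    rw [opN_none]
    simp [jw]
  | some x =>
    rw [opN_some]
    simp [jw]

theorem sum_zero_of_ne_top (W : Submodule (ZMod 2) (GolayPt → ZMod 2))
    (hs : ∀ a : ZMod 23, ∀ w ∈ W, act (shift a) w ∈ W)
    (hp : ∀ w ∈ W, act projInv w ∈ W) (hne : W ≠ ⊤) (w : GolayPt → ZMod 2) (hw : w ∈ W) :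
    w none = ∑ y : ZMod 23, w (some y) := by
  have hN : opN w ∈ W := opN_mem W hs w hw
  have hc : ∀ a b : ZMod 2, a = b ∨ (a = 1 ∧ b = 0) ∨ (a = 0 ∧ b = 1) := by decide
  rcases hc (w none) (∑ y : ZMod 23, w (some y)) with h | ⟨h1, h2⟩ | ⟨h1, h2⟩
  · exact h
  · exfalso
    apply hne
    apply top_of_single W hs hp
    have e := opN_form w
    rw [h1, h2, one_smul, zero_smul, add_zero] at e
    rw [← e]
    exact hN
  · exfalso
    apply hne
    apply top_of_jw W hs hp
    have e := opN_form w
    rw [h1, h2, one_smul, zero_smul, zero_add] at e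
    rw [← e]
    exact hN

theorem opN_of_sum (w : GolayPt → ZMod 2) (h : w none = ∑ y : ZMod 23, w (some y)) :
    opN w = 0 ∨ opN w = 1 := by
  have hc : ∀ c : ZMod 2, c = 0 ∨ c = 1 := by decide
  rcases hc (w none) with h1 | h1
  · left
    funext p
    cases p with
    | none => rw [opN_none, h1]; rfl
    | some x => rw [opN_some, ← h, h1]; rfl
  · right
    funext p
    cases p with
    | none => rw [opN_none, h1]; rfl
    | some x => rw [opN_some, ← h, h1]; rfl

theorem bot_case (W : Submodule (ZMod 2) (GolayPt → ZMod 2))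
    (hs : ∀ a : ZMod 23, ∀ w ∈ W, act (shift a) w ∈ W)
    (hp : ∀ w ∈ W, act projInv w ∈ W) (hne : W ≠ ⊤)
    (h1 : (1 : GolayPt → ZMod 2) ∉ W) : W = ⊥ := by
  have hnone : ∀ w ∈ W, w none = 0 := by
    intro w hw
    have h3 := sum_zero_of_ne_top W hs hp hne w hw
    have hN : opN w ∈ W := opN_mem W hs w hw
    rcases opN_of_sum w h3 with h | h
    · rw [← opN_none w, h]
      rfl
    · rw [h] at hN
      exact absurd hN h1
  rw [eq_bot_iff]
  intro w hw
  rw [Submodule.mem_bot]
  funext p
  cases p with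
  | none => exact hnone w hw
  | some x =>
    have h2 := hnone _ (hp _ (hs (-x) w hw))
    have e : act projInv (act (shift (-x)) w) none = w (some x) := by
      change w ((shift (-x)).symm (some 0)) = w (some x)
      rw [shift_symm_some]
      congr 2
      ring
    rw [← e]
    exact h2

theorem RQ_le_golay : RQ ≤ golayCode := by
  rintro w ⟨u, rfl⟩
  rw [← Finset.univ_sum_single u, map_sum]
  apply Submodule.sum_mem
  intro p _
  have hc : ∀ c : ZMod 2, c = 0 ∨ c = 1 := by decide
  rcases hc (u p) with h1 | h1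
  · rw [h1, Pi.single_zero, map_zero]
    exact Submodule.zero_mem _
  · rw [h1]
    cases p with
    | none =>
      rw [opQ_single_none]
      exact Submodule.zero_mem _
    | some x =>
      rw [opQ_single_some]
      exact qr_mem x

theorem ct_check : (∑ r ∈ Q0, nw1 (cubeTwistFun ((shift r).symm (some 1)))) ≠ 0 := by decide

theorem result (W : Submodule (ZMod 2) (Cfsg.GolayPt → ZMod 2)) (hW : ∀ σ ∈ Cfsg.M24, ∀ w ∈ W, (fun p => w (σ.symm p)) ∈ W) : W = ⊥ ∨ W = Submodule.span (ZMod 2) {fun _ => (1 : ZMod 2)} ∨ W = Cfsg.golayCode ∨ (W : Set (Cfsg.GolayPt → ZMod 2)) = {w | ∑ p, w p = 0} ∨ W = ⊤ := by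
  have hs : ∀ a : ZMod 23, ∀ w ∈ W, act (shift a) w ∈ W := fun a w hw => hW _ (shift_mem a) w hw
  have hp : ∀ w ∈ W, act projInv w ∈ W := fun w hw => hW _ projInv_mem w hw
  have hc : ∀ w ∈ W, act cubeTwist⁻¹ w ∈ W := fun w hw => hW _ (inv_mem cubeTwist_mem) w hw
  by_cases htop : W = ⊤
  · right; right; right; right
    exact htop
  by_cases h1 : (1 : GolayPt → ZMod 2) ∈ W
  swap
  · left
    exact bot_case W hs hp htop h1
  right
  have hsum := sum_zero_of_ne_top W hs hp htop
  have hQ : ∀ w ∈ W, opQ w ∈ W := opQ_mem W hs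
  have hN : ∀ w ∈ W, opN w ∈ W := opN_mem W hs
  have hR : ∀ w ∈ W, opR w ∈ W := fun w hw => by
    rw [opR_eq]
    exact W.add_mem (W.add_mem hw (hQ w hw)) (hN w hw)
  have hA : W ⊓ RQ = ⊥ ∨ W ⊓ RQ = RQ := inf_cases W RQ hs RQ_shift RQ_opN finrank_RQ_RR.1
  have hB : W ⊓ RR = ⊥ ∨ W ⊓ RR = RR := inf_cases W RR hs RR_shift RR_opN finrank_RQ_RR.2
  have hQA : ∀ w ∈ W, opQ w ∈ W ⊓ RQ := fun w hw => ⟨hQ w hw, ⟨w, rfl⟩⟩
  have hRB : ∀ w ∈ W, opR w ∈ W ⊓ RR := fun w hw => ⟨hR w hw, ⟨w, rfl⟩⟩
  have h1mem : ∀ v : GolayPt → ZMod 2, v = 0 ∨ v = 1 →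
      v ∈ Submodule.span (ZMod 2) {(1 : GolayPt → ZMod 2)} := by
    rintro v (rfl | rfl)
    · exact Submodule.zero_mem _
    · exact Submodule.subset_span rfl
  rcases hA with hA | hA <;> rcases hB with hB | hB
  · left
    apply le_antisymm
    · intro w hw
      have h2 := hQA w hw
      have h3 := hRB w hw
      rw [hA, Submodule.mem_bot] at h2
      rw [hB, Submodule.mem_bot] at h3
      rw [decomp w, h2, h3, add_zero, add_zero]
      exact h1mem _ (opN_of_sum w (hsum w hw))
    · rw [Submodule.span_le, Set.singleton_subset_iff]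
      exact h1
  · exfalso
    have h2 : nw1 ∈ W := by
      have h3 : nw1 ∈ W ⊓ RR := by
        rw [hB]
        exact ⟨_, opR_single1⟩
      exact h3.1
    have h4 := hQA _ (hc _ h2)
    rw [hA, Submodule.mem_bot] at h4
    have h5 := congrFun h4 (some 1)
    rw [opQ_apply] at h5
    have h6 : ∀ p, act cubeTwist⁻¹ nw1 p = nw1 (cubeTwistFun p) := fun p => rfl
    rw [Finset.sum_congr rfl (fun r _ => h6 _)] at h5
    exact ct_check h5
  · right; left
    apply le_antisymm
    · intro w hw
      have h2 := hQA w hw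
      have h3 := hRB w hw
      rw [hB, Submodule.mem_bot] at h3
      rw [decomp w, h3, add_zero]
      apply Submodule.add_mem
      · rcases opN_of_sum w (hsum w hw) with h | h
        · rw [h]
          exact Submodule.zero_mem _
        · rw [h]
          exact one_mem
      · exact RQ_le_golay ⟨w, rfl⟩
    · rw [golay_def, Submodule.span_le]
      rintro x (⟨t, rfl⟩ | hx)
      · have h2 : qrWord t ∈ W ⊓ RQ := by
          rw [hA]
          exact ⟨_, opQ_single_some t⟩
        exact h2.1
      · rw [Set.mem_singleton_iff] at hx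
        rw [hx]
        exact h1
  · right; right; left
    ext w
    rw [SetLike.mem_coe, Set.mem_ofPred_eq, Fintype.sum_option]
    constructor
    · intro hw
      rw [hsum w hw]
      exact CharTwo.add_self_eq_zero _
    · intro hw
      have h2 : w none = ∑ y : ZMod 23, w (some y) := by
        have key : ∀ a b : ZMod 2, a + b = 0 → a = b := by decide
        exact key _ _ hw
      rw [decomp w]
      apply Submodule.add_mem
      · apply Submodule.add_mem
        · rcases opN_of_sum w h2 with h | h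
          · rw [h]
            exact Submodule.zero_mem _
          · rw [h]
            exact h1
        · have h3 : opR w ∈ W ⊓ RR := by
            rw [hB]
            exact ⟨w, rfl⟩
          exact h3.1
      · have h3 : opQ w ∈ W ⊓ RQ := by
          rw [hA]
          exact ⟨w, rfl⟩
        exact h3.1

end Cfsg.Agent.S5548
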