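import Cfsg.Statements.S5726

set_option autoImplicit false
open Cfsg

namespace Cfsg.Agent.S5726

theorem card_stab_mul_orbit {G Ω : Type*} [Group G] [MulAction G Ω] (H : Subgroup G) (ω : Ω) :
    Nat.card (MulAction.stabilizer H ω) * (MulAction.orbit H ω).ncard = Nat.card H := by
  rw [← MulAction.index_stabilizer]; exact Subgroup.card_mul_index _

theorem sylow_orbit_dvd {G Ω : Type*} [Group G] [Finite G] [MulAction G Ω]
    [MulAction.IsPretransitive G Ω] (p : ℕ) [Fact p.Prime] (H : Subgroup G)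
    (hH : Nat.card H = p ^ (Nat.card G).factorization p) (c : ℕ) (hc : p ^ c ∣ Nat.card Ω) (ω : Ω) :
    p ^ c ∣ (MulAction.orbit H ω).ncard := by
  have hp : p.Prime := Fact.out
  have h1 := card_stab_mul_orbit H ω
  have h2 : Nat.card (MulAction.stabilizer G ω) * Nat.card Ω = Nat.card G := by
    rw [← MulAction.index_stabilizer_of_transitive G ω]; exact Subgroup.card_mul_index _
  have h3 : Nat.card (MulAction.stabilizer H ω) ∣ Nat.card (MulAction.stabilizer G ω) := by
    let f : MulAction.stabilizer H ω →* MulAction.stabilizer G ω :=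
      ((H.subtype).comp (MulAction.stabilizer H ω).subtype).codRestrict (MulAction.stabilizer G ω)
        (fun x => x.2)
    apply Subgroup.card_dvd_of_injective f
    intro x y hxy
    have := congrArg Subtype.val hxy
    exact Subtype.ext (Subtype.ext this)
  rw [hH] at h1
  obtain ⟨i, hi, hs⟩ := (Nat.dvd_prime_pow hp).mp (Dvd.intro _ h1)
  have h4 : p ^ (i + c) ∣ Nat.card G := by
    rw [pow_add, ← h2, ← hs]; exact Nat.mul_dvd_mul h3 hc
  have h5 : i + c ≤ (Nat.card G).factorization p :=
    (hp.pow_dvd_iff_le_factorization Nat.card_pos.ne').mp h4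
  rw [hs] at h1
  have h6 : (MulAction.orbit H ω).ncard = p ^ ((Nat.card G).factorization p - i) := by
    apply Nat.eq_of_mul_eq_mul_left (pow_pos hp.pos i)
    rw [h1, ← pow_add]; congr 1; omega
  rw [h6]
  exact pow_dvd_pow p (by omega)

theorem result {G Ω : Type*} [Group G] [Finite G] [MulAction G Ω] [FaithfulSMul G Ω] [Fintype Ω] (htr : MulAction.IsPretransitive G Ω)
    (p k : ℕ) (hp : p.Prime) (hk : 1 ≤ k) (hΩ : Fintype.card Ω = p ^ k) :
    ∃ g : G, orderOf g = p ∧ ∀ ω : Ω, g • ω ≠ ω := by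
  have hpf : Fact p.Prime := ⟨hp⟩
  obtain ⟨P⟩ := (inferInstance : Nonempty (Sylow p G))
  have hcard := P.card_eq_multiplicity
  have hΩ' : Nat.card Ω = p ^ k := by rw [Nat.card_eq_fintype_card, hΩ]
  have hncard : ∀ ω : Ω, (MulAction.orbit (P : Subgroup G) ω).ncard = p ^ k := by
    intro ω
    have h1 := sylow_orbit_dvd p (P : Subgroup G) hcard k (by rw [hΩ']) ω
    have h2 : (MulAction.orbit (P : Subgroup G) ω).ncard ≤ p ^ k := by
      rw [← hΩ']; exact Set.ncard_le_card _
    have h3 : 0 < (MulAction.orbit (P : Subgroup G) ω).ncard :=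
      (Set.ncard_pos).mpr (MulAction.nonempty_orbit ω)
    exact le_antisymm h2 (Nat.le_of_dvd h3 h1)
  have horb : ∀ ω : Ω, MulAction.orbit (P : Subgroup G) ω = Set.univ := by
    intro ω
    rw [Set.eq_univ_iff_ncard, hncard, hΩ']
  obtain ⟨ω₀⟩ : Nonempty Ω := by
    rw [← Fintype.card_pos_iff, hΩ]; exact pow_pos hp.pos k
  have hdvd : p ∣ Nat.card (P : Subgroup G) := by
    rw [← card_stab_mul_orbit (P : Subgroup G) ω₀, hncard]
    exact Dvd.dvd.mul_left (dvd_pow_self p (by omega)) _
  have hnt : Nontrivial (P : Subgroup G) := by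
    rw [← Finite.one_lt_card_iff_nontrivial]
    exact lt_of_lt_of_le hp.one_lt (Nat.le_of_dvd Nat.card_pos hdvd)
  have hcnt : Nontrivial (Subgroup.center (P : Subgroup G)) := P.isPGroup'.center_nontrivial
  have hcp : IsPGroup p (Subgroup.center (P : Subgroup G)) :=
    P.isPGroup'.to_subgroup (Subgroup.center (P : Subgroup G))
  have hdvd2 : p ∣ Nat.card (Subgroup.center (P : Subgroup G)) := by
    rcases hcp.card_eq_or_dvd with h | h
    · exfalso
      have := Finite.one_lt_card_iff_nontrivial.mpr hcnt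
      omega
    · exact h
  obtain ⟨z, hz⟩ := exists_prime_orderOf_dvd_card' p hdvd2
  refine ⟨((z : (P : Subgroup G)) : G), ?_, ?_⟩
  · rw [Subgroup.orderOf_coe, Subgroup.orderOf_coe, hz]
  · intro ω hω
    have hall : ∀ ω' : Ω, ((z : (P : Subgroup G)) : G) • ω' = ω' := by
      intro ω'
      have hmem : ω' ∈ MulAction.orbit (P : Subgroup G) ω := by rw [horb]; exact Set.mem_univ _
      obtain ⟨h, rfl⟩ := hmem
      have hcomm : h * (z : (P : Subgroup G)) = (z : (P : Subgroup G)) * h :=
        Subgroup.mem_center_iff.mp z.2 h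
      have hcomm' : (h : G) * ((z : (P : Subgroup G)) : G) = ((z : (P : Subgroup G)) : G) * (h : G) :=
        congrArg Subtype.val hcomm
      show ((z : (P : Subgroup G)) : G) • ((h : G) • ω) = (h : G) • ω
      rw [smul_smul, ← hcomm', mul_smul, hω]
    have h1 : ((z : (P : Subgroup G)) : G) = 1 :=
      FaithfulSMul.eq_of_smul_eq_smul (fun ω' => by rw [hall ω', one_smul])
    have h2 : orderOf ((z : (P : Subgroup G)) : G) = p := by
      rw [Subgroup.orderOf_coe, Subgroup.orderOf_coe, hz]
    rw [h1, orderOf_one] at h2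
    exact hp.one_lt.ne h2

end Cfsg.Agent.S5726
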