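import Cfsg.Statements.S5727
import Cfsg.Agent.S5726

set_option autoImplicit false
open Cfsg

namespace Cfsg.Agent.S5727

theorem result {G Ω : Type*} [Group G] [Finite G] [MulAction G Ω] [FaithfulSMul G Ω] [Fintype Ω] (htr : MulAction.IsPretransitive G Ω)
    (p m : ℕ) (hp : p.Prime) (hm : 1 ≤ m) (hmp : m ≤ p) (hΩ : Fintype.card Ω = m * p) :
    ∃ g : G, orderOf g = p ∧ ∀ ω : Ω, g • ω ≠ ω := by
  rcases eq_or_lt_of_le hmp with h | hlt
  · subst h
    exact Cfsg.Agent.S5726.result htr m 2 hp (by norm_num) (by rw [hΩ, pow_two])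
  have hpf : Fact p.Prime := ⟨hp⟩
  obtain ⟨P⟩ := (inferInstance : Nonempty (Sylow p G))
  have hcard := P.card_eq_multiplicity
  obtain ⟨H, hH⟩ : ∃ H : Subgroup G, H = (P : Subgroup G) := ⟨_, rfl⟩
  rw [← hH] at hcard
  have hΩ' : Nat.card Ω = m * p := by rw [Nat.card_eq_fintype_card, hΩ]
  have hncard : ∀ ω : Ω, (MulAction.orbit H ω).ncard = p := by
    intro ω
    have h1 := Cfsg.Agent.S5726.sylow_orbit_dvd p H hcard 1
      (by rw [hΩ', pow_one]; exact Dvd.intro_left m rfl) ω
    have h2 := Cfsg.Agent.S5726.card_stab_mul_orbit H ω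
    rw [hcard] at h2
    obtain ⟨j, hj, hs⟩ := (Nat.dvd_prime_pow hp).mp (Dvd.intro_left _ h2)
    have h3 : (MulAction.orbit H ω).ncard ≤ m * p := by rw [← hΩ']; exact Set.ncard_le_card _
    rw [hs] at h1 h3 ⊢
    have h4 : 1 ≤ j := (Nat.pow_dvd_pow_iff_le_right hp.one_lt).mp h1
    have h5 : j < 2 := by
      by_contra h
      have h6 : p ^ 2 ≤ p ^ j := Nat.pow_le_pow_right hp.pos (by omega)
      have h7 : m * p < p * p := Nat.mul_lt_mul_of_pos_right hlt hp.pos
      rw [pow_two] at h6
      omega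
    have h8 : j = 1 := by omega
    rw [h8, pow_one]
  have hstab : ∀ ω : Ω, Nat.card (MulAction.stabilizer H ω) * p = Nat.card H := by
    intro ω
    have := Cfsg.Agent.S5726.card_stab_mul_orbit H ω
    rwa [hncard] at this
  have hindex : ∀ ω : Ω, (MulAction.stabilizer H ω).index = p := by
    intro ω; rw [MulAction.index_stabilizer, hncard]
  obtain ⟨ω₀⟩ : Nonempty Ω := by
    rw [← Fintype.card_pos_iff, hΩ]; exact Nat.mul_pos (by omega) hp.pos
  have hn1 : (Nat.card G).factorization p ≠ 0 := by
    intro h0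
    have h1 := hstab ω₀
    rw [hcard, h0, pow_zero] at h1
    have h2 : p ∣ 1 := Dvd.intro_left _ h1
    exact hp.one_lt.ne' (Nat.dvd_one.mp h2)
  have hnormal : ∀ ω : Ω, (MulAction.stabilizer H ω).Normal := by
    intro ω
    apply Subgroup.normal_of_index_eq_minFac_card
    rw [hindex, hcard, Nat.pow_minFac hn1, hp.minFac_eq]
  have hfixorb : ∀ (g : H) (ω : Ω), g • ω = ω → ∀ h : H, g • (h • ω) = h • ω := by
    intro g ω hg h
    have hmem : g ∈ MulAction.stabilizer H ω := hg
    have h1 := (hnormal ω).conj_mem g hmem h⁻¹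
    have h2 : (h⁻¹ * g * h⁻¹⁻¹) • ω = ω := h1
    rw [inv_inv, mul_smul, mul_smul] at h2
    have h3 := congrArg (fun x => h • x) h2
    simpa using h3
  have hpow : ∀ g : H, g ^ p = 1 := by
    intro g
    have h1 : ∀ ω : Ω, (g ^ p) • ω = ω := by
      intro ω
      have := hnormal ω
      have h2 := Subgroup.pow_index_mem (MulAction.stabilizer H ω) g
      rw [hindex] at h2
      exact h2
    have h2 : ((g ^ p : H) : G) = 1 :=
      FaithfulSMul.eq_of_smul_eq_smul (fun ω => by rw [one_smul]; exact h1 ω)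
    exact Subtype.ext h2
  by_contra hcon
  have hfix : ∀ g : H, g ≠ 1 → ∃ ω : Ω, g • ω = ω := by
    intro g hg
    by_contra hno
    apply hcon
    refine ⟨(g : G), ?_, fun ω hω => hno ⟨ω, hω⟩⟩
    rw [Subgroup.orderOf_coe]
    exact orderOf_eq_prime (hpow g) hg
  classical
  have hfin : Fintype H := Fintype.ofFinite H
  have hsum : ∑ g : H, (Finset.univ.filter (fun ω : Ω => g • ω = ω)).card
      = ∑ ω : Ω, (Finset.univ.filter (fun g : H => g • ω = ω)).card := by
    simp only [Finset.card_filter]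
    exact Finset.sum_comm
  have hlow : Fintype.card H * p ≤ ∑ g : H, (Finset.univ.filter (fun ω : Ω => g • ω = ω)).card := by
    have h1 := Finset.card_nsmul_le_sum (Finset.univ : Finset H)
      (fun g => (Finset.univ.filter (fun ω : Ω => g • ω = ω)).card) p ?_
    · simpa using h1
    intro g _
    by_cases hg : g = 1
    · subst hg
      have h2 : (Finset.univ.filter (fun ω : Ω => (1 : H) • ω = ω)) = Finset.univ := by
        apply Finset.filter_true_of_mem
        intro ω _
        exact one_smul _ _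
      show p ≤ (Finset.univ.filter (fun ω : Ω => (1 : H) • ω = ω)).card
      rw [h2, Finset.card_univ, hΩ]
      exact Nat.le_mul_of_pos_left p (by omega)
    · obtain ⟨ω, hω⟩ := hfix g hg
      show p ≤ (Finset.univ.filter (fun ω : Ω => g • ω = ω)).card
      rw [← hncard ω, ← Set.ncard_coe_finset]
      apply Set.ncard_le_ncard
      · rintro _ ⟨h, rfl⟩
        simp only [Finset.coe_filter, Finset.mem_univ, true_and, Set.mem_ofPred_eq]
        exact hfixorb g ω hω h
      · exact Finset.finite_toSet _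
  have hup : (∑ ω : Ω, (Finset.univ.filter (fun g : H => g • ω = ω)).card) * p
      = m * p * Fintype.card H := by
    rw [Finset.sum_mul]
    have h1 : ∀ ω : Ω, (Finset.univ.filter (fun g : H => g • ω = ω)).card * p = Fintype.card H := by
      intro ω
      rw [← Nat.card_eq_fintype_card, ← hstab ω]
      congr 1
      rw [← Fintype.card_subtype, ← Nat.card_eq_fintype_card]
      rfl
    rw [Finset.sum_congr rfl (fun ω _ => h1 ω)]
    simp [hΩ]
  have hpos : 0 < Fintype.card H := Fintype.card_pos
  rw [hsum] at hlow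
  have h9 : Fintype.card H * p * p ≤ m * p * Fintype.card H := by
    rw [← hup]; exact Nat.mul_le_mul_right p hlow
  have h10 : m * p * Fintype.card H < p * p * Fintype.card H :=
    Nat.mul_lt_mul_of_pos_right (Nat.mul_lt_mul_of_pos_right hlt hp.pos) hpos
  have h11 : Fintype.card H * p * p = p * p * Fintype.card H := by ring
  omega

end Cfsg.Agent.S5727
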