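import Cfsg.Statements.S5728

set_option autoImplicit false
open Cfsg

namespace Cfsg.Agent.S5728

def aff {R : Type*} [Field R] (a : Rˣ) (b : R) : Equiv.Perm R where
  toFun y := a * y + b
  invFun y := (a⁻¹ : Rˣ) * (y - b)
  left_inv y := by simp
  right_inv y := by simp

theorem aff_apply {R : Type*} [Field R] (a : Rˣ) (b : R) (y : R) : aff a b y = a * y + b := rfl

theorem aff_inv_apply {R : Type*} [Field R] (a : Rˣ) (b : R) (y : R) :
    (aff a b)⁻¹ y = (a⁻¹ : Rˣ) * (y - b) := rfl

theorem aff_mem {R : Type*} [Field R] (a : Rˣ) (b : R) : aff a b ∈ Cfsg.affineGroup R :=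
  ⟨a, b, fun _ => rfl⟩

theorem pow_scal {R : Type*} [Field R] (h : Equiv.Perm R) (u : R) (hh : ∀ y, h y = u * y) (n : ℕ) :
    ∀ y, (h ^ n) y = u ^ n * y := by
  induction n with
  | zero => intro y; simp
  | succ n ih =>
    intro y
    rw [pow_succ, Equiv.Perm.mul_apply, hh, ih, pow_succ, mul_assoc]

theorem result (p s : ℕ) [Fact p.Prime] (hs : p = 2 ^ s - 1)
    (g : Equiv.Perm (GaloisField p 2)) (hg : g ∈ Cfsg.affineGroup (GaloisField p 2)) (hord : (orderOf g).Prime) :
    ∃ x ∈ Cfsg.affineGroup (GaloisField p 2), ∃ a b : ZMod p, a ≠ 0 ∧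
      ∀ y : GaloisField p 2, (x * g * x⁻¹) y = algebraMap (ZMod p) (GaloisField p 2) a * y + algebraMap (ZMod p) (GaloisField p 2) b := by
  have hp : p.Prime := Fact.out
  obtain ⟨u, v, hguv⟩ := hg
  have hg1 : g ≠ 1 := by
    intro h
    rw [h, orderOf_one] at hord
    exact Nat.not_prime_one hord
  by_cases hu : u = 1
  · have hv : v ≠ 0 := by
      rintro rfl
      apply hg1
      ext y
      rw [hguv, hu]
      simp
    refine ⟨aff (Units.mk0 v⁻¹ (inv_ne_zero hv)) 0, aff_mem _ _, 1, 1, one_ne_zero, fun y => ?_⟩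
    rw [Equiv.Perm.mul_apply, Equiv.Perm.mul_apply, aff_inv_apply, hguv, aff_apply, hu]
    simp only [Units.val_one, one_mul, sub_zero, add_zero, map_one, Units.val_mk0]
    have : ((Units.mk0 v⁻¹ (inv_ne_zero hv))⁻¹ : (GaloisField p 2)ˣ) = Units.mk0 v hv := by
      apply Units.ext
      simp
    rw [this, Units.val_mk0]
    field_simp
  · have hu' : (u : GaloisField p 2) ≠ 1 := fun h => hu (Units.ext h)
    have h1u : (1 : GaloisField p 2) - u ≠ 0 := by
      intro h
      apply hu'
      rw [sub_eq_zero] at h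
      exact h.symm
    obtain ⟨y₀, hy₀⟩ : ∃ y₀ : GaloisField p 2, y₀ = v / (1 - u) := ⟨_, rfl⟩
    have hfix : (u : GaloisField p 2) * y₀ + v = y₀ := by
      rw [hy₀]
      field_simp
      ring
    obtain ⟨x, hx⟩ : ∃ x : Equiv.Perm (GaloisField p 2), x = aff 1 (-y₀) := ⟨_, rfl⟩
    have hconj : ∀ y, (x * g * x⁻¹) y = u * y := by
      intro y
      rw [Equiv.Perm.mul_apply, Equiv.Perm.mul_apply, hx, aff_inv_apply, hguv, aff_apply]
      simp only [Units.val_one, one_mul, inv_one, sub_neg_eq_add]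
      linear_combination hfix
    have hpow : (u : GaloisField p 2) ^ orderOf g = 1 := by
      have h1 := pow_scal (x * g * x⁻¹) u hconj (orderOf g) 1
      rw [conj_pow, pow_orderOf_eq_one, mul_one, mul_inv_cancel, Equiv.Perm.one_apply, mul_one] at h1
      exact h1.symm
    have hr : orderOf (u : GaloisField p 2) = orderOf g := by
      have : Fact (orderOf g).Prime := ⟨hord⟩
      exact orderOf_eq_prime hpow hu'
    have hcard : Nat.card (GaloisField p 2) = p ^ 2 := GaloisField.card p 2 (by norm_num)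
    have hpow2 : (u : GaloisField p 2) ^ (p ^ 2 - 1) = 1 := by
      have : Fintype (GaloisField p 2) := Fintype.ofFinite _
      have h2 := FiniteField.pow_card_sub_one_eq_one (u : GaloisField p 2) u.ne_zero
      rw [← Nat.card_eq_fintype_card, hcard] at h2
      exact h2
    have hdvd : orderOf g ∣ p ^ 2 - 1 := by
      rw [← hr]
      exact orderOf_dvd_of_pow_eq_one hpow2
    have hfac : p ^ 2 - 1 = (p - 1) * (p + 1) := by
      obtain ⟨q, rfl⟩ : ∃ q, p = q + 1 := ⟨p - 1, by have := hp.one_lt; omega⟩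
      simp only [Nat.add_sub_cancel]
      have : (q + 1) ^ 2 = q * (q + 1 + 1) + 1 := by ring
      rw [this, Nat.add_sub_cancel]
    have hdvd' : orderOf g ∣ p - 1 := by
      rw [hfac] at hdvd
      rcases (Nat.Prime.dvd_mul hord).mp hdvd with h | h
      · exact h
      · have hs0 : s ≠ 0 := by
          rintro rfl
          simp at hs
          exact hp.ne_zero hs
        obtain ⟨s', rfl⟩ : ∃ s', s = s' + 1 := ⟨s - 1, by omega⟩
        have hpos : 1 ≤ 2 ^ s' := Nat.one_le_two_pow
        have hp1 : p + 1 = 2 ^ (s' + 1) := by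
          rw [hs, pow_succ]
          omega
        rw [hp1] at h
        have h2 : orderOf g ∣ 2 := Nat.Prime.dvd_of_dvd_pow hord h
        have h3 : orderOf g = 2 := (Nat.prime_dvd_prime_iff_eq hord Nat.prime_two).mp h2
        rw [h3]
        refine ⟨2 ^ s' - 1, ?_⟩
        rw [hs, pow_succ]
        omega
    have hpow3 : (u : GaloisField p 2) ^ (p - 1) = 1 := by
      obtain ⟨k, hk⟩ := hdvd'
      rw [hk, pow_mul, hpow, one_pow]
    have hpow4 : (u : GaloisField p 2) ^ p = u := by
      have h5 : (p - 1) + 1 = p := by have := hp.one_lt; omega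
      have h6 : (u : GaloisField p 2) ^ ((p - 1) + 1) = u := by
        rw [pow_succ, hpow3, one_mul]
      rw [h5] at h6
      exact h6
    have hmem : (u : GaloisField p 2) ∈ (⊥ : Subfield (GaloisField p 2)) :=
      (Subfield.mem_bot_iff_pow_eq_self (GaloisField p 2) p).mpr hpow4
    have hle : (⊥ : Subfield (GaloisField p 2)) ≤
        (algebraMap (ZMod p) (GaloisField p 2)).fieldRange := bot_le
    obtain ⟨a, ha⟩ := hle hmem
    refine ⟨x, by rw [hx]; exact aff_mem _ _, a, 0, ?_, fun y => ?_⟩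
    · rintro rfl
      rw [map_zero] at ha
      exact u.ne_zero ha.symm
    · rw [hconj, ha, map_zero, add_zero]

end Cfsg.Agent.S5728
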