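import Cfsg.Statements.S5905

set_option autoImplicit false
open Cfsg

namespace Cfsg.Agent.S5905

theorem app_inv {Ω : Type*} (g : Equiv.Perm Ω) (x : Ω) : g (g⁻¹ x) = x := g.apply_symm_apply x

theorem inv_app {Ω : Type*} (g : Equiv.Perm Ω) (x : Ω) : g⁻¹ (g x) = x := g.symm_apply_apply x

theorem closure_sub {Ω : Type*} {b : ℕ} (f : Ω → Fin b) (g : Equiv.Perm Ω)
    (hg : g ∈ Subgroup.closure {g : Equiv.Perm Ω | ∀ x y : Ω, f x = f y ↔ f (g x) = f (g y)}) :
    ∀ x y : Ω, f x = f y ↔ f (g x) = f (g y) := by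
  induction hg using Subgroup.closure_induction with
  | mem g hg => exact hg
  | one => intro x y; rfl
  | mul g h _ _ ihg ihh =>
    intro x y
    rw [Equiv.Perm.mul_apply, Equiv.Perm.mul_apply, ← ihg, ← ihh]
  | inv g _ ih =>
    intro x y
    rw [ih (g⁻¹ x) (g⁻¹ y), app_inv, app_inv]

theorem swap_mem {Ω : Type*} [DecidableEq Ω] {b : ℕ} (f : Ω → Fin b) (x y : Ω) (hxy : f x = f y) :
    Equiv.swap x y ∈ {g : Equiv.Perm Ω | ∀ x y : Ω, f x = f y ↔ f (g x) = f (g y)} := by
  have h : ∀ p : Ω, f (Equiv.swap x y p) = f p := by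
    intro p
    rw [Equiv.swap_apply_def]
    split_ifs with h1 h2
    · rw [h1, hxy]
    · rw [h2, hxy]
    · rfl
  intro p q
  rw [h p, h q]

theorem result {Ω : Type*} [Fintype Ω] [DecidableEq Ω] (a b : ℕ) (ha : 2 ≤ a) (hb : 2 ≤ b)
    (f : Ω → Fin b) (hf : ∀ i : Fin b, Nat.card {x : Ω // f x = i} = a) :
    IsCoatom (Subgroup.closure {g : Equiv.Perm Ω | ∀ x y : Ω, f x = f y ↔ f (g x) = f (g y)}) := by
  obtain ⟨e, he⟩ : ∃ e : Ω ≃ Fin b × Fin a, ∀ x, (e x).1 = f x :=
    ⟨(Equiv.sigmaFiberEquiv f).symm.trans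
      ((Equiv.sigmaCongrRight (fun i => Finite.equivFinOfCardEq (hf i))).trans
        (Equiv.sigmaEquivProd (Fin b) (Fin a))), fun x => rfl⟩
  have he' : ∀ z : Fin b × Fin a, f (e.symm z) = z.1 := by
    intro z
    rw [← he, Equiv.apply_symm_apply]
  have hbp : ∀ τ : Equiv.Perm (Fin b), ∃ w : Equiv.Perm Ω, ∀ x, f (w x) = τ (f x) := by
    intro τ
    refine ⟨e.trans ((Equiv.prodCongr τ (Equiv.refl _)).trans e.symm), fun x => ?_⟩
    simp only [Equiv.trans_apply, Equiv.prodCongr_apply, Prod.map]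
    rw [he', he]
  have hbpmem : ∀ (τ : Equiv.Perm (Fin b)) (w : Equiv.Perm Ω), (∀ x, f (w x) = τ (f x)) →
      w ∈ {g : Equiv.Perm Ω | ∀ x y : Ω, f x = f y ↔ f (g x) = f (g y)} := by
    intro τ w hw x y
    rw [hw x, hw y, τ.injective.eq_iff]
  constructor
  · intro htop
    let i0 : Fin b := ⟨0, by omega⟩
    let i1 : Fin b := ⟨1, by omega⟩
    let s0 : Fin a := ⟨0, by omega⟩
    let s1 : Fin a := ⟨1, by omega⟩
    have hi01 : i0 ≠ i1 := by
      intro h; have := congrArg Fin.val h; simp [i0, i1] at this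
    have hs01 : s0 ≠ s1 := by
      intro h; have := congrArg Fin.val h; simp [s0, s1] at this
    have hmem : Equiv.swap (e.symm (i0, s1)) (e.symm (i1, s0)) ∈
        Subgroup.closure {g : Equiv.Perm Ω | ∀ x y : Ω, f x = f y ↔ f (g x) = f (g y)} := by
      rw [htop]; exact Subgroup.mem_top _
    have h1 := closure_sub f _ hmem (e.symm (i0, s0)) (e.symm (i0, s1))
    rw [Equiv.swap_apply_left, Equiv.swap_apply_of_ne_of_ne, he', he', he'] at h1
    · exact hi01 (h1.mp rfl)
    · intro h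
      have := e.symm.injective h
      exact hs01 (congrArg Prod.snd this)
    · intro h
      have := e.symm.injective h
      exact hi01 (congrArg Prod.fst this)
  · intro K hK
    have hWK : ∀ g ∈ {g : Equiv.Perm Ω | ∀ x y : Ω, f x = f y ↔ f (g x) = f (g y)}, g ∈ K :=
      fun g hg => hK.le (Subgroup.subset_closure hg)
    obtain ⟨g, hgK, hgW⟩ := SetLike.exists_of_lt hK
    have hgW' : ¬ ∀ x y : Ω, f x = f y ↔ f (g x) = f (g y) :=
      fun h => hgW (Subgroup.subset_closure h)
    have huv : ∃ u v : Ω, f u ≠ f v ∧ Equiv.swap u v ∈ K := by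
      simp only [not_forall] at hgW'
      obtain ⟨x, y, hxy⟩ := hgW'
      by_cases h1 : f x = f y
      · have h2 : f (g x) ≠ f (g y) := fun h => hxy ⟨fun _ => h, fun _ => h1⟩
        refine ⟨g x, g y, h2, ?_⟩
        rw [Equiv.swap_apply_apply]
        exact K.mul_mem (K.mul_mem hgK (hWK _ (swap_mem f x y h1))) (K.inv_mem hgK)
      · have h2 : f (g x) = f (g y) := by
          by_contra h
          exact hxy ⟨fun h' => absurd h' h1, fun h' => absurd h' h⟩
        refine ⟨x, y, h1, ?_⟩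
        have h3 := Equiv.swap_apply_apply g⁻¹ (g x) (g y)
        rw [inv_app, inv_app] at h3
        rw [h3]
        exact K.mul_mem (K.mul_mem (K.inv_mem hgK) (hWK _ (swap_mem f _ _ h2)))
          (K.inv_mem (K.inv_mem hgK))
    obtain ⟨u, v, huv, hswap⟩ := huv
    have hR1 : ∀ x y : Ω, f x = f y → (x = y ∨ Equiv.swap x y ∈ K) :=
      fun x y h => Or.inr (hWK _ (swap_mem f x y h))
    have hRsymm : ∀ x y : Ω, (x = y ∨ Equiv.swap x y ∈ K) → (y = x ∨ Equiv.swap y x ∈ K) := by
      rintro x y (h | h)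
      · exact Or.inl h.symm
      · exact Or.inr (Equiv.swap_comm x y ▸ h)
    have hRtrans : ∀ x y z : Ω, (x = y ∨ Equiv.swap x y ∈ K) → (y = z ∨ Equiv.swap y z ∈ K) →
        (x = z ∨ Equiv.swap x z ∈ K) := by
      rintro x y z (h1 | h1) (h2 | h2)
      · exact Or.inl (h1.trans h2)
      · subst h1; exact Or.inr h2
      · subst h2; exact Or.inr h1
      · by_cases hxz : x = z
        · exact Or.inl hxz
        by_cases hxy : x = y
        · subst hxy; exact Or.inr h2
        by_cases hyz : y = z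
        · subst hyz; exact Or.inr h1
        right
        have h3 := Equiv.swap_apply_apply (Equiv.swap x y) y z
        rw [Equiv.swap_apply_right, Equiv.swap_apply_of_ne_of_ne (Ne.symm hxz) (Ne.symm hyz)] at h3
        rw [h3]
        exact K.mul_mem (K.mul_mem h1 h2) (K.inv_mem h1)
    have hRK : ∀ (w : Equiv.Perm Ω), w ∈ K → ∀ x y : Ω, (x = y ∨ Equiv.swap x y ∈ K) →
        (w x = w y ∨ Equiv.swap (w x) (w y) ∈ K) := by
      rintro w hw x y (h | h)
      · exact Or.inl (congrArg w h)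
      · right
        rw [Equiv.swap_apply_apply]
        exact K.mul_mem (K.mul_mem hw h) (K.inv_mem hw)
    have hall : ∀ x : Ω, (u = x ∨ Equiv.swap u x ∈ K) := by
      intro x
      by_cases h1 : f x = f u
      · exact hR1 u x h1.symm
      by_cases h2 : f x = f v
      · exact hRtrans u v x (Or.inr hswap) (hR1 v x h2.symm)
      obtain ⟨w, hw⟩ := hbp (Equiv.swap (f v) (f x))
      have hwK : w ∈ K := hWK w (hbpmem _ w hw)
      have h3 : f (w u) = f u := by
        rw [hw, Equiv.swap_apply_of_ne_of_ne huv (Ne.symm h1)]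
      have h4 : f (w v) = f x := by
        rw [hw, Equiv.swap_apply_left]
      exact hRtrans u (w u) x (hR1 u (w u) h3.symm)
        (hRtrans (w u) (w v) x (hRK w hwK u v (Or.inr hswap)) (hR1 (w v) x h4))
    rw [eq_top_iff, ← Equiv.Perm.closure_isSwap, Subgroup.closure_le]
    rintro σ ⟨x, y, hxy, rfl⟩
    rcases hRtrans x u y (hRsymm u x (hall x)) (hall y) with h | h
    · exact absurd h hxy
    · exact h

end Cfsg.Agent.S5905
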