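import Cfsg.Statements.S5894
import Cfsg.Agent.S5905

set_option autoImplicit false
open Cfsg

namespace Cfsg.Agent.S5894

open scoped Pointwise

theorem blockswap (m : ℕ) : ∃ k : Equiv.Perm (Fin (2 * m)),
    ∀ x, (k x).val = if x.val < m then x.val + m else x.val - m := by
  refine ⟨⟨fun x => if h : x.val < m then ⟨x.val + m, by omega⟩ else ⟨x.val - m, by omega⟩,
    fun x => if h : x.val < m then ⟨x.val + m, by omega⟩ else ⟨x.val - m, by omega⟩, ?_, ?_⟩, ?_⟩
  · intro x
    apply Fin.ext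
    by_cases h : x.val < m
    · simp only [dif_pos h]
      rw [dif_neg (by simp)]
      simp
    · simp only [dif_neg h]
      rw [dif_pos (by show x.val - m < m; omega)]
      show x.val - m + m = x.val
      omega
  · intro x
    apply Fin.ext
    by_cases h : x.val < m
    · simp only [dif_pos h]
      rw [dif_neg (by simp)]
      simp
    · simp only [dif_neg h]
      rw [dif_pos (by show x.val - m < m; omega)]
      show x.val - m + m = x.val
      omega
  · intro x
    show (if h : x.val < m then (⟨x.val + m, by omega⟩ : Fin (2 * m)) else ⟨x.val - m, by omega⟩).val = _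
    by_cases h : x.val < m
    · rw [dif_pos h, if_pos h]
    · rw [dif_neg h, if_neg h]

theorem card_blocks (m : ℕ) (f : Fin (2 * m) → Fin 2)
    (hf : ∀ x, f x = if x.val < m then 0 else 1) (i : Fin 2) :
    Nat.card {x : Fin (2 * m) // f x = i} = m := by
  have hf0 : ∀ x, f x = 0 ↔ x.val < m := by
    intro x; rw [hf]; split_ifs with h <;> simp [h]
  have hf1 : ∀ x, f x = 1 ↔ ¬ x.val < m := by
    intro x; rw [hf]; split_ifs with h <;> simp [h]
  have hi : i = 0 ∨ i = 1 := by omega
  rcases hi with rfl | rfl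
  · have e : {x : Fin (2 * m) // f x = 0} ≃ Fin m :=
      { toFun := fun x => ⟨x.1.val, (hf0 x.1).mp x.2⟩
        invFun := fun y => ⟨⟨y.val, by omega⟩, (hf0 _).mpr y.2⟩
        left_inv := fun x => rfl
        right_inv := fun y => rfl }
    rw [Nat.card_congr e, Nat.card_eq_fintype_card, Fintype.card_fin]
  · have e : {x : Fin (2 * m) // f x = 1} ≃ Fin m :=
      { toFun := fun x => ⟨x.1.val - m, by have := (hf1 x.1).mp x.2; omega⟩
        invFun := fun y => ⟨⟨y.val + m, by omega⟩, (hf1 _).mpr (by show ¬ (y.val + m < m); omega)⟩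
        left_inv := fun x => by
          apply Subtype.ext; apply Fin.ext
          have := (hf1 x.1).mp x.2
          show x.1.val - m + m = x.1.val
          omega
        right_inv := fun y => by
          apply Fin.ext
          show y.val + m - m = y.val
          omega }
    rw [Nat.card_congr e, Nat.card_eq_fintype_card, Fintype.card_fin]

theorem result (m : ℕ) (hm : 2 ≤ m) :
    ∃ M H K : Subgroup (Equiv.Perm (Fin (2 * m))), IsCoatom M ∧ M.index = 2 * m ∧ H ≤ M ∧ IsCoatom (H.subgroupOf M) ∧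
      IsCoatom K ∧ H ≤ K ∧ ¬ IsCoatom (H.subgroupOf K) := by
  classical
  obtain ⟨z, hz⟩ : ∃ z : Fin (2 * m), z.val = 0 := ⟨⟨0, by omega⟩, rfl⟩
  obtain ⟨o, ho⟩ : ∃ o : Fin (2 * m), o.val = 1 := ⟨⟨1, by omega⟩, rfl⟩
  obtain ⟨mm, hmm⟩ : ∃ mm : Fin (2 * m), mm.val = m := ⟨⟨m, by omega⟩, rfl⟩
  have hoz : o ≠ z := fun h => by have := congrArg Fin.val h; omega
  have hmz : mm ≠ z := fun h => by have := congrArg Fin.val h; omega
  obtain ⟨f, hf⟩ : ∃ f : Fin (2 * m) → Fin 2, ∀ x, f x = if x.val < m then 0 else 1 :=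
    ⟨_, fun x => rfl⟩
  obtain ⟨ι, hι⟩ : ∃ ι : Equiv.Perm {x : Fin (2 * m) // x ≠ z} →* Equiv.Perm (Fin (2 * m)),
      ι = Equiv.Perm.ofSubtype := ⟨_, rfl⟩
  have hιinj : Function.Injective ι := hι ▸ Equiv.Perm.ofSubtype_injective
  have hιz : ∀ σ, ι σ z = z := fun σ => by
    rw [hι]; exact Equiv.Perm.ofSubtype_apply_of_not_mem σ (by simp)
  have hιx : ∀ σ (x : {x : Fin (2 * m) // x ≠ z}), ι σ x = σ x := fun σ x => by
    rw [hι]; exact Equiv.Perm.ofSubtype_apply_coe σ x
  have hrange : ι.range = MulAction.stabilizer (Equiv.Perm (Fin (2 * m))) z := by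
    ext g
    rw [MulAction.mem_stabilizer_iff]
    constructor
    · rintro ⟨σ, rfl⟩
      exact hιz σ
    · intro hg
      have hg' : g z = z := hg
      have h1 : ∀ x, g x ≠ z ↔ x ≠ z := by
        intro x
        rw [not_iff_not]
        constructor
        · intro h; apply g.injective; rw [h]; exact hg'.symm
        · intro h; rw [h]; exact hg'
      refine ⟨g.subtypePerm h1, ?_⟩
      rw [hι]
      apply Equiv.Perm.ofSubtype_subtypePerm h1
      intro x hx hxz
      apply hx; rw [hxz]; exact hg'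
  obtain ⟨O', hO'⟩ : ∃ O' : Set {x : Fin (2 * m) // x ≠ z}, O' = {x | x.1.val < m} := ⟨_, rfl⟩
  have hS' : IsCoatom (MulAction.stabilizer (Equiv.Perm {x : Fin (2 * m) // x ≠ z}) O') := by
    apply Equiv.Perm.isCoatom_stabilizer
    · exact ⟨⟨o, hoz⟩, by rw [hO']; show o.val < m; omega⟩
    · exact ⟨⟨mm, hmz⟩, by rw [hO']; show ¬ (mm.val < m); omega⟩
    · have h1 : Nat.card {x : Fin (2 * m) // x ≠ z} = 2 * m - 1 := by
        rw [Nat.card_eq_fintype_card, Fintype.card_subtype_compl, Fintype.card_subtype_eq,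
          Fintype.card_fin]
      rw [h1]
      omega
  have hP : ∀ σ ∈ MulAction.stabilizer (Equiv.Perm {x : Fin (2 * m) // x ≠ z}) O',
      ∀ x, f (ι σ x) = f x := by
    intro σ hσ x
    by_cases hx : x = z
    · rw [hx, hιz]
    · have h1 := hιx σ ⟨x, hx⟩
      have h2 := (MulAction.mem_stabilizer_set.mp hσ) ⟨x, hx⟩
      rw [hO'] at h2
      have h3 : (σ ⟨x, hx⟩).1.val < m ↔ x.val < m := h2
      have h4 : ι σ x = (σ ⟨x, hx⟩).1 := h1
      rw [hf, hf, h4]
      by_cases h5 : x.val < m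
      · rw [if_pos h5, if_pos (h3.mpr h5)]
      · rw [if_neg h5, if_neg (fun h => h5 (h3.mp h))]
  have hPW : ∀ g : Equiv.Perm (Fin (2 * m)), (∀ x, f (g x) = f x) →
      g ∈ {g : Equiv.Perm (Fin (2 * m)) | ∀ x y, f x = f y ↔ f (g x) = f (g y)} := by
    intro g hg x y
    rw [hg x, hg y]
  have hKco := Cfsg.Agent.S5905.result m 2 hm (le_refl 2) f (card_blocks m f hf)
  obtain ⟨K, hK⟩ : ∃ K : Subgroup (Equiv.Perm (Fin (2 * m))), K = Subgroup.closure
      {g : Equiv.Perm (Fin (2 * m)) | ∀ x y, f x = f y ↔ f (g x) = f (g y)} := ⟨_, rfl⟩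
  rw [← hK] at hKco
  have hWK : ∀ g : Equiv.Perm (Fin (2 * m)), (∀ x y, f x = f y ↔ f (g x) = f (g y)) → g ∈ K :=
    fun g hg => hK ▸ Subgroup.subset_closure hg
  have hKW : ∀ g ∈ K, ∀ x y, f x = f y ↔ f (g x) = f (g y) :=
    fun g hg => Cfsg.Agent.S5905.closure_sub f g (hK ▸ hg)
  obtain ⟨H, hH⟩ : ∃ H : Subgroup (Equiv.Perm (Fin (2 * m))),
      H = (MulAction.stabilizer (Equiv.Perm {x : Fin (2 * m) // x ≠ z}) O').map ι := ⟨_, rfl⟩
  have hHP : ∀ g ∈ H, ∀ x, f (g x) = f x := by
    intro g hg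
    rw [hH] at hg
    obtain ⟨σ, hσ, rfl⟩ := hg
    exact hP σ hσ
  have hHz : ∀ g ∈ H, g z = z := by
    intro g hg
    rw [hH] at hg
    obtain ⟨σ, hσ, rfl⟩ := hg
    exact hιz σ
  have hfz : f z = 0 := by rw [hf, if_pos (by omega)]
  have hfo : f o = 0 := by rw [hf, if_pos (by omega)]
  refine ⟨ι.range, H, K, ?_, ?_, ?_, ?_, hKco, ?_, ?_⟩
  · rw [hrange, ← MulAction.stabilizer_singleton]
    apply Equiv.Perm.isCoatom_stabilizer (Set.singleton_nonempty z) ⟨o, hoz⟩
    rw [Set.ncard_singleton, Nat.card_eq_fintype_card, Fintype.card_fin]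
    omega
  · rw [hrange, MulAction.index_stabilizer_of_transitive, Nat.card_eq_fintype_card,
      Fintype.card_fin]
  · rw [hH]; exact Subgroup.map_le_range _ _
  · have h4 : IsCoatom ((MulEquiv.mapSubgroup (MonoidHom.ofInjective hιinj))
        (MulAction.stabilizer (Equiv.Perm {x : Fin (2 * m) // x ≠ z}) O')) :=
      (OrderIso.isCoatom_iff _ _).mpr hS'
    have h5 : H.subgroupOf ι.range = (MulEquiv.mapSubgroup (MonoidHom.ofInjective hιinj))
        (MulAction.stabilizer (Equiv.Perm {x : Fin (2 * m) // x ≠ z}) O') := by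
      ext ⟨g, hg⟩
      rw [Subgroup.mem_subgroupOf, hH]
      constructor
      · rintro ⟨σ, hσ, hσg⟩
        exact ⟨σ, hσ, Subtype.ext hσg⟩
      · rintro ⟨σ, hσ, hσg⟩
        exact ⟨σ, hσ, congrArg Subtype.val hσg⟩
    rw [h5]; exact h4
  · intro g hg
    exact hWK g (hPW g (hHP g hg))
  · intro hco
    let J : Subgroup (Equiv.Perm (Fin (2 * m))) :=
      { carrier := {g | ∀ x, f (g x) = f x}
        mul_mem' := fun {a b} ha hb x => by
          show f (a (b x)) = f x
          rw [ha (b x), hb x]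
        one_mem' := fun x => rfl
        inv_mem' := fun {a} ha x => by
          have h1 := ha (a⁻¹ x)
          rw [Cfsg.Agent.S5905.app_inv] at h1
          exact h1.symm }
    have hHJ : H ≤ J := fun g hg => hHP g hg
    have hJK : J ≤ K := fun g hg => hWK g (hPW g hg)
    have hle : H.subgroupOf K ≤ J.subgroupOf K := Subgroup.subgroupOf_mono K hHJ
    have hswJ : Equiv.swap z o ∈ J := by
      intro p
      show f (Equiv.swap z o p) = f p
      rw [Equiv.swap_apply_def]
      split_ifs with h1 h2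
      · rw [h1, hfz, hfo]
      · rw [h2, hfz, hfo]
      · rfl
    have hswH : Equiv.swap z o ∉ H := by
      intro h
      have h1 := hHz _ h
      rw [Equiv.swap_apply_left] at h1
      exact hoz h1
    obtain ⟨k, hk⟩ := blockswap m
    have hfk : ∀ x, f (k x) = if x.val < m then 1 else 0 := by
      intro x
      rw [hf, hk x]
      by_cases h : x.val < m
      · rw [if_pos h, if_pos h, if_neg (by omega)]
      · rw [if_neg h, if_neg h, if_pos (by omega)]
    have hkK : k ∈ K := by
      apply hWK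
      intro x y
      rw [hfk x, hfk y, hf x, hf y]
      by_cases h1 : x.val < m <;> by_cases h2 : y.val < m <;> simp [h1, h2]
    have hkJ : k ∉ J := by
      intro h
      have h1 : f (k z) = f z := h z
      rw [hfk, hfz, if_pos (by omega)] at h1
      exact absurd h1 (by decide)
    rcases hco.le_iff.mp hle with h | h
    · have h1 : (⟨k, hkK⟩ : K) ∈ J.subgroupOf K := by rw [h]; exact Subgroup.mem_top _
      exact hkJ h1
    · have h1 : (⟨Equiv.swap z o, hJK hswJ⟩ : K) ∈ H.subgroupOf K := by rw [← h]; exact hswJ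
      exact hswH h1

end Cfsg.Agent.S5894
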